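import Groth.Agent.H87.Dec
import Mathlib.RingTheory.Filtration
import Mathlib.RingTheory.AdicCompletion.Noetherian
import Mathlib.LinearAlgebra.TensorProduct.Pi
import Mathlib.LinearAlgebra.TensorProduct.RightExactness

set_option autoImplicit false

namespace Groth.Agent.H87

open Submodule W4c5adicflatcompl TensorProduct

variable {A : Type*} [CommRing A] {I : Ideal A} {Z : Type*}

theorem smul_top_self (J : Ideal A) : (J • ⊤ : Submodule A A) = J := by simp

theorem pi_mem_smul_top_iff {ι : Type*} [Finite ι] {P : Type*} [AddCommGroup P] [Module A P]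
    (J : Ideal A) (v : ι → P) :
    v ∈ (J • ⊤ : Submodule A (ι → P)) ↔ ∀ i, v i ∈ (J • ⊤ : Submodule A P) := by
  classical
  have := Fintype.ofFinite ι
  constructor
  · intro hv i
    exact map_mem_smul_top _ (LinearMap.proj i : (ι → P) →ₗ[A] P) J hv
  · intro hv
    have : v = ∑ i, (LinearMap.single A (fun _ => P) i) (v i) := by
      funext j
      simp [Finset.sum_apply, Pi.single_apply]
    rw [this]
    exact Submodule.sum_mem _ fun i _ => map_mem_smul_top _ _ J (hv i)

theorem decaying_pi_iff {ι : Type*} [Finite ι] {P : Type*} [AddCommGroup P] [Module A P]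
    (F : Z → ι → P) :
    F ∈ decaying I Z (ι → P) ↔ ∀ i, (fun z => F z i) ∈ decaying I Z P := by
  classical
  constructor
  · intro hF i n
    refine (hF n).subset ?_
    intro z hz hcon
    exact hz ((pi_mem_smul_top_iff _ _).mp hcon i)
  · intro hF n
    have hfin : (⋃ i, {z | F z i ∉ (I ^ n • ⊤ : Submodule A P)}).Finite :=
      Set.finite_iUnion fun i => hF i n
    refine hfin.subset ?_
    intro z hz
    simp only [Set.mem_ofPred_eq, pi_mem_smul_top_iff, not_forall] at hz
    obtain ⟨i, hi⟩ := hz
    exact Set.mem_iUnion.mpr ⟨i, hi⟩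

theorem smul_const_mem_decaying {M : Type*} [AddCommGroup M] [Module A M]
    (g : Z → A) (hg : g ∈ decaying I Z A) (m : M) :
    (fun z => g z • m) ∈ decaying I Z M := by
  intro n
  refine (hg n).subset ?_
  intro z hz hcon
  apply hz
  rw [smul_top_self] at hcon
  exact Submodule.smul_mem_smul hcon Submodule.mem_top

/-- Artin–Rees comparison: decaying in a submodule of a finite module over a noetherian ring. -/
theorem decaying_submodule_iff [IsNoetherianRing A] {M : Type*} [AddCommGroup M] [Module A M]
    [Module.Finite A M] (N : Submodule A M) (f : Z → N) :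
    f ∈ decaying I Z N ↔ (fun z => (f z : M)) ∈ decaying I Z M := by
  have hmap : ∀ J : Ideal A, Submodule.map N.subtype (J • ⊤ : Submodule A N) = J • N := by
    intro J
    rw [Submodule.map_smul'', Submodule.map_subtype_top]
  have hmem : ∀ (J : Ideal A) (x : N), (x : M) ∈ J • N → x ∈ (J • ⊤ : Submodule A N) := by
    intro J x hx
    rw [← hmap J] at hx
    obtain ⟨y, hy, hyx⟩ := hx
    have : y = x := Subtype.ext hyx
    rwa [← this]
  constructor
  · intro hf n
    refine (hf n).subset ?_
    intro z hz hcon
    exact hz (map_mem_smul_top _ N.subtype (I ^ n) hcon)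
  · intro hf n
    obtain ⟨k, hk⟩ := Ideal.exists_pow_inf_eq_pow_smul I N
    refine (hf (n + k)).subset ?_
    intro z hz hcon
    apply hz
    apply hmem
    have h1 : (f z : M) ∈ (I ^ (n + k) • ⊤ ⊓ N : Submodule A M) := ⟨hcon, (f z).2⟩
    rw [hk (n + k) (Nat.le_add_left k n), Nat.add_sub_cancel] at h1
    exact Submodule.smul_mono le_rfl inf_le_right h1

end Groth.Agent.H87
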