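import Mathlib

/-!
# A two-open gluing lemma with nil kernels (algebra)

`exists_add_of_nil`: rings `C₁ → C ← C₂`, ideals `N₁, N₂, N`, elements `p₁ ∈ C₁`, `p₂ ∈ C₂`
whose images in `C` differ by a nilpotent element; if every element of `N` becomes an image of
`N₁` after multiplication by a power of `1 - p₁` and an image of `N₂` after multiplication by a power
of `p₂`, then every element of `N` is a sum of an image of `N₁` and an image of `N₂`.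
-/

namespace Groth.Agent.H87.ThickAff

open Polynomial

theorem exists_add_of_nil {C₁ C₂ C : Type*} [CommRing C₁] [CommRing C₂] [CommRing C]
    (ρ₁ : C₁ →+* C) (ρ₂ : C₂ →+* C) (N₁ : Ideal C₁) (N₂ : Ideal C₂) (N : Ideal C)
    (p₁ : C₁) (p₂ : C₂)
    (hμ : IsNilpotent (ρ₁ p₁ - ρ₂ p₂))
    (h₁ : ∀ d ∈ N, ∃ s : ℕ, ∃ x ∈ N₁, ρ₁ x = ρ₁ (1 - p₁) ^ s * d)
    (h₂ : ∀ d ∈ N, ∃ s : ℕ, ∃ x ∈ N₂, ρ₂ x = ρ₂ p₂ ^ s * d)
    (d : C) (hd : d ∈ N) : ∃ n₁ ∈ N₁, ∃ n₂ ∈ N₂, d = ρ₁ n₁ + ρ₂ n₂ := by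
  obtain ⟨T, hT⟩ := hμ
  set μ := ρ₁ p₁ - ρ₂ p₂ with hμdef
  -- downward induction
  have key : ∀ j : ℕ, j ≤ T → ∀ d ∈ N, ∃ n₁ ∈ N₁, ∃ n₂ ∈ N₂, μ ^ (T - j) * d = ρ₁ n₁ + ρ₂ n₂ := by
    intro j
    induction j with
    | zero =>
      intro _ d _
      refine ⟨0, N₁.zero_mem, 0, N₂.zero_mem, ?_⟩
      simp [hT]
    | succ j ih =>
      intro hj d hd
      have ih' := ih (by omega)
      set d' := μ ^ (T - (j + 1)) * d with hd'
      have hd'N : d' ∈ N := N.mul_mem_left _ hd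
      obtain ⟨s₁, x₁, hx₁, e₁⟩ := h₁ d' hd'N
      obtain ⟨s₂, x₂, hx₂, e₂⟩ := h₂ d' hd'N
      set s := max s₁ s₂ with hs
      -- uniform exponent
      have e₁' : ρ₁ ((1 - p₁) ^ (s - s₁) * x₁) = ρ₁ (1 - p₁) ^ s * d' := by
        rw [map_mul, e₁, map_pow, ← mul_assoc, ← pow_add]
        congr 2
        omega
      have e₂' : ρ₂ (p₂ ^ (s - s₂) * x₂) = ρ₂ p₂ ^ s * d' := by
        rw [map_mul, e₂, map_pow, ← mul_assoc, ← pow_add]
        congr 2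
        omega
      -- universal identity
      have hcop : IsCoprime ((X : ℤ[X]) ^ s) ((1 - X : ℤ[X]) ^ s) :=
        IsCoprime.pow ⟨1, 1, by ring⟩
      obtain ⟨U, V, hUV⟩ := hcop
      -- evaluate at p₁
      have hid₁ : aeval p₁ U * p₁ ^ s + aeval p₁ V * (1 - p₁) ^ s = 1 := by
        have := congrArg (aeval p₁) hUV
        simpa using this
      -- `P := U * X^s`
      have hdvd : μ ∣ aeval (ρ₁ p₁) (U * X ^ s) - aeval (ρ₂ p₂) (U * X ^ s) := by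
        rw [aeval_def, aeval_def, eval₂_eq_eval_map, eval₂_eq_eval_map]
        exact sub_dvd_eval_sub _ _ _
      obtain ⟨z, hz⟩ := hdvd
      have hzd : z * d ∈ N := N.mul_mem_left _ hd
      obtain ⟨m₁, hm₁, m₂, hm₂, em⟩ := ih' (z * d) hzd
      have hpow : μ ^ (T - j) = μ * μ ^ (T - (j + 1)) := by
        rw [← pow_succ']
        congr 1
        omega
      refine ⟨aeval p₁ V * ((1 - p₁) ^ (s - s₁) * x₁) + m₁,
        N₁.add_mem (N₁.mul_mem_left _ (N₁.mul_mem_left _ hx₁)) hm₁,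
        aeval p₂ U * (p₂ ^ (s - s₂) * x₂) + m₂,
        N₂.add_mem (N₂.mul_mem_left _ (N₂.mul_mem_left _ hx₂)) hm₂, ?_⟩
      have h1 : ρ₁ (aeval p₁ U) = aeval (ρ₁ p₁) U := by
        have := aeval_algHom_apply ρ₁.toIntAlgHom p₁ U
        simpa using this.symm
      have h1V : ρ₁ (aeval p₁ V) = aeval (ρ₁ p₁) V := by
        have := aeval_algHom_apply ρ₁.toIntAlgHom p₁ V
        simpa using this.symm
      have h2 : ρ₂ (aeval p₂ U) = aeval (ρ₂ p₂) U := by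
        have := aeval_algHom_apply ρ₂.toIntAlgHom p₂ U
        simpa using this.symm
      have hid : aeval (ρ₁ p₁) U * ρ₁ p₁ ^ s + aeval (ρ₁ p₁) V * ρ₁ (1 - p₁) ^ s = 1 := by
        have := congrArg ρ₁ hid₁
        simpa [h1, h1V] using this
      have hz' : aeval (ρ₁ p₁) U * ρ₁ p₁ ^ s = aeval (ρ₂ p₂) U * ρ₂ p₂ ^ s + μ * z := by
        have : aeval (ρ₁ p₁) (U * X ^ s) = aeval (ρ₂ p₂) (U * X ^ s) + μ * z := by
          rw [← hz]; ring
        simpa using this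
      rw [map_add, map_add, map_mul ρ₁ (aeval p₁ V), map_mul ρ₂ (aeval p₂ U), e₁', e₂', h1V, h2]
      calc d' = (aeval (ρ₁ p₁) U * ρ₁ p₁ ^ s + aeval (ρ₁ p₁) V * ρ₁ (1 - p₁) ^ s) * d' := by
            rw [hid, one_mul]
        _ = aeval (ρ₁ p₁) V * (ρ₁ (1 - p₁) ^ s * d') + aeval (ρ₂ p₂) U * (ρ₂ p₂ ^ s * d')
              + μ ^ (T - j) * (z * d) := by
            rw [hz', hpow, hd']; ring
        _ = _ := by rw [em]; ring
  obtain ⟨n₁, hn₁, n₂, hn₂, e⟩ := key T le_rfl d hd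
  exact ⟨n₁, hn₁, n₂, hn₂, by simpa using e⟩

end Groth.Agent.H87.ThickAff
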