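import Mathlib
import Groth.Agent.H87.ThickAffA

/-!
# Thickenings: basic facts about a surjective closed immersion `t : X ⟶ X'`
-/

universe u
open AlgebraicGeometry CategoryTheory TopologicalSpace Opposite

namespace Groth.Agent.H87.ThickAff

variable {X X' : Scheme.{u}} (t : X ⟶ X')

lemma le_of_preimage_le (ht : Function.Surjective t) {W₁ W₂ : X'.Opens}
    (h : t ⁻¹ᵁ W₁ ≤ t ⁻¹ᵁ W₂) : W₁ ≤ W₂ := by
  intro y hy
  obtain ⟨x, rfl⟩ := ht y
  exact h hy

lemma eq_of_preimage_eq (ht : Function.Surjective t) {W₁ W₂ : X'.Opens}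
    (h : t ⁻¹ᵁ W₁ = t ⁻¹ᵁ W₂) : W₁ = W₂ :=
  le_antisymm (le_of_preimage_le t ht h.le) (le_of_preimage_le t ht h.ge)

lemma isHomeomorph [IsClosedImmersion t] (ht : Function.Surjective t) : IsHomeomorph t :=
  isHomeomorph_iff_isEmbedding_surjective.mpr ⟨t.isClosedEmbedding.isEmbedding, ht⟩

/-- The open of `X'` corresponding to an open of `X`. -/
def img [IsClosedImmersion t] (ht : Function.Surjective t) (D : X.Opens) : X'.Opens :=
  ⟨t '' D, (isHomeomorph t ht).isOpenMap _ D.2⟩

lemma preimage_img [IsClosedImmersion t] (ht : Function.Surjective t) (D : X.Opens) :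
    t ⁻¹ᵁ (img t ht D) = D := by
  ext x
  simp only [img, Opens.coe_mk, Scheme.Hom.coe_preimage, Set.mem_preimage, Set.mem_image,
    SetLike.mem_coe]
  constructor
  · rintro ⟨y, hy, e⟩
    rwa [← t.isClosedEmbedding.injective e]
  · intro hx
    exact ⟨x, hx, rfl⟩

lemma quasiSeparatedSpace [IsClosedImmersion t] (ht : Function.Surjective t)
    [QuasiSeparatedSpace X] : QuasiSeparatedSpace X' :=
  QuasiSeparatedSpace.of_isOpenEmbedding ((isHomeomorph t ht).homeomorph).symm.isOpenEmbedding

lemma isCompact_of_preimage (ht : Function.Surjective t) {W : X'.Opens}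
    (h : IsCompact (t ⁻¹ᵁ W : Set X)) : IsCompact (W : Set X') := by
  have : (W : Set X') = t '' (t ⁻¹ᵁ W : Set X) := by
    rw [Scheme.Hom.coe_preimage, Set.image_preimage_eq _ ht]
  rw [this]
  exact h.image t.continuous

lemma isCompact_preimage [IsClosedImmersion t] {W : X'.Opens}
    (h : IsCompact (W : Set X')) : IsCompact (t ⁻¹ᵁ W : Set X) :=
  t.isClosedEmbedding.isCompact_preimage h

/-- Sections in the kernel of `t.app W` over a quasi-compact open are nilpotent. -/
lemma isNilpotent_of_app_eq_zero (ht : Function.Surjective t) {W : X'.Opens}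
    (hW : IsCompact (W : Set X')) (s : Γ(X', W)) (hs : t.app W s = 0) : IsNilpotent s := by
  rw [Scheme.isNilpotent_iff_basicOpen_eq_bot_of_isCompact hW]
  apply eq_of_preimage_eq t ht
  rw [Scheme.preimage_basicOpen, hs, Scheme.basicOpen_zero]
  rfl

end Groth.Agent.H87.ThickAff
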