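import Mathlib
import Groth.Agent.H87.ThickAffB

/-!
# Thickenings: localisation lemmas for sections
-/

universe u
open AlgebraicGeometry CategoryTheory TopologicalSpace Opposite

namespace Groth.Agent.H87.ThickAff

variable {X X' : Scheme.{u}} (t : X ⟶ X')

/-- Compatibility of `t.app` with restriction. -/
lemma app_res {W W' : X'.Opens} (h : W' ≤ W) (s : Γ(X', W)) :
    t.app W' (X'.presheaf.map (homOfLE h).op s) =
      X.presheaf.map (homOfLE (show t ⁻¹ᵁ W' ≤ t ⁻¹ᵁ W from fun _ hx => h hx)).op (t.app W s) := by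
  have := t.naturality (homOfLE h).op
  exact ConcreteCategory.congr_hom this s

/-- Restriction along a composite. -/
lemma res_res (Y : Scheme.{u}) {U V W : Y.Opens} (h₁ : V ≤ U) (h₂ : W ≤ V) (s : Γ(Y, U)) :
    Y.presheaf.map (homOfLE h₂).op (Y.presheaf.map (homOfLE h₁).op s) =
      Y.presheaf.map (homOfLE (h₂.trans h₁)).op s := by
  rw [← CommRingCat.comp_apply, ← Functor.map_comp]
  rfl

lemma res_self (Y : Scheme.{u}) {U : Y.Opens} (h : U ≤ U) (s : Γ(Y, U)) :
    Y.presheaf.map (homOfLE h).op s = s := by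
  have : (homOfLE h).op = 𝟙 (op U) := rfl
  rw [this, Y.presheaf.map_id]
  rfl

/-- On a qcqs open `W`, a section over `V = D(f)` becomes, after multiplication by a power
of `f`, the restriction of a section over `W`. -/
lemma exists_res_eq_pow_mul (Y : Scheme.{u}) {W : Y.Opens} (hW : IsCompact (W : Set Y))
    (hW' : IsQuasiSeparated (W : Set Y)) (f : Γ(Y, W)) {V : Y.Opens} (hV : V = Y.basicOpen f)
    (d : Γ(Y, V)) :
    ∃ (n : ℕ) (y : Γ(Y, W)),
      Y.presheaf.map (homOfLE (hV ▸ Y.basicOpen_le f)).op y =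
        (Y.presheaf.map (homOfLE (hV ▸ Y.basicOpen_le f)).op f) ^ n * d := by
  subst hV
  obtain ⟨n, y, e⟩ := exists_eq_pow_mul_of_isCompact_of_isQuasiSeparated Y W hW hW' f d
  exact ⟨n, y, e⟩

/-- On a quasi-compact open `W`, a section vanishing over `V = D(f)` is killed by a power of `f`. -/
lemma exists_pow_mul_eq_zero (Y : Scheme.{u}) {W : Y.Opens} (hW : IsCompact (W : Set Y))
    (f x : Γ(Y, W)) {V : Y.Opens} (hV : V = Y.basicOpen f)
    (hx : Y.presheaf.map (homOfLE (hV ▸ Y.basicOpen_le f)).op x = 0) :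
    ∃ n : ℕ, f ^ n * x = 0 := by
  subst hV
  exact exists_pow_mul_eq_zero_of_res_basicOpen_eq_zero_of_isCompact Y hW x f hx

/-- Key localisation lemma for the kernel of a thickening. -/
lemma exists_lift_ker [IsClosedImmersion t] [QuasiSeparatedSpace X'] {W : X'.Opens}
    (hW : IsCompact (W : Set X')) (f : Γ(X', W)) {V : X'.Opens} (hV : V = X'.basicOpen f)
    (d : Γ(X', V)) (hd : t.app V d = 0) :
    ∃ (s : ℕ) (x : Γ(X', W)), t.app W x = 0 ∧
      X'.presheaf.map (homOfLE (hV ▸ X'.basicOpen_le f)).op x =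
        (X'.presheaf.map (homOfLE (hV ▸ X'.basicOpen_le f)).op f) ^ s * d := by
  have hVW : V ≤ W := hV ▸ X'.basicOpen_le f
  obtain ⟨n, y, e⟩ := exists_res_eq_pow_mul X' hW (.of_quasiSeparatedSpace _) f hV d
  -- the image of `y` vanishes on `t⁻¹ V = D(t^* f)`
  have hV' : t ⁻¹ᵁ V = X.basicOpen (t.app W f) := by
    rw [hV, Scheme.preimage_basicOpen]
  have h0 : X.presheaf.map (homOfLE (hV' ▸ X.basicOpen_le (t.app W f))).op (t.app W y) = 0 := by
    have := app_res t hVW y
    rw [e, map_mul, hd, mul_zero] at this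
    exact this.symm
  obtain ⟨m, hm⟩ := exists_pow_mul_eq_zero X (isCompact_preimage t hW) (t.app W f) (t.app W y) hV' h0
  refine ⟨m + n, f ^ m * y, ?_, ?_⟩
  · rw [map_mul, map_pow, hm]
  · rw [map_mul, map_pow, e, pow_add, mul_assoc]

end Groth.Agent.H87.ThickAff
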