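import Mathlib
import Groth.Agent.H87.ThickAffC

/-!
# Thickenings: surjectivity on sections passes to basic opens and to unions of two opens
-/

universe u
open AlgebraicGeometry CategoryTheory TopologicalSpace Opposite

namespace Groth.Agent.H87.ThickAff

variable {X X' : Scheme.{u}} (t : X ⟶ X')

/-- Surjectivity on sections passes to basic opens. -/
lemma surjective_app_basicOpen {W : X'.Opens}
    (hP : Function.Surjective (t.app W)) (hD : IsAffineOpen (t ⁻¹ᵁ W)) (h : Γ(X', W)) :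
    Function.Surjective (t.app (X'.basicOpen h)) := by
  intro y
  have hV' : t ⁻¹ᵁ (X'.basicOpen h) = X.basicOpen (t.app W h) := Scheme.preimage_basicOpen t h
  obtain ⟨n, z, e⟩ := exists_res_eq_pow_mul X hD.isCompact hD.isQuasiSeparated (t.app W h) hV' y
  obtain ⟨z', rfl⟩ := hP z
  have hunit : IsUnit (X'.presheaf.map (homOfLE (X'.basicOpen_le h)).op h) :=
    RingedSpace.isUnit_res_basicOpen X'.toRingedSpace h
  obtain ⟨u, hu⟩ := hunit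
  refine ⟨X'.presheaf.map (homOfLE (X'.basicOpen_le h)).op z' *
    (((u⁻¹ : (Γ(X', X'.basicOpen h))ˣ) : Γ(X', X'.basicOpen h))) ^ n, ?_⟩
  have e1 := app_res t (X'.basicOpen_le h) z'
  have e2 := app_res t (X'.basicOpen_le h) h
  rw [← hu] at e2
  rw [map_mul, map_pow, e1]
  erw [e]
  erw [← e2]
  rw [mul_comm, ← mul_assoc, ← mul_pow, ← map_mul]
  simp

/-- Surjectivity on sections passes to the union of two opens (two-open gluing lemma). -/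
theorem surjective_app_sup [IsClosedImmersion t] (ht : Function.Surjective t)
    [QuasiSeparatedSpace X']
    {W₁ W₂ : X'.Opens} (hc₁ : IsCompact (W₁ : Set X')) (hc₂ : IsCompact (W₂ : Set X'))
    (p₁ : Γ(X', W₁)) (p₂ : Γ(X', W₂))
    (hb₁ : W₁ ⊓ W₂ = X'.basicOpen (1 - p₁)) (hb₂ : W₁ ⊓ W₂ = X'.basicOpen p₂)
    (hμ : t.app (W₁ ⊓ W₂) (X'.presheaf.map (homOfLE inf_le_left).op p₁) =
          t.app (W₁ ⊓ W₂) (X'.presheaf.map (homOfLE inf_le_right).op p₂))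
    (hP₁ : Function.Surjective (t.app W₁)) (hP₂ : Function.Surjective (t.app W₂)) :
    Function.Surjective (t.app (W₁ ⊔ W₂)) := by
  intro y
  have hc₁₂ : IsCompact ((W₁ ⊓ W₂ : X'.Opens) : Set X') :=
    QuasiSeparatedSpace.inter_isCompact _ _ W₁.2 hc₁ W₂.2 hc₂
  have hl₁ : t ⁻¹ᵁ W₁ ≤ t ⁻¹ᵁ (W₁ ⊔ W₂) := fun _ hx => Or.inl hx
  have hl₂ : t ⁻¹ᵁ W₂ ≤ t ⁻¹ᵁ (W₁ ⊔ W₂) := fun _ hx => Or.inr hx
  obtain ⟨s₁, hs₁⟩ := hP₁ (X.presheaf.map (homOfLE hl₁).op y)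
  obtain ⟨s₂, hs₂⟩ := hP₂ (X.presheaf.map (homOfLE hl₂).op y)
  set ρ₁ : Γ(X', W₁) →+* Γ(X', W₁ ⊓ W₂) := (X'.presheaf.map (homOfLE inf_le_left).op).hom with hρ₁
  set ρ₂ : Γ(X', W₂) →+* Γ(X', W₁ ⊓ W₂) := (X'.presheaf.map (homOfLE inf_le_right).op).hom with hρ₂
  have hd : ρ₁ s₁ - ρ₂ s₂ ∈ RingHom.ker (t.app (W₁ ⊓ W₂)).hom := by
    rw [RingHom.mem_ker, map_sub, sub_eq_zero]
    have e1 := app_res t (inf_le_left : W₁ ⊓ W₂ ≤ W₁) s₁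
    have e2 := app_res t (inf_le_right : W₁ ⊓ W₂ ≤ W₂) s₂
    rw [hs₁, res_res] at e1
    rw [hs₂, res_res] at e2
    exact e1.trans e2.symm
  have hnil : IsNilpotent (ρ₁ p₁ - ρ₂ p₂) := by
    apply isNilpotent_of_app_eq_zero t ht hc₁₂
    rw [map_sub, sub_eq_zero]
    exact hμ
  have h₁ : ∀ d ∈ RingHom.ker (t.app (W₁ ⊓ W₂)).hom, ∃ s : ℕ,
      ∃ x ∈ RingHom.ker (t.app W₁).hom, ρ₁ x = ρ₁ (1 - p₁) ^ s * d := by
    intro d hd
    obtain ⟨s, x, hx, e⟩ := exists_lift_ker t hc₁ (1 - p₁) hb₁ d hd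
    exact ⟨s, x, hx, e⟩
  have h₂ : ∀ d ∈ RingHom.ker (t.app (W₁ ⊓ W₂)).hom, ∃ s : ℕ,
      ∃ x ∈ RingHom.ker (t.app W₂).hom, ρ₂ x = ρ₂ p₂ ^ s * d := by
    intro d hd
    obtain ⟨s, x, hx, e⟩ := exists_lift_ker t hc₂ p₂ hb₂ d hd
    exact ⟨s, x, hx, e⟩
  obtain ⟨n₁, hn₁, n₂, hn₂, e⟩ := exists_add_of_nil ρ₁ ρ₂ _ _ _ p₁ p₂ hnil h₁ h₂ _ hd
  have hglue : ρ₁ (s₁ - n₁) = ρ₂ (s₂ + n₂) := by
    rw [map_sub, map_add]
    linear_combination e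
  let x : RingHom.eqLocus
      (RingHom.comp (X'.sheaf.obj.map (homOfLE inf_le_left : W₁ ⊓ W₂ ⟶ W₁).op).hom
        (RingHom.fst (X'.sheaf.obj.obj <| op W₁) (X'.sheaf.obj.obj <| op W₂)))
      (RingHom.comp (X'.sheaf.obj.map (homOfLE inf_le_right : W₁ ⊓ W₂ ⟶ W₂).op).hom
        (RingHom.snd (X'.sheaf.obj.obj <| op W₁) (X'.sheaf.obj.obj <| op W₂))) :=
    ⟨(s₁ - n₁, s₂ + n₂), hglue⟩
  let s : Γ(X', W₁ ⊔ W₂) := (X'.sheaf.objSupIsoProdEqLocus W₁ W₂).inv x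
  have hsf : X'.presheaf.map (homOfLE le_sup_left).op s = s₁ - n₁ :=
    X'.sheaf.objSupIsoProdEqLocus_inv_fst W₁ W₂ x
  have hss : X'.presheaf.map (homOfLE le_sup_right).op s = s₂ + n₂ :=
    X'.sheaf.objSupIsoProdEqLocus_inv_snd W₁ W₂ x
  refine ⟨s, ?_⟩
  refine X.sheaf.eq_of_locally_eq₂ (homOfLE hl₁) (homOfLE hl₂) (fun _ hx => hx) _ _ ?_ ?_
  · have := app_res t (le_sup_left : W₁ ≤ W₁ ⊔ W₂) s
    rw [hsf, map_sub, hs₁, (RingHom.mem_ker).mp hn₁, sub_zero] at this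
    exact this.symm
  · have := app_res t (le_sup_right : W₂ ≤ W₁ ⊔ W₂) s
    rw [hss, map_add, hs₂, (RingHom.mem_ker).mp hn₂, add_zero] at this
    exact this.symm

end Groth.Agent.H87.ThickAff
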