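import Mathlib
import Groth.Agent.H87.ThickAffD

/-!
# Thickenings of affine schemes: surjectivity on global sections
-/

universe u
open AlgebraicGeometry CategoryTheory TopologicalSpace Opposite

namespace Groth.Agent.H87.ThickAff

variable {X X' : Scheme.{u}} (t : X ⟶ X')

/-- For a section `e` over `U`, the basic opens of `e` and `1 - e` cover `U`. -/
lemma basicOpen_sup_basicOpen_one_sub (Y : Scheme.{u}) {U : Y.Opens} (e : Γ(Y, U)) :
    Y.basicOpen e ⊔ Y.basicOpen (1 - e) = U := by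
  apply le_antisymm (sup_le (Y.basicOpen_le _) (Y.basicOpen_le _))
  intro x hx
  have h := IsLocalRing.isUnit_or_isUnit_one_sub_self (Y.presheaf.germ U x hx e)
  rcases h with h | h
  · exact Or.inl ((Y.mem_basicOpen e x hx).mpr h)
  · refine Or.inr ((Y.mem_basicOpen (1 - e) x hx).mpr ?_)
    rwa [map_sub, map_one]

/-- Two-open gluing, formulated with a section `e` on the thin scheme. -/
theorem surjective_app_of_cover [IsClosedImmersion t] (ht : Function.Surjective t)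
    [QuasiSeparatedSpace X'] (W : X'.Opens) (e : Γ(X, t ⁻¹ᵁ W)) (W₁ W₂ : X'.Opens)
    (hW₁ : t ⁻¹ᵁ W₁ = X.basicOpen e) (hW₂ : t ⁻¹ᵁ W₂ = X.basicOpen (1 - e))
    (hc₁ : IsCompact (W₁ : Set X')) (hc₂ : IsCompact (W₂ : Set X'))
    (hP₁ : Function.Surjective (t.app W₁)) (hP₂ : Function.Surjective (t.app W₂)) :
    Function.Surjective (t.app W) := by
  have hl₁ : t ⁻¹ᵁ W₁ ≤ t ⁻¹ᵁ W := hW₁ ▸ X.basicOpen_le e
  have hl₂ : t ⁻¹ᵁ W₂ ≤ t ⁻¹ᵁ W := hW₂ ▸ X.basicOpen_le (1 - e)
  have hsup : W₁ ⊔ W₂ = W := by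
    apply eq_of_preimage_eq t ht
    rw [← basicOpen_sup_basicOpen_one_sub X e, ← hW₁, ← hW₂]
    rfl
  obtain ⟨p₁, hp₁⟩ := hP₁ (X.presheaf.map (homOfLE hl₁).op e)
  obtain ⟨p₂, hp₂⟩ := hP₂ (X.presheaf.map (homOfLE hl₂).op e)
  have hinf : t ⁻¹ᵁ (W₁ ⊓ W₂) = X.basicOpen e ⊓ X.basicOpen (1 - e) := by
    rw [← hW₁, ← hW₂]; rfl
  have hb₁ : W₁ ⊓ W₂ = X'.basicOpen (1 - p₁) := by
    apply eq_of_preimage_eq t ht
    rw [hinf, Scheme.preimage_basicOpen, map_sub, map_one, hp₁]
    have : (1 : Γ(X, t ⁻¹ᵁ W₁)) - X.presheaf.map (homOfLE hl₁).op e =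
        X.presheaf.map (homOfLE hl₁).op (1 - e) := by rw [map_sub, map_one]
    rw [this, Scheme.basicOpen_res, hW₁]
  have hb₂ : W₁ ⊓ W₂ = X'.basicOpen p₂ := by
    apply eq_of_preimage_eq t ht
    rw [hinf, Scheme.preimage_basicOpen, hp₂, Scheme.basicOpen_res, hW₂, inf_comm]
  have hμ : t.app (W₁ ⊓ W₂) (X'.presheaf.map (homOfLE inf_le_left).op p₁) =
      t.app (W₁ ⊓ W₂) (X'.presheaf.map (homOfLE inf_le_right).op p₂) := by
    rw [app_res, app_res, hp₁, hp₂, res_res, res_res]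
  have := surjective_app_sup t ht hc₁ hc₂ p₁ p₂ hb₁ hb₂ hμ hP₁ hP₂
  rwa [hsup] at this

section Affine

variable [IsClosedImmersion t] (ht : Function.Surjective t) [IsAffine X]

/-- A global section `f` of the thin affine scheme is *small* if `D(f)` lies over an affine open
of the thick scheme. -/
def IsSmall (f : Γ(X, ⊤)) : Prop :=
  ∃ U' : X'.Opens, IsAffineOpen U' ∧ X.basicOpen f ≤ t ⁻¹ᵁ U'

include ht in
lemma exists_basicOpen_of_isSmall {f : Γ(X, ⊤)} (hf : IsSmall t f) :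
    ∃ (U' : X'.Opens) (_ : IsAffineOpen U') (g : Γ(X', U')),
      X'.basicOpen g = img t ht (X.basicOpen f) := by
  obtain ⟨U', hU', hle⟩ := hf
  obtain ⟨g, hg⟩ := t.app_surjective U' hU' (X.presheaf.map (homOfLE le_top).op f)
  refine ⟨U', hU', g, ?_⟩
  apply eq_of_preimage_eq t ht
  rw [preimage_img, Scheme.preimage_basicOpen, hg, Scheme.basicOpen_res]
  exact inf_eq_right.mpr hle

include ht in
lemma isAffineOpen_img_of_isSmall {f : Γ(X, ⊤)} (hf : IsSmall t f) :
    IsAffineOpen (img t ht (X.basicOpen f)) := by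
  obtain ⟨U', hU', g, hg⟩ := exists_basicOpen_of_isSmall t ht hf
  rw [← hg]
  exact hU'.basicOpen g

lemma span_isSmall : Ideal.span {f : Γ(X, ⊤) | IsSmall t f} = ⊤ := by
  rw [← (isAffineOpen_top X).self_le_iSup_basicOpen_iff]
  intro x _
  obtain ⟨U', hU', hxU', -⟩ :=
    Opens.isBasis_iff_nbhd.mp X'.isBasis_affineOpens (Opens.mem_top (t x))
  obtain ⟨_, ⟨f, rfl⟩, hxf, hfU⟩ :=
    Opens.isBasis_iff_nbhd.mp (isBasis_basicOpen X) (show x ∈ t ⁻¹ᵁ U' from hxU')
  rw [Opens.mem_iSup]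
  exact ⟨⟨f, U', hU', hfU⟩, hxf⟩

include ht in
lemma isCompact_img_basicOpen (f : Γ(X, ⊤)) :
    IsCompact (img t ht (X.basicOpen f) : Set X') := by
  apply isCompact_of_preimage t ht
  rw [preimage_img]
  exact ((isAffineOpen_top X).basicOpen f).isCompact

include ht in
/-- `Γ(X', W) → Γ(X, D(f))` is surjective for `W` the open of `X'` corresponding to `D(f)`. -/
theorem surjective_app_img_basicOpen (f : Γ(X, ⊤)) :
    Function.Surjective (t.app (img t ht (X.basicOpen f))) := by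
  have : QuasiSeparatedSpace X' := quasiSeparatedSpace t ht
  have hmem : f ∈ Ideal.span {f : Γ(X, ⊤) | IsSmall t f} := by
    rw [span_isSmall]; trivial
  -- multiplication step
  have hmul : ∀ (g f : Γ(X, ⊤)), Function.Surjective (t.app (img t ht (X.basicOpen f))) →
      Function.Surjective (t.app (img t ht (X.basicOpen (g * f)))) := by
    intro g f hf
    have hD : IsAffineOpen (t ⁻¹ᵁ (img t ht (X.basicOpen f))) := by
      rw [preimage_img]; exact (isAffineOpen_top X).basicOpen f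
    obtain ⟨h, hh⟩ := hf (X.presheaf.map (homOfLE le_top).op g)
    have key := surjective_app_basicOpen t hf hD h
    have : X'.basicOpen h = img t ht (X.basicOpen (g * f)) := by
      apply eq_of_preimage_eq t ht
      rw [preimage_img, Scheme.preimage_basicOpen, hh, Scheme.basicOpen_res, preimage_img,
        Scheme.basicOpen_mul, inf_comm]
    rwa [this] at key
  refine Submodule.span_induction (p := fun f _ => Function.Surjective
    (t.app (img t ht (X.basicOpen f)))) ?_ ?_ ?_ ?_ hmem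
  · intro f hf
    exact t.app_surjective _ (isAffineOpen_img_of_isSmall t ht hf)
  · have h0 : t ⁻¹ᵁ (img t ht (X.basicOpen (0 : Γ(X, ⊤)))) = ⊥ := by
      rw [preimage_img, Scheme.basicOpen_zero]
    have : Subsingleton Γ(X, t ⁻¹ᵁ (img t ht (X.basicOpen (0 : Γ(X, ⊤))))) := by
      rw [h0]; infer_instance
    intro y
    exact ⟨0, Subsingleton.elim _ _⟩
  · intro a b _ _ ha hb
    set f := a + b with hf
    set W := img t ht (X.basicOpen f) with hW
    have hpre : t ⁻¹ᵁ W = X.basicOpen f := preimage_img t ht _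
    -- `f` is a unit over `t⁻¹ W`
    have hfu : IsUnit (X.presheaf.map (homOfLE (le_top : t ⁻¹ᵁ W ≤ ⊤)).op f) := by
      have h1 : IsUnit (X.presheaf.map (homOfLE (X.basicOpen_le f)).op f) :=
        RingedSpace.isUnit_res_basicOpen X.toRingedSpace f
      have h2 := h1.map (X.presheaf.map (homOfLE hpre.le).op).hom
      have h3 : (X.presheaf.map (homOfLE hpre.le).op).hom
          (X.presheaf.map (homOfLE (X.basicOpen_le f)).op f) =
          X.presheaf.map (homOfLE (le_top : t ⁻¹ᵁ W ≤ ⊤)).op f := res_res X _ _ f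
      rwa [h3] at h2
    obtain ⟨u, hu⟩ := hfu
    set aW := X.presheaf.map (homOfLE (le_top : t ⁻¹ᵁ W ≤ ⊤)).op a with haW
    set bW := X.presheaf.map (homOfLE (le_top : t ⁻¹ᵁ W ≤ ⊤)).op b with hbW
    have hsum : (u : Γ(X, t ⁻¹ᵁ W)) = aW + bW := by
      rw [hu, haW, hbW, ← map_add]
    have hinvu : IsUnit ((u⁻¹ : (Γ(X, t ⁻¹ᵁ W))ˣ) : Γ(X, t ⁻¹ᵁ W)) := Units.isUnit _
    set e : Γ(X, t ⁻¹ᵁ W) := aW * ((u⁻¹ : (Γ(X, t ⁻¹ᵁ W))ˣ) : Γ(X, t ⁻¹ᵁ W)) with he
    have he' : 1 - e = bW * ((u⁻¹ : (Γ(X, t ⁻¹ᵁ W))ˣ) : Γ(X, t ⁻¹ᵁ W)) := by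
      have : (1 : Γ(X, t ⁻¹ᵁ W)) = (u : Γ(X, t ⁻¹ᵁ W)) * ((u⁻¹ : (Γ(X, t ⁻¹ᵁ W))ˣ) :
          Γ(X, t ⁻¹ᵁ W)) := by simp
      rw [he, this, hsum]; ring
    have hW₁ : t ⁻¹ᵁ (img t ht (X.basicOpen (f * a))) = X.basicOpen e := by
      have : X.basicOpen e = X.basicOpen f ⊓ X.basicOpen a := by
        rw [he, Scheme.basicOpen_mul, Scheme.basicOpen_of_isUnit X hinvu, haW,
          Scheme.basicOpen_res, hpre]
        simp only [inf_assoc, inf_comm, inf_left_comm, inf_idem]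
      rw [preimage_img, this, Scheme.basicOpen_mul]
    have hW₂ : t ⁻¹ᵁ (img t ht (X.basicOpen (f * b))) = X.basicOpen (1 - e) := by
      have : X.basicOpen (1 - e) = X.basicOpen f ⊓ X.basicOpen b := by
        rw [he', Scheme.basicOpen_mul, Scheme.basicOpen_of_isUnit X hinvu, hbW,
          Scheme.basicOpen_res, hpre]
        simp only [inf_assoc, inf_comm, inf_left_comm, inf_idem]
      rw [preimage_img, this, Scheme.basicOpen_mul]
    exact surjective_app_of_cover t ht W e _ _ hW₁ hW₂ (isCompact_img_basicOpen t ht _)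
      (isCompact_img_basicOpen t ht _) (hmul f a ha) (hmul f b hb)
  · intro g f _ hf
    exact hmul g f hf

include ht in
/-- **Surjectivity on global sections** for a thickening of an affine scheme. -/
theorem surjective_appTop : Function.Surjective t.appTop := by
  have h := surjective_app_img_basicOpen t ht (1 : Γ(X, ⊤))
  have : img t ht (X.basicOpen (1 : Γ(X, ⊤))) = ⊤ := by
    apply eq_of_preimage_eq t ht
    rw [preimage_img, Scheme.basicOpen_one]
    rfl
  rw [this] at h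
  exact h

end Affine

end Groth.Agent.H87.ThickAff
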