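import Mathlib
import Groth.Agent.H87.ThickAffE

/-!
# A thickening of an affine scheme is affine
-/

universe u
open AlgebraicGeometry CategoryTheory TopologicalSpace Opposite

namespace Groth.Agent.H87.ThickAff

variable {X X' : Scheme.{u}} (t : X ⟶ X')

/-- If a scheme receives a surjective closed immersion from an affine scheme, it is affine. -/
theorem isAffine_of_thickening [IsClosedImmersion t] (ht : Function.Surjective t) [IsAffine X] :
    IsAffine X' := by
  have hcomp : CompactSpace X' := by
    constructor
    have : (Set.univ : Set X') = t '' Set.univ := by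
      rw [Set.image_univ, Set.range_eq_univ.mpr ht]
    rw [this]
    exact isCompact_univ.image t.continuous
  have hsurj := surjective_appTop t ht
  refine isAffine_of_isAffineOpen_basicOpen {a' : Γ(X', ⊤) | IsAffineOpen (X'.basicOpen a')} ?_ ?_
  · -- the image of the span contains all small sections
    have hmap : Ideal.map t.appTop.hom (Ideal.span {a' : Γ(X', ⊤) | IsAffineOpen (X'.basicOpen a')})
        = ⊤ := by
      rw [eq_top_iff, ← span_isSmall t, Ideal.span_le]
      intro f hf
      obtain ⟨a', ha'⟩ := hsurj f
      refine Ideal.mem_map_of_mem _ (Ideal.subset_span ?_) |> (ha' ▸ ·)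
      show IsAffineOpen (X'.basicOpen a')
      have : X'.basicOpen a' = img t ht (X.basicOpen f) := by
        apply eq_of_preimage_eq t ht
        rw [preimage_img, Scheme.preimage_basicOpen_top, ha']
      rw [this]
      exact isAffineOpen_img_of_isSmall t ht hf
    have h1 : (1 : Γ(X, ⊤)) ∈ Ideal.map t.appTop.hom
        (Ideal.span {a' : Γ(X', ⊤) | IsAffineOpen (X'.basicOpen a')}) := by
      rw [hmap]; trivial
    obtain ⟨e, he, he1⟩ := (Ideal.mem_map_iff_of_surjective _ hsurj).mp h1
    have hnil : IsNilpotent (1 - e) := by
      apply isNilpotent_of_app_eq_zero t ht (W := ⊤) CompactSpace.isCompact_univ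
      show t.appTop (1 - e) = 0
      rw [map_sub, map_one]
      erw [he1]
      exact sub_self _
    have hunit : IsUnit e := by
      have := hnil.isUnit_one_sub
      simpa using this
    exact Ideal.eq_top_of_isUnit_mem _ he hunit
  · intro a' ha'
    exact ha'

end Groth.Agent.H87.ThickAff
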