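import Mathlib
import Groth.Agent.H87.ThickAffF

/-!
# Morphisms of thickenings: affine iff affine, integral iff integral
-/

universe u
open AlgebraicGeometry CategoryTheory TopologicalSpace Opposite

namespace Groth.Agent.H87.ThickAff

/-- For a surjective closed immersion `t : X ⟶ X'`, an open of `X'` whose preimage is an affine
open of `X` is an affine open. -/
theorem isAffineOpen_of_preimage {X X' : Scheme.{u}} (t : X ⟶ X') [IsClosedImmersion t]
    [Surjective t] (V' : X'.Opens) (h : IsAffineOpen (t ⁻¹ᵁ V')) : IsAffineOpen V' := by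
  have h1 : IsAffine (t ⁻¹ᵁ V').toScheme := h
  have h2 : Surjective (t ∣_ V') :=
    IsZariskiLocalAtTarget.restrict (P := @Surjective) ‹Surjective t› V'
  exact isAffine_of_thickening (t ∣_ V') h2.surj

variable {X X' S S' : Scheme.{u}} (iX : X ⟶ X') (iS : S ⟶ S') (f : X ⟶ S) (f' : X' ⟶ S')

theorem isAffineHom_iff_of_thickening [IsClosedImmersion iX] [Surjective iX]
    [IsClosedImmersion iS] (w : iX ≫ f' = f ≫ iS) :
    IsAffineHom f ↔ IsAffineHom f' := by
  constructor
  · intro hf
    constructor
    intro U' hU'
    apply isAffineOpen_of_preimage iX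
    have : iX ⁻¹ᵁ (f' ⁻¹ᵁ U') = f ⁻¹ᵁ (iS ⁻¹ᵁ U') := by
      rw [← Scheme.Hom.comp_preimage, ← Scheme.Hom.comp_preimage, w]
    rw [this]
    exact (hU'.preimage iS).preimage f
  · intro hf'
    have : IsAffineHom (f ≫ iS) := by
      rw [← w]; infer_instance
    exact IsAffineHom.of_comp f iS

theorem isIntegralHom_iff_of_thickening [IsClosedImmersion iX] [Surjective iX]
    [IsClosedImmersion iS] (w : iX ≫ f' = f ≫ iS) :
    IsIntegralHom f ↔ IsIntegralHom f' := by
  constructor
  · intro hf
    rw [IsIntegralHom.iff_universallyClosed_and_isAffineHom]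
    refine ⟨?_, (isAffineHom_iff_of_thickening iX iS f f' w).mp inferInstance⟩
    have : UniversallyClosed (iX ≫ f') := by
      rw [w]; infer_instance
    exact UniversallyClosed.of_comp_surjective iX f'
  · intro hf'
    have : IsIntegralHom (f ≫ iS) := by
      rw [← w]; infer_instance
    exact IsIntegralHom.of_comp f iS

end Groth.Agent.H87.ThickAff
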