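import Mathlib
import Groth.Prelude.Def_MoreMor
import Groth.Agent.H38.ConnCompImage2

/-!
# Section components commute with base change (helper for S1324)
-/

set_option autoImplicit false
universe u

open CategoryTheory CategoryTheory.Limits AlgebraicGeometry

namespace Groth.Agent.H87.SecComp

/-- homeomorphisms preserve connected components -/
theorem homeo_image_connectedComponent {α β : Type*} [TopologicalSpace α] [TopologicalSpace β]
    (h : α ≃ₜ β) (a : α) : h '' connectedComponent a = connectedComponent (h a) := by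
  refine h.isQuotientMap.image_connectedComponent (fun y => ?_) a
  have : h ⁻¹' {y} = {h.symm y} := by
    ext z
    simp only [Set.mem_preimage, Set.mem_singleton_iff]
    constructor
    · intro hz; rw [← hz]; simp
    · intro hz; rw [hz]; simp
  rw [this]
  exact isConnected_singleton

/-- The image of a connected component under the projection of an arbitrary pullback square
along a field extension is a connected component (after helper38's S1583). -/
theorem image_connectedComponent_of_isPullback (k : Type u) [Field k] (K : Type u) [Field K]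
    [Algebra k K] {Z W : Scheme.{u}} (a : Z ⟶ Spec (CommRingCat.of k)) (φ : W ⟶ Z)
    (b : W ⟶ Spec (CommRingCat.of K))
    (h : IsPullback φ b a (Spec.map (CommRingCat.ofHom (algebraMap k K)))) (w : W) :
    φ '' connectedComponent w = connectedComponent (φ w) := by
  let _ : Z.Over (Spec (CommRingCat.of k)) := ⟨a⟩
  let e : W ≅ Curv2.bc k Z K := h.isoPullback
  have he : e.hom ≫ Curv2.bcFst k Z K = φ := h.isoPullback_hom_fst
  have h1 := Groth.Agent.H38.ConnCompImage.image_connectedComponent k Z K (e.hom w)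
  have h2 := homeo_image_connectedComponent (Scheme.homeoOfIso e) w
  have h3 : ∀ z, Curv2.bcFst k Z K (e.hom z) = φ z := by
    intro z
    rw [← Scheme.Hom.comp_apply, he]
  rw [← h3 w, ← h1]
  have h4 : (Scheme.homeoOfIso e : W → _) = e.hom := rfl
  rw [h4] at h2
  rw [← h2, Set.image_image]
  exact Set.image_congr (fun z _ => (h3 z).symm)

variable {X Y X' Y' : Scheme.{u}}

/-- easy direction -/
theorem map_mem_of_mem (f : X ⟶ Y) (s : Y ⟶ X)
    (f' : X' ⟶ Y') (g' : X' ⟶ X) (g : Y' ⟶ Y) (hc : IsPullback g' f' f g)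
    (s' : Y' ⟶ X') (hs' : s' ≫ f' = 𝟙 Y') (hs'g : s' ≫ g' = g ≫ s) (x' : X')
    (hx : x' ∈ MoreMor.sectionComponents f' s') : g' x' ∈ MoreMor.sectionComponents f s := by
  have hfy : ∀ z : X', f (g' z) = g (f' z) := by
    intro z
    rw [← Scheme.Hom.comp_apply, hc.w, Scheme.Hom.comp_apply]
  change g' x' ∈ connectedComponentIn (f ⁻¹' {f (g' x')}) (s (f (g' x')))
  rw [hfy x']
  change x' ∈ connectedComponentIn (f' ⁻¹' {f' x'}) (s' (f' x')) at hx
  have hs'y : f' (s' (f' x')) = f' x' := by
    rw [← Scheme.Hom.comp_apply, hs']; rfl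
  have hmem : s' (f' x') ∈ f' ⁻¹' {f' x'} := hs'y
  have hpre : _root_.IsPreconnected (g' '' connectedComponentIn (f' ⁻¹' {f' x'}) (s' (f' x'))) :=
    isPreconnected_connectedComponentIn.image _ g'.continuous.continuousOn
  have hsub : g' '' connectedComponentIn (f' ⁻¹' {f' x'}) (s' (f' x')) ⊆ f ⁻¹' {g (f' x')} := by
    rintro _ ⟨z, hz, rfl⟩
    have hz' : f' z = f' x' := (connectedComponentIn_subset (f' ⁻¹' {f' x'}) (s' (f' x'))) hz
    change f (g' z) = g (f' x')
    rw [hfy z, hz']
  have hsg : g' (s' (f' x')) = s (g (f' x')) := by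
    rw [← Scheme.Hom.comp_apply, hs'g, Scheme.Hom.comp_apply]
  have hin : s (g (f' x')) ∈ g' '' connectedComponentIn (f' ⁻¹' {f' x'}) (s' (f' x')) :=
    ⟨s' (f' x'), mem_connectedComponentIn hmem, hsg⟩
  exact hpre.subset_connectedComponentIn hin hsub ⟨x', hx, rfl⟩


/-- hard direction -/
theorem mem_of_map_mem (f : X ⟶ Y) (s : Y ⟶ X) (hs : s ≫ f = 𝟙 Y)
    (f' : X' ⟶ Y') (g' : X' ⟶ X) (g : Y' ⟶ Y) (hc : IsPullback g' f' f g)
    (s' : Y' ⟶ X') (hs' : s' ≫ f' = 𝟙 Y') (hs'g : s' ≫ g' = g ≫ s) (x' : X')
    (hx : g' x' ∈ MoreMor.sectionComponents f s) : x' ∈ MoreMor.sectionComponents f' s' := by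
  have hfy : ∀ z : X', f (g' z) = g (f' z) := by
    intro z
    rw [← Scheme.Hom.comp_apply, hc.w, Scheme.Hom.comp_apply]
  change g' x' ∈ connectedComponentIn (f ⁻¹' {f (g' x')}) (s (f (g' x'))) at hx
  rw [hfy x'] at hx
  change x' ∈ connectedComponentIn (f' ⁻¹' {f' x'}) (s' (f' x'))
  obtain ⟨y', hy'⟩ : ∃ y', y' = f' x' := ⟨_, rfl⟩
  rw [← hy'] at hx ⊢
  -- the fibres and the comparison map
  let φ : f'.fiber y' ⟶ f.fiber (g y') :=
    pullback.map _ _ _ _ g' (Spec.map (g.residueFieldMap y')) g hc.w.symm (by simp)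
  have hφ : IsPullback φ (f'.fiberToSpecResidueField y') (f.fiberToSpecResidueField (g y'))
      (Spec.map (g.residueFieldMap y')) := isPullback_fiberToSpecResidueField_of_isPullback hc y'
  have hφι : φ ≫ f.fiberι (g y') = f'.fiberι y' ≫ g' := pullback.lift_fst _ _ _
  have hφι' : ∀ z, f.fiberι (g y') (φ z) = g' (f'.fiberι y' z) := by
    intro z
    rw [← Scheme.Hom.comp_apply, hφι, Scheme.Hom.comp_apply]
  -- the rational point
  let σ : Spec (Y.residueField (g y')) ⟶ f.fiber (g y') :=
    pullback.lift (Y.fromSpecResidueField (g y') ≫ s) (𝟙 _)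
      (by rw [Category.assoc, hs, Category.comp_id, Category.id_comp])
  have hσ1 : σ ≫ f.fiberι (g y') = Y.fromSpecResidueField (g y') ≫ s := pullback.lift_fst _ _ _
  have hσ2 : σ ≫ f.fiberToSpecResidueField (g y') = 𝟙 _ := pullback.lift_snd _ _ _
  -- the points
  have hs'y : f' (s' y') = y' := by
    rw [← Scheme.Hom.comp_apply, hs']; rfl
  have hsy : f (s (g y')) = g y' := by
    rw [← Scheme.Hom.comp_apply, hs]; rfl
  obtain ⟨q', hq'⟩ : ∃ q', f'.fiberι y' q' = x' := by
    have : x' ∈ Set.range (f'.fiberι y') := by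
      rw [Scheme.Hom.range_fiberι]; exact hy'.symm
    exact this
  obtain ⟨p', hp'⟩ : ∃ p', f'.fiberι y' p' = s' y' := by
    have : s' y' ∈ Set.range (f'.fiberι y') := by
      rw [Scheme.Hom.range_fiberι]; exact hs'y
    exact this
  have hsg : g' (s' y') = s (g y') := by
    rw [← Scheme.Hom.comp_apply, hs'g, Scheme.Hom.comp_apply]
  have hιq : f.fiberι (g y') (φ q') = g' x' := by rw [hφι', hq']
  have hιp : f.fiberι (g y') (φ p') = s (g y') := by rw [hφι', hp', hsg]
  -- F3: φ q' lies in the connected component of φ p'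
  have hF3 : φ q' ∈ connectedComponent (φ p') := by
    set C := connectedComponentIn (f ⁻¹' {g y'}) (s (g y')) with hC
    have hCsub : C ⊆ Set.range (f.fiberι (g y')) := by
      rw [Scheme.Hom.range_fiberι]; exact connectedComponentIn_subset _ _
    have himg : f.fiberι (g y') '' (f.fiberι (g y') ⁻¹' C) = C := by
      rw [Set.image_preimage_eq_inter_range, Set.inter_eq_left.mpr hCsub]
    have hpre : _root_.IsPreconnected (f.fiberι (g y') ⁻¹' C) := by
      rw [← (f.fiberι (g y')).isEmbedding.isInducing.isPreconnected_image, himg]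
      exact isPreconnected_connectedComponentIn
    have hpC : φ p' ∈ f.fiberι (g y') ⁻¹' C := by
      change f.fiberι (g y') (φ p') ∈ C
      rw [hιp]
      exact mem_connectedComponentIn hsy
    have hqC : φ q' ∈ f.fiberι (g y') ⁻¹' C := by
      change f.fiberι (g y') (φ q') ∈ C
      rw [hιq]
      exact hx
    exact hpre.subset_connectedComponent hpC hqC
  -- F4: ICC
  let _ : Algebra (Y.residueField (g y')) (Y'.residueField y') := (g.residueFieldMap y').hom.toAlgebra
  have hICC := image_connectedComponent_of_isPullback (Y.residueField (g y')) (Y'.residueField y')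
    (f.fiberToSpecResidueField (g y')) φ (f'.fiberToSpecResidueField y') hφ q'
  have hcc : connectedComponent (φ q') = connectedComponent (φ p') := (connectedComponent_eq hF3).symm
  have hpin : φ p' ∈ φ '' connectedComponent q' := by
    rw [hICC, hcc]; exact mem_connectedComponent
  obtain ⟨r, hr, hrp⟩ := hpin
  -- F5: r = p'
  have hrp' : r = p' := by
    have h1 : IsPullback (pullback.fst σ φ) (pullback.snd σ φ) σ φ := IsPullback.of_hasPullback σ φ
    have h2 := h1.paste_vert hφ
    rw [hσ2] at h2
    have hiso : IsIso (pullback.snd σ φ ≫ f'.fiberToSpecResidueField y') := h2.isIso_snd_of_isIso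
    have hsub : Subsingleton ↥(pullback σ φ) := by
      constructor
      intro a b
      have hinj : Function.Injective (pullback.snd σ φ ≫ f'.fiberToSpecResidueField y') :=
        (Scheme.homeoOfIso (asIso (pullback.snd σ φ ≫ f'.fiberToSpecResidueField y'))).injective
      exact hinj (Subsingleton.elim (α := PrimeSpectrum _) _ _)
    have hrange : Set.range (pullback.snd σ φ) = φ ⁻¹' Set.range σ := Scheme.Pullback.range_snd σ φ
    have hpσ : φ p' ∈ Set.range σ := by
      obtain ⟨pt⟩ : Nonempty ↥(Spec (Y.residueField (g y'))) := inferInstance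
      refine ⟨pt, ?_⟩
      apply (f.fiberι (g y')).isEmbedding.injective
      have e1 : f.fiberι (g y') (σ pt) = (σ ≫ f.fiberι (g y')) pt := rfl
      rw [hιp, e1, hσ1, Scheme.Hom.comp_apply, Scheme.fromSpecResidueField_apply]
    have hr' : r ∈ Set.range (pullback.snd σ φ) := by
      rw [hrange]; change φ r ∈ Set.range σ; rw [hrp]; exact hpσ
    have hp'' : p' ∈ Set.range (pullback.snd σ φ) := by
      rw [hrange]; exact hpσ
    obtain ⟨a, rfl⟩ := hr'
    obtain ⟨b, rfl⟩ := hp''
    rw [Subsingleton.elim a b]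
  rw [hrp'] at hr
  -- F6
  have hq'in : q' ∈ connectedComponent p' := by
    rw [← connectedComponent_eq hr]; exact mem_connectedComponent
  have hpre : _root_.IsPreconnected (f'.fiberι y' '' connectedComponent p') :=
    isPreconnected_connectedComponent.image _ (f'.fiberι y').continuous.continuousOn
  have hsub : f'.fiberι y' '' connectedComponent p' ⊆ f' ⁻¹' {y'} := by
    rw [← Scheme.Hom.range_fiberι]
    exact Set.image_subset_range _ _
  have hin : s' y' ∈ f'.fiberι y' '' connectedComponent p' := ⟨p', mem_connectedComponent, hp'⟩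
  exact hpre.subset_connectedComponentIn hin hsub ⟨q', hq'in, hq'⟩

end Groth.Agent.H87.SecComp
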