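import Groth.Agent.Lead.Fitting

/-!
# Fitting ideals of a direct sum
-/

set_option autoImplicit false
universe u v w
open Matrix Groth.Agent.Lead

namespace Groth.Agent.H87.FittSum

variable {R : Type u} [CommRing R]

theorem det_eq_zero_of_card_ne {j : ℕ} (N : Matrix (Fin j) (Fin j) R) (p s : Fin j → Prop)
    [DecidablePred p] [DecidablePred s]
    (hN : ∀ a b, ¬(p a ↔ s b) → N a b = 0)
    (hcard : Fintype.card {a // p a} ≠ Fintype.card {b // s b}) : N.det = 0 := by
  rw [Matrix.det_apply]
  refine Finset.sum_eq_zero fun σ _ => ?_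
  have : ∃ i, N (σ i) i = 0 := by
    by_contra hcon
    push Not at hcon
    have h : ∀ b, s b ↔ p (σ b) := fun b => by
      by_contra hb
      exact hcon b (hN (σ b) b (fun h' => hb h'.symm))
    exact hcard (Fintype.card_congr (σ.subtypeEquiv h)).symm
  obtain ⟨i, hi⟩ := this
  have hz : ∏ i, N (σ i) i = 0 := Finset.prod_eq_zero (Finset.mem_univ i) hi
  rw [hz, smul_zero]

theorem det_block {j : ℕ} (N : Matrix (Fin j) (Fin j) R) (p s : Fin j → Prop)
    [DecidablePred p] [DecidablePred s]
    (hN : ∀ a b, ¬(p a ↔ s b) → N a b = 0)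
    (hcard : Fintype.card {a // p a} = Fintype.card {b // s b}) :
    ∃ (α β : ℕ) (r₁ c₁ : Fin α → Fin j) (r₂ c₂ : Fin β → Fin j), α + β = j ∧
      (∀ i, p (r₁ i)) ∧ (∀ i, s (c₁ i)) ∧ (∀ i, ¬p (r₂ i)) ∧ (∀ i, ¬s (c₂ i)) ∧
      (N.det = (N.submatrix r₁ c₁).det * (N.submatrix r₂ c₂).det ∨
        N.det = -((N.submatrix r₁ c₁).det * (N.submatrix r₂ c₂).det)) := by
  classical
  let α := Fintype.card {a // p a}
  let β := Fintype.card {a // ¬p a}
  have hβ : Fintype.card {b // ¬s b} = β := by
    show Fintype.card {b // ¬s b} = Fintype.card {a // ¬p a}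
    rw [Fintype.card_subtype_compl, Fintype.card_subtype_compl, hcard]
  have hαβ : α + β = j := by
    have := Fintype.card_subtype_compl p
    have h2 : Fintype.card {a // p a} ≤ Fintype.card (Fin j) := Fintype.card_subtype_le p
    simp only [Fintype.card_fin] at this h2
    omega
  let eP : Fin α ≃ {a // p a} := (Fintype.equivFin _).symm
  let eQ : Fin β ≃ {a // ¬p a} := (Fintype.equivFin _).symm
  let eS : Fin α ≃ {b // s b} := (Fintype.equivFinOfCardEq hcard.symm).symm
  let eS' : Fin β ≃ {b // ¬s b} := (Fintype.equivFinOfCardEq hβ).symm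
  let ρ : Fin α ⊕ Fin β ≃ Fin j := (Equiv.sumCongr eP eQ).trans (Equiv.sumCompl p)
  let κ : Fin α ⊕ Fin β ≃ Fin j := (Equiv.sumCongr eS eS').trans (Equiv.sumCompl s)
  refine ⟨α, β, fun i => ρ (Sum.inl i), fun i => κ (Sum.inl i), fun i => ρ (Sum.inr i),
    fun i => κ (Sum.inr i), hαβ, fun i => (eP i).2, fun i => (eS i).2, fun i => (eQ i).2,
    fun i => (eS' i).2, ?_⟩
  have hblock : N.submatrix ρ κ = Matrix.fromBlocks
      (N.submatrix (fun i => ρ (Sum.inl i)) (fun i => κ (Sum.inl i))) 0 0
      (N.submatrix (fun i => ρ (Sum.inr i)) (fun i => κ (Sum.inr i))) := by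
    ext x y
    rcases x with x | x <;> rcases y with y | y
    · rfl
    · simp only [Matrix.submatrix_apply, Matrix.fromBlocks_apply₁₂, Matrix.zero_apply]
      apply hN
      intro h
      exact (eS' y).2 (h.1 (eP x).2)
    · simp only [Matrix.submatrix_apply, Matrix.fromBlocks_apply₂₁, Matrix.zero_apply]
      apply hN
      intro h
      exact (eQ x).2 (h.2 (eS y).2)
    · rfl
  let π : Equiv.Perm (Fin j) := κ.symm.trans ρ
  have h1 : N.submatrix ρ κ = (N.submatrix π id).submatrix κ κ := by
    ext x y
    simp [π]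
  have h2 : (N.submatrix ρ κ).det = Equiv.Perm.sign π * N.det := by
    rw [h1, Matrix.det_submatrix_equiv_self, Matrix.det_permute]
  rw [hblock, Matrix.det_fromBlocks_zero₂₁] at h2
  rcases Int.units_eq_one_or (Equiv.Perm.sign π) with h | h
  · left
    rw [h] at h2
    simpa using h2.symm
  · right
    rw [h] at h2
    rw [h2]
    simp

variable {ι ι' : Type w}

/-- The "direct sum" of two submodules of coordinate spaces. -/
def sumSub (K : Submodule R (ι → R)) (K' : Submodule R (ι' → R)) : Submodule R (ι ⊕ ι' → R) :=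
  (K.comap (LinearMap.funLeft R R Sum.inl)) ⊓ (K'.comap (LinearMap.funLeft R R Sum.inr))

theorem mem_sumSub (K : Submodule R (ι → R)) (K' : Submodule R (ι' → R)) (v : ι ⊕ ι' → R) :
    v ∈ sumSub K K' ↔ (v ∘ Sum.inl ∈ K ∧ v ∘ Sum.inr ∈ K') := Iff.rfl

/-- Minors of size exceeding the number of coordinates vanish. -/
theorem minorIdeal_eq_bot_of_card_lt [Fintype ι] (K : Submodule R (ι → R)) {a : ℕ}
    (ha : Fintype.card ι < a) : minorIdeal K a = ⊥ := by
  rw [eq_bot_iff, minorIdeal_le_iff]
  intro z e _
  rw [Ideal.mem_bot]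
  obtain ⟨x, y, hxy, he⟩ := Fintype.exists_ne_map_eq_of_card_lt e (by simpa using ha)
  exact Matrix.det_zero_of_row_eq hxy (by ext b; simp [he])

/-- Products of minors are minors of the direct sum. -/
theorem minorIdeal_mul_le (K : Submodule R (ι → R)) (K' : Submodule R (ι' → R)) (a b : ℕ) :
    minorIdeal K a * minorIdeal K' b ≤ minorIdeal (sumSub K K') (a + b) := by
  unfold minorIdeal
  rw [Ideal.span_mul_span', Ideal.span_le]
  rintro _ ⟨_, ⟨z, e, hz, rfl⟩, _, ⟨z', e', hz', rfl⟩, rfl⟩
  let w : Fin (a + b) → (ι ⊕ ι' → R) :=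
    Fin.append (fun i => Sum.elim (z i) 0) (fun i => Sum.elim 0 (z' i))
  let c : Fin (a + b) → ι ⊕ ι' := Fin.append (fun i => Sum.inl (e i)) (fun i => Sum.inr (e' i))
  have hw : ∀ i, w i ∈ sumSub K K' := by
    intro i
    refine Fin.addCases (fun i => ?_) (fun i => ?_) i
    · simp only [w, Fin.append_left, mem_sumSub]
      refine ⟨by simpa using hz i, ?_⟩
      have : (Sum.elim (z i) (0 : ι' → R)) ∘ Sum.inr = 0 := by ext; simp
      rw [this]; exact K'.zero_mem
    · simp only [w, Fin.append_right, mem_sumSub]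
      refine ⟨?_, by simpa using hz' i⟩
      have : (Sum.elim (0 : ι → R) (z' i)) ∘ Sum.inl = 0 := by ext; simp
      rw [this]; exact K.zero_mem
  have hdet : (Matrix.of fun x y => w y (c x)).det =
      (Matrix.of fun x y => z y (e x)).det * (Matrix.of fun x y => z' y (e' x)).det := by
    rw [← Matrix.det_fromBlocks_zero₂₁ _ (0 : Matrix (Fin a) (Fin b) R),
      ← Matrix.det_submatrix_equiv_self finSumFinEquiv]
    congr 1
    ext x y
    rcases x with x | x <;> rcases y with y | y <;>
      simp [w, c, Fin.append_left, Fin.append_right]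
  show (Matrix.of fun x y => z y (e x)).det * (Matrix.of fun x y => z' y (e' x)).det ∈ _
  rw [← hdet]
  exact Ideal.subset_span ⟨w, c, hw, rfl⟩

theorem mul_le_sum_antidiagonal (K : Submodule R (ι → R)) (K' : Submodule R (ι' → R)) {j α β : ℕ}
    (h : α + β = j) : minorIdeal K α * minorIdeal K' β ≤
      ∑ ab ∈ Finset.antidiagonal j, minorIdeal K ab.1 * minorIdeal K' ab.2 := by
  have := Finset.single_le_sum (f := fun ab : ℕ × ℕ => minorIdeal K ab.1 * minorIdeal K' ab.2)
    (s := Finset.antidiagonal j) (a := (α, β)) (fun _ _ => bot_le) (Finset.mem_antidiagonal.2 h)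
  exact this

/-- Minors of a direct sum expand into products of minors. -/
theorem minorIdeal_sumSub_le (K : Submodule R (ι → R)) (K' : Submodule R (ι' → R)) (j : ℕ) :
    minorIdeal (sumSub K K') j ≤
      ∑ ab ∈ Finset.antidiagonal j, minorIdeal K ab.1 * minorIdeal K' ab.2 := by
  classical
  rw [minorIdeal_le_iff]
  intro w c hw
  set T : Ideal R := ∑ ab ∈ Finset.antidiagonal j, minorIdeal K ab.1 * minorIdeal K' ab.2 with hT
  let U : Fin j → (Fin j → R) := fun b a => Sum.elim (w b ∘ Sum.inl) 0 (c a)
  let V : Fin j → (Fin j → R) := fun b a => Sum.elim 0 (w b ∘ Sum.inr) (c a)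
  have hUV : (fun b a => w b (c a)) = U + V := by
    funext b a
    simp only [U, V, Pi.add_apply]
    rcases c a with x | x <;> simp
  have h1 : (Matrix.of fun a b => w b (c a)).det = (Matrix.of (U + V)).det := by
    rw [← Matrix.det_transpose, ← hUV]
    rfl
  have h2 : (Matrix.of (U + V)).det =
      ∑ S : Finset (Fin j), (Matrix.of (S.piecewise U V)).det :=
    (Matrix.detRowAlternating (n := Fin j) (R := R)).toMultilinearMap.map_add_univ U V
  rw [h1, h2]
  refine Submodule.sum_mem _ fun S _ => ?_
  set N : Matrix (Fin j) (Fin j) R := (Matrix.of (S.piecewise U V))ᵀ with hNdef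
  have hdN : (Matrix.of (S.piecewise U V)).det = N.det := (Matrix.det_transpose _).symm
  rw [hdN]
  let p : Fin j → Prop := fun a => (c a).isLeft = true
  let s : Fin j → Prop := fun b => b ∈ S
  have hNab : ∀ a b, N a b = if b ∈ S then U b a else V b a := by
    intro a b
    simp only [hNdef, Matrix.transpose_apply, Matrix.of_apply, Finset.piecewise]
    split_ifs <;> rfl
  have hN : ∀ a b, ¬(p a ↔ s b) → N a b = 0 := by
    intro a b h
    rw [hNab]
    by_cases hb : b ∈ S
    · have hpa : ¬ p a := fun hp => h ⟨fun _ => hb, fun _ => hp⟩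
      rw [if_pos hb]
      simp only [U]
      rcases hca : c a with x | x
      · exact absurd (by simp [p, hca]) hpa
      · simp
    · have hpa : p a := by
        by_contra hp
        exact h ⟨fun h' => absurd h' hp, fun h' => absurd h' hb⟩
      rw [if_neg hb]
      simp only [V]
      rcases hca : c a with x | x
      · simp
      · simp [p, hca] at hpa
  by_cases hcard : @Fintype.card {a // p a} (Subtype.fintype p) =
      @Fintype.card {b // s b} (Subtype.fintype s)
  · obtain ⟨α, β, r₁, c₁, r₂, c₂, hαβ, hp, hs, hnp, hns, hdet⟩ := det_block N p s hN hcard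
    suffices hmem : (N.submatrix r₁ c₁).det * (N.submatrix r₂ c₂).det ∈ T by
      rcases hdet with h | h
      · rw [h]; exact hmem
      · rw [h]; exact T.neg_mem hmem
    have hle : minorIdeal K α * minorIdeal K' β ≤ T := mul_le_sum_antidiagonal K K' hαβ
    refine hle (Ideal.mul_mem_mul ?_ ?_)
    · have hex : ∀ x, ∃ i, c (r₁ x) = Sum.inl i := fun x => by
        have := hp x
        rcases h : c (r₁ x) with i | i
        · exact ⟨i, rfl⟩
        · simp [p, h] at this
      choose ee hee using hex
      have hA : N.submatrix r₁ c₁ = Matrix.of fun x y =>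
          (fun y => w (c₁ y) ∘ Sum.inl) y (ee x) := by
        ext x y
        simp only [Matrix.submatrix_apply, Matrix.of_apply, hNab,
          if_pos (show c₁ y ∈ S from hs y), U, hee x]
        simp
      rw [hA]
      exact minor_mem_minorIdeal K _ _ fun y => ((mem_sumSub K K' _).1 (hw (c₁ y))).1
    · have hex : ∀ x, ∃ i, c (r₂ x) = Sum.inr i := fun x => by
        have := hnp x
        rcases h : c (r₂ x) with i | i
        · simp [p, h] at this
        · exact ⟨i, rfl⟩
      choose ee hee using hex
      have hB : N.submatrix r₂ c₂ = Matrix.of fun x y =>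
          (fun y => w (c₂ y) ∘ Sum.inr) y (ee x) := by
        ext x y
        simp only [Matrix.submatrix_apply, Matrix.of_apply, hNab,
          if_neg (show ¬ c₂ y ∈ S from hns y), V, hee x]
        simp
      rw [hB]
      exact minor_mem_minorIdeal K' _ _ fun y => ((mem_sumSub K K' _).1 (hw (c₂ y))).2
  · rw [det_eq_zero_of_card_ne N p s hN hcard]
    exact T.zero_mem

variable {M : Type v} {M' : Type v} [AddCommGroup M] [Module R M] [AddCommGroup M'] [Module R M']

theorem relations_sum {n m : ℕ} (x : Fin n → M) (y : Fin m → M') :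
    relations R (Sum.elim (fun i => ((x i, 0) : M × M')) (fun k => ((0, y k) : M × M'))) =
      sumSub (relations R x) (relations R y) := by
  ext v
  rw [mem_relations, mem_sumSub, mem_relations, mem_relations, Fintype.sum_sum_type]
  simp only [Sum.elim_inl, Sum.elim_inr, Prod.smul_mk, smul_zero, Function.comp_apply]
  rw [Prod.ext_iff]
  simp [Prod.fst_sum, Prod.snd_sum]

theorem span_sum_eq_top {n m : ℕ} (x : Fin n → M) (hx : Submodule.span R (Set.range x) = ⊤)
    (y : Fin m → M') (hy : Submodule.span R (Set.range y) = ⊤) :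
    Submodule.span R (Set.range
      (Sum.elim (fun i => ((x i, 0) : M × M')) (fun k => ((0, y k) : M × M')))) = ⊤ := by
  rw [Set.Sum.elim_range]
  have h1 : Set.range (fun i => ((x i, 0) : M × M')) = LinearMap.inl R M M' '' Set.range x := by
    ext p; simp [Set.mem_image]
  have h2 : Set.range (fun k => ((0, y k) : M × M')) = LinearMap.inr R M M' '' Set.range y := by
    ext p; simp [Set.mem_image]
  rw [h1, h2, Submodule.span_union, ← Submodule.map_span, ← Submodule.map_span, hx, hy,
    Submodule.map_top, Submodule.map_top, LinearMap.sup_range_inl_inr]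

theorem fitt_prod (R : Type u) [CommRing R] (M M' : Type u) [AddCommGroup M] [Module R M]
    [AddCommGroup M'] [Module R M'] [Module.Finite R M] [Module.Finite R M'] (l : ℕ) :
    Fitt.ideal R (M × M') l =
      ∑ k ∈ Finset.range (l + 1), Fitt.ideal R M k * Fitt.ideal R M' (l - k) := by
  obtain ⟨n, x, hx⟩ := Module.Finite.exists_fin (R := R) (M := M)
  obtain ⟨m, y, hy⟩ := Module.Finite.exists_fin (R := R) (M := M')
  let z : Fin n ⊕ Fin m → M × M' :=
    Sum.elim (fun i => ((x i, 0) : M × M')) (fun k => ((0, y k) : M × M'))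
  have hz : Submodule.span R (Set.range z) = ⊤ := span_sum_eq_top x hx y hy
  let z' : Fin (n + m) → M × M' := z ∘ finSumFinEquiv.symm
  have hz' : Submodule.span R (Set.range z') = ⊤ := by
    have : Set.range z' = Set.range z := by
      simp only [z']
      exact finSumFinEquiv.symm.surjective.range_comp z
    rw [this, hz]
  have hL : Fitt.ideal R (M × M') l =
      minorIdeal (sumSub (relations R x) (relations R y)) (n + m - l) := by
    rw [fitt_ideal_eq_minorIdeal z' hz', minorIdeal_reindex finSumFinEquiv.symm z, relations_sum]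
  have hM : ∀ k, Fitt.ideal R M k = minorIdeal (relations R x) (n - k) :=
    fun k => fitt_ideal_eq_minorIdeal x hx k
  have hM' : ∀ k, Fitt.ideal R M' k = minorIdeal (relations R y) (m - k) :=
    fun k => fitt_ideal_eq_minorIdeal y hy k
  rw [hL]
  simp only [hM, hM']
  apply le_antisymm
  · refine (minorIdeal_sumSub_le _ _ _).trans ?_
    rw [Ideal.sum_eq_sup]
    refine Finset.sup_le fun ab hab => ?_
    have hsum : ab.1 + ab.2 = n + m - l := Finset.mem_antidiagonal.1 hab
    by_cases ha : n < ab.1
    · rw [minorIdeal_eq_bot_of_card_lt _ (by simpa using ha), Ideal.bot_mul]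
      exact bot_le
    by_cases hb : m < ab.2
    · rw [minorIdeal_eq_bot_of_card_lt (relations R y) (by simpa using hb), Ideal.mul_bot]
      exact bot_le
    have hk : n - ab.1 ∈ Finset.range (l + 1) := by
      rw [Finset.mem_range]; omega
    have h1 : n - (n - ab.1) = ab.1 := by omega
    have h2 : m - (l - (n - ab.1)) = ab.2 := by omega
    have := Finset.single_le_sum (f := fun k => minorIdeal (relations R x) (n - k) *
      minorIdeal (relations R y) (m - (l - k))) (fun _ _ => bot_le) hk
    simp only [h1, h2] at this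
    exact this
  · rw [Ideal.sum_eq_sup]
    refine Finset.sup_le fun k hk => ?_
    have hk' : k ≤ l := by
      have := Finset.mem_range.1 hk; omega
    refine (minorIdeal_mul_le _ _ _ _).trans ?_
    exact minorIdeal_antitone _ (by omega)

end Groth.Agent.H87.FittSum
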