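import Mathlib

set_option autoImplicit false
universe u
open TensorProduct Function

namespace Groth.Agent.H87.Mil

/-- An abstract diagram chase (a piece of the snake lemma), for plain functions. -/
theorem chase {A₁ A₂ A₃ B₁ B₂ B₃ C₁ C₂ : Type*} [Zero A₃] [Zero B₃] [Zero C₁] [Zero C₂]
    (a₁ : A₁ → A₂) (a₂ : A₂ → A₃) (b₁ : B₁ → B₂) (b₂ : B₂ → B₃) (c₁ : C₁ → C₂)
    (α₁ : A₁ → B₁) (α₂ : A₂ → B₂) (α₃ : A₃ → B₃) (β₁ : B₁ → C₁) (β₂ : B₂ → C₂)
    (sq1 : ∀ x, α₂ (a₁ x) = b₁ (α₁ x)) (sq2 : ∀ x, α₃ (a₂ x) = b₂ (α₂ x))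
    (sq3 : ∀ x, β₂ (b₁ x) = c₁ (β₁ x))
    (ha₂ : Surjective a₂) (haa : ∀ x, a₂ (a₁ x) = 0)
    (hb : ∀ x, b₂ x = 0 → ∃ y, b₁ y = x)
    (hcol1 : ∀ x, β₁ x = 0 → ∃ y, α₁ y = x)
    (hcol2 : ∀ x, β₂ (α₂ x) = 0) (hα₂ : Injective α₂)
    (hc₁ : ∀ y, c₁ y = 0 → y = 0) :
    ∀ z, α₃ z = 0 → z = 0 := by
  intro z hz
  obtain ⟨g₁, rfl⟩ := ha₂ z
  obtain ⟨s₂, hs₂⟩ := hb (α₂ g₁) (by rw [← sq2, hz])
  have h1 : β₁ s₂ = 0 := hc₁ _ (by rw [← sq3, hs₂, hcol2])
  obtain ⟨s₁, rfl⟩ := hcol1 s₂ h1
  have h2 : a₁ s₁ = g₁ := hα₂ (by rw [sq1, hs₂])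
  rw [← h2, haa]

section lemmaA

variable {R : Type u} [CommRing R] {S : Type u} [CommRing S] [Algebra R S]

theorem ker_le_ker_toEnd (Q : Type u) [AddCommGroup Q] [Module R Q]
    (hQ : ∀ j : R, algebraMap R S j = 0 → ∀ q : Q, j • q = 0) :
    RingHom.ker (algebraMap R S) ≤ RingHom.ker (Module.toAddMonoidEnd R Q) := fun j hj => by
  rw [RingHom.mem_ker] at hj ⊢
  ext q
  exact hQ j hj q

/-- the action of `S` on an `R`-module killed by the kernel of a surjection `R → S` -/
noncomputable def actHom (hS : Surjective (algebraMap R S))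
    (Q : Type u) [AddCommGroup Q] [Module R Q]
    (hQ : ∀ j : R, algebraMap R S j = 0 → ∀ q : Q, j • q = 0) : S →+* AddMonoid.End Q :=
  RingHom.liftOfSurjective (algebraMap R S) hS ⟨Module.toAddMonoidEnd R Q, ker_le_ker_toEnd Q hQ⟩

theorem actHom_apply (hS : Surjective (algebraMap R S))
    (Q : Type u) [AddCommGroup Q] [Module R Q]
    (hQ : ∀ j : R, algebraMap R S j = 0 → ∀ q : Q, j • q = 0) (r : R) (q : Q) :
    actHom hS Q hQ (algebraMap R S r) q = r • q := by
  unfold actHom
  rw [RingHom.liftOfSurjective_comp_apply]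
  rfl

/-- module structure over `S` on an `R`-module killed by the kernel of a surjection `R → S` -/
@[reducible] noncomputable def moduleOfSurj (hS : Surjective (algebraMap R S))
    (Q : Type u) [AddCommGroup Q] [Module R Q]
    (hQ : ∀ j : R, algebraMap R S j = 0 → ∀ q : Q, j • q = 0) : Module S Q :=
  Module.compHom Q (actHom hS Q hQ)

theorem moduleOfSurj_smul (hS : Surjective (algebraMap R S))
    (Q : Type u) [AddCommGroup Q] [Module R Q]
    (hQ : ∀ j : R, algebraMap R S j = 0 → ∀ q : Q, j • q = 0) (r : R) (q : Q) :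
    (letI := moduleOfSurj hS Q hQ; (algebraMap R S r) • q) = r • q :=
  actHom_apply hS Q hQ r q

theorem isScalarTower_ofSurj (hS : Surjective (algebraMap R S))
    (Q : Type u) [AddCommGroup Q] [Module R Q]
    (hQ : ∀ j : R, algebraMap R S j = 0 → ∀ q : Q, j • q = 0) :
    letI := moduleOfSurj hS Q hQ
    IsScalarTower R S Q := by
  letI := moduleOfSurj hS Q hQ
  refine ⟨fun r s q => ?_⟩
  rw [Algebra.smul_def, mul_smul]
  exact moduleOfSurj_smul hS Q hQ r (s • q)


theorem sq_comm {M N P Q : Type*} [AddCommGroup M] [AddCommGroup N] [AddCommGroup P]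
    [AddCommGroup Q] [Module R M] [Module R N] [Module R P] [Module R Q]
    (f : M →ₗ[R] P) (g : N →ₗ[R] Q) (x : M ⊗[R] N) :
    g.lTensor P (f.rTensor N x) = f.rTensor Q (g.lTensor M x) := by
  rw [← LinearMap.comp_apply, ← LinearMap.comp_apply, LinearMap.lTensor_comp_rTensor,
    LinearMap.rTensor_comp_lTensor]

section generic

variable {X₁ X₂ X₃ K G L : Type u} [AddCommGroup X₁] [AddCommGroup X₂] [AddCommGroup X₃]
  [AddCommGroup K] [AddCommGroup G] [AddCommGroup L]
  [Module R X₁] [Module R X₂] [Module R X₃] [Module R K] [Module R G] [Module R L]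
  (u : X₁ →ₗ[R] X₂) (v : X₂ →ₗ[R] X₃) (ι : K →ₗ[R] G) (π : G →ₗ[R] L)

/-- "`Tor₁(X₃, L)` computed on the `L` side vanishes" ⟹ "computed on the `X` side vanishes". -/
theorem genericG (huv : Function.Exact u v) (hv : Surjective v)
    (hιπ : Function.Exact ι π) (hπ : Surjective π)
    (hι₂ : Injective (ι.lTensor X₂)) (h : Injective (u.rTensor L)) :
    Injective (ι.lTensor X₃) := by
  rw [injective_iff_map_eq_zero]
  have haa : ∀ x, (v.rTensor K) ((u.rTensor K) x) = 0 := by
    intro x
    rw [← LinearMap.comp_apply, ← LinearMap.rTensor_comp, huv.linearMap_comp_eq_zero,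
      LinearMap.rTensor_zero, LinearMap.zero_apply]
  have hcol2 : ∀ x, (π.lTensor X₂) ((ι.lTensor X₂) x) = 0 := by
    intro x
    rw [← LinearMap.comp_apply, ← LinearMap.lTensor_comp, hιπ.linearMap_comp_eq_zero,
      LinearMap.lTensor_zero, LinearMap.zero_apply]
  exact chase (u.rTensor K) (v.rTensor K) (u.rTensor G) (v.rTensor G) (u.rTensor L)
    (ι.lTensor X₁) (ι.lTensor X₂) (ι.lTensor X₃) (π.lTensor X₁) (π.lTensor X₂)
    (fun x => sq_comm _ _ x) (fun x => sq_comm _ _ x) (fun x => sq_comm _ _ x)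
    (LinearMap.rTensor_surjective _ hv) haa
    (fun x hx => (rTensor_exact G huv hv x).1 hx)
    (fun x hx => (lTensor_exact X₁ hιπ hπ x).1 hx)
    hcol2 hι₂ ((injective_iff_map_eq_zero _).1 h)

/-- the converse direction -/
theorem genericG' (huv : Function.Exact u v) (hv : Surjective v)
    (hιπ : Function.Exact ι π) (hπ : Surjective π)
    (hu₂ : Injective (u.rTensor G)) (h : Injective (ι.lTensor X₃)) :
    Injective (u.rTensor L) := by
  rw [injective_iff_map_eq_zero]
  have haa : ∀ x, (π.lTensor X₁) ((ι.lTensor X₁) x) = 0 := by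
    intro x
    rw [← LinearMap.comp_apply, ← LinearMap.lTensor_comp, hιπ.linearMap_comp_eq_zero,
      LinearMap.lTensor_zero, LinearMap.zero_apply]
  have hcol2 : ∀ x, (v.rTensor G) ((u.rTensor G) x) = 0 := by
    intro x
    rw [← LinearMap.comp_apply, ← LinearMap.rTensor_comp, huv.linearMap_comp_eq_zero,
      LinearMap.rTensor_zero, LinearMap.zero_apply]
  exact chase (ι.lTensor X₁) (π.lTensor X₁) (ι.lTensor X₂) (π.lTensor X₂) (ι.lTensor X₃)
    (u.rTensor K) (u.rTensor G) (u.rTensor L) (v.rTensor K) (v.rTensor G)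
    (fun x => (sq_comm _ _ x).symm) (fun x => (sq_comm _ _ x).symm)
    (fun x => (sq_comm _ _ x).symm)
    (LinearMap.lTensor_surjective _ hπ) haa
    (fun x hx => (lTensor_exact X₂ hιπ hπ x).1 hx)
    (fun x hx => (rTensor_exact K huv hv x).1 hx)
    hcol2 hu₂ ((injective_iff_map_eq_zero _).1 h)

end generic


variable (L : Type u) [AddCommGroup L] [Module R L]

/-- the canonical free cover of `L` -/
noncomputable def cov : (L →₀ R) →ₗ[R] L := Finsupp.linearCombination R id

theorem cov_surj : Surjective (cov (R := R) L) :=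
  Finsupp.linearCombination_surjective R surjective_id

variable (R S) in
theorem ker_exact :
    Function.Exact (RingHom.ker (algebraMap R S)).subtype (Algebra.linearMap R S) := by
  intro x
  constructor
  · intro hx
    exact ⟨⟨x, hx⟩, rfl⟩
  · rintro ⟨y, rfl⟩
    exact y.2

/-- naturality of `cancelBaseChange` -/
theorem cancel_natural {K G : Type u} [AddCommGroup K] [AddCommGroup G] [Module R K] [Module R G]
    (ι : K →ₗ[R] G) (Q : Type u) [AddCommGroup Q] [Module R Q] [Module S Q] [IsScalarTower R S Q]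
    (x : Q ⊗[S] (S ⊗[R] K)) :
    (ι.lTensor Q) (AlgebraTensorModule.cancelBaseChange R S S Q K x) =
      AlgebraTensorModule.cancelBaseChange R S S Q G (((ι.baseChange S).lTensor Q) x) := by
  induction x using TensorProduct.induction_on with
  | zero => simp
  | add x y hx hy => simp only [map_add, hx, hy]
  | tmul q y =>
    induction y using TensorProduct.induction_on with
    | zero => simp
    | add x y hx hy =>
      simp only [TensorProduct.tmul_add, map_add, hx, hy]
    | tmul s k => simp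

theorem lemmaA_aux {K G : Type u} [AddCommGroup K] [AddCommGroup G] [Module R K] [Module R G]
    [Module.Flat R G] (ι : K →ₗ[R] G) (π : G →ₗ[R] L) (hιπ : Function.Exact ι π)
    (hπ : Surjective π) (hι : Injective ι)
    (hS : Surjective (algebraMap R S))
    (h1 : Injective ((RingHom.ker (algebraMap R S)).subtype.rTensor L))
    [Module.Flat S (S ⊗[R] L)]
    {P P' : Type u} [AddCommGroup P] [AddCommGroup P'] [Module R P] [Module R P']
    (f : P →ₗ[R] P') (hf : Injective f)
    (hQ : ∀ j : R, algebraMap R S j = 0 → ∀ p' : P', j • p' ∈ LinearMap.range f) :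
    Injective (f.rTensor L) := by
  have hlS : Surjective (Algebra.linearMap R S) := hS
  -- step 1: `S ⊗ K → S ⊗ G` is injective
  have hα1 : Injective (ι.lTensor S) :=
    genericG (RingHom.ker (algebraMap R S)).subtype (Algebra.linearMap R S)
      ι π (ker_exact R S) hlS hιπ hπ
      (Module.Flat.lTensor_preserves_injective_linearMap ι hι) h1
  -- the cokernel as an `S`-module
  have hQ' : ∀ j : R, algebraMap R S j = 0 → ∀ q : P' ⧸ LinearMap.range f, j • q = 0 := by
    intro j hj q
    obtain ⟨p', rfl⟩ := Submodule.Quotient.mk_surjective _ q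
    rw [← Submodule.Quotient.mk_smul, Submodule.Quotient.mk_eq_zero]
    exact hQ j hj p'
  letI := moduleOfSurj hS (P' ⧸ LinearMap.range f) hQ'
  haveI := isScalarTower_ofSurj hS (P' ⧸ LinearMap.range f) hQ'
  -- step 2: `Q ⊗ K → Q ⊗ G` is injective
  have hα : Injective (ι.lTensor (P' ⧸ LinearMap.range f)) := by
    have key := LinearMap.lTensor_injective_of_exact_of_flat (R := S)
      (π.baseChange S) (LinearMap.lTensor_surjective S hπ)
      (ι.baseChange S) hα1
      (lTensor_exact S hιπ hπ) (P' ⧸ LinearMap.range f)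
    intro x y hxy
    obtain ⟨x, rfl⟩ := (AlgebraTensorModule.cancelBaseChange R S S _ _).surjective x
    obtain ⟨y, rfl⟩ := (AlgebraTensorModule.cancelBaseChange R S S _ _).surjective y
    rw [cancel_natural, cancel_natural] at hxy
    rw [key ((AlgebraTensorModule.cancelBaseChange R S S _ _).injective hxy)]
  -- step 3
  exact genericG' f (LinearMap.range f).mkQ ι π (LinearMap.exact_map_mkQ_range f)
    (Submodule.mkQ_surjective _) hιπ hπ (Module.Flat.rTensor_preserves_injective_linearMap f hf) hα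

/-- **Lemma A.** Let `R → S` be surjective with kernel `J`, `L` an `R`-module with `J ⊗ L → L`
injective and `S ⊗ L` flat over `S`. Then `- ⊗ L` preserves injectivity of maps whose cokernel
is killed by `J`. -/
theorem lemmaA (hS : Surjective (algebraMap R S))
    (h1 : Injective ((RingHom.ker (algebraMap R S)).subtype.rTensor L))
    [Module.Flat S (S ⊗[R] L)]
    {P P' : Type u} [AddCommGroup P] [AddCommGroup P'] [Module R P] [Module R P']
    (f : P →ₗ[R] P') (hf : Injective f)
    (hQ : ∀ j : R, algebraMap R S j = 0 → ∀ p' : P', j • p' ∈ LinearMap.range f) :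
    Injective (f.rTensor L) :=
  lemmaA_aux (K := ↥(LinearMap.ker (cov (R := R) L))) (G := L →₀ R) L
    (LinearMap.ker (cov (R := R) L)).subtype (cov (R := R) L)
    (LinearMap.exact_subtype_ker_map _) (cov_surj L)
    (Submodule.injective_subtype (LinearMap.ker (cov (R := R) L))) hS h1 f hf hQ


/-- **Lemma CB.** If `S ⊗[R] L` is flat over `S`, then `- ⊗[R] L` preserves injectivity of
`S`-linear maps. -/
theorem lemmaCB {X Y : Type u} [AddCommGroup X] [AddCommGroup Y] [Module S X] [Module S Y]
    [Module R X] [Module R Y] [IsScalarTower R S X] [IsScalarTower R S Y]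
    (g : X →ₗ[S] Y) (hg : Injective g) [Module.Flat S (S ⊗[R] L)] :
    Injective ((g.restrictScalars R).rTensor L) := by
  have nat : ∀ x : X ⊗[S] (S ⊗[R] L),
      AlgebraTensorModule.cancelBaseChange R S S Y L ((g.rTensor (S ⊗[R] L)) x) =
        ((g.restrictScalars R).rTensor L) (AlgebraTensorModule.cancelBaseChange R S S X L x) := by
    intro x
    induction x using TensorProduct.induction_on with
    | zero => simp
    | add x y hx hy => simp only [map_add, hx, hy]
    | tmul q y =>
      induction y using TensorProduct.induction_on with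
      | zero => simp
      | add x y hx hy => simp only [TensorProduct.tmul_add, map_add, hx, hy]
      | tmul s k => simp
  have key : Injective (g.rTensor (S ⊗[R] L)) :=
    Module.Flat.rTensor_preserves_injective_linearMap g hg
  intro x y hxy
  obtain ⟨x, rfl⟩ := (AlgebraTensorModule.cancelBaseChange R S S X L).surjective x
  obtain ⟨y, rfl⟩ := (AlgebraTensorModule.cancelBaseChange R S S X L).surjective y
  rw [← nat, ← nat] at hxy
  rw [key ((AlgebraTensorModule.cancelBaseChange R S S Y L).injective hxy)]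

end lemmaA

end Groth.Agent.H87.Mil
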