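import Groth.Prelude.Def_EtMil
import Groth.Agent.H87.Mil1

set_option autoImplicit false
universe u
open TensorProduct Function

namespace Groth.Agent.H87.Mil

variable {B' B A' A : Type u} [CommRing B'] [CommRing B] [CommRing A'] [CommRing A]
  [Algebra B' B] [Algebra B' A'] [Algebra B A] [Algebra A' A] [Algebra B' A]
  [IsScalarTower B' B A] [IsScalarTower B' A' A]

theorem compat (b' : B') :
    algebraMap B A (algebraMap B' B b') = algebraMap A' A (algebraMap B' A' b') := by
  rw [← IsScalarTower.algebraMap_apply, ← IsScalarTower.algebraMap_apply]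

theorem inj (hsq : EtMil.IsFibreSquare B' B A' A) {x y : B'}
    (h1 : algebraMap B' B x = algebraMap B' B y) (h2 : algebraMap B' A' x = algebraMap B' A' y) :
    x = y := by
  obtain ⟨z, _, hz⟩ := hsq.2 (algebraMap B' B x) (algebraMap B' A' x) (compat x)
  rw [hz x ⟨rfl, rfl⟩, hz y ⟨h1.symm, h2.symm⟩]

/-- the unique lift of a compatible pair -/
noncomputable def lift (hsq : EtMil.IsFibreSquare B' B A' A) (b : B) (a' : A')
    (h : algebraMap B A b = algebraMap A' A a') : B' :=
  (hsq.2 b a' h).choose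

theorem lift_fst (hsq : EtMil.IsFibreSquare B' B A' A) (b : B) (a' : A')
    (h : algebraMap B A b = algebraMap A' A a') : algebraMap B' B (lift hsq b a' h) = b :=
  (hsq.2 b a' h).choose_spec.1.1

theorem lift_snd (hsq : EtMil.IsFibreSquare B' B A' A) (b : B) (a' : A')
    (h : algebraMap B A b = algebraMap A' A a') : algebraMap B' A' (lift hsq b a' h) = a' :=
  (hsq.2 b a' h).choose_spec.1.2

theorem surj_fst (hsq : EtMil.IsFibreSquare B' B A' A) : Surjective (algebraMap B' B) := by
  intro b
  obtain ⟨a', ha'⟩ := hsq.1 (algebraMap B A b)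
  exact ⟨lift hsq b a' ha'.symm, lift_fst hsq b a' ha'.symm⟩

/-- for `j ∈ J` and `a' ∈ A'` there is `j' ∈ J` with image `a' * j` in `A'` -/
theorem exists_star (hsq : EtMil.IsFibreSquare B' B A' A) (a' : A') (j : B')
    (hj : algebraMap B' B j = 0) :
    ∃ j' : B', algebraMap B' B j' = 0 ∧ algebraMap B' A' j' = a' * algebraMap B' A' j := by
  have h : algebraMap B A 0 = algebraMap A' A (a' * algebraMap B' A' j) := by
    rw [map_zero, map_mul, ← compat (B := B) (A := A) j, hj, map_zero, mul_zero]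
  exact ⟨lift hsq 0 _ h, lift_fst hsq _ _ h, lift_snd hsq _ _ h⟩

variable (B' B A' A) in
/-- the map `J → I` -/
noncomputable def toI : ↥(RingHom.ker (algebraMap B' B)) →ₗ[B'] ↥(RingHom.ker (algebraMap A' A)) where
  toFun j := ⟨algebraMap B' A' j.1, by
    rw [RingHom.mem_ker, ← compat (B := B), (RingHom.mem_ker).1 j.2, map_zero]⟩
  map_add' x y := by
    ext
    simp
  map_smul' c x := by
    ext
    simp [Algebra.smul_def]

theorem toI_bijective (hsq : EtMil.IsFibreSquare B' B A' A) : Bijective (toI B' B A' A) := by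
  constructor
  · intro x y hxy
    ext
    apply inj hsq
    · rw [(RingHom.mem_ker).1 x.2, (RingHom.mem_ker).1 y.2]
    · exact congrArg Subtype.val hxy
  · intro i
    have h : algebraMap B A 0 = algebraMap A' A i.1 := by
      rw [map_zero, (RingHom.mem_ker).1 i.2]
    refine ⟨⟨lift hsq 0 i.1 h, lift_fst hsq _ _ h⟩, ?_⟩
    ext
    exact lift_snd hsq _ _ h

variable (L' : Type u) [AddCommGroup L'] [Module B' L']

/-- **Step 1**: `Tor₁(B, L') = 0`, in the form `J ⊗ L' → L'` injective. -/
theorem step1 (hsq : EtMil.IsFibreSquare B' B A' A) [Module.Flat A' (A' ⊗[B'] L')] :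
    Injective ((RingHom.ker (algebraMap B' B)).subtype.rTensor L') := by
  have hCB : Injective (((RingHom.ker (algebraMap A' A)).subtype.restrictScalars B').rTensor L') :=
    lemmaCB (R := B') (S := A') L' (RingHom.ker (algebraMap A' A)).subtype
      (Submodule.injective_subtype _)
  have he : Injective ((toI B' B A' A).rTensor L') :=
    (LinearEquiv.rTensor L' (LinearEquiv.ofBijective (toI B' B A' A) (toI_bijective hsq))).injective
  have hcomp : ((Algebra.linearMap B' A').rTensor L') ∘ₗ
      ((RingHom.ker (algebraMap B' B)).subtype.rTensor L') =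
      (((RingHom.ker (algebraMap A' A)).subtype.restrictScalars B').rTensor L') ∘ₗ
        ((toI B' B A' A).rTensor L') := by
    rw [← LinearMap.rTensor_comp, ← LinearMap.rTensor_comp]
    congr 1
  have h2 : Injective (((Algebra.linearMap B' A').rTensor L') ∘ₗ
      ((RingHom.ker (algebraMap B' B)).subtype.rTensor L')) := by
    rw [hcomp, LinearMap.coe_comp]
    exact hCB.comp he
  rw [LinearMap.coe_comp] at h2
  exact Injective.of_comp h2


/-- the map `𝔞 → 𝔞B × 𝔞A'` -/
noncomputable def toProd (𝔞 : Ideal B') :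
    ↥𝔞 →ₗ[B'] (↥(𝔞.map (algebraMap B' B)) × ↥(𝔞.map (algebraMap B' A'))) :=
  LinearMap.prod
    { toFun := fun a => ⟨algebraMap B' B a.1, Ideal.mem_map_of_mem _ a.2⟩
      map_add' := fun x y => by ext; simp
      map_smul' := fun c x => by ext; simp [Algebra.smul_def] }
    { toFun := fun a => ⟨algebraMap B' A' a.1, Ideal.mem_map_of_mem _ a.2⟩
      map_add' := fun x y => by ext; simp
      map_smul' := fun c x => by ext; simp [Algebra.smul_def] }

omit [Algebra B A] [Algebra A' A] [Algebra B' A] [IsScalarTower B' B A] [IsScalarTower B' A' A] in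
@[simp] theorem toProd_fst (𝔞 : Ideal B') (a : 𝔞) :
    ((toProd (B := B) (A' := A') 𝔞 a).1 : B) = algebraMap B' B a.1 := rfl

omit [Algebra B A] [Algebra A' A] [Algebra B' A] [IsScalarTower B' B A] [IsScalarTower B' A' A] in
@[simp] theorem toProd_snd (𝔞 : Ideal B') (a : 𝔞) :
    ((toProd (B := B) (A' := A') 𝔞 a).2 : A') = algebraMap B' A' a.1 := rfl

theorem toProd_injective (hsq : EtMil.IsFibreSquare B' B A' A) (𝔞 : Ideal B') :
    Injective (toProd (B := B) (A' := A') 𝔞) := by
  intro x y hxy
  ext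
  apply inj hsq
  · have := congrArg (fun p => (p.1 : B)) hxy
    simpa using this
  · have := congrArg (fun p => (p.2 : A')) hxy
    simpa using this

theorem exists_of_mem_map (hsq : EtMil.IsFibreSquare B' B A' A) (𝔞 : Ideal B') (y : A')
    (hy : y ∈ 𝔞.map (algebraMap B' A')) :
    ∀ j : B', algebraMap B' B j = 0 →
      ∃ a ∈ 𝔞, algebraMap B' B a = 0 ∧ algebraMap B' A' a = algebraMap B' A' j * y := by
  unfold Ideal.map at hy
  induction hy using Submodule.span_induction with
  | mem y hy =>
    obtain ⟨a₀, ha₀, rfl⟩ := hy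
    intro j hj
    exact ⟨j * a₀, 𝔞.mul_mem_left _ ha₀, by rw [map_mul, hj, zero_mul], by rw [map_mul]⟩
  | zero =>
    intro j _
    exact ⟨0, 𝔞.zero_mem, by simp, by simp⟩
  | add x y _ _ hx hy =>
    intro j hj
    obtain ⟨a, ha, ha1, ha2⟩ := hx j hj
    obtain ⟨b, hb, hb1, hb2⟩ := hy j hj
    exact ⟨a + b, 𝔞.add_mem ha hb, by rw [map_add, ha1, hb1, add_zero],
      by rw [map_add, ha2, hb2, mul_add]⟩
  | smul c y _ hy =>
    intro j hj
    obtain ⟨j', hj', hj'2⟩ := exists_star hsq c j hj
    obtain ⟨a, ha, ha1, ha2⟩ := hy j' hj'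
    refine ⟨a, ha, ha1, ?_⟩
    rw [ha2, hj'2, smul_eq_mul]
    ring

theorem toProd_coker (hsq : EtMil.IsFibreSquare B' B A' A) (𝔞 : Ideal B') (j : B')
    (hj : algebraMap B' B j = 0)
    (p : ↥(𝔞.map (algebraMap B' B)) × ↥(𝔞.map (algebraMap B' A'))) :
    j • p ∈ LinearMap.range (toProd (B := B) (A' := A') 𝔞) := by
  obtain ⟨a, ha, ha1, ha2⟩ := exists_of_mem_map hsq 𝔞 p.2.1 p.2.2 j hj
  refine ⟨⟨a, ha⟩, ?_⟩
  apply Prod.ext
  · ext
    simp [ha1, Algebra.smul_def, hj]
  · ext
    simp [ha2, Algebra.smul_def]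

/-- **Flat descent along a Milnor square.** -/
theorem flat_descent (hsq : EtMil.IsFibreSquare B' B A' A)
    [Module.Flat B (B ⊗[B'] L')] [Module.Flat A' (A' ⊗[B'] L')] : Module.Flat B' L' := by
  rw [Module.Flat.iff_rTensor_injective']
  intro 𝔞
  have h0 := step1 (B := B) (A := A) (A' := A') L' hsq
  have h1 := @lemmaA B' _ B _ _ L' _ _ (surj_fst hsq) h0 _
  have h2 := @h1 ↥𝔞 (↥(𝔞.map (algebraMap B' B)) × ↥(𝔞.map (algebraMap B' A'))) _ _ _ _
  have h3 := h2 (toProd (B := B) (A' := A') 𝔞)
  have h4 := h3 (toProd_injective hsq 𝔞)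
  have hA : Injective ((toProd (B := B) (A' := A') 𝔞).rTensor L') := h4 (toProd_coker hsq 𝔞)
  clear h0 h1 h2 h3 h4
  have hg₁ : Injective (((𝔞.map (algebraMap B' B)).subtype.restrictScalars B').rTensor L') :=
    lemmaCB (R := B') (S := B) L' _ (Submodule.injective_subtype _)
  have hg₂ : Injective (((𝔞.map (algebraMap B' A')).subtype.restrictScalars B').rTensor L') :=
    lemmaCB (R := B') (S := A') L' _ (Submodule.injective_subtype _)
  have hΦ : Injective ((LinearMap.prodMap
      (((𝔞.map (algebraMap B' B)).subtype.restrictScalars B').rTensor L')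
      (((𝔞.map (algebraMap B' A')).subtype.restrictScalars B').rTensor L')) ∘ₗ
      (TensorProduct.prodLeft B' B' _ _ L').toLinearMap) := by
    rw [LinearMap.coe_comp]
    refine Injective.comp ?_ (LinearEquiv.injective _)
    rw [LinearMap.coe_prodMap]
    exact hg₁.prodMap hg₂
  have hcomp : ((LinearMap.prodMap
      (((𝔞.map (algebraMap B' B)).subtype.restrictScalars B').rTensor L')
      (((𝔞.map (algebraMap B' A')).subtype.restrictScalars B').rTensor L')) ∘ₗ
      (TensorProduct.prodLeft B' B' _ _ L').toLinearMap) ∘ₗ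
        ((toProd (B := B) (A' := A') 𝔞).rTensor L') =
      (LinearMap.prod ((Algebra.linearMap B' B).rTensor L') ((Algebra.linearMap B' A').rTensor L')) ∘ₗ
        (𝔞.subtype.rTensor L') := by
    apply TensorProduct.ext'
    intro a l
    simp [toProd]
  have h6 := hΦ.comp hA
  rw [← LinearMap.coe_comp, hcomp, LinearMap.coe_comp] at h6
  exact Injective.of_comp h6

end Groth.Agent.H87.Mil
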