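import Groth.Prelude.Def_DefoSh

set_option autoImplicit false
universe u

open CategoryTheory CategoryTheory.Limits AlgebraicGeometry TopologicalSpace Opposite

namespace Groth.Agent.H87.DefoIso

theorem isIso_of_stalk_bijective {X : Scheme.{u}} {M N : X.Modules} (φ : M ⟶ N)
    (h : ∀ p : X, Function.Bijective (RefHull.stalkMapₗ φ p)) : IsIso φ := by
  rw [Scheme.Modules.Hom.isIso_iff_isIso_app]
  intro U
  let F : TopCat.Sheaf Ab X := ⟨M.presheaf, M.isSheaf⟩
  let G : TopCat.Sheaf Ab X := ⟨N.presheaf, N.isSheaf⟩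
  let f : F ⟶ G := ⟨φ.mapPresheaf⟩
  have hb := TopCat.Presheaf.app_bijective_of_stalkFunctor_map_bijective f U (fun x _ => h x)
  rw [ConcreteCategory.isIso_iff_bijective]
  exact hb

end Groth.Agent.H87.DefoIso
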