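import Mathlib
import Groth.Agent.H19.ComplFinite
import Groth.Agent.H20.ComplNoeth2

/-!
# Unramified / étale local homomorphisms and completions (helper87)

`A → B` a local homomorphism of Noetherian local rings, `Ah`, `Bh` the completions at the maximal
ideals, and an algebra structure `Ah → Bh` compatible with `A → B`.
-/

set_option autoImplicit false
set_option linter.unusedSectionVars false

namespace Groth.Agent.H87.ComplUnram

open IsLocalRing

universe u

/-- The residue field of a Noetherian local ring is that of its completion. -/
noncomputable def resEquiv (R : Type u) [CommRing R] [IsLocalRing R] [IsNoetherianRing R] :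
    ResidueField R ≃+* ResidueField (AdicCompletion (maximalIdeal R) R) :=
  RingEquiv.ofBijective _ (AdicCompletion.residueField_map_bijective R)

theorem resEquiv_residue (R : Type u) [CommRing R] [IsLocalRing R] [IsNoetherianRing R] (x : R) :
    resEquiv R (residue R x) =
      residue _ (algebraMap R (AdicCompletion (maximalIdeal R) R) x) := by
  simp [resEquiv, ResidueField.map_residue]

theorem faithfullyFlat_compl (R : Type u) [CommRing R] [IsLocalRing R] [IsNoetherianRing R] :
    Module.FaithfullyFlat R (AdicCompletion (maximalIdeal R) R) :=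
  Module.FaithfullyFlat.of_flat_of_isLocalHom

section

variable {A B : Type u} [CommRing A] [CommRing B] [IsLocalRing A] [IsLocalRing B]
  [IsNoetherianRing A] [IsNoetherianRing B] [Algebra A B] [IsLocalHom (algebraMap A B)]

set_option hygiene false in
local notation "Ah" => AdicCompletion (maximalIdeal A) A
set_option hygiene false in
local notation "Bh" => AdicCompletion (maximalIdeal B) B

variable [Algebra Ah Bh]
  (hψ : (algebraMap Ah Bh).comp (algebraMap A Ah) = (algebraMap B Bh).comp (algebraMap A B))

include hψ

theorem map_maximalIdeal_compl :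
    (maximalIdeal Ah).map (algebraMap Ah Bh) =
      ((maximalIdeal A).map (algebraMap A B)).map (algebraMap B Bh) := by
  rw [AdicCompletion.maximalIdeal_eq_map, Ideal.map_map, hψ, ← Ideal.map_map]

theorem map_maximalIdeal_compl_le :
    (maximalIdeal Ah).map (algebraMap Ah Bh) ≤ maximalIdeal Bh := by
  rw [map_maximalIdeal_compl hψ, AdicCompletion.maximalIdeal_eq_map (R := B)]
  exact Ideal.map_mono (((local_hom_TFAE (algebraMap A B)).out 0 2).mp ‹_›)

theorem isLocalHom_compl : IsLocalHom (algebraMap Ah Bh) :=
  ((local_hom_TFAE (algebraMap Ah Bh)).out 0 2).mpr (map_maximalIdeal_compl_le hψ)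

theorem res_square [IsLocalHom (algebraMap Ah Bh)] :
    (algebraMap (ResidueField Ah) (ResidueField Bh)).comp (resEquiv A : _ →+* _) =
      ((resEquiv B : _ →+* _)).comp (algebraMap (ResidueField A) (ResidueField B)) := by
  ext x
  obtain ⟨x, rfl⟩ := residue_surjective x
  simp only [RingHom.coe_comp, RingHom.coe_coe, Function.comp_apply, resEquiv_residue,
    ResidueField.algebraMap_residue]
  exact congrArg (residue _) (DFunLike.congr_fun hψ x)

theorem map_maximalIdeal_compl_eq
    (hm : (maximalIdeal A).map (algebraMap A B) = maximalIdeal B) :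
    (maximalIdeal Ah).map (algebraMap Ah Bh) = maximalIdeal Bh := by
  rw [map_maximalIdeal_compl hψ, hm, AdicCompletion.maximalIdeal_eq_map (R := B)]

theorem finite_res_compl [IsLocalHom (algebraMap Ah Bh)]
    [Module.Finite (ResidueField A) (ResidueField B)] :
    Module.Finite (ResidueField Ah) (ResidueField Bh) :=
  Module.Finite.of_equiv_equiv (resEquiv A) (resEquiv B) (res_square hψ)

theorem isSeparable_res_compl [IsLocalHom (algebraMap Ah Bh)]
    [Algebra.IsSeparable (ResidueField A) (ResidueField B)] :
    Algebra.IsSeparable (ResidueField Ah) (ResidueField Bh) :=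
  Algebra.IsSeparable.of_equiv_equiv (resEquiv A) (resEquiv B) (res_square hψ)

theorem finite_compl (hm : (maximalIdeal A).map (algebraMap A B) = maximalIdeal B)
    [Module.Finite (ResidueField A) (ResidueField B)] : Module.Finite Ah Bh := by
  have hloc : IsLocalHom (algebraMap Ah Bh) := isLocalHom_compl hψ
  have hmap := map_maximalIdeal_compl_eq hψ hm
  have hH : IsHausdorff (maximalIdeal Ah) Bh := by
    rw [← IsHausdorff.map_algebraMap_iff (S := Bh), hmap]
    infer_instance
  have hfr : Module.Finite (ResidueField Ah) (ResidueField Bh) := finite_res_compl hψ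
  have hfr' : Module.Finite Ah (ResidueField Bh) :=
    Module.Finite.trans (ResidueField Ah) (ResidueField Bh)
  have heq : (maximalIdeal Ah • ⊤ : Submodule Ah Bh) = (maximalIdeal Bh).restrictScalars Ah := by
    rw [Ideal.smul_top_eq_map, hmap]
  apply Groth.Agent.H19.ComplFinite.main (maximalIdeal Ah)
  rw [heq]
  have hfr'' : Module.Finite Ah (Bh ⧸ maximalIdeal Bh) := hfr'
  exact Module.Finite.equiv
    (Submodule.Quotient.restrictScalarsEquiv Ah (maximalIdeal Bh)).symm

theorem formallyUnramified_compl
    (hm : (maximalIdeal A).map (algebraMap A B) = maximalIdeal B)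
    [Module.Finite (ResidueField A) (ResidueField B)]
    [Algebra.IsSeparable (ResidueField A) (ResidueField B)] :
    Algebra.FormallyUnramified Ah Bh := by
  have hloc : IsLocalHom (algebraMap Ah Bh) := isLocalHom_compl hψ
  have hfin : Module.Finite Ah Bh := finite_compl hψ hm
  have hsep : Algebra.IsSeparable (ResidueField Ah) (ResidueField Bh) := isSeparable_res_compl hψ
  exact Algebra.FormallyUnramified.of_map_maximalIdeal (map_maximalIdeal_compl_eq hψ hm)

theorem of_formallyUnramified_compl [Algebra.FiniteType Ah Bh]
    [Algebra.FormallyUnramified Ah Bh] :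
    (maximalIdeal A).map (algebraMap A B) = maximalIdeal B ∧
      Module.Finite (ResidueField A) (ResidueField B) ∧
      Algebra.IsSeparable (ResidueField A) (ResidueField B) := by
  have hloc : IsLocalHom (algebraMap Ah Bh) := isLocalHom_compl hψ
  obtain ⟨hsep, hmap⟩ := Algebra.FormallyUnramified.iff_map_maximalIdeal_eq.mp
    (inferInstance : Algebra.FormallyUnramified Ah Bh)
  have hff := faithfullyFlat_compl B
  refine ⟨?_, ?_, ?_⟩
  · rw [map_maximalIdeal_compl hψ, AdicCompletion.maximalIdeal_eq_map (R := B)] at hmap
    rw [← Ideal.comap_map_eq_self_of_faithfullyFlat (B := Bh) (maximalIdeal B), ← hmap,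
      Ideal.comap_map_eq_self_of_faithfullyFlat]
  · have h1 : Algebra.FiniteType Ah (ResidueField Bh) :=
      Algebra.FiniteType.trans (inferInstance : Algebra.FiniteType Ah Bh)
        (Algebra.FiniteType.of_surjective (Algebra.ofId Bh (ResidueField Bh))
          Ideal.Quotient.mk_surjective)
    have h2 : Algebra.FiniteType (ResidueField Ah) (ResidueField Bh) :=
      Algebra.FiniteType.of_restrictScalars_finiteType Ah _ _
    have h3 : Module.Finite (ResidueField Ah) (ResidueField Bh) := Algebra.IsIntegral.finite
    exact Module.Finite.of_equiv_equiv (resEquiv A).symm (resEquiv B).symm (by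
      have := res_square hψ
      ext x
      have h := DFunLike.congr_fun this ((resEquiv A).symm x)
      simp only [RingHom.coe_comp, RingHom.coe_coe, Function.comp_apply,
        RingEquiv.apply_symm_apply] at h
      simp only [RingHom.coe_comp, RingHom.coe_coe, Function.comp_apply, h,
        RingEquiv.symm_apply_apply])
  · exact (Algebra.IsSeparable.iff_of_equiv_equiv (resEquiv A) (resEquiv B)
      (res_square hψ)).mpr hsep

end

end Groth.Agent.H87.ComplUnram
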