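import Mathlib

/-!
# Local structure of étale / unramified local homomorphisms (helper87)

If `B` is a local `A`-algebra which is the localization of a finite type `A`-algebra `C` at a prime,
then
* `B` formally unramified over `A` ⟹ `B` is a quotient of a localization at a prime of a standard
  étale `A`-algebra (`exists_standardEtale_quotient`);
* `B` formally étale over `A`, `C` finitely presented ⟹ `B` is a localization at a prime of a
  standard étale `A`-algebra (`exists_standardEtale_localization`).
Both are repackagings of Mathlib's `Algebra.IsUnramifiedAt.exists_hasStandardEtaleSurjectionOn` and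
`Algebra.IsEtaleAt.exists_isStandardEtale`.
-/

set_option autoImplicit false

namespace Groth.Agent.H87.EtLocalStd

open IsLocalRing

universe u

/-- A local ring which is a localization of `R` is the localization of `R` at the preimage of its
maximal ideal. -/
theorem isLocalization_atPrime_of_isLocalRing {R B : Type*} [CommRing R] [CommRing B]
    [Algebra R B] [IsLocalRing B] (M : Submonoid R) [IsLocalization M B] :
    IsLocalization.AtPrime B ((maximalIdeal B).comap (algebraMap R B)) := by
  refine IsLocalization.of_le M _ (fun m hm => ?_) (fun r hr => ?_)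
  · rw [Ideal.mem_primeCompl_iff, Ideal.mem_comap, mem_maximalIdeal, mem_nonunits_iff, not_not]
    exact IsLocalization.map_units B ⟨m, hm⟩
  · rwa [Ideal.mem_primeCompl_iff, Ideal.mem_comap, mem_maximalIdeal, mem_nonunits_iff,
      not_not] at hr

/-- A local essentially finite type algebra is the localization of a finite type algebra at a
prime. -/
theorem isLocalization_atPrime_subalgebra (A B : Type*) [CommRing A] [CommRing B] [Algebra A B]
    [IsLocalRing B] [Algebra.EssFiniteType A B] :
    IsLocalization.AtPrime B
      ((maximalIdeal B).comap (algebraMap (Algebra.EssFiniteType.subalgebra A B) B)) :=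
  isLocalization_atPrime_of_isLocalRing (Algebra.EssFiniteType.submonoid A B)

section core

variable (A C B : Type u) [CommRing A] [CommRing C] [CommRing B] [Algebra A C] [Algebra C B]
  [Algebra A B] [IsScalarTower A C B] [IsLocalRing B] (p : Ideal C) [p.IsPrime]
  [IsLocalization.AtPrime B p]

include p in
theorem exists_standardEtale_quotient [Algebra.FiniteType A C] [Algebra.FormallyUnramified A B] :
    ∃ (P : StandardEtalePair A) (𝔮 : Ideal P.Ring) (_ : 𝔮.IsPrime)
      (I : Ideal (Localization.AtPrime 𝔮)), Nonempty (B ≃ₐ[A] (Localization.AtPrime 𝔮 ⧸ I)) := by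
  have e₁ : Localization.AtPrime p ≃ₐ[C] B := IsLocalization.algEquiv p.primeCompl _ _
  have : Algebra.IsUnramifiedAt A p :=
    Algebra.FormallyUnramified.of_equiv (e₁.restrictScalars A).symm
  obtain ⟨f, hfp, P, φ, hφ⟩ :=
    Algebra.IsUnramifiedAt.exists_hasStandardEtaleSurjectionOn (R := A) p
  have hfu : IsUnit (algebraMap C B f) :=
    IsLocalization.map_units B (⟨f, hfp⟩ : p.primeCompl)
  let ψ : Localization.Away f →ₐ[A] B :=
    IsLocalization.liftAlgHom (M := Submonoid.powers f) (f := IsScalarTower.toAlgHom A C B)
      (by rintro ⟨_, n, rfl⟩; simpa using hfu.pow n)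
  have hψ : ∀ c : C, ψ (algebraMap C _ c) = algebraMap C B c := fun c => by
    simp [ψ]
  let θ : P.Ring →ₐ[A] B := ψ.comp φ
  let q : Ideal P.Ring := (maximalIdeal B).comap θ
  have hq : q.IsPrime := Ideal.comap_isPrime _ _
  have hunit : ∀ y : P.Ring, y ∈ q.primeCompl → IsUnit (θ y) := fun y hy => by
    rwa [Ideal.mem_primeCompl_iff, Ideal.mem_comap, mem_maximalIdeal, mem_nonunits_iff,
      not_not] at hy
  let L : Localization.AtPrime q →ₐ[A] B :=
    IsLocalization.liftAlgHom (M := q.primeCompl) (f := θ) (fun y => hunit y.1 y.2)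
  have hL : Function.Surjective L := by
    intro b
    obtain ⟨⟨c, s⟩, hcs⟩ := IsLocalization.surj p.primeCompl b
    obtain ⟨x, hx⟩ := hφ (algebraMap C _ c)
    obtain ⟨y, hy⟩ := hφ (algebraMap C _ s.1)
    have hθx : θ x = algebraMap C B c := by simp [θ, hx, hψ]
    have hθy : θ y = algebraMap C B s.1 := by simp [θ, hy, hψ]
    have hsu : IsUnit (algebraMap C B s.1) := IsLocalization.map_units B s
    have hyq : y ∈ q.primeCompl := by
      rw [Ideal.mem_primeCompl_iff, Ideal.mem_comap, mem_maximalIdeal, mem_nonunits_iff,
        not_not, hθy]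
      exact hsu
    refine ⟨IsLocalization.mk' _ x ⟨y, hyq⟩, ?_⟩
    have : L (IsLocalization.mk' _ x ⟨y, hyq⟩) * θ y = θ x := by
      have h2 : θ y = L (algebraMap _ _ y) := by simp [L]
      have h3 : θ x = L (algebraMap _ _ x) := by simp [L]
      rw [h2, h3, ← map_mul]
      congr 1
      exact IsLocalization.mk'_spec _ x ⟨y, hyq⟩
    rw [hθx, hθy] at this
    exact hsu.mul_right_cancel (this.trans hcs.symm)
  exact ⟨P, q, hq, RingHom.ker L, ⟨(Ideal.quotientKerAlgEquivOfSurjective hL).symm⟩⟩

include p in
theorem exists_standardEtale_localization [Algebra.FinitePresentation A C]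
    [Algebra.FormallyEtale A B] :
    ∃ (P : StandardEtalePair A) (𝔮 : Ideal P.Ring) (_ : 𝔮.IsPrime),
      Nonempty (B ≃ₐ[A] Localization.AtPrime 𝔮) := by
  have e₁ : Localization.AtPrime p ≃ₐ[C] B := IsLocalization.algEquiv p.primeCompl _ _
  have : Algebra.IsEtaleAt A p :=
    Algebra.FormallyEtale.of_equiv (e₁.restrictScalars A).symm
  obtain ⟨f, hfp, hstd⟩ := Algebra.IsEtaleAt.exists_isStandardEtale (R := A) p
  obtain ⟨Pr⟩ := hstd.nonempty_standardEtalePresentation
  let e : Localization.Away f ≃ₐ[A] Pr.P.Ring := Pr.equivRing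
  have hfu : IsUnit (algebraMap C B f) :=
    IsLocalization.map_units B (⟨f, hfp⟩ : p.primeCompl)
  let ψ : Localization.Away f →+* B := IsLocalization.Away.lift f hfu
  let _ : Algebra (Localization.Away f) B := ψ.toAlgebra
  have : IsScalarTower C (Localization.Away f) B :=
    .of_algebraMap_eq' (IsLocalization.Away.lift_comp f hfu).symm
  have : IsScalarTower A (Localization.Away f) B := .to₁₃₄ A C _ _
  have : IsLocalization (Algebra.algebraMapSubmonoid (Localization.Away f) p.primeCompl) B :=
    IsLocalization.isLocalization_of_submonoid_le _ _ (.powers f) p.primeCompl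
      (Submonoid.powers_le.mpr hfp)
  let p'' : Ideal (Localization.Away f) :=
    (maximalIdeal B).comap (algebraMap (Localization.Away f) B)
  have hp'' : IsLocalization.AtPrime B p'' :=
    isLocalization_atPrime_of_isLocalRing
      (Algebra.algebraMapSubmonoid (Localization.Away f) p.primeCompl)
  let q : Ideal Pr.P.Ring := p''.comap (e.symm : Pr.P.Ring →+* Localization.Away f)
  have hq : q.IsPrime := Ideal.comap_isPrime _ _
  have H : Submonoid.map e.symm q.primeCompl = p''.primeCompl := by
    ext x
    constructor
    · rintro ⟨y, hy, rfl⟩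
      exact hy
    · intro hx
      exact ⟨e x, by
        show e x ∈ q.primeCompl
        rw [Ideal.mem_primeCompl_iff, Ideal.mem_comap]
        simpa using hx, by simp⟩
  exact ⟨Pr.P, q, hq,
    ⟨(IsLocalization.algEquivOfAlgEquiv (Localization.AtPrime q) B e.symm H).symm⟩⟩

end core

end Groth.Agent.H87.EtLocalStd
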