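import Groth.Agent.H87.Mil4

set_option autoImplicit false
universe u
open TensorProduct Function

namespace Groth.Agent.H87.Mil

variable {B' B A' A : Type u} [CommRing B'] [CommRing B] [CommRing A'] [CommRing A]
  [Algebra B' B] [Algebra B' A'] [Algebra B A] [Algebra A' A] [Algebra B' A]
  [IsScalarTower B' B A] [IsScalarTower B' A' A]

section
variable {N M' : Type u} [AddCommGroup N] [Module B N] [Module B' N] [IsScalarTower B' B N]
  [AddCommGroup M'] [Module A' M'] [Module B' M'] [IsScalarTower B' A' M']
  (φ : A ⊗[B] N ≃ₗ[A] A ⊗[A'] M')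

/-- the glued module of flat modules is flat -/
theorem glue_flat (hsq : EtMil.IsFibreSquare B' B A' A) [Module.Flat B N] [Module.Flat A' M'] :
    Module.Flat B' ↥(EtMil.glue B' φ) := by
  haveI : Module.Flat B (B ⊗[B'] ↥(EtMil.glue B' φ)) :=
    Module.Flat.of_linearEquiv (LinearEquiv.ofBijective _ (glueFst_bijective φ hsq))
  haveI : Module.Flat A' (A' ⊗[B'] ↥(EtMil.glue B' φ)) :=
    Module.Flat.of_linearEquiv (LinearEquiv.ofBijective _ (glueSnd_bijective φ hsq))
  exact flat_descent _ hsq

/-- the glued module of finite modules is finite -/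
theorem glue_finite (hsq : EtMil.IsFibreSquare B' B A' A) [Module.Finite B N]
    [Module.Finite A' M'] : Module.Finite B' ↥(EtMil.glue B' φ) := by
  haveI : Module.Finite B (B ⊗[B'] ↥(EtMil.glue B' φ)) :=
    Module.Finite.equiv (LinearEquiv.ofBijective _ (glueFst_bijective φ hsq)).symm
  haveI : Module.Finite A' (A' ⊗[B'] ↥(EtMil.glue B' φ)) :=
    Module.Finite.equiv (LinearEquiv.ofBijective _ (glueSnd_bijective φ hsq)).symm
  exact Groth.Agent.H74.Milnor.finite_of_finite_tensor hsq _

/-- the glued module of finite projective modules is projective -/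
theorem glue_projective (hsq : EtMil.IsFibreSquare B' B A' A) [Module.Finite B N]
    [Module.Projective B N] [Module.Finite A' M'] [Module.Projective A' M'] :
    Module.Projective B' ↥(EtMil.glue B' φ) := by
  haveI : Module.Flat B (B ⊗[B'] ↥(EtMil.glue B' φ)) :=
    Module.Flat.of_linearEquiv (LinearEquiv.ofBijective _ (glueFst_bijective φ hsq))
  haveI : Module.Flat A' (A' ⊗[B'] ↥(EtMil.glue B' φ)) :=
    Module.Flat.of_linearEquiv (LinearEquiv.ofBijective _ (glueSnd_bijective φ hsq))
  haveI : Module.FinitePresentation B N := Module.finitePresentation_of_projective B N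
  haveI : Module.FinitePresentation A' M' := Module.finitePresentation_of_projective A' M'
  haveI : Module.FinitePresentation B (B ⊗[B'] ↥(EtMil.glue B' φ)) :=
    Module.FinitePresentation.of_equiv (LinearEquiv.ofBijective _ (glueFst_bijective φ hsq)).symm
  haveI : Module.FinitePresentation A' (A' ⊗[B'] ↥(EtMil.glue B' φ)) :=
    Module.FinitePresentation.of_equiv (LinearEquiv.ofBijective _ (glueSnd_bijective φ hsq)).symm
  haveI : Module.Flat B' ↥(EtMil.glue B' φ) := flat_descent _ hsq
  haveI : Module.FinitePresentation B' ↥(EtMil.glue B' φ) := fp_descent hsq _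
  exact Module.Flat.projective_of_finitePresentation

end

/-- for a flat module, the map to the pair of base changes is injective -/
theorem pair_injective (hsq : EtMil.IsFibreSquare B' B A' A) (L' : Type u) [AddCommGroup L']
    [Module B' L'] [Module.Flat B' L'] :
    Injective (fun l : L' => (((1 : B) ⊗ₜ[B'] l : B ⊗[B'] L'), ((1 : A') ⊗ₜ[B'] l : A' ⊗[B'] L'))) := by
  have hι : Injective (LinearMap.prod (Algebra.linearMap B' B) (Algebra.linearMap B' A')) := by
    intro x y hxy
    have h1 : algebraMap B' B x = algebraMap B' B y := congrArg Prod.fst hxy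
    have h2 : algebraMap B' A' x = algebraMap B' A' y := congrArg Prod.snd hxy
    exact inj hsq h1 h2
  have h1 := Module.Flat.rTensor_preserves_injective_linearMap (M := L') _ hι
  have h2 : Injective ((TensorProduct.prodLeft B' B' B A' L') ∘
      ((LinearMap.prod (Algebra.linearMap B' B) (Algebra.linearMap B' A')).rTensor L') ∘
      (TensorProduct.lid B' L').symm) :=
    (LinearEquiv.injective _).comp (h1.comp (LinearEquiv.injective _))
  convert h2 using 1
  ext l <;> simp

end Groth.Agent.H87.Mil
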