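import Mathlib.AlgebraicGeometry.FunctionField
import Mathlib.AlgebraicGeometry.Noetherian
import Mathlib.Topology.Sheaves.SheafCondition.UniqueGluing
import Mathlib.RingTheory.IntegralClosure.IntegrallyClosed

set_option autoImplicit false
universe u

open AlgebraicGeometry CategoryTheory Opposite TopologicalSpace

namespace Groth.Agent.H87.NormExt

theorem extend (X : Scheme.{u}) [AlgebraicGeometry.IsIntegral X]
    (hX : ∀ x : X, IsIntegrallyClosed (X.presheaf.stalk x)) (U : X.Opens) (b : Γ(X, U))
    (hb : (X.presheaf.map (homOfLE le_top : U ⟶ ⊤).op).hom.IsIntegralElem b) :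
    b ∈ Set.range (X.presheaf.map (homOfLE le_top : U ⟶ ⊤).op).hom := by
  set η := genericPoint X with hηdef
  have hsp : ∀ x : X, η ⤳ x := fun x => (genericPoint_spec X).specializes trivial
  have hη : ∀ W : X.Opens, ∀ x ∈ W, η ∈ W := fun W x hx => (hsp x).mem_open W.isOpen hx
  by_cases hU : η ∈ U
  · set β : X.functionField := X.presheaf.germ U η hU b with hβ
    obtain ⟨p, hpm, hp⟩ := hb
    have hint : ∀ x : X, IsIntegral (X.presheaf.stalk x) β := by
      intro x
      refine ⟨p.map ((X.presheaf.germ ⊤ x (Opens.mem_top x)).hom), hpm.map _, ?_⟩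
      rw [Polynomial.eval₂_map]
      have : (algebraMap (X.presheaf.stalk x) X.functionField).comp
          (X.presheaf.germ ⊤ x (Opens.mem_top x)).hom
          = (X.presheaf.germ U η hU).hom.comp (X.presheaf.map (homOfLE le_top : U ⟶ ⊤).op).hom := by
        rw [RingHom.algebraMap_toAlgebra, ← CommRingCat.hom_comp, ← CommRingCat.hom_comp,
          X.presheaf.germ_stalkSpecializes, X.presheaf.germ_res]
      rw [this, ← Polynomial.hom_eval₂, hp, map_zero]
    have hy : ∀ x : X, ∃ y : X.presheaf.stalk x, algebraMap _ X.functionField y = β := fun x =>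
      have := hX x
      IsIntegrallyClosed.isIntegral_iff.mp (hint x)
    have hs : ∀ x : X, ∃ (V : X.Opens) (hx : x ∈ V) (s : Γ(X, V)),
        X.presheaf.germ V η (hη V x hx) s = β := by
      intro x
      obtain ⟨y, hy⟩ := hy x
      obtain ⟨V, hx, s, hs⟩ := X.presheaf.exists_germ_eq y
      refine ⟨V, hx, s, ?_⟩
      rw [← hy, ← hs, RingHom.algebraMap_toAlgebra]
      exact (X.presheaf.germ_stalkSpecializes_apply hx (hsp x) s).symm
    choose V hxV s hs using hs
    have hinj : ∀ (W : X.Opens) (hW : η ∈ W), Function.Injective (X.presheaf.germ W η hW) :=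
      fun W hW => germ_injective_of_isIntegral X η hW
    have hcompat : TopCat.Presheaf.IsCompatible X.presheaf V s := by
      intro x y
      have hne : η ∈ V x ⊓ V y := ⟨hη _ _ (hxV x), hη _ _ (hxV y)⟩
      apply hinj _ hne
      rw [X.presheaf.germ_res_apply, X.presheaf.germ_res_apply, hs, hs]
    obtain ⟨g, hg, -⟩ : ∃! g : Γ(X, ⊤), ∀ x : X,
        X.presheaf.map (homOfLE le_top : V x ⟶ ⊤).op g = s x :=
      X.sheaf.existsUnique_gluing' V ⊤ (fun x => homOfLE le_top)
        (fun x _ => Opens.mem_iSup.mpr ⟨x, hxV x⟩) s hcompat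
    refine ⟨g, ?_⟩
    apply hinj U hU
    change X.presheaf.germ U η hU (X.presheaf.map (homOfLE le_top : U ⟶ ⊤).op g) = β
    rw [X.presheaf.germ_res_apply, ← hs η, ← hg η, X.presheaf.germ_res_apply]
  · have hbot : U = ⊥ := by
      rw [eq_bot_iff]
      intro x hx
      exact absurd (hη U x hx) hU
    subst hbot
    exact ⟨0, Subsingleton.elim _ _⟩

end Groth.Agent.H87.NormExt
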