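import Groth.Agent.H87.Mil2
import Groth.Agent.H74.MilnorFin

set_option autoImplicit false
universe u
open TensorProduct Function

namespace Groth.Agent.H87.Mil

variable {B' B A' A : Type u} [CommRing B'] [CommRing B] [CommRing A'] [CommRing A]
  [Algebra B' B] [Algebra B' A'] [Algebra B A] [Algebra A' A] [Algebra B' A]
  [IsScalarTower B' B A] [IsScalarTower B' A' A]

/-- If `0 → K → F → L → 0` is exact with `L` flat over `R`, `F` finite, and `S ⊗ L` finitely
presented over `S`, then `S ⊗ K` is finite over `S`. -/
theorem finite_baseChange_ker {R S : Type u} [CommRing R] [CommRing S] [Algebra R S]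
    {F L : Type u} [AddCommGroup F] [AddCommGroup L] [Module R F] [Module R L]
    [Module.Flat R L] [Module.Finite R F] [Module.FinitePresentation S (S ⊗[R] L)]
    (p : F →ₗ[R] L) (hp : Surjective p) :
    Module.Finite S (S ⊗[R] LinearMap.ker p) := by
  have hinj : Injective ((LinearMap.ker p).subtype.baseChange S) :=
    LinearMap.lTensor_injective_of_exact_of_flat p hp (LinearMap.ker p).subtype
      (Submodule.injective_subtype _) (LinearMap.exact_subtype_ker_map p) S
  have hex : Function.Exact ((LinearMap.ker p).subtype.baseChange S) (p.baseChange S) :=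
    lTensor_exact S (LinearMap.exact_subtype_ker_map p) hp
  have hfg : (LinearMap.ker (p.baseChange S)).FG :=
    Module.FinitePresentation.fg_ker (p.baseChange S) (LinearMap.lTensor_surjective S hp)
  rw [LinearMap.exact_iff.1 hex] at hfg
  have : Module.Finite S ↥(LinearMap.range ((LinearMap.ker p).subtype.baseChange S)) :=
    Module.Finite.iff_fg.2 hfg
  exact Module.Finite.equiv (LinearEquiv.ofInjective _ hinj).symm

/-- **Descent of finite presentation along a Milnor square** (for flat modules). -/
theorem fp_descent (hsq : EtMil.IsFibreSquare B' B A' A)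
    (L' : Type u) [AddCommGroup L'] [Module B' L']
    [Module.Flat B (B ⊗[B'] L')] [Module.FinitePresentation B (B ⊗[B'] L')]
    [Module.Flat A' (A' ⊗[B'] L')] [Module.FinitePresentation A' (A' ⊗[B'] L')] :
    Module.FinitePresentation B' L' := by
  haveI : Module.Flat B' L' := flat_descent L' hsq
  haveI : Module.Finite B' L' := Groth.Agent.H74.Milnor.finite_of_finite_tensor hsq L'
  obtain ⟨n, p, hp⟩ := Module.Finite.exists_fin' B' L'
  haveI : Module.Finite B (B ⊗[B'] LinearMap.ker p) := finite_baseChange_ker p hp
  haveI : Module.Finite A' (A' ⊗[B'] LinearMap.ker p) := finite_baseChange_ker p hp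
  haveI : Module.Finite B' (LinearMap.ker p) :=
    Groth.Agent.H74.Milnor.finite_of_finite_tensor hsq (LinearMap.ker p)
  exact Module.finitePresentation_of_surjective p hp (Module.Finite.iff_fg.1 inferInstance)

end Groth.Agent.H87.Mil
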