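import Mathlib

/-!
# Two abstract lemmas for lifting smooth algebras: Nakayama step and the final identification
-/

set_option autoImplicit false
universe u

namespace Groth.Agent.H87.SmoothQuot

section Away

variable {R : Type u} [CommRing R] (I : Ideal R) {A₀ : Type u} [CommRing A₀] [Algebra (R ⧸ I) A₀]
  {A : Type u} [CommRing A] [Algebra R A]

theorem exists_algEquiv_away (φ : A →+* A₀) (hφ : Function.Surjective φ)
    (hφR : ∀ r, φ (algebraMap R A r) = algebraMap (R ⧸ I) A₀ (Ideal.Quotient.mk I r))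
    (g g₁ : A) (hg : φ g = 1) (hg₁ : g₁ ∣ g)
    (hker : ∀ x, φ x = 0 → g₁ * x ∈ I.map (algebraMap R A))
    (A' : Type u) [CommRing A'] [Algebra A A'] [Algebra R A'] [IsScalarTower R A A']
    [IsLocalization.Away g A'] :
    Nonempty ((A' ⧸ I.map (algebraMap R A')) ≃ₐ[R ⧸ I] A₀) := by
  have hgu : IsUnit (φ g) := by rw [hg]; exact isUnit_one
  let Φ : A' →+* A₀ := IsLocalization.Away.lift g hgu
  have hΦ : ∀ a, Φ (algebraMap A A' a) = φ a := fun a => IsLocalization.Away.lift_eq g hgu a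
  have hΦR : ∀ r, Φ (algebraMap R A' r) = algebraMap (R ⧸ I) A₀ (Ideal.Quotient.mk I r) := by
    intro r
    rw [IsScalarTower.algebraMap_apply R A A', hΦ, hφR]
  have hIΦ : ∀ x ∈ I.map (algebraMap R A'), Φ x = 0 := by
    have : I.map (algebraMap R A') ≤ RingHom.ker Φ := by
      rw [Ideal.map_le_iff_le_comap]
      intro r hr
      rw [Ideal.mem_comap, RingHom.mem_ker, hΦR, Ideal.Quotient.eq_zero_iff_mem.mpr hr, map_zero]
    exact fun x hx => this hx
  let Φb : A' ⧸ I.map (algebraMap R A') →+* A₀ := Ideal.Quotient.lift _ Φ hIΦ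
  have hgA' : IsUnit (algebraMap A A' g) := IsLocalization.Away.algebraMap_isUnit g
  have hg₁A' : IsUnit (algebraMap A A' g₁) := by
    obtain ⟨c, hc⟩ := hg₁
    rw [hc, map_mul] at hgA'
    exact isUnit_of_mul_isUnit_left hgA'
  have hbij : Function.Bijective Φb := by
    constructor
    · rw [injective_iff_map_eq_zero]
      intro xb hxb
      obtain ⟨x, rfl⟩ := Ideal.Quotient.mk_surjective xb
      change Φ x = 0 at hxb
      rw [Ideal.Quotient.eq_zero_iff_mem]
      obtain ⟨a, ⟨_, m, rfl⟩, rfl⟩ := IsLocalization.exists_mk'_eq (Submonoid.powers g) x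
      have h1 : IsLocalization.mk' A' a (⟨g ^ m, m, rfl⟩ : Submonoid.powers g) *
          algebraMap A A' (g ^ m) = algebraMap A A' a :=
        IsLocalization.mk'_spec A' a (⟨g ^ m, m, rfl⟩ : Submonoid.powers g)
      have h2 : φ a = 0 := by
        rw [← hΦ, ← h1, map_mul, hxb, zero_mul]
      have h3 : algebraMap A A' (g₁ * a) ∈ I.map (algebraMap R A') := by
        have h4 : (I.map (algebraMap R A)).map (algebraMap A A') = I.map (algebraMap R A') := by
          rw [Ideal.map_map, ← IsScalarTower.algebraMap_eq]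
        rw [← h4]
        exact Ideal.mem_map_of_mem _ (hker a h2)
      rw [map_mul] at h3
      have h5 : algebraMap A A' a ∈ I.map (algebraMap R A') :=
        (Ideal.unit_mul_mem_iff_mem _ hg₁A').mp h3
      rw [← h1] at h5
      have h6 : IsUnit (algebraMap A A' (g ^ m)) := by
        rw [map_pow]; exact hgA'.pow m
      exact (Ideal.mul_unit_mem_iff_mem _ h6).mp h5
    · intro y
      obtain ⟨a, rfl⟩ := hφ y
      exact ⟨Ideal.Quotient.mk _ (algebraMap A A' a), hΦ a⟩
  refine ⟨AlgEquiv.ofRingEquiv (f := RingEquiv.ofBijective Φb hbij) ?_⟩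
  intro x
  obtain ⟨r, rfl⟩ := Ideal.Quotient.mk_surjective x
  exact hΦR r

end Away

section Nakayama

variable {A : Type u} [CommRing A]

theorem exists_mul_mem_of_le_sq_sup (JA IA : Ideal A) (s : Finset A) (hsJ : (s : Set A) ⊆ JA)
    (hs : JA ≤ Ideal.span (s : Set A) ⊔ IA) (hsq : JA ≤ JA ^ 2 ⊔ IA) :
    ∃ g₁ : A, g₁ - 1 ∈ JA ∧ ∀ x ∈ JA, g₁ * x ∈ IA := by
  let N : Submodule A (A ⧸ IA) := Submodule.map (Submodule.mkQ IA) JA
  have hN : N = Submodule.map (Submodule.mkQ IA) (Ideal.span (s : Set A)) := by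
    apply le_antisymm
    · rintro _ ⟨x, hx, rfl⟩
      obtain ⟨y, hy, z, hz, rfl⟩ := Submodule.mem_sup.mp (hs hx)
      have h1 : Submodule.mkQ IA (y + z) = Submodule.mkQ IA y := by
        rw [map_add, Submodule.mkQ_apply, Submodule.mkQ_apply,
          (Submodule.Quotient.mk_eq_zero _).mpr hz, add_zero]
      rw [h1]
      exact Submodule.mem_map_of_mem hy
    · exact Submodule.map_mono (Ideal.span_le.mpr hsJ)
  have hfg : N.FG := by
    rw [hN]
    exact Submodule.FG.map _ ⟨s, rfl⟩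
  have hin : N ≤ JA • N := by
    rintro _ ⟨x, hx, rfl⟩
    obtain ⟨y, hy, z, hz, rfl⟩ := Submodule.mem_sup.mp (hsq hx)
    have h1 : Submodule.mkQ IA (y + z) = Submodule.mkQ IA y := by
      rw [map_add, Submodule.mkQ_apply, Submodule.mkQ_apply,
        (Submodule.Quotient.mk_eq_zero _).mpr hz, add_zero]
    rw [h1]
    change _ ∈ JA • Submodule.map (Submodule.mkQ IA) JA
    rw [← Submodule.map_smul'']
    refine Submodule.mem_map_of_mem ?_
    rwa [smul_eq_mul, ← pow_two]
  obtain ⟨r, hr, hrN⟩ :=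
    Submodule.exists_sub_one_mem_and_smul_eq_zero_of_fg_of_le_smul JA N hfg hin
  refine ⟨r, hr, fun x hx => ?_⟩
  have h2 := hrN (Submodule.mkQ IA x) (Submodule.mem_map_of_mem hx)
  rw [← map_smul, Submodule.mkQ_apply, Submodule.Quotient.mk_eq_zero] at h2
  exact h2

end Nakayama

end Groth.Agent.H87.SmoothQuot
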