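import Groth.Agent.H87.EtThickC

/-!
# Lifting étale schemes along thickenings, part D: the pullback square (helper87)

Main result: `exists_etale_lift`.
-/

set_option autoImplicit false
universe u
open CategoryTheory CategoryTheory.Limits AlgebraicGeometry MorphismProperty

namespace Groth.Agent.H87.EtThick

variable {S S₀ : Scheme.{u}} (i : S₀ ⟶ S) {Y₀ : Scheme.{u}} (q : Y₀ ⟶ S₀)
variable [IsClosedImmersion i] [Surjective i] [Etale q]

theorem gluedJ_apply (V : Idx i q) (y : V.1.toScheme) :
    gluedJ i q (V.1.ι y) = colimit.ι (diagram i q) V (jD i q V y) :=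
  congr($(ι_gluedJ i q V) y)

theorem gluedJ_preimage (V : Idx i q) :
    gluedJ i q ⁻¹ᵁ (colimit.ι (diagram i q) V).opensRange = V.1 := by
  ext y
  constructor
  · rintro ⟨x, hx⟩
    obtain ⟨V', hyV', -⟩ := Idx.exists_mem_le i q y ⊤ trivial
    obtain ⟨y', rfl⟩ := exists_ι_eq V'.1 y hyV'
    rw [gluedJ_apply] at hx
    obtain ⟨V'', f, f', z, hz1, hz2⟩ := (Scheme.IsLocallyDirected.ι_eq_ι_iff (diagram i q)).mp hx
    obtain ⟨y'', rfl⟩ := jD_surjective i q V'' z
    rw [jD_diagram_map_apply] at hz2
    have h1 := jD_injective i q V' hz2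
    have h2 : V''.1.ι y'' = V'.1.ι y' := by
      rw [← h1, ι_homOfLE_apply]
    rw [← h2]
    exact leOfHom f (ι_mem _ y'')
  · intro hy
    obtain ⟨y', rfl⟩ := exists_ι_eq V.1 y hy
    exact ⟨jD i q V y', (gluedJ_apply i q V y').symm⟩

theorem isPullback_gluedJ_ι (V : Idx i q) :
    IsPullback (jD i q V) V.1.ι (colimit.ι (diagram i q) V) (gluedJ i q) :=
  IsOpenImmersion.isPullback _ _ _ _ (ι_gluedJ i q V)
    (by rw [gluedJ_preimage, Scheme.Opens.opensRange_ι])

theorem isPullback_glued : IsPullback (gluedJ i q) q (gluedHom i q) i := by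
  apply Scheme.isPullback_of_openCover _ _ _ _ (Scheme.IsLocallyDirected.openCover (diagram i q))
  intro (V : Idx i q)
  have sqA := (isPullback_gluedJ_ι i q V).flip
  have sqB := isPullback_jD i q V
  change IsPullback (pullback.snd (gluedJ i q) (colimit.ι (diagram i q) V))
    (pullback.fst (gluedJ i q) (colimit.ι (diagram i q) V) ≫ q)
    (colimit.ι (diagram i q) V ≫ gluedHom i q) i
  refine sqB.of_iso sqA.isoPullback (Iso.refl _) (Iso.refl _) (Iso.refl _) ?_ ?_ ?_ ?_
  · rw [Iso.refl_hom, Category.comp_id, IsPullback.isoPullback_hom_snd]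
  · rw [Iso.refl_hom, Category.comp_id, IsPullback.isoPullback_hom_fst_assoc]
  · rw [Iso.refl_hom, Category.comp_id, Iso.refl_hom, Category.id_comp, ι_gluedHom]
  · rw [Iso.refl_hom, Category.comp_id, Iso.refl_hom, Category.id_comp]

end Groth.Agent.H87.EtThick

namespace Groth.Agent.H87.EtThick

/-- **Essential surjectivity of base change of étale schemes along a thickening**: every étale
scheme over the closed subscheme `S₀` of `S` (with the same underlying space) is the base change
of an étale `S`-scheme. -/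
theorem exists_etale_lift {S S₀ : Scheme.{u}} (i : S₀ ⟶ S) [IsClosedImmersion i] [Surjective i]
    {Y₀ : Scheme.{u}} (q : Y₀ ⟶ S₀) [Etale q] :
    ∃ (Y : Scheme.{u}) (h : Y ⟶ S) (j : Y₀ ⟶ Y), Etale h ∧ IsPullback j q h i :=
  ⟨glued i q, gluedHom i q, gluedJ i q, inferInstance, isPullback_glued i q⟩

end Groth.Agent.H87.EtThick
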