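import Groth.Agent.H87.SmoothQuotB

/-!
# The smooth locus of `C ⧸ K` contains `V(J₀)`
-/

set_option autoImplicit false
universe u

namespace Groth.Agent.H87.SmoothQuot

open MvPolynomial

section Loc

variable (A B : Type u) [CommRing A] [CommRing B] [Algebra A B] (J : Ideal B) (q : Ideal B)
  [q.IsPrime]

theorem isSmoothAt_of_formallySmooth_quotient_localization (Q : Ideal (B ⧸ J)) [Q.IsPrime]
    (hQ : Q.comap (Ideal.Quotient.mk J) = q)
    (h : Algebra.FormallySmooth A
      (Localization.AtPrime q ⧸ J.map (algebraMap B (Localization.AtPrime q)))) :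
    Algebra.IsSmoothAt A Q := by
  have hM : Algebra.algebraMapSubmonoid (B ⧸ J) q.primeCompl = Q.primeCompl := by
    ext x
    constructor
    · rintro ⟨b, hb, rfl⟩
      intro hx
      apply hb
      rw [← hQ]
      exact hx
    · intro hx
      obtain ⟨b, rfl⟩ := Ideal.Quotient.mk_surjective x
      refine ⟨b, ?_, rfl⟩
      intro hb
      apply hx
      rw [← hQ] at hb
      exact hb
  have inst : IsLocalization (Algebra.algebraMapSubmonoid (B ⧸ J) q.primeCompl)
      (Localization.AtPrime q ⧸ J.map (algebraMap B (Localization.AtPrime q))) := inferInstance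
  rw [hM] at inst
  let e : Localization.AtPrime Q ≃ₐ[B ⧸ J]
      (Localization.AtPrime q ⧸ J.map (algebraMap B (Localization.AtPrime q))) :=
    IsLocalization.algEquiv Q.primeCompl _ _
  have hst : IsScalarTower A (B ⧸ J)
      (Localization.AtPrime q ⧸ J.map (algebraMap B (Localization.AtPrime q))) := by
    refine IsScalarTower.of_algebraMap_eq fun x => ?_
    rw [IsScalarTower.algebraMap_apply A B
      (Localization.AtPrime q ⧸ J.map (algebraMap B (Localization.AtPrime q))),
      IsScalarTower.algebraMap_apply B (B ⧸ J)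
      (Localization.AtPrime q ⧸ J.map (algebraMap B (Localization.AtPrime q))),
      ← IsScalarTower.algebraMap_apply A B (B ⧸ J)]
  exact Algebra.FormallySmooth.of_equiv (e.symm.restrictScalars A)

end Loc

section PartIII

variable {R : Type u} [CommRing R] {n : ℕ} {C : Type u} [CommRing C] [Algebra R C]
  [Algebra (MvPolynomial (Fin n) R) C] [IsScalarTower R (MvPolynomial (Fin n) R) C]
  [Algebra.FormallyEtale (MvPolynomial (Fin n) R) C]

theorem isSmoothAt_quotient_of_jacobian (J₀ : Ideal (MvPolynomial (Fin n) R))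
    (j : Fin n → MvPolynomial (Fin n) R) (hj : ∀ l, j l ∈ J₀)
    (E : Matrix (Fin n) (Fin n) C) (hE : E * E = E)
    (hEG : ∀ i l, E i l - algebraMap (MvPolynomial (Fin n) R) C (pderiv i (j l)) ∈
      J₀.map (algebraMap (MvPolynomial (Fin n) R) C))
    (K : Ideal C) (hK : K = Ideal.span (Set.range
      (Matrix.vecMul (fun m => algebraMap (MvPolynomial (Fin n) R) C (j m)) E)))
    (𝔭 : Ideal (C ⧸ K)) [𝔭.IsPrime]
    (h𝔭 : J₀.map (algebraMap (MvPolynomial (Fin n) R) (C ⧸ K)) ≤ 𝔭) :
    Algebra.IsSmoothAt R 𝔭 := by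
  classical
  let 𝔮 : Ideal C := 𝔭.comap (Ideal.Quotient.mk K)
  have h𝔮 : 𝔮.IsPrime := inferInstance
  let T := Localization.AtPrime 𝔮
  have hst : IsScalarTower R (MvPolynomial (Fin n) R) T :=
    IsScalarTower.of_algebraMap_eq fun r => by
      rw [IsScalarTower.algebraMap_apply R C T,
        IsScalarTower.algebraMap_apply R (MvPolynomial (Fin n) R) C,
        ← IsScalarTower.algebraMap_apply (MvPolynomial (Fin n) R) C T]
  have hfe1 : Algebra.FormallyEtale C T :=
    Algebra.FormallyEtale.of_isLocalization (Rₘ := T) 𝔮.primeCompl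
  have hfe2 : Algebra.FormallyEtale (MvPolynomial (Fin n) R) T :=
    Algebra.FormallyEtale.comp _ C T
  have hJ𝔮 : J₀.map (algebraMap (MvPolynomial (Fin n) R) C) ≤ 𝔮 := by
    rw [Ideal.map_le_iff_le_comap]
    intro p hp
    exact h𝔭 (Ideal.mem_map_of_mem _ hp)
  have hJmap : J₀.map (algebraMap (MvPolynomial (Fin n) R) T) =
      (J₀.map (algebraMap (MvPolynomial (Fin n) R) C)).map (algebraMap C T) := by
    rw [Ideal.map_map, ← IsScalarTower.algebraMap_eq]
  have hJT : J₀.map (algebraMap (MvPolynomial (Fin n) R) T) ≤ IsLocalRing.maximalIdeal T := by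
    rw [hJmap, ← Localization.AtPrime.map_eq_maximalIdeal]
    exact Ideal.map_mono hJ𝔮
  have hunit : ∀ t : T, t - 1 ∈ J₀.map (algebraMap (MvPolynomial (Fin n) R) T) → IsUnit t := by
    intro t ht
    by_contra hnu
    have h1 : t ∈ IsLocalRing.maximalIdeal T := (IsLocalRing.mem_maximalIdeal t).mpr hnu
    have h2 : (1 : T) ∈ IsLocalRing.maximalIdeal T := by
      have h3 := Ideal.sub_mem _ h1 (hJT ht)
      simp at h3
    exact (IsLocalRing.maximalIdeal.isMaximal T).ne_top ((Ideal.eq_top_iff_one _).mpr h2)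
  have hE_T : (E.map (algebraMap C T)) * (E.map (algebraMap C T)) = E.map (algebraMap C T) := by
    rw [← Matrix.map_mul, hE]
  have hEG_T : ∀ i l, (E.map (algebraMap C T)) i l -
      algebraMap (MvPolynomial (Fin n) R) T (pderiv i (j l)) ∈
      J₀.map (algebraMap (MvPolynomial (Fin n) R) T) := by
    intro i l
    rw [Matrix.map_apply, IsScalarTower.algebraMap_apply (MvPolynomial (Fin n) R) C T, ← map_sub,
      hJmap]
    exact Ideal.mem_map_of_mem _ (hEG i l)
  have hsm := formallySmooth_quotient_of_jacobian (T := T) J₀ hunit j hj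
    (E.map (algebraMap C T)) hE_T hEG_T
  have hKT : Ideal.span (Set.range (Matrix.vecMul
      (fun m => algebraMap (MvPolynomial (Fin n) R) T (j m)) (E.map (algebraMap C T)))) =
      K.map (algebraMap C T) := by
    rw [hK, Ideal.map_span, ← Set.range_comp]
    congr 2
    ext l
    rw [Function.comp_apply, RingHom.map_vecMul]
    congr 2
  rw [hKT] at hsm
  exact isSmoothAt_of_formallySmooth_quotient_localization R C K 𝔮 𝔭 rfl hsm

end PartIII

end Groth.Agent.H87.SmoothQuot
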