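import Groth.Agent.H87.SmoothHens

/-!
# Presentation data of a smooth algebra over `R ⧸ I`, lifted to `R[X]`
-/

set_option autoImplicit false
universe u

namespace Groth.Agent.H87.SmoothQuot

open MvPolynomial

theorem exists_presentation_data {R : Type u} [CommRing R] (I : Ideal R) {A₀ : Type u}
    [CommRing A₀] [Algebra (R ⧸ I) A₀] [Algebra.Smooth (R ⧸ I) A₀] :
    ∃ (n : ℕ) (ψ : MvPolynomial (Fin n) R →+* A₀) (j : Fin n → MvPolynomial (Fin n) R)
      (s : Finset (MvPolynomial (Fin n) R)),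
      Function.Surjective ψ ∧
      (∀ r, ψ (C r) = algebraMap (R ⧸ I) A₀ (Ideal.Quotient.mk I r)) ∧
      (∀ l, j l ∈ RingHom.ker ψ) ∧
      (∀ p ∈ RingHom.ker ψ, p - ∑ i, pderiv i p * j i ∈ (RingHom.ker ψ) ^ 2 ⊔ I.map C) ∧
      ((s : Set (MvPolynomial (Fin n) R)) ⊆ (RingHom.ker ψ : Set (MvPolynomial (Fin n) R))) ∧
      RingHom.ker ψ ≤ Ideal.span (s : Set (MvPolynomial (Fin n) R)) ⊔ I.map C := by
  classical
  obtain ⟨n, f, hf, hfg⟩ := Algebra.FinitePresentation.out (R := R ⧸ I) (A := A₀)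
  obtain ⟨h, hh, H⟩ := Groth.Agent.H87.SmoothHens.exists_h_of_formallySmooth f hf
  let π : MvPolynomial (Fin n) R →+* MvPolynomial (Fin n) (R ⧸ I) :=
    MvPolynomial.map (Ideal.Quotient.mk I)
  have hπ : Function.Surjective π := MvPolynomial.map_surjective _ Ideal.Quotient.mk_surjective
  have hkerπ : RingHom.ker π = I.map C := by
    change RingHom.ker (MvPolynomial.map (Ideal.Quotient.mk I)) = _
    rw [MvPolynomial.ker_map, Ideal.mk_ker]
  let ψ : MvPolynomial (Fin n) R →+* A₀ := f.toRingHom.comp π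
  have hψ : ∀ p, ψ p = f (π p) := fun p => rfl
  have hkerψ : ∀ p, p ∈ RingHom.ker ψ ↔ π p ∈ RingHom.ker f.toRingHom := fun p => Iff.rfl
  have hmapker : (RingHom.ker ψ).map π = RingHom.ker f.toRingHom := by
    have : RingHom.ker ψ = (RingHom.ker f.toRingHom).comap π := rfl
    rw [this, Ideal.map_comap_of_surjective π hπ]
  choose j hj using fun l => hπ (h l)
  obtain ⟨sbar, hsbar⟩ := hfg
  let s : Finset (MvPolynomial (Fin n) R) := sbar.image (Function.surjInv hπ)
  have hsπ : π '' (s : Set (MvPolynomial (Fin n) R)) = (sbar : Set _) := by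
    ext y
    simp only [s, Finset.coe_image, Set.mem_image, Finset.mem_coe]
    constructor
    · rintro ⟨x, ⟨z, hz, rfl⟩, rfl⟩
      rwa [Function.surjInv_eq hπ]
    · intro hy
      exact ⟨Function.surjInv hπ y, ⟨y, hy, rfl⟩, Function.surjInv_eq hπ y⟩
  refine ⟨n, ψ, j, s, hf.comp hπ, ?_, ?_, ?_, ?_, ?_⟩
  · intro r
    rw [hψ]
    change f (MvPolynomial.map (Ideal.Quotient.mk I) (C r)) = _
    rw [MvPolynomial.map_C, ← MvPolynomial.algebraMap_eq, AlgHom.commutes]
  · intro l
    rw [hkerψ, hj]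
    exact hh l
  · intro p hp
    have h1 := H (π p) ((hkerψ p).mp hp)
    have h2 : π (p - ∑ i, pderiv i p * j i) = π p - ∑ i, pderiv i (π p) * h i := by
      rw [map_sub, map_sum]
      congr 1
      refine Finset.sum_congr rfl fun i _ => ?_
      rw [map_mul, hj]
      congr 1
      exact (MvPolynomial.pderiv_map (φ := Ideal.Quotient.mk I) (f := p) (i := i)).symm
    rw [← h2, ← hmapker, ← Ideal.map_pow] at h1
    obtain ⟨q, hq, hqπ⟩ := (Ideal.mem_map_iff_of_surjective π hπ).mp h1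
    have h3 : (p - ∑ i, pderiv i p * j i) - q ∈ RingHom.ker π := by
      rw [RingHom.mem_ker, map_sub, hqπ, sub_self]
    rw [hkerπ] at h3
    have h4 : p - ∑ i, pderiv i p * j i = q + ((p - ∑ i, pderiv i p * j i) - q) := by ring
    rw [h4]
    exact Submodule.add_mem_sup hq h3
  · intro x hx
    obtain ⟨y, hy, rfl⟩ := Finset.mem_image.mp (Finset.mem_coe.mp hx)
    change _ ∈ RingHom.ker ψ
    rw [hkerψ, Function.surjInv_eq hπ]
    have : y ∈ Ideal.span (sbar : Set _) := Ideal.subset_span hy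
    rw [hsbar] at this
    exact this
  · intro p hp
    have h1 : π p ∈ (Ideal.span (s : Set (MvPolynomial (Fin n) R))).map π := by
      rw [Ideal.map_span, hsπ, hsbar]
      exact (hkerψ p).mp hp
    obtain ⟨q, hq, hqπ⟩ := (Ideal.mem_map_iff_of_surjective π hπ).mp h1
    have h3 : p - q ∈ RingHom.ker π := by
      rw [RingHom.mem_ker, map_sub, hqπ, sub_self]
    rw [hkerπ] at h3
    have h4 : p = q + (p - q) := by ring
    rw [h4]
    exact Submodule.add_mem_sup hq h3

end Groth.Agent.H87.SmoothQuot
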