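import Groth.Agent.H87.SmoothQuotC
import Groth.Agent.H87.SmoothQuotD
import Groth.Agent.H87.SmoothQuotE
import Groth.Agent.H3.AwayQuot
import Groth.Agent.H11.EtaleProjLift

/-!
# Smooth algebras lift along `R → R ⧸ I` (Stacks 07M8)
-/

set_option autoImplicit false
universe u

namespace Groth.Agent.H87.SmoothQuot

open MvPolynomial

section Phi

variable {R : Type u} [CommRing R] {n : ℕ} {A₀ : Type u} [CommRing A₀]
  (ψ : MvPolynomial (Fin n) R →+* A₀)
  {C' : Type u} [CommRing C'] [Algebra (MvPolynomial (Fin n) R) C']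

theorem exists_phi (hψ : Function.Surjective ψ)
    (hbij : Function.Bijective (algebraMap (MvPolynomial (Fin n) R ⧸ RingHom.ker ψ)
      (C' ⧸ (RingHom.ker ψ).map (algebraMap (MvPolynomial (Fin n) R) C'))))
    (K : Ideal C') (hK : K ≤ (RingHom.ker ψ).map (algebraMap (MvPolynomial (Fin n) R) C')) :
    ∃ φ : C' ⧸ K →+* A₀, Function.Surjective φ ∧
      (∀ p, φ (algebraMap (MvPolynomial (Fin n) R) (C' ⧸ K) p) = ψ p) ∧
      (∀ x, φ x = 0 ↔ x ∈ (RingHom.ker ψ).map (algebraMap (MvPolynomial (Fin n) R) (C' ⧸ K))) := by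
  let e := RingEquiv.ofBijective _ hbij
  let χ : C' →+* MvPolynomial (Fin n) R ⧸ RingHom.ker ψ :=
    e.symm.toRingHom.comp (Ideal.Quotient.mk _)
  have hχ : ∀ p, χ (algebraMap (MvPolynomial (Fin n) R) C' p) = Ideal.Quotient.mk _ p := by
    intro p
    change e.symm (Ideal.Quotient.mk _ (algebraMap (MvPolynomial (Fin n) R) C' p)) = _
    rw [RingEquiv.symm_apply_eq]
    rfl
  have hχ0 : ∀ c, χ c = 0 ↔ c ∈ (RingHom.ker ψ).map (algebraMap (MvPolynomial (Fin n) R) C') := by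
    intro c
    change e.symm (Ideal.Quotient.mk _ c) = 0 ↔ _
    rw [RingEquiv.symm_apply_eq, map_zero, Ideal.Quotient.eq_zero_iff_mem]
  let φC : C' →+* A₀ := (RingHom.kerLift ψ).comp χ
  have hφC : ∀ p, φC (algebraMap (MvPolynomial (Fin n) R) C' p) = ψ p := by
    intro p
    change RingHom.kerLift ψ (χ _) = _
    rw [hχ]
    rfl
  have hφC0 : ∀ c, φC c = 0 ↔ c ∈ (RingHom.ker ψ).map (algebraMap (MvPolynomial (Fin n) R) C') := by
    intro c
    rw [← hχ0]
    change RingHom.kerLift ψ (χ c) = 0 ↔ _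
    constructor
    · intro h
      exact (RingHom.kerLift_injective ψ) (h.trans (map_zero _).symm)
    · intro h
      rw [h, map_zero]
  let φ : C' ⧸ K →+* A₀ := Ideal.Quotient.lift K φC (fun c hc => (hφC0 c).mpr (hK hc))
  have hmap : (RingHom.ker ψ).map (algebraMap (MvPolynomial (Fin n) R) (C' ⧸ K)) =
      ((RingHom.ker ψ).map (algebraMap (MvPolynomial (Fin n) R) C')).map (Ideal.Quotient.mk K) := by
    rw [Ideal.map_map]
    rfl
  refine ⟨φ, ?_, ?_, ?_⟩
  · intro a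
    obtain ⟨p, rfl⟩ := hψ a
    exact ⟨Ideal.Quotient.mk K (algebraMap _ C' p), hφC p⟩
  · intro p
    exact hφC p
  · intro x
    obtain ⟨c, rfl⟩ := Ideal.Quotient.mk_surjective x
    change φC c = 0 ↔ _
    rw [hφC0, hmap]
    constructor
    · intro h
      exact Ideal.mem_map_of_mem _ h
    · intro h
      obtain ⟨c', hc', hcc'⟩ := (Ideal.mem_map_iff_of_surjective _ Ideal.Quotient.mk_surjective).mp h
      have h1 : c' - c ∈ K := Ideal.Quotient.eq.mp hcc'
      have h2 : c = c' - (c' - c) := by ring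
      rw [h2]
      exact Ideal.sub_mem _ hc' (hK h1)

end Phi

section Sq

variable {R : Type u} [CommRing R] {n : ℕ}
  {C' : Type u} [CommRing C'] [Algebra (MvPolynomial (Fin n) R) C'] [Algebra R C']
  [IsScalarTower R (MvPolynomial (Fin n) R) C']

theorem map_le_sq_sup (I : Ideal R) (J₀ : Ideal (MvPolynomial (Fin n) R))
    (j : Fin n → MvPolynomial (Fin n) R) (hj : ∀ l, j l ∈ J₀)
    (Hstar : ∀ p ∈ J₀, p - ∑ i, pderiv i p * j i ∈ J₀ ^ 2 ⊔ I.map C)
    (E : Matrix (Fin n) (Fin n) C')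
    (hEG : ∀ i l, E i l - algebraMap (MvPolynomial (Fin n) R) C' (pderiv i (j l)) ∈
      J₀.map (algebraMap (MvPolynomial (Fin n) R) C'))
    (K : Ideal C') (hK : K = Ideal.span (Set.range
      (Matrix.vecMul (fun m => algebraMap (MvPolynomial (Fin n) R) C' (j m)) E))) :
    J₀.map (algebraMap (MvPolynomial (Fin n) R) (C' ⧸ K)) ≤
      (J₀.map (algebraMap (MvPolynomial (Fin n) R) (C' ⧸ K))) ^ 2 ⊔
        I.map (algebraMap R (C' ⧸ K)) := by
  obtain ⟨JA, hJA⟩ : ∃ JA : Ideal (C' ⧸ K),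
    JA = J₀.map (algebraMap (MvPolynomial (Fin n) R) (C' ⧸ K)) := ⟨_, rfl⟩
  obtain ⟨IA, hIA⟩ : ∃ IA : Ideal (C' ⧸ K), IA = I.map (algebraMap R (C' ⧸ K)) := ⟨_, rfl⟩
  rw [← hJA, ← hIA]
  have hmapsup : ∀ q ∈ J₀ ^ 2 ⊔ I.map C,
      algebraMap (MvPolynomial (Fin n) R) (C' ⧸ K) q ∈ JA ^ 2 ⊔ IA := by
    intro q hq
    have h1 : (J₀ ^ 2 ⊔ I.map C).map (algebraMap (MvPolynomial (Fin n) R) (C' ⧸ K)) =
        JA ^ 2 ⊔ IA := by
      rw [Ideal.map_sup, Ideal.map_pow, Ideal.map_map, hJA, hIA]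
      congr 2
      rw [IsScalarTower.algebraMap_eq R (MvPolynomial (Fin n) R) (C' ⧸ K)]
      rfl
    rw [← h1]
    exact Ideal.mem_map_of_mem _ hq
  have hk0 : ∀ l, Ideal.Quotient.mk K
      (∑ m, algebraMap (MvPolynomial (Fin n) R) C' (j m) * E m l) = 0 := by
    intro l
    rw [Ideal.Quotient.eq_zero_iff_mem, hK]
    exact Ideal.subset_span ⟨l, rfl⟩
  have hEJA : ∀ m l, algebraMap (MvPolynomial (Fin n) R) (C' ⧸ K) (pderiv m (j l)) -
      Ideal.Quotient.mk K (E m l) ∈ JA := by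
    intro m l
    have h1 : algebraMap (MvPolynomial (Fin n) R) (C' ⧸ K) (pderiv m (j l)) -
        Ideal.Quotient.mk K (E m l) =
        Ideal.Quotient.mk K (algebraMap (MvPolynomial (Fin n) R) C' (pderiv m (j l)) - E m l) := by
      rw [map_sub]
      rfl
    rw [h1]
    have h2 : JA = (J₀.map (algebraMap (MvPolynomial (Fin n) R) C')).map
        (Ideal.Quotient.mk K) := by
      rw [Ideal.map_map, hJA]
      rfl
    rw [h2]
    apply Ideal.mem_map_of_mem
    rw [← neg_sub, neg_mem_iff]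
    exact hEG m l
  have hjA : ∀ l, algebraMap (MvPolynomial (Fin n) R) (C' ⧸ K) (j l) ∈ JA ^ 2 ⊔ IA := by
    intro l
    have h0 : ∑ m, algebraMap (MvPolynomial (Fin n) R) (C' ⧸ K) (j m) *
        Ideal.Quotient.mk K (E m l) = 0 := by
      have h0' := hk0 l
      rw [map_sum] at h0'
      simp only [map_mul] at h0'
      exact h0'
    have h1 : algebraMap (MvPolynomial (Fin n) R) (C' ⧸ K) (j l) =
        algebraMap (MvPolynomial (Fin n) R) (C' ⧸ K) (j l - ∑ m, pderiv m (j l) * j m) +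
        ∑ m, algebraMap (MvPolynomial (Fin n) R) (C' ⧸ K) (j m) *
          (algebraMap (MvPolynomial (Fin n) R) (C' ⧸ K) (pderiv m (j l)) -
            Ideal.Quotient.mk K (E m l)) := by
      rw [map_sub, map_sum]
      simp only [map_mul, mul_sub, Finset.sum_sub_distrib]
      rw [h0, sub_zero]
      have h3 : ∑ m, algebraMap (MvPolynomial (Fin n) R) (C' ⧸ K) (pderiv m (j l)) *
          algebraMap (MvPolynomial (Fin n) R) (C' ⧸ K) (j m) =
          ∑ m, algebraMap (MvPolynomial (Fin n) R) (C' ⧸ K) (j m) *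
          algebraMap (MvPolynomial (Fin n) R) (C' ⧸ K) (pderiv m (j l)) :=
        Finset.sum_congr rfl fun m _ => mul_comm _ _
      rw [h3]
      ring
    rw [h1]
    refine Ideal.add_mem _ (hmapsup _ (Hstar _ (hj l))) (Ideal.sum_mem _ fun m _ => ?_)
    apply Ideal.mem_sup_left
    rw [pow_two]
    refine Ideal.mul_mem_mul ?_ (hEJA m l)
    rw [hJA]
    exact Ideal.mem_map_of_mem _ (hj m)
  rw [hJA, Ideal.map_le_iff_le_comap]
  intro p hp
  rw [Ideal.mem_comap]
  have h1 : algebraMap (MvPolynomial (Fin n) R) (C' ⧸ K) p =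
      algebraMap (MvPolynomial (Fin n) R) (C' ⧸ K) (p - ∑ i, pderiv i p * j i) +
      ∑ i, algebraMap (MvPolynomial (Fin n) R) (C' ⧸ K) (pderiv i p) *
        algebraMap (MvPolynomial (Fin n) R) (C' ⧸ K) (j i) := by
    rw [map_sub, map_sum]
    simp only [map_mul]
    ring
  rw [h1, ← hJA]
  exact Ideal.add_mem _ (hmapsup _ (Hstar p hp))
    (Ideal.sum_mem _ fun i _ => Ideal.mul_mem_left _ _ (hjA i))

end Sq

section Main

variable {R : Type u} [CommRing R] (I : Ideal R) {A₀ : Type u} [CommRing A₀] [Algebra (R ⧸ I) A₀]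

theorem exists_smooth_lift_aux {n : ℕ} (ψ : MvPolynomial (Fin n) R →+* A₀)
    (hψ : Function.Surjective ψ)
    (hψC : ∀ r, ψ (C r) = algebraMap (R ⧸ I) A₀ (Ideal.Quotient.mk I r))
    (j : Fin n → MvPolynomial (Fin n) R) (hj : ∀ l, j l ∈ RingHom.ker ψ)
    (Hstar : ∀ p ∈ RingHom.ker ψ, p - ∑ i, pderiv i p * j i ∈ (RingHom.ker ψ) ^ 2 ⊔ I.map C)
    (s : Finset (MvPolynomial (Fin n) R))
    (hsker : (s : Set (MvPolynomial (Fin n) R)) ⊆
      (RingHom.ker ψ : Set (MvPolynomial (Fin n) R)))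
    (hsgen : RingHom.ker ψ ≤ Ideal.span (s : Set (MvPolynomial (Fin n) R)) ⊔ I.map C)
    (C' : Type u) [CommRing C'] [Algebra (MvPolynomial (Fin n) R) C'] [Algebra R C']
    [IsScalarTower R (MvPolynomial (Fin n) R) C'] [Algebra.Etale (MvPolynomial (Fin n) R) C']
    (hbij : Function.Bijective (algebraMap (MvPolynomial (Fin n) R ⧸ RingHom.ker ψ)
      (C' ⧸ (RingHom.ker ψ).map (algebraMap (MvPolynomial (Fin n) R) C'))))
    (E : Matrix (Fin n) (Fin n) C') (hE : E * E = E)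
    (hEG : ∀ i l, E i l - algebraMap (MvPolynomial (Fin n) R) C' (pderiv i (j l)) ∈
      (RingHom.ker ψ).map (algebraMap (MvPolynomial (Fin n) R) C')) :
    ∃ (A : Type u) (_ : CommRing A) (_ : Algebra R A), Algebra.Smooth R A ∧
      Nonempty ((A ⧸ I.map (algebraMap R A)) ≃ₐ[R ⧸ I] A₀) := by
  classical
  obtain ⟨K, hK⟩ : ∃ K : Ideal C', K = Ideal.span (Set.range
      (Matrix.vecMul (fun m => algebraMap (MvPolynomial (Fin n) R) C' (j m)) E)) := ⟨_, rfl⟩
  have hKJ : K ≤ (RingHom.ker ψ).map (algebraMap (MvPolynomial (Fin n) R) C') := by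
    rw [hK, Ideal.span_le]
    rintro _ ⟨l, rfl⟩
    change ∑ m, algebraMap (MvPolynomial (Fin n) R) C' (j m) * E m l ∈ _
    exact Ideal.sum_mem _ fun m _ => Ideal.mul_mem_right _ _ (Ideal.mem_map_of_mem _ (hj m))
  have hKfg : K.FG := by
    rw [hK]
    exact Submodule.fg_span (Set.finite_range _)
  have hfpC : Algebra.FinitePresentation R C' :=
    Algebra.FinitePresentation.trans R (MvPolynomial (Fin n) R) C'
  have hfpA : Algebra.FinitePresentation R (C' ⧸ K) := Algebra.FinitePresentation.quotient hKfg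
  obtain ⟨φ, hφsurj, hφP, hφ0⟩ := exists_phi ψ hψ hbij K hKJ
  -- the smooth locus contains `V(J)`
  have hzl : PrimeSpectrum.zeroLocus
      (((RingHom.ker ψ).map (algebraMap (MvPolynomial (Fin n) R) (C' ⧸ K)) : Ideal (C' ⧸ K)) :
        Set (C' ⧸ K)) ⊆ Algebra.smoothLocus R (C' ⧸ K) := by
    intro 𝔭 h𝔭
    exact isSmoothAt_quotient_of_jacobian (RingHom.ker ψ) j hj E hE hEG K hK 𝔭.asIdeal h𝔭
  obtain ⟨g₂, hg₂, hg₂U⟩ := Groth.Agent.H3.AwayQuot.exists_basicOpen_subset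
    ((RingHom.ker ψ).map (algebraMap (MvPolynomial (Fin n) R) (C' ⧸ K)))
    (Algebra.smoothLocus R (C' ⧸ K)) Algebra.isOpen_smoothLocus hzl
  -- Nakayama
  have hs1 : ((s.image (algebraMap (MvPolynomial (Fin n) R) (C' ⧸ K)) : Finset (C' ⧸ K)) :
      Set (C' ⧸ K)) ⊆ (RingHom.ker ψ).map (algebraMap (MvPolynomial (Fin n) R) (C' ⧸ K)) := by
    intro x hx
    obtain ⟨y, hy, rfl⟩ := Finset.mem_image.mp (Finset.mem_coe.mp hx)
    exact Ideal.mem_map_of_mem _ (hsker hy)
  have hs2 : (RingHom.ker ψ).map (algebraMap (MvPolynomial (Fin n) R) (C' ⧸ K)) ≤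
      Ideal.span ((s.image (algebraMap (MvPolynomial (Fin n) R) (C' ⧸ K)) : Finset (C' ⧸ K)) :
        Set (C' ⧸ K)) ⊔ I.map (algebraMap R (C' ⧸ K)) := by
    refine (Ideal.map_mono hsgen).trans (le_of_eq ?_)
    rw [Ideal.map_sup, Ideal.map_span, Ideal.map_map, Finset.coe_image]
    congr 2
    rw [IsScalarTower.algebraMap_eq R (MvPolynomial (Fin n) R) (C' ⧸ K)]
    rfl
  obtain ⟨g₁, hg₁, hg₁J⟩ := exists_mul_mem_of_le_sq_sup
    ((RingHom.ker ψ).map (algebraMap (MvPolynomial (Fin n) R) (C' ⧸ K)))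
    (I.map (algebraMap R (C' ⧸ K))) _ hs1 hs2
    (map_le_sq_sup I (RingHom.ker ψ) j hj Hstar E hEG K hK)
  -- the localization
  have hsm : Algebra.Smooth R (Localization.Away (g₁ * g₂)) := by
    rw [← Algebra.basicOpen_subset_smoothLocus_iff_smooth]
    refine subset_trans ?_ hg₂U
    rw [PrimeSpectrum.basicOpen_mul]
    exact Set.inter_subset_right
  refine ⟨Localization.Away (g₁ * g₂), inferInstance, inferInstance, hsm, ?_⟩
  have hφR : ∀ r, φ (algebraMap R (C' ⧸ K) r) = algebraMap (R ⧸ I) A₀ (Ideal.Quotient.mk I r) := by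
    intro r
    rw [IsScalarTower.algebraMap_apply R (MvPolynomial (Fin n) R) (C' ⧸ K), hφP,
      MvPolynomial.algebraMap_eq, hψC]
  have hg : φ (g₁ * g₂) = 1 := by
    have h1 : g₁ * g₂ - 1 ∈ (RingHom.ker ψ).map (algebraMap (MvPolynomial (Fin n) R) (C' ⧸ K)) := by
      have h2 : g₁ * g₂ - 1 = g₁ * (g₂ - 1) + (g₁ - 1) := by ring
      rw [h2]
      exact Ideal.add_mem _ (Ideal.mul_mem_left _ _ hg₂) hg₁
    have h3 := (hφ0 _).mpr h1
    rw [map_sub, map_one, sub_eq_zero] at h3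
    exact h3
  exact exists_algEquiv_away I φ hφsurj hφR (g₁ * g₂) g₁ hg (Dvd.intro _ rfl)
    (fun x hx => hg₁J x ((hφ0 x).mp hx)) (Localization.Away (g₁ * g₂))

/-- **Stacks 07M8**: smooth algebras lift along `R → R ⧸ I`. -/
theorem exists_smooth_lift [Algebra.Smooth (R ⧸ I) A₀] :
    ∃ (A : Type u) (_ : CommRing A) (_ : Algebra R A), Algebra.Smooth R A ∧
      Nonempty ((A ⧸ I.map (algebraMap R A)) ≃ₐ[R ⧸ I] A₀) := by
  classical
  obtain ⟨n, ψ, j, s, hψ, hψC, hj, Hstar, hsker, hsgen⟩ := exists_presentation_data I (A₀ := A₀)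
  have hIJ : I.map C ≤ RingHom.ker ψ := by
    rw [Ideal.map_le_iff_le_comap]
    intro r hr
    rw [Ideal.mem_comap, RingHom.mem_ker, hψC, Ideal.Quotient.eq_zero_iff_mem.mpr hr, map_zero]
  have hpd : ∀ m, ∀ b ∈ I.map (C : R →+* MvPolynomial (Fin n) R), pderiv m b ∈ I.map C := by
    intro m b hb
    have hker : RingHom.ker (MvPolynomial.map (Ideal.Quotient.mk I) :
        MvPolynomial (Fin n) R →+* MvPolynomial (Fin n) (R ⧸ I)) = I.map C := by
      rw [MvPolynomial.ker_map, Ideal.mk_ker]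
    rw [← hker, RingHom.mem_ker] at hb ⊢
    rw [← MvPolynomial.pderiv_map, hb, map_zero]
  let ebar : Matrix (Fin n) (Fin n) (MvPolynomial (Fin n) R ⧸ RingHom.ker ψ) :=
    fun i l => Ideal.Quotient.mk _ (pderiv i (j l))
  have hebar : ebar * ebar = ebar := by
    ext m l
    rw [Matrix.mul_apply]
    have h1 := Hstar (j l) (hj l)
    obtain ⟨a, ha, b, hb, hab⟩ := Submodule.mem_sup.mp h1
    have h2 : pderiv m (j l - ∑ i, pderiv i (j l) * j i) ∈ RingHom.ker ψ := by
      rw [← hab, map_add]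
      exact Ideal.add_mem _ (Groth.Agent.H87.SmoothHens.pderiv_mem_of_mem_sq _ ha m)
        (hIJ (hpd m b hb))
    rw [map_sub, map_sum] at h2
    simp only [Derivation.leibniz, smul_eq_mul] at h2
    have h3 := Ideal.Quotient.eq_zero_iff_mem.mpr h2
    rw [map_sub, map_sum, sub_eq_zero] at h3
    simp only [map_add, map_mul, Ideal.Quotient.eq_zero_iff_mem.mpr (hj _), zero_mul,
      add_zero] at h3
    change _ = Ideal.Quotient.mk _ (pderiv m (j l))
    rw [h3]
    exact Finset.sum_congr rfl fun i _ => mul_comm _ _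
  obtain ⟨C', _, _, hC'et, hbij, E, hE, hEmap⟩ :=
    Groth.Agent.H11.EtaleProjLift.exists_etale_lift_idem_matrix (RingHom.ker ψ) n ebar hebar
  let _ : Algebra R C' :=
    ((algebraMap (MvPolynomial (Fin n) R) C').comp (algebraMap R (MvPolynomial (Fin n) R))).toAlgebra
  have : IsScalarTower R (MvPolynomial (Fin n) R) C' :=
    IsScalarTower.of_algebraMap_eq fun _ => rfl
  refine exists_smooth_lift_aux I ψ hψ hψC j hj Hstar s hsker hsgen C' hbij E hE ?_
  intro i l
  have h4 := congrFun (congrFun hEmap i) l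
  simp only [Matrix.map_apply] at h4
  exact Ideal.Quotient.eq.mp h4

end Main

end Groth.Agent.H87.SmoothQuot
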