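import Groth.Agent.H87.SmoothHens

/-!
# Lifting maps from smooth algebras into henselian pairs
-/

set_option autoImplicit false
universe u

namespace Groth.Agent.H87.SmoothHens

open TensorProduct

/-- If `(B, J)` is a henselian pair over `A` and `R` is a smooth `A`-algebra, every `A`-algebra map
`R → B ⧸ J` lifts to `R → B`. -/
theorem exists_lift_of_smooth_of_henselian {A : Type u} [CommRing A] (B : Type u) [CommRing B]
    [Algebra A B] {J : Ideal B} (hens : HenselianRing B J) (R : Type u) [CommRing R] [Algebra A R]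
    [Algebra.Smooth A R] (σ₀ : R →ₐ[A] B ⧸ J) :
    ∃ φ : R →ₐ[A] B, ∀ r, Ideal.Quotient.mk J (φ r) = σ₀ r := by
  let σ' : B ⊗[A] R →ₐ[B] B ⧸ J :=
    Algebra.TensorProduct.lift (Algebra.ofId B (B ⧸ J)) σ₀ (fun _ _ => Commute.all _ _)
  obtain ⟨τ, hτ⟩ := exists_lift_of_smooth hens (B ⊗[A] R) σ'
  refine ⟨(τ.restrictScalars A).comp Algebra.TensorProduct.includeRight, fun r => ?_⟩
  have h1 := congrArg (fun g : B ⊗[A] R →ₐ[B] B ⧸ J => g ((1 : B) ⊗ₜ[A] r)) hτ
  simp only [AlgHom.comp_apply, Ideal.Quotient.mkₐ_eq_mk] at h1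
  change Ideal.Quotient.mk J (τ ((1 : B) ⊗ₜ[A] r)) = _
  rw [h1]
  simp only [σ', Algebra.TensorProduct.lift_tmul, map_one, one_mul]

end Groth.Agent.H87.SmoothHens
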