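import Mathlib

/-!
# Projectivity from projectivity modulo two ideals with zero intersection

Elementary dévissage: if `I ⊓ J = ⊥`, `P/IP` is projective over `R/I` and `P/JP` is projective
over `R/J`, then `P` is projective over `R`.
-/

set_option autoImplicit false
universe u
open scoped TensorProduct

namespace Groth.Agent.H87.ProjGlue

variable {R : Type u} [CommRing R]

/-- The "`Tor₁(P, R/I) = 0`" condition from flatness of `P/JP` over `R/J`, when `I ⊓ J = ⊥`. -/
theorem tor_cond (I J : Ideal R) (hIJ : I ⊓ J = ⊥) {E P : Type u} [AddCommGroup E] [Module R E]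
    [AddCommGroup P] [Module R P] (π : E →ₗ[R] P) (hπ : Function.Surjective π)
    [hflat : Module.Flat (R ⧸ J) (P ⧸ (J • ⊤ : Submodule R P))] :
    LinearMap.ker π ⊓ (I • ⊤ : Submodule R E) ≤ I • LinearMap.ker π := by
  classical
  rintro z ⟨hzK, hzI⟩
  have hIJ0 : ∀ i ∈ I, ∀ w ∈ (J • ⊤ : Submodule R E), i • w = 0 := by
    intro i hi w hw
    refine Submodule.smul_induction_on hw ?_ ?_
    · intro j hj e _
      have : i * j = 0 := by
        have : i * j ∈ I ⊓ J := ⟨I.mul_mem_right _ hi, J.mul_mem_left _ hj⟩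
        rw [hIJ] at this; exact this
      rw [smul_smul, this, zero_smul]
    · intro x y hx hy; rw [smul_add, hx, hy, add_zero]
  have hz' : z ∈ I • Submodule.span R (Set.range (id : E → E)) := by
    simpa using hzI
  obtain ⟨a, haI, hsum⟩ := (Submodule.mem_ideal_smul_span_iff_exists_sum I (id : E → E) z).1 hz'
  -- the relation in `P/JP`
  let ι := a.support
  let f : ι → R ⧸ J := fun k => Ideal.Quotient.mk J (a k.1)
  let x : ι → P ⧸ (J • ⊤ : Submodule R P) := fun k => Submodule.Quotient.mk (π k.1)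
  have hrel : ∑ k, f k • x k = 0 := by
    have h1 : ∑ k : ι, f k • x k
        = Submodule.Quotient.mk (p := (J • ⊤ : Submodule R P)) (π (∑ k : ι, a k.1 • k.1)) := by
      rw [map_sum, ← Submodule.mkQ_apply, map_sum]
      refine Finset.sum_congr rfl fun k _ => ?_
      simp only [f, x, map_smul, Submodule.mkQ_apply]
      rfl
    rw [h1]
    have h2 : ∑ k : ι, a k.1 • k.1 = z := by
      rw [← hsum, Finsupp.sum]
      exact Finset.sum_coe_sort a.support (fun k => a k • k)
    rw [h2, LinearMap.mem_ker.1 hzK]; rfl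
  obtain ⟨n, b, y, hxy, hfb⟩ := Module.Flat.isTrivialRelation_of_sum_smul_eq_zero hrel
  choose r hr using fun k j => Ideal.Quotient.mk_surjective (I := J) (b k j)
  have hy : ∀ j, ∃ e : E, Submodule.Quotient.mk (p := (J • ⊤ : Submodule R P)) (π e) = y j := by
    intro j
    obtain ⟨p, hp⟩ := Submodule.Quotient.mk_surjective _ (y j)
    obtain ⟨e, rfl⟩ := hπ p
    exact ⟨e, hp⟩
  choose e' he' using hy
  -- `k - Σ r k j e'_j ∈ K + J E`
  have hk : ∀ k : ι, ∃ w ∈ (J • ⊤ : Submodule R E),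
      (k.1 - ∑ j, r k j • e' j) - w ∈ LinearMap.ker π := by
    intro k
    have h0 : Submodule.Quotient.mk (p := (J • ⊤ : Submodule R P))
        (π (k.1 - ∑ j, r k j • e' j)) = 0 := by
      rw [map_sub, Submodule.Quotient.mk_sub, sub_eq_zero]
      change x k = _
      rw [hxy k, map_sum, ← Submodule.mkQ_apply, map_sum]
      refine Finset.sum_congr rfl fun j _ => ?_
      rw [map_smul, map_smul, Submodule.mkQ_apply, he' j, ← hr k j]
      rfl
    rw [Submodule.Quotient.mk_eq_zero] at h0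
    have hmap : (J • ⊤ : Submodule R P) = Submodule.map π (J • ⊤ : Submodule R E) := by
      rw [Submodule.map_smul'', Submodule.map_top, LinearMap.range_eq_top.2 hπ]
    rw [hmap] at h0
    obtain ⟨w, hw, hwe⟩ := h0
    exact ⟨w, hw, by rw [LinearMap.mem_ker, map_sub, hwe, sub_self]⟩
  choose w hwJ hwK using hk
  have hcoef : ∀ j, ∑ k : ι, a k.1 * r k j = 0 := by
    intro j
    have h1 : ∑ k : ι, a k.1 * r k j ∈ I :=
      Submodule.sum_mem _ fun k _ => I.mul_mem_right _ (haI k.1)
    have h2 : ∑ k : ι, a k.1 * r k j ∈ J := by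
      rw [← Ideal.Quotient.eq_zero_iff_mem, map_sum, ← hfb j]
      refine Finset.sum_congr rfl fun k _ => ?_
      rw [map_mul, hr k j]
    have : ∑ k : ι, a k.1 * r k j ∈ I ⊓ J := ⟨h1, h2⟩
    rw [hIJ] at this; exact this
  have hzsum : z = ∑ k : ι, a k.1 • ((k.1 - ∑ j, r k j • e' j) - w k) := by
    have h2 : ∑ k : ι, a k.1 • k.1 = z := by
      rw [← hsum, Finsupp.sum]
      exact Finset.sum_coe_sort a.support (fun k => a k • k)
    have h3 : ∑ k : ι, a k.1 • ∑ j, r k j • e' j = 0 := by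
      simp_rw [Finset.smul_sum, smul_smul]
      rw [Finset.sum_comm]
      refine Finset.sum_eq_zero fun j _ => ?_
      rw [← Finset.sum_smul, hcoef j, zero_smul]
    simp_rw [smul_sub, Finset.sum_sub_distrib]
    rw [h2, h3, sub_zero]
    have h4 : ∑ k : ι, a k.1 • w k = 0 :=
      Finset.sum_eq_zero fun k _ => hIJ0 _ (haI k.1) _ (hwJ k)
    rw [h4, sub_zero]
  rw [hzsum]
  exact Submodule.sum_mem _ fun k _ => Submodule.smul_mem_smul (haI k.1) (hwK k)

/-- Partial splitting modulo `I • K`. -/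
theorem exists_sub (I : Ideal R) {E P : Type u} [AddCommGroup E] [Module R E]
    [AddCommGroup P] [Module R P] (π : E →ₗ[R] P) (hπ : Function.Surjective π)
    [hproj : Module.Projective (R ⧸ I) (P ⧸ (I • ⊤ : Submodule R P))]
    (htor : LinearMap.ker π ⊓ (I • ⊤ : Submodule R E) ≤ I • LinearMap.ker π) :
    ∃ E' : Submodule R E, (∀ p, ∃ e ∈ E', π e = p) ∧
      E' ⊓ LinearMap.ker π ≤ I • LinearMap.ker π := by
  have hmap : (I • ⊤ : Submodule R P) = Submodule.map π (I • ⊤ : Submodule R E) := by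
    rw [Submodule.map_smul'', Submodule.map_top, LinearMap.range_eq_top.2 hπ]
  have hle : (I • ⊤ : Submodule R E) ≤ (I • ⊤ : Submodule R P).comap π := by
    rw [← Submodule.map_le_iff_le_comap, hmap]
  let πbar₀ : (E ⧸ (I • ⊤ : Submodule R E)) →ₗ[R] (P ⧸ (I • ⊤ : Submodule R P)) :=
    Submodule.mapQ _ _ π hle
  let πbar : (E ⧸ (I • ⊤ : Submodule R E)) →ₗ[R ⧸ I] (P ⧸ (I • ⊤ : Submodule R P)) :=
    πbar₀.extendScalarsOfSurjective Ideal.Quotient.mk_surjective
  have hπbar : ∀ e : E, πbar (Submodule.Quotient.mk e) = Submodule.Quotient.mk (π e) :=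
    fun e => rfl
  have hsurj : Function.Surjective πbar := by
    intro q
    obtain ⟨p, rfl⟩ := Submodule.Quotient.mk_surjective _ q
    obtain ⟨e, rfl⟩ := hπ p
    exact ⟨Submodule.Quotient.mk e, rfl⟩
  obtain ⟨σ, hσ⟩ := Module.projective_lifting_property πbar LinearMap.id hsurj
  have hσ' : ∀ q, πbar (σ q) = q := fun q => LinearMap.congr_fun hσ q
  let σR : (P ⧸ (I • ⊤ : Submodule R P)) →ₗ[R] (E ⧸ (I • ⊤ : Submodule R E)) :=
    σ.restrictScalars R
  let E' : Submodule R E :=
    LinearMap.ker ((Submodule.mkQ (I • ⊤ : Submodule R E)) -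
      σR ∘ₗ (Submodule.mkQ (I • ⊤ : Submodule R P)) ∘ₗ π)
  have hE' : ∀ e : E, e ∈ E' ↔
      (Submodule.Quotient.mk e : E ⧸ (I • ⊤ : Submodule R E)) =
        σ (Submodule.Quotient.mk (π e)) := by
    intro e
    simp only [E', LinearMap.mem_ker, LinearMap.sub_apply, LinearMap.comp_apply,
      Submodule.mkQ_apply, sub_eq_zero]
    rfl
  refine ⟨E', ?_, ?_⟩
  · intro p
    obtain ⟨e, rfl⟩ := hπ p
    obtain ⟨e₁, he₁⟩ := Submodule.Quotient.mk_surjective _ (σ (Submodule.Quotient.mk (π e)))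
    have h1 : (Submodule.Quotient.mk (π e₁) : P ⧸ (I • ⊤ : Submodule R P)) =
        Submodule.Quotient.mk (π e) := by
      rw [← hπbar, he₁, hσ']
    have h2 : π (e - e₁) ∈ (I • ⊤ : Submodule R P) := by
      rw [map_sub, ← Submodule.Quotient.mk_eq_zero, Submodule.Quotient.mk_sub, h1, sub_self]
    rw [hmap] at h2
    obtain ⟨w, hw, hwe⟩ := h2
    refine ⟨e₁ + w, ?_, ?_⟩
    · rw [hE']
      have h3 : π (e₁ + w) = π e := by rw [map_add, hwe, map_sub]; abel
      rw [h3, ← he₁, Submodule.Quotient.mk_add, (Submodule.Quotient.mk_eq_zero _).2 hw, add_zero]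
    · rw [map_add, hwe, map_sub]; abel
  · rintro e ⟨he, heK⟩
    rw [SetLike.mem_coe, hE', LinearMap.mem_ker.1 heK, Submodule.Quotient.mk_zero, map_zero,
      Submodule.Quotient.mk_eq_zero] at he
    exact htor ⟨heK, he⟩

/-- Full splitting when `I • K = 0`. -/
theorem exists_section (I : Ideal R) {E P : Type u} [AddCommGroup E] [Module R E]
    [AddCommGroup P] [Module R P] (π : E →ₗ[R] P) (hπ : Function.Surjective π)
    [hproj : Module.Projective (R ⧸ I) (P ⧸ (I • ⊤ : Submodule R P))]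
    (htor : LinearMap.ker π ⊓ (I • ⊤ : Submodule R E) ≤ I • LinearMap.ker π)
    (hIK : I • LinearMap.ker π = ⊥) :
    ∃ s : P →ₗ[R] E, π ∘ₗ s = LinearMap.id := by
  obtain ⟨E'', hE''surj, hE''K⟩ := exists_sub I π hπ htor
  have huniq : ∀ e₁ ∈ E'', ∀ e₂ ∈ E'', π e₁ = π e₂ → e₁ = e₂ := by
    intro e₁ h₁ e₂ h₂ h
    have : e₁ - e₂ ∈ E'' ⊓ LinearMap.ker π :=
      Submodule.mem_inf.2 ⟨E''.sub_mem h₁ h₂, by
        rw [LinearMap.mem_ker, map_sub, h, sub_self]⟩
    have := hE''K this
    rw [hIK, Submodule.mem_bot, sub_eq_zero] at this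
    exact this
  choose s hsE hs using hE''surj
  refine ⟨{ toFun := s, map_add' := ?_, map_smul' := ?_ }, ?_⟩
  · intro p q
    exact huniq _ (hsE (p + q)) _ (E''.add_mem (hsE p) (hsE q))
      (by rw [map_add, hs, hs, hs])
  · intro r p
    exact huniq _ (hsE (r • p)) _ (E''.smul_mem r (hsE p)) (by rw [map_smul, hs, hs]; rfl)
  · ext p : 1
    exact hs p

/-- Main theorem, in terms of the quotients `P/IP` and `P/JP`. -/
theorem projective_of_quot (I J : Ideal R) (hIJ : I ⊓ J = ⊥) (P : Type u) [AddCommGroup P]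
    [Module R P]
    [Module.Projective (R ⧸ I) (P ⧸ (I • ⊤ : Submodule R P))]
    [Module.Projective (R ⧸ J) (P ⧸ (J • ⊤ : Submodule R P))] : Module.Projective R P := by
  refine Module.Projective.of_lifting_property'' fun π hπ => ?_
  have htorJ : LinearMap.ker π ⊓ (J • ⊤ : Submodule R _) ≤ J • LinearMap.ker π :=
    tor_cond J I (by rwa [inf_comm]) π hπ
  obtain ⟨E', hE'surj, hE'K⟩ := exists_sub J π hπ htorJ
  let π' : E' →ₗ[R] P := π ∘ₗ E'.subtype
  have hπ' : Function.Surjective π' := fun p => by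
    obtain ⟨e, he, rfl⟩ := hE'surj p
    exact ⟨⟨e, he⟩, rfl⟩
  have htorI : LinearMap.ker π' ⊓ (I • ⊤ : Submodule R E') ≤ I • LinearMap.ker π' :=
    tor_cond I J hIJ (E := E') (P := P) π' hπ'
  have hIK : I • LinearMap.ker π' = ⊥ := by
    rw [eq_bot_iff]
    refine Submodule.smul_le.2 fun i hi e he => ?_
    have h1 : (e : P →₀ R) ∈ J • LinearMap.ker π := hE'K ⟨e.2, he⟩
    have h2 : i • (e : P →₀ R) = 0 := by
      refine Submodule.smul_induction_on h1 ?_ ?_
      · intro j hj x _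
        have : i * j = 0 := by
          have : i * j ∈ I ⊓ J := ⟨I.mul_mem_right _ hi, J.mul_mem_left _ hj⟩
          rw [hIJ] at this; exact this
        rw [smul_smul, this, zero_smul]
      · intro x y hx hy; rw [smul_add, hx, hy, add_zero]
    rw [Submodule.mem_bot]
    exact Subtype.ext h2
  obtain ⟨s, hs⟩ := exists_section I (E := E') (P := P) π' hπ' htorI hIK
  refine ⟨E'.subtype ∘ₗ s, ?_⟩
  rw [← LinearMap.comp_assoc]
  exact hs

/-- Main theorem, tensor product form. -/
theorem projective_of_tensor (I J : Ideal R) (hIJ : I ⊓ J = ⊥) (P : Type u) [AddCommGroup P]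
    [Module R P] (hI : Module.Projective (R ⧸ I) ((R ⧸ I) ⊗[R] P))
    (hJ : Module.Projective (R ⧸ J) ((R ⧸ J) ⊗[R] P)) : Module.Projective R P := by
  have : Module.Projective (R ⧸ I) (P ⧸ (I • ⊤ : Submodule R P)) :=
    Module.Projective.of_equiv
      ((TensorProduct.quotTensorEquivQuotSMul P I).extendScalarsOfSurjective
        Ideal.Quotient.mk_surjective)
  have : Module.Projective (R ⧸ J) (P ⧸ (J • ⊤ : Submodule R P)) :=
    Module.Projective.of_equiv
      ((TensorProduct.quotTensorEquivQuotSMul P J).extendScalarsOfSurjective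
        Ideal.Quotient.mk_surjective)
  exact projective_of_quot I J hIJ P

end Groth.Agent.H87.ProjGlue
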