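import Mathlib

/-!
# Rings in which every monic polynomial has a root

`HasRoots D`: every monic polynomial of positive degree over `D` has a root in `D`.

* `HasRoots.exists_multiset`: monic polynomials split into linear factors.
* `HasRoots.isAlgClosed_of_isFractionRing`: the fraction field of a domain with `HasRoots` is
  algebraically closed.
* `HasRoots.quotient`: `HasRoots` passes to quotients.
* `hasRoots_integralClosure_pi`: the integral closure of `A` in a product of algebraically closed
  fields has `HasRoots`.
-/

set_option autoImplicit false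
universe u v

open Polynomial

namespace Groth.Agent.H87.AIC

/-- Every monic polynomial of positive degree has a root. -/
def HasRoots (D : Type*) [CommRing D] : Prop :=
  ∀ p : D[X], p.Monic → p.natDegree ≠ 0 → ∃ x : D, p.eval x = 0

namespace HasRoots

variable {D : Type*} [CommRing D]

/-- Monic polynomials split into linear factors. -/
theorem exists_multiset (h : HasRoots D) :
    ∀ (n : ℕ) (p : D[X]), p.Monic → p.natDegree = n →
      ∃ s : Multiset D, p = (s.map fun a => X - C a).prod := by
  intro n
  induction n with
  | zero =>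
    intro p hp hn
    refine ⟨0, ?_⟩
    rw [Multiset.map_zero, Multiset.prod_zero]
    exact hp.natDegree_eq_zero.mp hn
  | succ n ih =>
    intro p hp hn
    obtain ⟨x, hx⟩ := h p hp (by omega)
    have hdiv : (X - C x) ∣ p := dvd_iff_isRoot.mpr hx
    obtain ⟨q, hq⟩ := hdiv
    rcases subsingleton_or_nontrivial D with hD | hD
    · exact ⟨0, Subsingleton.elim _ _⟩
    have hqm : q.Monic := by
      have h1 : (X - C x : D[X]).Monic := monic_X_sub_C x
      rw [hq] at hp
      exact h1.of_mul_monic_left hp
    have hqd : q.natDegree = n := by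
      have h1 : (X - C x : D[X]).Monic := monic_X_sub_C x
      have := h1.natDegree_mul hqm
      rw [← hq, hn, natDegree_X_sub_C] at this
      omega
    obtain ⟨s, hs⟩ := ih q hqm hqd
    refine ⟨x ::ₘ s, ?_⟩
    rw [Multiset.map_cons, Multiset.prod_cons, ← hs, hq]

/-- `HasRoots` passes to quotients. -/
theorem of_surjective (h : HasRoots D) {E : Type*} [CommRing E] (f : D →+* E)
    (hf : Function.Surjective f) : HasRoots E := by
  intro p hp hn
  obtain ⟨q, hq1, hq2, hq3⟩ := lifts_and_natDegree_eq_and_monic
    ((Polynomial.mem_lifts p).mpr (Polynomial.map_surjective f hf p)) hp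
  obtain ⟨x, hx⟩ := h q hq3 (by rw [hq2]; exact hn)
  refine ⟨f x, ?_⟩
  rw [← hq1, eval_map, eval₂_hom, hx, map_zero]

/-- The fraction field of a domain with `HasRoots` is algebraically closed. -/
theorem isAlgClosed_of_isFractionRing (h : HasRoots D) [IsDomain D] (L : Type*) [Field L]
    [Algebra D L] [IsFractionRing D L] : IsAlgClosed L := by
  apply IsAlgClosed.of_exists_root
  intro P hP hPirr
  obtain ⟨x, hx⟩ := IsAlgClosed.exists_root (P.map (algebraMap L (AlgebraicClosure L)))
    (by rw [degree_map]; exact (degree_pos_of_irreducible hPirr).ne')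
  have hxalg : IsAlgebraic L x := Algebra.IsAlgebraic.isAlgebraic x
  have hxalgD : IsAlgebraic D x := (IsFractionRing.isAlgebraic_iff D L (AlgebraicClosure L)).mpr hxalg
  obtain ⟨d, hd0, hdint⟩ := hxalgD.exists_integral_multiple
  obtain ⟨Q, hQm, hQ⟩ := hdint
  obtain ⟨s, hs⟩ := h.exists_multiset Q.natDegree Q hQm rfl
  have hinj : Function.Injective (algebraMap D (AlgebraicClosure L)) := by
    rw [IsScalarTower.algebraMap_eq D L (AlgebraicClosure L)]
    exact (algebraMap L (AlgebraicClosure L)).injective.comp (IsFractionRing.injective D L)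
  rw [hs, eval₂_multiset_prod, Multiset.map_map, Multiset.prod_eq_zero_iff] at hQ
  obtain ⟨a, ha, ha0⟩ := Multiset.mem_map.mp hQ
  simp only [Function.comp_apply, eval₂_sub, eval₂_X, eval₂_C, sub_eq_zero] at ha0
  -- d • x = algebraMap a
  have hdL : algebraMap D L d ≠ 0 := by
    intro h0
    exact hd0 (IsFractionRing.injective D L (by rw [h0, map_zero]))
  refine ⟨algebraMap D L a / algebraMap D L d, ?_⟩
  apply (algebraMap L (AlgebraicClosure L)).injective
  rw [map_zero, ← eval₂_hom, ← eval_map]
  have hxe : algebraMap L (AlgebraicClosure L) (algebraMap D L a / algebraMap D L d) = x := by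
    rw [map_div₀, ← IsScalarTower.algebraMap_apply, ← IsScalarTower.algebraMap_apply, ← ha0,
      Algebra.smul_def, mul_div_assoc, mul_comm, div_mul_cancel₀]
    · exact fun h0 => hd0 (hinj (by rw [h0, map_zero]))
  rw [hxe]
  exact hx

end HasRoots

/-- The integral closure of `A` in a product of algebraically closed fields has `HasRoots`. -/
theorem hasRoots_integralClosure_pi {A : Type*} [CommRing A] {ι : Type*} (K : ι → Type*)
    [∀ i, Field (K i)] [∀ i, IsAlgClosed (K i)] [Algebra A (∀ i, K i)] :
    HasRoots (integralClosure A (∀ i, K i)) := by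
  intro p hp hn
  rcases subsingleton_or_nontrivial (integralClosure A (∀ i, K i)) with hS | hS
  · exact ⟨0, Subsingleton.elim _ _⟩
  have hroot : ∀ i, ∃ r : K i,
      (p.map ((Pi.evalRingHom K i).comp (algebraMap (integralClosure A (∀ i, K i)) (∀ i, K i)))).eval r
        = 0 := by
    intro i
    apply IsAlgClosed.exists_root
    have h1 := (hp.map ((Pi.evalRingHom K i).comp
      (algebraMap (integralClosure A (∀ i, K i)) (∀ i, K i)))).natDegree_map
        (RingHom.id (K i))
    intro hdeg
    apply hn
    have h2 := natDegree_eq_of_degree_eq_some hdeg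
    rw [hp.natDegree_map] at h2
    exact h2
  choose r hr using hroot
  have hr0 : eval₂ (algebraMap (integralClosure A (∀ i, K i)) (∀ i, K i)) r p = 0 := by
    funext i
    have := hr i
    rw [eval_map] at this
    have h2 := Polynomial.hom_eval₂ p (algebraMap (integralClosure A (∀ i, K i)) (∀ i, K i))
      (Pi.evalRingHom K i) r
    exact h2.trans this
  have hrint : IsIntegral (integralClosure A (∀ i, K i)) r := ⟨p, hp, hr0⟩
  have hrA : IsIntegral A r := isIntegral_trans _ hrint
  refine ⟨⟨r, hrA⟩, ?_⟩
  apply Subtype.val_injective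
  have h3 := Polynomial.hom_eval₂ p (RingHom.id _)
    (algebraMap (integralClosure A (∀ i, K i)) (∀ i, K i)) ⟨r, hrA⟩
  rw [eval₂_id, RingHom.comp_id] at h3
  exact h3.trans hr0

end Groth.Agent.H87.AIC
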