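import Groth.Agent.H87.AICAlg

set_option autoImplicit false
universe u

open Polynomial

namespace Groth.Agent.H87.AIC

variable (A : Type u) [CommRing A]

/-- The ambient product of algebraic closures of the residue fields. -/
abbrev Amb : Type u := ∀ p : PrimeSpectrum A, AlgebraicClosure p.asIdeal.ResidueField

/-- The extension: integral closure of `A` in the product of algebraic closures of residue fields. -/
abbrev Ext : Type u := integralClosure A (Amb A)

theorem hasRoots_ext : HasRoots (Ext A) :=
  hasRoots_integralClosure_pi (fun p : PrimeSpectrum A => AlgebraicClosure p.asIdeal.ResidueField)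

instance : Algebra.IsIntegral A (Ext A) := inferInstance

theorem isAlgClosed_residueField (q : Ideal (Ext A)) [q.IsPrime] : IsAlgClosed q.ResidueField := by
  have h1 : HasRoots (Ext A ⧸ q) :=
    (hasRoots_ext A).of_surjective (Ideal.Quotient.mk q) Ideal.Quotient.mk_surjective
  exact h1.isAlgClosed_of_isFractionRing q.ResidueField

theorem exists_comap_eq (p : PrimeSpectrum A) :
    ∃ q : PrimeSpectrum (Ext A), q.asIdeal.comap (algebraMap A (Ext A)) = p.asIdeal := by
  let ev : Ext A →+* AlgebraicClosure p.asIdeal.ResidueField :=
    (Pi.evalRingHom _ p).comp (algebraMap (Ext A) (Amb A))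
  refine ⟨⟨RingHom.ker ev, RingHom.ker_isPrime ev⟩, ?_⟩
  change (RingHom.ker ev).comap (algebraMap A (Ext A)) = p.asIdeal
  rw [RingHom.comap_ker]
  ext x
  rw [RingHom.mem_ker]
  have h1 : (ev.comp (algebraMap A (Ext A))) x =
      algebraMap p.asIdeal.ResidueField (AlgebraicClosure p.asIdeal.ResidueField)
        (algebraMap A p.asIdeal.ResidueField x) := by
    rw [← IsScalarTower.algebraMap_apply]
    rfl
  rw [h1, map_eq_zero_iff _ (algebraMap p.asIdeal.ResidueField
    (AlgebraicClosure p.asIdeal.ResidueField)).injective, Ideal.algebraMap_residueField_eq_zero]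

end Groth.Agent.H87.AIC
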