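import Groth.Agent.H87.AICSpec

set_option autoImplicit false
universe u

open AlgebraicGeometry CategoryTheory Limits

namespace Groth.Agent.H87.AIC

section general

variable {X Y Z : Scheme.{u}}

lemma isIntegral_residueFieldMap_of_isOpenImmersion (f : X ⟶ Y) [IsOpenImmersion f] (x : X) :
    (f.residueFieldMap x).hom.IsIntegral :=
  RingHom.isIntegral_of_surjective _
    (ConcreteCategory.bijective_of_isIso (f.residueFieldMap x)).2

lemma isIntegral_residueFieldMap_comp (f : X ⟶ Y) (g : Y ⟶ Z) (x : X)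
    (hf : (f.residueFieldMap x).hom.IsIntegral) (hg : (g.residueFieldMap (f x)).hom.IsIntegral) :
    ((f ≫ g).residueFieldMap x).hom.IsIntegral := by
  have e : ((f ≫ g).residueFieldMap x).hom =
      (f.residueFieldMap x).hom.comp (g.residueFieldMap (f x)).hom :=
    congr($(Scheme.residueFieldMap_comp f g x).hom)
  rw [e]
  exact RingHom.IsIntegral.trans _ _ hg hf

lemma isIntegral_residueFieldMap_of_comp (ι : Y ⟶ X) [IsOpenImmersion ι] (f : X ⟶ Z) (g : Y ⟶ Z)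
    (h : ι ≫ f = g) (q : Y) (hg : (g.residueFieldMap q).hom.IsIntegral) :
    (f.residueFieldMap (ι q)).hom.IsIntegral := by
  subst h
  have e : ((ι ≫ f).residueFieldMap q).hom =
      (ι.residueFieldMap q).hom.comp (f.residueFieldMap (ι q)).hom :=
    congr($(Scheme.residueFieldMap_comp ι f q).hom)
  rw [e] at hg
  intro z
  have hbij := ConcreteCategory.bijective_of_isIso (ι.residueFieldMap q)
  obtain ⟨P, hP, hPz⟩ := hg ((ι.residueFieldMap q).hom z)
  refine ⟨P, hP, ?_⟩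
  apply hbij.1
  rw [map_zero, ← hPz]
  exact Polynomial.hom_eval₂ P _ (ι.residueFieldMap q).hom z

end general

section cover

variable {X : Scheme.{u}} (𝒰 : X.OpenCover) [∀ i, IsAffine (𝒰.X i)]

/-- The extension ring attached to a piece of the cover. -/
noncomputable def E (i : 𝒰.I₀) : CommRingCat.{u} := CommRingCat.of (Ext Γ(𝒰.X i, ⊤))

/-- The structure map. -/
noncomputable def φ (i : 𝒰.I₀) : Γ(𝒰.X i, ⊤) ⟶ E 𝒰 i :=
  CommRingCat.ofHom (algebraMap Γ(𝒰.X i, ⊤) (Ext Γ(𝒰.X i, ⊤)))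

lemma φ_isIntegral (i : 𝒰.I₀) : (φ 𝒰 i).hom.IsIntegral := by
  have : Algebra.IsIntegral Γ(𝒰.X i, ⊤) (Ext Γ(𝒰.X i, ⊤)) := inferInstance
  exact algebraMap_isIntegral_iff.mpr this

/-- The map from the piece. -/
noncomputable def g (i : 𝒰.I₀) : Spec (E 𝒰 i) ⟶ X :=
  Spec.map (φ 𝒰 i) ≫ (𝒰.X i).isoSpec.inv ≫ 𝒰.f i

lemma g_isIntegral (i : 𝒰.I₀) (q : Spec (E 𝒰 i)) :
    ((g 𝒰 i).residueFieldMap q).hom.IsIntegral := by
  unfold g
  apply isIntegral_residueFieldMap_comp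
  · exact isIntegral_residueFieldMap (φ 𝒰 i) (φ_isIntegral 𝒰 i) q
  · apply isIntegral_residueFieldMap_comp
    · exact isIntegral_residueFieldMap_of_isOpenImmersion _ _
    · exact isIntegral_residueFieldMap_of_isOpenImmersion _ _

lemma exists_spec (i : 𝒰.I₀) (p : Spec Γ(𝒰.X i, ⊤)) :
    ∃ q : Spec (E 𝒰 i), Spec.map (φ 𝒰 i) q = p := by
  obtain ⟨q, hq⟩ := exists_comap_eq Γ(𝒰.X i, ⊤) p
  exact ⟨q, PrimeSpectrum.ext hq⟩

lemma g_surjective (x : X) : ∃ (i : 𝒰.I₀) (q : Spec (E 𝒰 i)), g 𝒰 i q = x := by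
  obtain ⟨i, y, rfl⟩ := 𝒰.exists_eq x
  obtain ⟨q, h1⟩ := exists_spec 𝒰 i ((𝒰.X i).isoSpec.hom y)
  refine ⟨i, q, ?_⟩
  have h2 : (𝒰.X i).isoSpec.inv ((𝒰.X i).isoSpec.hom y) = y := by
    rw [← Scheme.Hom.comp_apply, Iso.hom_inv_id]; rfl
  unfold g
  simp only [Scheme.Hom.comp_apply]
  rw [h1, h2]

end cover

theorem main_of_cover {X : Scheme.{u}} [QuasiSeparatedSpace X] (𝒰 : X.OpenCover) [Finite 𝒰.I₀]
    [∀ i, IsAffine (𝒰.X i)] :
    ∃ (X' : Scheme.{u}) (f : X' ⟶ X), IsAffine X' ∧ QuasiCompact f ∧ Surjective f ∧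
      ∀ x' : X', IsAlgClosed (X'.residueField x') ∧ (f.residueFieldMap x').hom.IsIntegral := by
  refine ⟨∐ fun i => Spec (E 𝒰 i), Sigma.desc (g 𝒰), inferInstance, inferInstance, ?_, ?_⟩
  · constructor
    intro x
    obtain ⟨i, q, rfl⟩ := g_surjective 𝒰 x
    refine ⟨Sigma.ι (fun i => Spec (E 𝒰 i)) i q, ?_⟩
    rw [← Scheme.Hom.comp_apply, Sigma.ι_desc]
  · intro x'
    obtain ⟨i, q, rfl⟩ : ∃ (i : 𝒰.I₀) (q : Spec (E 𝒰 i)),
        Sigma.ι (fun i => Spec (E 𝒰 i)) i q = x' := by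
      obtain ⟨i, q, hq⟩ := (sigmaOpenCover fun i => Spec (E 𝒰 i)).exists_eq x'
      exact ⟨i, q, hq⟩
    constructor
    · have h1 : IsAlgClosed ((Spec (E 𝒰 i)).residueField q) :=
        isAlgClosed_residueField_Spec Γ(𝒰.X i, ⊤) q
      exact IsAlgClosed.of_ringEquiv _ _
        (asIso ((Sigma.ι (fun i => Spec (E 𝒰 i)) i).residueFieldMap q)).symm.commRingCatIsoToRingEquiv
    · exact isIntegral_residueFieldMap_of_comp (Sigma.ι (fun i => Spec (E 𝒰 i)) i) _ (g 𝒰 i)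
        (Sigma.ι_desc _ _) q (g_isIntegral 𝒰 i q)

theorem main (X : Scheme.{u}) [CompactSpace X] [QuasiSeparatedSpace X] :
    ∃ (X' : Scheme.{u}) (f : X' ⟶ X), IsAffine X' ∧ QuasiCompact f ∧ Surjective f ∧
      ∀ x' : X', IsAlgClosed (X'.residueField x') ∧ (f.residueFieldMap x').hom.IsIntegral := by
  haveI : ∀ i, IsAffine (X.affineCover.finiteSubcover.X i) := fun i => by
    dsimp [Scheme.OpenCover.finiteSubcover]; infer_instance
  exact main_of_cover X.affineCover.finiteSubcover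

end Groth.Agent.H87.AIC
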