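import Groth.Agent.H87.AICExt

set_option autoImplicit false
universe u

open AlgebraicGeometry CategoryTheory Limits

namespace Groth.Agent.H87.AIC

/-- Evaluation of a ring element in the residue field of a point of `Spec`. -/
noncomputable def evSpec (S : CommRingCat.{u}) (y : Spec S) : S ⟶ (Spec S).residueField y :=
  (Scheme.ΓSpecIso S).inv ≫ (Spec S).Γevaluation y

set_option backward.isDefEq.respectTransparency.types false in
lemma evSpec_eq (S : CommRingCat.{u}) (y : Spec S) :
    evSpec S y = CommRingCat.ofHom (algebraMap S y.asIdeal.ResidueField) ≫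
      (Scheme.Spec.residueFieldIso S y).inv :=
  (Scheme.Spec.algebraMap_residueFieldIso_inv S y).symm

lemma evSpec_naturality {R S : CommRingCat.{u}} (φ : R ⟶ S) (y : Spec S) :
    evSpec R (Spec.map φ y) ≫ (Spec.map φ).residueFieldMap y = φ ≫ evSpec S y := by
  unfold evSpec
  rw [Category.assoc, Scheme.Γevaluation_naturality, ← Category.assoc,
    ← Scheme.ΓSpecIso_inv_naturality, Category.assoc]

set_option backward.isDefEq.respectTransparency.types false in
lemma evSpec_apply (S : CommRingCat.{u}) (y : Spec S) (x : S) :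
    evSpec S y x = (Scheme.Spec.residueFieldIso S y).inv.hom
      (algebraMap S y.asIdeal.ResidueField x) := by
  rw [evSpec_eq]
  rfl

set_option backward.isDefEq.respectTransparency.types false in
/-- Every element of the residue field at `y` is a fraction of evaluations. -/
lemma exists_evSpec_div (S : CommRingCat.{u}) (y : Spec S) (z : (Spec S).residueField y) :
    ∃ a s : S, evSpec S y s ≠ 0 ∧ z = evSpec S y a * (evSpec S y s)⁻¹ := by
  obtain ⟨t, ht⟩ := IsLocalRing.residue_surjective
    ((Scheme.Spec.residueFieldIso S y).hom.hom z : y.asIdeal.ResidueField)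
  obtain ⟨a, s, rfl⟩ := IsLocalization.exists_mk'_eq y.asIdeal.primeCompl t
  have hs : algebraMap S y.asIdeal.ResidueField s.1 ≠ 0 := by
    rw [Ne, Ideal.algebraMap_residueField_eq_zero]
    exact s.2
  have h1 : (Scheme.Spec.residueFieldIso S y).hom.hom z * algebraMap S y.asIdeal.ResidueField s.1 =
      algebraMap S y.asIdeal.ResidueField a := by
    rw [← ht, IsScalarTower.algebraMap_apply S (Localization.AtPrime y.asIdeal) y.asIdeal.ResidueField,
      IsScalarTower.algebraMap_apply S (Localization.AtPrime y.asIdeal) y.asIdeal.ResidueField a]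
    change IsLocalRing.residue _ _ * IsLocalRing.residue _ _ = IsLocalRing.residue _ _
    rw [← map_mul, IsLocalization.mk'_spec]
  have h2 : (Scheme.Spec.residueFieldIso S y).hom.hom z =
      algebraMap S y.asIdeal.ResidueField a * (algebraMap S y.asIdeal.ResidueField s.1)⁻¹ := by
    rw [← h1, mul_assoc, mul_inv_cancel₀ hs, mul_one]
  have h3 : z = (Scheme.Spec.residueFieldIso S y).inv.hom
      ((Scheme.Spec.residueFieldIso S y).hom.hom z) := by
    rw [← RingHom.comp_apply, ← CommRingCat.hom_comp, Iso.hom_inv_id]; rfl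
  refine ⟨a, s.1, ?_, ?_⟩
  · rw [evSpec_apply]
    intro h0
    apply hs
    exact (Scheme.Spec.residueFieldIso S y).inv.hom.injective (by rw [h0, map_zero])
  · rw [h3, h2, map_mul, map_inv₀, evSpec_apply, evSpec_apply]

set_option backward.isDefEq.respectTransparency.types false in
theorem isAlgClosed_residueField_Spec (A : Type u) [CommRing A]
    (y : Spec (CommRingCat.of (Ext A))) :
    IsAlgClosed ((Spec (CommRingCat.of (Ext A))).residueField y) := by
  haveI := isAlgClosed_residueField A y.asIdeal
  exact IsAlgClosed.of_ringEquiv _ _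
    (Scheme.Spec.residueFieldIso (CommRingCat.of (Ext A)) y).symm.commRingCatIsoToRingEquiv

theorem isIntegral_residueFieldMap {R S : CommRingCat.{u}} (φ : R ⟶ S) (hφ : φ.hom.IsIntegral)
    (y : Spec S) : ((Spec.map φ).residueFieldMap y).hom.IsIntegral := by
  intro z
  obtain ⟨a, s, hs, rfl⟩ := exists_evSpec_div S y z
  letI := ((Spec.map φ).residueFieldMap y).hom.toAlgebra
  have h1 : ∀ x : S, IsIntegral ((Spec R).residueField (Spec.map φ y)) ((evSpec S y).hom x) := by
    intro x
    obtain ⟨P, hP, hPx⟩ := hφ x
    refine ⟨P.map (evSpec R _).hom, hP.map _, ?_⟩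
    rw [Polynomial.eval₂_map]
    have h2 : (algebraMap ((Spec R).residueField (Spec.map φ y)) ((Spec S).residueField y)).comp
        (evSpec R _).hom = (evSpec S y).hom.comp φ.hom := congr(($(evSpec_naturality φ y)).hom)
    rw [h2, ← Polynomial.hom_eval₂, hPx, map_zero]
  exact (h1 a).mul (h1 s).inv

end Groth.Agent.H87.AIC
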