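import Mathlib

/-!
# Every commutative ring embeds in an absolutely integrally closed ring
-/

set_option autoImplicit false
universe u
open Polynomial CategoryTheory CategoryTheory.Limits

namespace Groth.Agent.H87.AbsIntClosed

/-- A monic polynomial of degree `n` splits into linear factors in some extension ring. -/
theorem exists_splits_of_monic : ∀ (n : ℕ) (A : Type u) [CommRing A] (f : A[X]), f.Monic →
    f.natDegree = n → ∃ (C' : Type u) (_ : CommRing C') (φ : A →+* C'), Function.Injective φ ∧
      ∃ r : ℕ → C', f.map φ = ∏ i ∈ Finset.range n, (X - C (r i)) := by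
  intro n
  induction n with
  | zero =>
    intro A _ f hf hn
    refine ⟨A, inferInstance, RingHom.id A, Function.injective_id, fun _ => 0, ?_⟩
    rw [Finset.range_zero, Finset.prod_empty, Polynomial.map_id]
    exact eq_one_of_monic_natDegree_zero hf hn
  | succ n ih =>
    intro A _ f hf hn
    let A₁ := AdjoinRoot f
    have hinj : Function.Injective (AdjoinRoot.of f) := by
      rw [injective_iff_map_eq_zero]
      intro a ha
      have h1 : AdjoinRoot.mk f (C a) = 0 := ha
      rw [AdjoinRoot.mk_eq_zero] at h1
      by_contra hne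
      have hC : (C a : A[X]) ≠ 0 := fun h => hne (Polynomial.C_eq_zero.1 h)
      exact hf.not_dvd_of_natDegree_lt hC (by rw [natDegree_C, hn]; exact Nat.succ_pos n) h1
    have hroot : (f.map (AdjoinRoot.of f)).IsRoot (AdjoinRoot.root f) := AdjoinRoot.isRoot_root f
    set g := (f.map (AdjoinRoot.of f)) /ₘ (X - C (AdjoinRoot.root f)) with hg
    have hfg : (X - C (AdjoinRoot.root f)) * g = f.map (AdjoinRoot.of f) :=
      Polynomial.mul_divByMonic_eq_iff_isRoot.2 hroot
    have hfm : (f.map (AdjoinRoot.of f)).Monic := hf.map _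
    have hgm : g.Monic := (monic_X_sub_C _).of_mul_monic_left (hfg ▸ hfm)
    have hgn : g.natDegree = n := by
      rcases subsingleton_or_nontrivial (AdjoinRoot f) with hsub | hnt
      · have : Subsingleton A := hinj.subsingleton
        rw [Subsingleton.elim f 0, natDegree_zero] at hn
        omega
      have h1 := congrArg natDegree hfg
      rw [(monic_X_sub_C _).natDegree_mul hgm, natDegree_X_sub_C, hf.natDegree_map] at h1
      omega
    obtain ⟨C', _, ψ, hψ, r', hr'⟩ := ih A₁ g hgm hgn
    refine ⟨C', inferInstance, ψ.comp (AdjoinRoot.of f), hψ.comp hinj,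
      fun i => Nat.casesOn i (ψ (AdjoinRoot.root f)) r', ?_⟩
    rw [← Polynomial.map_map, ← hfg, Polynomial.map_mul, hr', Finset.prod_range_succ',
      Polynomial.map_sub, Polynomial.map_X, Polynomial.map_C, mul_comm]
    rfl

/-- Finitely many monic polynomials split simultaneously in some extension ring. -/
theorem exists_splits_of_list (A : Type u) [CommRing A] (l : List A[X]) (hl : ∀ f ∈ l, f.Monic) :
    ∃ (C' : Type u) (_ : CommRing C') (φ : A →+* C'), Function.Injective φ ∧
      ∀ f ∈ l, ∃ r : ℕ → C', f.map φ = ∏ i ∈ Finset.range f.natDegree, (X - C (r i)) := by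
  induction l with
  | nil =>
    exact ⟨A, inferInstance, RingHom.id A, Function.injective_id, by simp⟩
  | cons f l ih =>
    obtain ⟨C₁, _, φ₁, hφ₁, h₁⟩ := ih (fun g hg => hl g (List.mem_cons_of_mem _ hg))
    have hf : f.Monic := hl f List.mem_cons_self
    rcases subsingleton_or_nontrivial C₁ with hsub | hnt
    · refine ⟨C₁, inferInstance, φ₁, hφ₁, fun g _ => ⟨fun _ => 0, Subsingleton.elim _ _⟩⟩
    · obtain ⟨C₂, _, φ₂, hφ₂, r, hr⟩ := exists_splits_of_monic f.natDegree C₁ (f.map φ₁)
        (hf.map _) (hf.natDegree_map _)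
      refine ⟨C₂, inferInstance, φ₂.comp φ₁, hφ₂.comp hφ₁, ?_⟩
      intro g hg
      rcases List.mem_cons.1 hg with rfl | hg'
      · exact ⟨r, by rw [← Polynomial.map_map, hr]⟩
      · obtain ⟨r', hr'⟩ := h₁ g hg'
        refine ⟨fun i => φ₂ (r' i), ?_⟩
        rw [← Polynomial.map_map, hr', Polynomial.map_prod]
        simp only [Polynomial.map_sub, Polynomial.map_X, Polynomial.map_C]

/-- Index type of formal roots. -/
abbrev Idx (A : Type u) [CommRing A] : Type u := {f : A[X] // f.Monic} × ℕ

/-- The relation polynomial for a monic polynomial `f`. -/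
noncomputable def rel (A : Type u) [CommRing A] (f : {f : A[X] // f.Monic}) :
    (MvPolynomial (Idx A) A)[X] :=
  f.1.map (MvPolynomial.C) -
    ∏ i ∈ Finset.range f.1.natDegree, (X - Polynomial.C (MvPolynomial.X (f, i)))

/-- The ideal of relations. -/
noncomputable def relIdeal (A : Type u) [CommRing A] : Ideal (MvPolynomial (Idx A) A) :=
  Ideal.span {c | ∃ f k, c = (rel A f).coeff k}

/-- The ring obtained by formally adjoining a full set of roots for each monic polynomial. -/
abbrev Step (A : Type u) [CommRing A] : Type u := MvPolynomial (Idx A) A ⧸ relIdeal A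

theorem step_splits (A : Type u) [CommRing A] (f : A[X]) (hf : f.Monic) :
    f.map (algebraMap A (Step A)) = ∏ i ∈ Finset.range f.natDegree,
      (X - Polynomial.C (Ideal.Quotient.mk (relIdeal A) (MvPolynomial.X (⟨f, hf⟩, i)))) := by
  have h : (rel A ⟨f, hf⟩).map (Ideal.Quotient.mk (relIdeal A)) = 0 := by
    ext k
    rw [Polynomial.coeff_map, Polynomial.coeff_zero, Ideal.Quotient.eq_zero_iff_mem]
    exact Ideal.subset_span ⟨_, k, rfl⟩
  rw [rel, Polynomial.map_sub, sub_eq_zero, Polynomial.map_map, Polynomial.map_prod] at h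
  simp only [Polynomial.map_sub, Polynomial.map_X, Polynomial.map_C] at h
  rw [← h]
  rfl

theorem step_injective (A : Type u) [CommRing A] :
    Function.Injective (algebraMap A (Step A)) := by
  classical
  rw [injective_iff_map_eq_zero]
  intro a ha
  have hmem : (MvPolynomial.C a : MvPolynomial (Idx A) A) ∈ relIdeal A :=
    Ideal.Quotient.eq_zero_iff_mem.1 ha
  obtain ⟨T, hTS, hT⟩ := Submodule.mem_span_finite_of_mem_span hmem
  have hex : ∀ t : T, ∃ f k, (t : MvPolynomial (Idx A) A) = (rel A f).coeff k := fun t => hTS t.2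
  choose F K hFK using hex
  let l : List A[X] := (Finset.univ : Finset T).toList.map (fun t => (F t).1)
  have hl : ∀ f ∈ l, f.Monic := by
    intro f hf
    obtain ⟨t, -, rfl⟩ := List.mem_map.1 hf
    exact (F t).2
  obtain ⟨C', _, φ, hφ, hsplit⟩ := exists_splits_of_list A l hl
  let ρ : Idx A → C' := fun x => if h : x.1.1 ∈ l then (hsplit x.1.1 h).choose x.2 else 0
  let ev : MvPolynomial (Idx A) A →+* C' := MvPolynomial.eval₂Hom φ ρ
  have hev : ∀ t ∈ (T : Set (MvPolynomial (Idx A) A)), ev t = 0 := by
    intro t ht
    have hmem : (F ⟨t, ht⟩).1 ∈ l :=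
      List.mem_map.2 ⟨⟨t, ht⟩, Finset.mem_toList.2 (Finset.mem_univ _), rfl⟩
    have h1 : t = (rel A (F ⟨t, ht⟩)).coeff (K ⟨t, ht⟩) := hFK ⟨t, ht⟩
    rw [h1, ← Polynomial.coeff_map]
    have h2 : (rel A (F ⟨t, ht⟩)).map ev = 0 := by
      rw [rel, Polynomial.map_sub, sub_eq_zero, Polynomial.map_map, Polynomial.map_prod]
      simp only [Polynomial.map_sub, Polynomial.map_X, Polynomial.map_C]
      have h3 : ev.comp MvPolynomial.C = φ := by
        ext x
        simp [ev]
      rw [h3, (hsplit _ hmem).choose_spec]
      refine Finset.prod_congr rfl fun i _ => ?_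
      have : ev (MvPolynomial.X (F ⟨t, ht⟩, i)) = (hsplit _ hmem).choose i := by
        simp [ev, ρ, hmem]
      rw [this]
    rw [h2, Polynomial.coeff_zero]
  have hle : Ideal.span (T : Set (MvPolynomial (Idx A) A)) ≤ RingHom.ker ev :=
    Ideal.span_le.2 hev
  have h0 : ev (MvPolynomial.C a) = 0 := hle hT
  have h4 : ev (MvPolynomial.C a) = φ a := by simp [ev]
  rw [h4] at h0
  exact (injective_iff_map_eq_zero φ).1 hφ a h0

/-- The tower of rings obtained by iterating `Step`. -/
noncomputable def tower (A : Type u) [CommRing A] : ℕ → CommRingCat.{u}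
  | 0 => CommRingCat.of A
  | n + 1 => CommRingCat.of (Step (tower A n))

/-- The transition maps of the tower. -/
noncomputable def towerMap (A : Type u) [CommRing A] (n : ℕ) : tower A n ⟶ tower A (n + 1) :=
  CommRingCat.ofHom (algebraMap (tower A n) (Step (tower A n)))

/-- The tower as a functor. -/
noncomputable def towerF (A : Type u) [CommRing A] : ℕ ⥤ CommRingCat.{u} :=
  Functor.ofSequence (towerMap A)

theorem towerMap_injective (A : Type u) [CommRing A] (n : ℕ) :
    Function.Injective (towerMap A n).hom :=
  step_injective (tower A n)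

theorem tower_splits (A : Type u) [CommRing A] (n : ℕ) (g : (tower A n)[X]) (hg : g.Monic) :
    ∃ r : ℕ → tower A (n + 1), g.map (towerMap A n).hom =
      ∏ i ∈ Finset.range g.natDegree, (X - Polynomial.C (r i)) :=
  ⟨_, step_splits (tower A n) g hg⟩

theorem towerF_splits (A : Type u) [CommRing A] (n : ℕ) (g : ((towerF A).obj n)[X])
    (hg : g.Monic) :
    ∃ r : ℕ → (towerF A).obj (n + 1),
      g.map ((towerF A).map (homOfLE (Nat.le_add_right n 1))).hom =
        ∏ i ∈ Finset.range g.natDegree, (X - Polynomial.C (r i)) := by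
  have h2 : (towerF A).map (homOfLE (Nat.le_add_right n 1)) = towerMap A n :=
    Functor.ofSequence_map_homOfLE_succ _ _
  rw [h2]
  exact tower_splits A n g hg

theorem towerF_map_injective (A : Type u) [CommRing A] (i j : ℕ) (h : i ≤ j) :
    Function.Injective ((towerF A).map (homOfLE h)).hom := by
  induction j, h using Nat.le_induction with
  | base =>
    have : homOfLE (le_refl i) = 𝟙 i := rfl
    rw [this, CategoryTheory.Functor.map_id]
    exact Function.injective_id
  | succ j hij ih =>
    have : homOfLE (Nat.le_succ_of_le hij) = homOfLE hij ≫ homOfLE (Nat.le_add_right j 1) := rfl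
    rw [this, CategoryTheory.Functor.map_comp]
    have h2 : (towerF A).map (homOfLE (Nat.le_add_right j 1)) = towerMap A j :=
      Functor.ofSequence_map_homOfLE_succ _ _
    rw [h2]
    exact (step_injective (tower A j)).comp ih

instance : PreservesFilteredColimitsOfSize.{0, 0} (forget CommRingCat.{u}) :=
  preservesSmallestFilteredColimits_of_preservesFilteredColimits _

theorem big_injective (A : Type u) [CommRing A] :
    Function.Injective (colimit.ι (towerF A) 0).hom := by
  intro x y hxy
  obtain ⟨k, f, g, hfg⟩ := Concrete.colimit_exists_of_rep_eq (towerF A) x y hxy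
  have hf : f = homOfLE (Nat.zero_le k) := Subsingleton.elim _ _
  have hg : g = homOfLE (Nat.zero_le k) := Subsingleton.elim _ _
  rw [hf, hg] at hfg
  exact towerF_map_injective A 0 k (Nat.zero_le k) hfg

theorem big_splits (A : Type u) [CommRing A] (f : (colimit (towerF A) : CommRingCat.{u})[X])
    (hf : f.Monic) :
    ∃ s : Multiset (colimit (towerF A) : CommRingCat.{u}),
      f = (s.map fun b => X - Polynomial.C b).prod := by
  classical
  set d := f.natDegree with hd
  have hrep : ∀ k : ℕ, ∃ (j : ℕ) (y : (towerF A).obj j), (colimit.ι (towerF A) j).hom y = f.coeff k :=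
    fun k => Concrete.colimit_exists_rep (towerF A) (f.coeff k)
  choose j y hy using hrep
  let N := (Finset.range d).sup j
  let c : ℕ → (towerF A).obj N := fun k =>
    if h : j k ≤ N then ((towerF A).map (homOfLE h)).hom (y k) else 0
  have hc : ∀ k ∈ Finset.range d, (colimit.ι (towerF A) N).hom (c k) = f.coeff k := by
    intro k hk
    have hle : j k ≤ N := Finset.le_sup (f := j) hk
    simp only [c, dif_pos hle]
    rw [← hy k]
    have := colimit.w (towerF A) (homOfLE hle)
    rw [← this]
    rfl
  let p : ((towerF A).obj N)[X] := ∑ k ∈ Finset.range d, Polynomial.C (c k) * X ^ k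
  have hpdeg : p.degree < d := by
    rw [Polynomial.degree_lt_iff_coeff_zero]
    intro m hm
    simp only [p, Polynomial.finsetSum_coeff, Polynomial.coeff_C_mul_X_pow]
    refine Finset.sum_eq_zero fun k hk => ?_
    rw [if_neg]
    have := Finset.mem_range.1 hk
    omega
  let g : ((towerF A).obj N)[X] := X ^ d + p
  have hg : g.Monic := Polynomial.monic_X_pow_add hpdeg
  have hgf : g.map (colimit.ι (towerF A) N).hom = f := by
    conv_rhs => rw [hf.as_sum]
    simp only [g, p, Polynomial.map_add, Polynomial.map_pow, Polynomial.map_X, Polynomial.map_sum,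
      Polynomial.map_mul, Polynomial.map_C]
    congr 1
    exact Finset.sum_congr rfl fun k hk => by rw [hc k hk]
  obtain ⟨r, hsp⟩ := towerF_splits A N g hg
  have hw : (colimit.ι (towerF A) N).hom =
      (colimit.ι (towerF A) (N + 1)).hom.comp
        ((towerF A).map (homOfLE (Nat.le_add_right N 1))).hom := by
    rw [← colimit.w (towerF A) (homOfLE (Nat.le_add_right N 1))]
    rfl
  rw [hw, ← Polynomial.map_map, hsp, Polynomial.map_prod] at hgf
  simp only [Polynomial.map_sub, Polynomial.map_X, Polynomial.map_C] at hgf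
  refine ⟨(Multiset.range g.natDegree).map (fun i => (colimit.ι (towerF A) (N + 1)).hom (r i)), ?_⟩
  rw [← hgf, Multiset.map_map]
  rfl

/-- Every commutative ring embeds in an absolutely integrally closed ring. -/
theorem exists_absIntClosed (A : Type u) [CommRing A] :
    ∃ (B : Type u) (_ : CommRing B) (_ : Algebra A B), Function.Injective (algebraMap A B) ∧
      ∀ f : B[X], f.Monic → ∃ s : Multiset B, f = (s.map fun b => X - C b).prod :=
  ⟨(colimit (towerF A) : CommRingCat.{u}), inferInstance,
    (RingHom.toAlgebra (colimit.ι (towerF A) 0).hom : Algebra A _), big_injective A,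
    fun f hf => big_splits A f hf⟩

end Groth.Agent.H87.AbsIntClosed
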