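import Mathlib.RingTheory.AdicCompletion.Basic
import Mathlib.RingTheory.AdicCompletion.Completeness

set_option autoImplicit false

namespace Groth.Agent.H87

open Submodule AdicCompletion

variable {A : Type*} [CommRing A] (I : Ideal A) (M : Type*) [AddCommGroup M] [Module A M]

/-- Image of `I^n M` under a linear map lies in `I^n N`. -/
theorem map_mem_smul_top {N : Type*} [AddCommGroup N] [Module A N] (f : M →ₗ[A] N) (J : Ideal A)
    {y : M} (hy : y ∈ (J • ⊤ : Submodule A M)) : f y ∈ (J • ⊤ : Submodule A N) := by
  have hle : Submodule.map f (J • ⊤ : Submodule A M) ≤ (J • ⊤ : Submodule A N) := by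
    rw [Submodule.map_smul'']
    exact Submodule.smul_mono le_rfl le_top
  exact hle (Submodule.mem_map_of_mem hy)

/-- The approximation property: every element of the completion is congruent mod `I^n M^` to
an element coming from `M`. -/
def Approx : Prop :=
  ∀ (n : ℕ) (x : AdicCompletion I M), ∃ y : M,
    x - AdicCompletion.of I M y ∈ (I ^ n • ⊤ : Submodule A (AdicCompletion I M))

variable {I M}

theorem ker_eval_le_of_approx (h : Approx I M) (n : ℕ) :
    LinearMap.ker (AdicCompletion.eval I M n) ≤ (I ^ n • ⊤ : Submodule A (AdicCompletion I M)) := by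
  intro x hx
  obtain ⟨y, hy⟩ := h n x
  have h1 : AdicCompletion.eval I M n (x - AdicCompletion.of I M y) = 0 :=
    AdicCompletion.pow_smul_top_le_ker_eval I n hy
  rw [map_sub, LinearMap.mem_ker.mp hx, zero_sub, neg_eq_zero, AdicCompletion.eval_of,
    Submodule.mkQ_apply, Submodule.Quotient.mk_eq_zero] at h1
  have h2 : AdicCompletion.of I M y ∈ (I ^ n • ⊤ : Submodule A (AdicCompletion I M)) :=
    map_mem_smul_top M (AdicCompletion.of I M) (I ^ n) h1
  have : x = (x - AdicCompletion.of I M y) + AdicCompletion.of I M y := by abel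
  rw [this]
  exact Submodule.add_mem _ hy h2

theorem ker_eval_eq_of_approx (h : Approx I M) (n : ℕ) :
    LinearMap.ker (AdicCompletion.eval I M n) = (I ^ n • ⊤ : Submodule A (AdicCompletion I M)) :=
  le_antisymm (ker_eval_le_of_approx h n) (AdicCompletion.pow_smul_top_le_ker_eval I n)

theorem isAdicComplete_of_approx (h : Approx I M) : IsAdicComplete I (AdicCompletion I M) where
  prec' x hx := by
    let L : AdicCompletion I M :=
      { val := fun i => (x i).val i
        property := by
          intro m n hmn
          simp only [AdicCompletion.transitionMap_comp_eval_apply]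
          have := hx hmn
          rw [SModEq.sub_mem, ← ker_eval_eq_of_approx h, LinearMap.mem_ker, map_sub,
            sub_eq_zero, AdicCompletion.eval_apply, AdicCompletion.eval_apply] at this
          exact this.symm }
    refine ⟨L, fun i => ?_⟩
    rw [SModEq.sub_mem, ← ker_eval_eq_of_approx h, LinearMap.mem_ker, map_sub, sub_eq_zero]
    rfl

theorem approx_of_isPrecomplete [IsPrecomplete I (AdicCompletion I M)] : Approx I M := by
  intro n x
  choose y hy using fun k => Submodule.Quotient.mk_surjective (I ^ k • ⊤ : Submodule A M) (x.val k)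
  have hc : ∀ {m k : ℕ}, m ≤ k → AdicCompletion.of I M (y m) ≡ AdicCompletion.of I M (y k)
      [SMOD (I ^ m • ⊤ : Submodule A (AdicCompletion I M))] := by
    intro m k hmk
    rw [SModEq.sub_mem, ← map_sub]
    apply map_mem_smul_top
    rw [← Submodule.Quotient.mk_eq_zero, Submodule.Quotient.mk_sub, hy m, sub_eq_zero]
    have := x.property hmk
    rw [← this, ← hy k]
    rfl
  obtain ⟨L, hL⟩ := IsPrecomplete.prec' (I := I) (fun k => AdicCompletion.of I M (y k)) hc
  have hLx : L = x := by
    apply AdicCompletion.ext
    intro k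
    have h1 := hL k
    rw [SModEq.sub_mem] at h1
    have h2 := AdicCompletion.pow_smul_top_le_ker_eval I k h1
    rw [LinearMap.mem_ker, map_sub, sub_eq_zero, AdicCompletion.eval_of, Submodule.mkQ_apply, hy k] at h2
    exact h2.symm
  refine ⟨y n, ?_⟩
  have h1 := hL n
  rw [SModEq.sub_mem, hLx] at h1
  have : x - AdicCompletion.of I M (y n) = -(AdicCompletion.of I M (y n) - x) := by abel
  rw [this]
  exact Submodule.neg_mem _ h1

theorem isAdicComplete_iff_approx : IsAdicComplete I (AdicCompletion I M) ↔ Approx I M :=
  ⟨fun _ => approx_of_isPrecomplete, isAdicComplete_of_approx⟩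

theorem ker_eval_eq_of_complete [IsAdicComplete I (AdicCompletion I M)] (n : ℕ) :
    LinearMap.ker (AdicCompletion.eval I M n) = (I ^ n • ⊤ : Submodule A (AdicCompletion I M)) :=
  ker_eval_eq_of_approx approx_of_isPrecomplete n

end Groth.Agent.H87
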