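import Mathlib.Algebra.Lie.Basis.Base
import Mathlib.Algebra.Lie.Semisimple.Defs
import Mathlib.Algebra.Lie.CartanCriterion
import Mathlib.FieldTheory.IsAlgClosed.Basic

set_option autoImplicit false
set_option linter.unusedSectionVars false
universe u v w

open LieAlgebra LieModule

namespace Groth.Agent.H87.Adj

variable {ι : Type u} {K : Type v} {L : Type w} [Fintype ι] [Field K] [CharZero K]
    [IsAlgClosed K] [LieRing L] [LieAlgebra K L] [FiniteDimensional K L] [LieAlgebra.IsSimple K L]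
    {H : LieSubalgebra K L} [H.IsCartanSubalgebra] (b : LieAlgebra.Basis ι H)

theorem mem_rootSpace_iff (χ : H → K) (x : L) :
    x ∈ rootSpace H χ ↔ ∀ h : H, ⁅(h : L), x⁆ = χ h • x := by
  constructor
  · intro hx h
    exact LieAlgebra.IsKilling.lie_eq_smul_of_mem_rootSpace hx h
  · intro hx
    rw [rootSpace, mem_genWeightSpace]
    intro h
    refine ⟨1, ?_⟩
    rw [pow_one, LinearMap.sub_apply, LinearMap.smul_apply, Module.End.one_apply, toEnd_apply_apply,
      LieSubalgebra.coe_bracket_of_module, hx h, sub_self]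

theorem e_mem (i : ι) : b.e i ∈ rootSpace H (b.baseSupp i) := by
  rw [mem_rootSpace_iff]
  intro h
  exact (b.baseSupp_apply_smul_e i h).symm

theorem f_mem (i : ι) : b.f i ∈ rootSpace H (-b.baseSupp i) := by
  rw [mem_rootSpace_iff]
  intro h
  have := b.baseSupp_apply_smul_f i h
  rw [Pi.neg_apply, neg_smul, this, neg_neg]
  rfl

theorem lie_mem_rootSpace {χ ψ : H → K} {x y : L} (hx : x ∈ rootSpace H χ)
    (hy : y ∈ rootSpace H ψ) : ⁅x, y⁆ ∈ rootSpace H (χ + ψ) :=
  LieAlgebra.lie_mem_genWeightSpace_of_mem_genWeightSpace hx hy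

theorem eq_of_mem_rootSpace {χ ψ : H → K} {x : L} (hx : x ∈ rootSpace H χ)
    (hy : x ∈ rootSpace H ψ) (h0 : x ≠ 0) : χ = ψ := by
  funext h
  have h1 := (mem_rootSpace_iff χ x).mp hx h
  have h2 := (mem_rootSpace_iff ψ x).mp hy h
  rw [h1] at h2
  exact smul_left_injective K h0 h2

end Groth.Agent.H87.Adj
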