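import Groth.Agent.H87.Adj9

set_option autoImplicit false
set_option linter.unusedSectionVars false
universe u v w

open LieAlgebra LieModule

namespace Groth.Agent.H87.Adj

variable {ι : Type u} {K : Type v} {L : Type w} [Fintype ι] [Field K] [CharZero K]
    [IsAlgClosed K] [LieRing L] [LieAlgebra K L] [FiniteDimensional K L] [LieAlgebra.IsSimple K L]
    {H : LieSubalgebra K L} [H.IsCartanSubalgebra] (b : LieAlgebra.Basis ι H)

variable {ρ : Module.Dual K H} {v : L} {j : ι} {W : Submodule K L}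

theorem span2 (hv : IsHWV b ρ v) :
    V H ρ ⊔ V H (ρ - b.baseSupp j) = Submodule.span K (Set.range ![v, ⁅b.f j, v⁆]) := by
  rw [V_rho b hv, V_rho_sub b hv j]
  have : Set.range ![v, ⁅b.f j, v⁆] = {v} ∪ {⁅b.f j, v⁆} := by
    simp [Matrix.range_cons]
  rw [this, Submodule.span_union]

theorem finrank2 (hv : IsHWV b ρ v) (hj : ρ (b.h' j) = 1) :
    Module.finrank K ↥(V H ρ ⊔ V H (ρ - b.baseSupp j)) = 2 := by
  rw [span2 b hv]
  apply finrank_span_range _ (chi2_injective b ρ j)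
  · intro k
    fin_cases k
    · exact hv.mem
    · exact f_lie_mem b hv.mem j
  · intro k
    fin_cases k
    · exact hv.ne
    · exact f_lie_ne_zero b hv hj

theorem stable_sup {A B : Submodule K L} (x : L) (hA : ∀ w ∈ A, ⁅x, w⁆ ∈ W)
    (hB : ∀ w ∈ B, ⁅x, w⁆ ∈ W) : ∀ w ∈ A ⊔ B, ⁅x, w⁆ ∈ W := by
  intro w hw
  obtain ⟨a, ha, c, hc, rfl⟩ := Submodule.mem_sup.mp hw
  rw [lie_add]
  exact W.add_mem (hA a ha) (hB c hc)

theorem h_stable_V (χ : H → K) (h : H) : ∀ w ∈ V H χ, ⁅(h : L), w⁆ ∈ V H χ := by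
  intro w hw
  have : ⁅h, w⁆ ∈ rootSpace H χ := (rootSpace H χ).lie_mem hw
  exact this

theorem stable2 (hv : IsHWV b ρ v) (hj : ρ (b.h' j) = 1) :
    Stable b (V H ρ ⊔ V H (ρ - b.baseSupp j)) := by
  constructor
  · intro h
    apply stable_sup
    · intro w hw; exact Submodule.mem_sup_left (h_stable_V _ h w hw)
    · intro w hw; exact Submodule.mem_sup_right (h_stable_V _ h w hw)
  · intro i
    apply stable_sup
    · intro w hw
      rw [V_rho b hv] at hw
      obtain ⟨c, rfl⟩ := Submodule.mem_span_singleton.mp hw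
      rw [lie_smul, hv.e_lie i, smul_zero]
      exact Submodule.zero_mem _
    · intro w hw
      rw [V_rho_sub b hv j] at hw
      obtain ⟨c, rfl⟩ := Submodule.mem_span_singleton.mp hw
      rw [lie_smul]
      by_cases hi : i = j
      · subst hi
        rw [e_lie_u_self b hv hj]
        exact Submodule.mem_sup_left (Submodule.smul_mem _ _ hv.mem)
      · rw [e_lie_u_ne b hv hi, smul_zero]
        exact Submodule.zero_mem _

theorem le_of_stable2 (hv : IsHWV b ρ v) (hN : ∀ i, ρ (b.h' i) ≠ 0 ↔ i = j)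
    (hW : Stable b W) (h2 : 2 ≤ Module.finrank K W) :
    V H ρ ⊔ V H (ρ - b.baseSupp j) ≤ W := by
  have hne : W ≠ ⊥ := by
    rintro rfl
    simp at h2
  have hvW : v ∈ W := step1 b hv hW hne
  have hnot : ¬ W ≤ V H ρ := by
    intro hle
    have h1 := Submodule.finrank_mono hle
    rw [V_rho b hv, finrank_span_singleton hv.ne] at h1
    omega
  have huW := step2 b hv hN hW hnot
  rw [V_rho b hv, V_rho_sub b hv j]
  refine sup_le ?_ ?_ <;> rw [Submodule.span_le, Set.singleton_subset_iff]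
  · exact hvW
  · exact huW

theorem twoDim_iff (hρ : rootSpace H ρ ≠ ⊥) (htop : ∀ i, rootSpace H (ρ + b.baseSupp i) = ⊥)
    (hN : ∀ i, ρ (b.h' i) ≠ 0 ↔ i = j) (hj : ρ (b.h' j) = 1) (W : Submodule K L) :
    (Module.finrank K W = 2 ∧
        ∀ x ∈ H.toSubmodule ⊔ (b.borelUpper : Submodule K L), ∀ w ∈ W, ⁅x, w⁆ ∈ W) ↔
      W = V H ρ ⊔ V H (ρ - b.baseSupp j) := by
  obtain ⟨v, hv⟩ := exists_hwv b hρ htop
  constructor
  · rintro ⟨h2, hst⟩
    have hW := stable_of b hst
    have hle := le_of_stable2 b hv hN hW h2.ge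
    refine (Submodule.eq_of_le_of_finrank_eq hle ?_).symm
    rw [finrank2 b hv hj, h2]
  · rintro rfl
    exact ⟨finrank2 b hv hj, (stable2 b hv hj).lie_mem⟩

end Groth.Agent.H87.Adj
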