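import Groth.Agent.H87.Adj10

set_option autoImplicit false
set_option linter.unusedSectionVars false
universe u v w

open LieAlgebra LieModule

namespace Groth.Agent.H87.Adj

variable {ι : Type u} {K : Type v} {L : Type w} [Fintype ι] [Field K] [CharZero K]
    [IsAlgClosed K] [LieRing L] [LieAlgebra K L] [FiniteDimensional K L] [LieAlgebra.IsSimple K L]
    {H : LieSubalgebra K L} [H.IsCartanSubalgebra] (b : LieAlgebra.Basis ι H)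

variable {ρ : Module.Dual K H} {v : L} {j : ι} {W : Submodule K L}

theorem span3 (hv : IsHWV b ρ v) (hN : ∀ i, ρ (b.h' i) ≠ 0 ↔ i = j) (i : ι) :
    V H ρ ⊔ V H (ρ - b.baseSupp j) ⊔ V H (ρ - b.baseSupp j - b.baseSupp i) =
      Submodule.span K (Set.range ![v, ⁅b.f j, v⁆, ⁅b.f i, ⁅b.f j, v⁆⁆]) := by
  rw [V_rho b hv, V_rho_sub b hv j, V_rho_sub_sub b hv hN i]
  have : Set.range ![v, ⁅b.f j, v⁆, ⁅b.f i, ⁅b.f j, v⁆⁆] =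
      ({v} ∪ {⁅b.f j, v⁆}) ∪ {⁅b.f i, ⁅b.f j, v⁆⁆} := by
    simp [Matrix.range_cons]
  rw [this, Submodule.span_union, Submodule.span_union]

theorem mem3 (hv : IsHWV b ρ v) (i : ι) (k : Fin 3) :
    (![v, ⁅b.f j, v⁆, ⁅b.f i, ⁅b.f j, v⁆⁆] : Fin 3 → L) k ∈
      V H ((![⇑ρ, ⇑ρ - ⇑(b.baseSupp j), ⇑ρ - ⇑(b.baseSupp j) - ⇑(b.baseSupp i)] :
      Fin 3 → (H → K)) k) := by
  fin_cases k
  · exact hv.mem
  · exact f_lie_mem b hv.mem j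
  · exact f_lie_mem b (f_lie_mem b hv.mem j) i

theorem ne3 (hv : IsHWV b ρ v) (hj : ρ (b.h' j) = 1) (i : ι)
    (ht : ⁅b.f i, ⁅b.f j, v⁆⁆ ≠ 0) (k : Fin 3) :
    (![v, ⁅b.f j, v⁆, ⁅b.f i, ⁅b.f j, v⁆⁆] : Fin 3 → L) k ≠ 0 := by
  fin_cases k
  · exact hv.ne
  · exact f_lie_ne_zero b hv hj
  · exact ht

theorem linInd3 (hv : IsHWV b ρ v) (hj : ρ (b.h' j) = 1) (i : ι)
    (ht : ⁅b.f i, ⁅b.f j, v⁆⁆ ≠ 0) :
    LinearIndependent K (![v, ⁅b.f j, v⁆, ⁅b.f i, ⁅b.f j, v⁆⁆] : Fin 3 → L) :=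
  linearIndependent_of_weights _ (chi3_injective b ρ j i) _ (mem3 b hv i) (ne3 b hv hj i ht)

theorem struct3 (hv : IsHWV b ρ v) (hN : ∀ i, ρ (b.h' i) ≠ 0 ↔ i = j) (hj : ρ (b.h' j) = 1)
    (hW : Stable b W) (h3 : Module.finrank K W = 3) :
    ∃ i, i ≠ j ∧ b.A j i ≠ 0 ∧ ⁅b.f i, ⁅b.f j, v⁆⁆ ≠ 0 ∧
      W = Submodule.span K (Set.range ![v, ⁅b.f j, v⁆, ⁅b.f i, ⁅b.f j, v⁆⁆]) := by
  have hle := le_of_stable2 b hv hN hW (by omega : 2 ≤ Module.finrank K W)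
  have hnot : ¬ W ≤ V H ρ ⊔ V H (ρ - b.baseSupp j) := by
    intro hle'
    have h1 := Submodule.finrank_mono hle'
    rw [finrank2 b hv hj] at h1
    omega
  obtain ⟨i, hij, hA, ht, htW⟩ := step3 b hv hN hj hW hnot
  refine ⟨i, hij, hA, ht, ?_⟩
  have hle3 : Submodule.span K (Set.range ![v, ⁅b.f j, v⁆, ⁅b.f i, ⁅b.f j, v⁆⁆]) ≤ W := by
    rw [← span3 b hv hN i]
    refine sup_le hle ?_
    rw [V_rho_sub_sub b hv hN i, Submodule.span_le, Set.singleton_subset_iff]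
    exact htW
  refine (Submodule.eq_of_le_of_finrank_eq hle3 ?_).symm
  rw [finrank_span_range _ (chi3_injective b ρ j i) _ (mem3 b hv i) (ne3 b hv hj i ht), h3]

theorem threeDim (hρ : rootSpace H ρ ≠ ⊥) (htop : ∀ i, rootSpace H (ρ + b.baseSupp i) = ⊥)
    (hN : ∀ i, ρ (b.h' i) ≠ 0 ↔ i = j) (hj : ρ (b.h' j) = 1) (W : Submodule K L)
    (h3 : Module.finrank K W = 3)
    (hst : ∀ x ∈ H.toSubmodule ⊔ (b.borelUpper : Submodule K L), ∀ w ∈ W, ⁅x, w⁆ ∈ W) :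
    V H ρ ⊔ V H (ρ - b.baseSupp j) ≤ W ∧
      ∃ i : ι, i ≠ j ∧ b.A i j ≠ 0 ∧
        W = V H ρ ⊔ V H (ρ - b.baseSupp j) ⊔ V H (ρ - b.baseSupp j - b.baseSupp i) := by
  obtain ⟨v, hv⟩ := exists_hwv b hρ htop
  have hW := stable_of b hst
  refine ⟨le_of_stable2 b hv hN hW (by omega), ?_⟩
  obtain ⟨i, hij, hA, -, hWeq⟩ := struct3 b hv hN hj hW h3
  refine ⟨i, hij, A_ne_zero_symm b hij hA, ?_⟩
  rw [span3 b hv hN i]
  exact hWeq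

end Groth.Agent.H87.Adj
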