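import Groth.Agent.H87.Adj11

set_option autoImplicit false
set_option linter.unusedSectionVars false
universe u v w

open LieAlgebra LieModule

namespace Groth.Agent.H87.Adj

section Quad

variable {K : Type*} [Field K] [CharZero K] {M : Type*} [AddCommGroup M] [Module K M]
  (q : QuadraticForm K M) (D : M →ₗ[K] M) (c : K)

open QuadraticMap

theorem quad_aux1 (hD : ∀ w, polar q (D w) w = c * q w) {a b : M} {lam : K} (hl : lam ≠ 0)
    (ha : D a = 0) (hb : D b = lam • a) : q a = 0 ∧ polar q a b = 0 := by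
  have e1 : 0 = c * q a := by
    have := hD a
    rwa [ha, polar_zero_left] at this
  have e2 : lam * polar q a b = c * q b := by
    have := hD b
    rwa [hb, polar_smul_left, smul_eq_mul] at this
  have e3 : lam * (2 * q a + polar q a b) = c * (q a + q b + polar q a b) := by
    have := hD (a + b)
    rw [map_add, ha, hb, zero_add, polar_smul_left, polar_add_right, polar_self,
      QuadraticMap.map_add (⇑q) a b, smul_eq_mul, nsmul_eq_mul] at this
    exact_mod_cast this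
  by_cases hc : c = 0
  · subst hc
    have hP : polar q a b = 0 := by
      rw [zero_mul] at e2
      exact (mul_eq_zero.mp e2).resolve_left hl
    rw [hP, zero_mul, add_zero] at e3
    have : 2 * q a = 0 := (mul_eq_zero.mp e3).resolve_left hl
    have h2 : (2 : K) ≠ 0 := two_ne_zero
    exact ⟨(mul_eq_zero.mp this).resolve_left h2, hP⟩
  · have hqa : q a = 0 := (mul_eq_zero.mp e1.symm).resolve_left hc
    rw [hqa] at e3
    have hcP : c * polar q a b = 0 := by
      linear_combination e2 - e3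
    exact ⟨hqa, (mul_eq_zero.mp hcP).resolve_left hc⟩

theorem quad_aux2 (hD : ∀ w, polar q (D w) w = c * q w) {a b d : M} {lam : K} (hl : lam ≠ 0)
    (ha : D a = 0) (hb : D b = lam • a) (hd : D d = 0) : polar q a d = 0 := by
  obtain ⟨hqa, hP⟩ := quad_aux1 q D c hD hl ha hb
  have e1 : 0 = c * q d := by
    have := hD d
    rwa [hd, polar_zero_left] at this
  have e2 : lam * (polar q a b + polar q a d) = c * (q b + q d + polar q b d) := by
    have := hD (b + d)
    rwa [map_add, hb, hd, add_zero, polar_smul_left, polar_add_right,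
      QuadraticMap.map_add (⇑q) b d, smul_eq_mul] at this
  have e3 : 0 = c * (q a + q d + polar q a d) := by
    have := hD (a + d)
    rwa [map_add, ha, hd, add_zero, polar_zero_left, QuadraticMap.map_add (⇑q) a d] at this
  by_cases hc : c = 0
  · subst hc
    rw [zero_mul, hP, zero_add] at e2
    exact (mul_eq_zero.mp e2).resolve_left hl
  · have hqd : q d = 0 := (mul_eq_zero.mp e1.symm).resolve_left hc
    rw [hqd, hqa, add_zero, zero_add] at e3
    exact (mul_eq_zero.mp e3.symm).resolve_left hc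

theorem quad_expand {a b d : M} (hqa : q a = 0) (hqb : q b = 0) (hab : polar q a b = 0)
    (had : polar q a d = 0) (hbd : polar q b d = 0) (x y z : K) :
    q (x • a + y • b + z • d) = q d * z ^ 2 := by
  rw [QuadraticMap.map_add (⇑q) (x • a + y • b), QuadraticMap.map_add (⇑q) (x • a), polar_add_left]
  simp only [QuadraticMap.map_smul, polar_smul_left,
    polar_smul_right, hqa, hqb, hab, had, hbd, smul_eq_mul]
  ring

end Quad

section Conic

variable {ι : Type u} {K : Type v} {L : Type w} [Fintype ι] [Field K] [CharZero K]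
    [IsAlgClosed K] [LieRing L] [LieAlgebra K L] [FiniteDimensional K L] [LieAlgebra.IsSimple K L]
    {H : LieSubalgebra K L} [H.IsCartanSubalgebra] (b : LieAlgebra.Basis ι H)

variable {ρ : Module.Dual K H} {v : L} {j : ι} {W : Submodule K L}

open QuadraticMap

/-- the restriction of `ad x` to a stable subspace -/
def adRestrict (x : L) (hx : ∀ w ∈ W, ⁅x, w⁆ ∈ W) : W →ₗ[K] W where
  toFun w := ⟨⁅x, (w : L)⁆, hx w w.2⟩
  map_add' a c := by apply Subtype.ext; simp [lie_add]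
  map_smul' r a := by apply Subtype.ext; simp [lie_smul]

theorem semi_inv_step1 (q : QuadraticForm K W) (x : L) (hx : ∀ w ∈ W, ⁅x, w⁆ ∈ W) (c : K)
    (hc : ∀ w : W, polar q ⟨⁅x, (w : L)⁆, hx w w.2⟩ w = c * q w) {a d : W} {lam : K}
    (hl : lam ≠ 0) (ha : ⁅x, (a : L)⁆ = 0) (hd : ⁅x, (d : L)⁆ = lam • (a : L)) :
    q a = 0 ∧ polar q a d = 0 := by
  refine quad_aux1 q (adRestrict x hx) c hc hl ?_ ?_
  · apply Subtype.ext; exact ha
  · apply Subtype.ext; exact hd

theorem semi_inv_step2 (q : QuadraticForm K W) (x : L) (hx : ∀ w ∈ W, ⁅x, w⁆ ∈ W) (c : K)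
    (hc : ∀ w : W, polar q ⟨⁅x, (w : L)⁆, hx w w.2⟩ w = c * q w) {a d e : W} {lam : K}
    (hl : lam ≠ 0) (ha : ⁅x, (a : L)⁆ = 0) (hd : ⁅x, (d : L)⁆ = lam • (a : L))
    (he : ⁅x, (e : L)⁆ = 0) :
    polar q a e = 0 := by
  refine quad_aux2 q (adRestrict x hx) c hc (b := d) hl ?_ ?_ ?_
  · apply Subtype.ext; exact ha
  · apply Subtype.ext; exact hd
  · apply Subtype.ext; exact he

theorem conic (hρ : rootSpace H ρ ≠ ⊥) (htop : ∀ i, rootSpace H (ρ + b.baseSupp i) = ⊥)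
    (hN : ∀ i, ρ (b.h' i) ≠ 0 ↔ i = j) (hj : ρ (b.h' j) = 1) (W : Submodule K L)
    (h3 : Module.finrank K W = 3)
    (hst : ∀ x ∈ H.toSubmodule ⊔ (b.borelUpper : Submodule K L), ∀ w ∈ W, ⁅x, w⁆ ∈ W)
    (q : QuadraticForm K W)
    (hq : ∀ (x : L) (hx : x ∈ H.toSubmodule ⊔ (b.borelUpper : Submodule K L)), ∃ c : K, ∀ w : W,
      QuadraticMap.polar q ⟨⁅x, (w : L)⁆, hst x hx w w.property⟩ w = c * q w) :
    ∃ (ℓ : Module.Dual K W) (c : K), ∀ w : W, q w = c * ℓ w ^ 2 := by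
  obtain ⟨v, hv⟩ := exists_hwv b hρ htop
  have hW := stable_of b hst
  obtain ⟨i, hij, hA, ht, hWeq⟩ := struct3 b hv hN hj hW h3
  have hmem : ∀ k, (![v, ⁅b.f j, v⁆, ⁅b.f i, ⁅b.f j, v⁆⁆] : Fin 3 → L) k ∈ W := by
    intro k
    rw [hWeq]
    exact Submodule.subset_span ⟨k, rfl⟩
  set w₁ : W := ⟨v, hmem 0⟩ with hw₁
  set w₂ : W := ⟨⁅b.f j, v⁆, hmem 1⟩ with hw₂
  set w₃ : W := ⟨⁅b.f i, ⁅b.f j, v⁆⁆, hmem 2⟩ with hw₃
  -- membership of the generators in the Borel
  have hxe : ∀ k, b.e k ∈ H.toSubmodule ⊔ (b.borelUpper : Submodule K L) := by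
    intro k
    refine Submodule.mem_sup_right ?_
    change b.e k ∈ LieSubalgebra.lieSpan K L (Set.range b.e)
    exact LieSubalgebra.subset_lieSpan ⟨k, rfl⟩
  have h0i : ρ (b.h' i) = 0 := by
    by_contra hcon; exact hij ((hN i).mp hcon)
  -- the action of `e j`
  have ej1 : ⁅b.e j, (w₁ : L)⁆ = 0 := hv.e_lie j
  have ej2 : ⁅b.e j, (w₂ : L)⁆ = (1 : K) • (w₁ : L) := by
    rw [one_smul]; exact e_lie_u_self b hv hj
  have ej3 : ⁅b.e j, (w₃ : L)⁆ = 0 := by
    change ⁅b.e j, ⁅b.f i, ⁅b.f j, v⁆⁆⁆ = 0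
    rw [leibniz_lie, b.lie_e_f_ne j i (Ne.symm hij), zero_lie, zero_add, e_lie_u_self b hv hj,
      f_lie_eq_zero b hv hN hij]
  -- the action of `e i`
  have ei2 : ⁅b.e i, (w₂ : L)⁆ = 0 := e_lie_u_ne b hv hij
  have ei3 : ⁅b.e i, (w₃ : L)⁆ = (-(b.A j i : K)) • (w₂ : L) := by
    change ⁅b.e i, ⁅b.f i, ⁅b.f j, v⁆⁆⁆ = _
    rw [lie_e_f_lie_self b i _ (e_lie_u_ne b hv hij), h_lie_u b hv, h0i, zero_sub]
  have hlam : (-(b.A j i : K)) ≠ 0 := by
    rw [neg_ne_zero]
    exact_mod_cast hA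
  obtain ⟨cj, hcj⟩ := hq (b.e j) (hxe j)
  obtain ⟨ci, hci⟩ := hq (b.e i) (hxe i)
  obtain ⟨hq1, h12⟩ := semi_inv_step1 q (b.e j) (hst _ (hxe j)) cj hcj one_ne_zero ej1 ej2
  have h13 := semi_inv_step2 q (b.e j) (hst _ (hxe j)) cj hcj one_ne_zero ej1 ej2 ej3
  obtain ⟨hq2, h23⟩ := semi_inv_step1 q (b.e i) (hst _ (hxe i)) ci hci hlam ei2 ei3
  -- a basis of `W`
  have hli : LinearIndependent K (![w₁, w₂, w₃] : Fin 3 → W) := by
    apply LinearIndependent.of_comp W.subtype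
    have : (W.subtype ∘ (![w₁, w₂, w₃] : Fin 3 → W)) =
        (![v, ⁅b.f j, v⁆, ⁅b.f i, ⁅b.f j, v⁆⁆] : Fin 3 → L) := by
      funext k; fin_cases k <;> rfl
    rw [this]
    exact linInd3 b hv hj i ht
  have hsp : ⊤ ≤ Submodule.span K (Set.range (![w₁, w₂, w₃] : Fin 3 → W)) := by
    rintro w -
    have hw : (w : L) ∈ Submodule.span K (Set.range ![v, ⁅b.f j, v⁆, ⁅b.f i, ⁅b.f j, v⁆⁆]) := by
      rw [← hWeq]; exact w.2
    obtain ⟨c, hc⟩ := (Submodule.mem_span_range_iff_exists_fun K).mp hw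
    have : w = ∑ k, c k • (![w₁, w₂, w₃] : Fin 3 → W) k := by
      apply Subtype.ext
      rw [← hc]
      simp [Fin.sum_univ_three, hw₁, hw₂, hw₃]
    rw [this]
    exact Submodule.sum_mem _ (fun k _ => Submodule.smul_mem _ _ (Submodule.subset_span ⟨k, rfl⟩))
  set B := Module.Basis.mk hli hsp with hB
  refine ⟨B.coord 2, q w₃, fun w => ?_⟩
  have hw := B.sum_repr w
  rw [Fin.sum_univ_three] at hw
  have hB0 : B 0 = w₁ := by rw [hB, Module.Basis.mk_apply]; rfl
  have hB1 : B 1 = w₂ := by rw [hB, Module.Basis.mk_apply]; rfl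
  have hB2 : B 2 = w₃ := by rw [hB, Module.Basis.mk_apply]; rfl
  rw [hB0, hB1, hB2] at hw
  conv_lhs => rw [← hw]
  rw [quad_expand q hq1 hq2 h12 h13 h23]
  rfl

end Conic

end Groth.Agent.H87.Adj
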