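import Groth.Agent.H87.Adj1

set_option autoImplicit false
set_option linter.unusedSectionVars false
universe u v w

open LieAlgebra LieModule

namespace Groth.Agent.H87.Adj

variable {ι : Type u} {K : Type v} {L : Type w} [Fintype ι] [Field K] [CharZero K]
    [IsAlgClosed K] [LieRing L] [LieAlgebra K L] [FiniteDimensional K L] [LieAlgebra.IsSimple K L]
    {H : LieSubalgebra K L} [H.IsCartanSubalgebra]

/-- weight spaces as plain submodules -/
noncomputable abbrev V (H : LieSubalgebra K L) [H.IsCartanSubalgebra] (χ : H → K) : Submodule K L :=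
  (rootSpace H χ).toSubmodule

theorem iSupIndep_V : iSupIndep (fun χ : H → K => V H χ) :=
  LieSubmodule.iSupIndep_toSubmodule.mpr (iSupIndep_genWeightSpace K H L)

theorem eq_zero_of_mem_of_mem_iSup {ν : H → K} {x : L} (hx : x ∈ V H ν)
    (hx' : x ∈ ⨆ (χ : H → K) (_ : χ ≠ ν), V H χ) : x = 0 := by
  have := (iSupIndep_V (H := H)) ν
  exact (Submodule.disjoint_def.mp this) x hx hx'

/-- weight decomposition of an `H`-stable subspace -/
theorem le_iSup_inf (W : Submodule K L) (hW : ∀ h : H, ∀ w ∈ W, ⁅(h : L), w⁆ ∈ W) :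
    W ≤ ⨆ χ : H → K, W ⊓ V H χ := by
  let W' : LieSubmodule K H L := { W with lie_mem := fun {h w} hw => hW h w hw }
  have htop : (⨆ χ : H → K, genWeightSpace W' χ) = ⊤ := iSup_genWeightSpace_eq_top K H W'
  intro w hw
  have hmem : (⟨w, hw⟩ : W') ∈ (⨆ χ : H → K, (genWeightSpace W' χ).toSubmodule) := by
    rw [← LieSubmodule.iSup_toSubmodule, htop]; trivial
  have h2 : w ∈ Submodule.map W.subtype (⨆ χ : H → K, (genWeightSpace W' χ).toSubmodule) :=
    ⟨⟨w, hw⟩, hmem, rfl⟩
  rw [Submodule.map_iSup] at h2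
  have hle : (⨆ χ : H → K, Submodule.map W.subtype (genWeightSpace W' χ).toSubmodule)
      ≤ ⨆ χ : H → K, W ⊓ V H χ := by
    refine iSup_mono fun χ => ?_
    rintro _ ⟨y, hy, rfl⟩
    refine ⟨y.2, ?_⟩
    have : W'.incl y ∈ (genWeightSpace W' χ).map W'.incl := ⟨y, hy, rfl⟩
    exact map_genWeightSpace_le W'.incl this
  exact hle h2

end Groth.Agent.H87.Adj
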