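import Groth.Agent.H87.Adj2

set_option autoImplicit false
set_option linter.unusedSectionVars false
universe u v w

open LieAlgebra LieModule

namespace Groth.Agent.H87.Adj

variable {ι : Type u} {K : Type v} {L : Type w} [Fintype ι] [Field K] [CharZero K]
    [IsAlgClosed K] [LieRing L] [LieAlgebra K L] [FiniteDimensional K L] [LieAlgebra.IsSimple K L]
    {H : LieSubalgebra K L} [H.IsCartanSubalgebra] (b : LieAlgebra.Basis ι H)

/-- iterated lowering operators -/
def iter (l : List ι) (x : L) : L := l.foldr (fun i y => ⁅b.f i, y⁆) x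

@[simp] theorem iter_nil (x : L) : iter b [] x = x := rfl
@[simp] theorem iter_cons (i : ι) (l : List ι) (x : L) : iter b (i :: l) x = ⁅b.f i, iter b l x⁆ := rfl

/-- the weight of a list of simple roots -/
noncomputable def wt (l : List ι) : Module.Dual K H := (l.map b.baseSupp).sum

@[simp] theorem wt_nil : wt b ([] : List ι) = 0 := rfl
@[simp] theorem wt_cons (i : ι) (l : List ι) : wt b (i :: l) = b.baseSupp i + wt b l := by
  simp [wt]

theorem iter_mem {μ : H → K} {x : L} (hx : x ∈ rootSpace H μ) (l : List ι) :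
    iter b l x ∈ rootSpace H (μ - ⇑(wt b l)) := by
  induction l with
  | nil =>
    have : μ - ⇑(wt b ([] : List ι)) = μ := by funext h; simp
    rw [this]; exact hx
  | cons i l ih =>
    rw [iter_cons]
    have := lie_mem_rootSpace (f_mem b i) ih
    convert this using 2
    funext h
    simp only [wt_cons, Pi.sub_apply, LinearMap.add_apply, Pi.add_apply, Pi.neg_apply]
    ring

/-- the span of all lowerings of `x` -/
noncomputable def Mx (x : L) : Submodule K L :=
  Submodule.span K (Set.range fun l : List ι => iter b l x)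

theorem iter_mem_Mx (x : L) (l : List ι) : iter b l x ∈ Mx b x :=
  Submodule.subset_span ⟨l, rfl⟩

theorem lie_mem_Mx_of_forall (x z : L) (hz : ∀ l : List ι, ⁅z, iter b l x⁆ ∈ Mx b x) :
    ∀ m ∈ Mx b x, ⁅z, m⁆ ∈ Mx b x := by
  intro m hm
  induction hm using Submodule.span_induction with
  | mem y hy => obtain ⟨l, rfl⟩ := hy; exact hz l
  | zero => rw [lie_zero]; exact Submodule.zero_mem _
  | add y y' _ _ hy hy' => rw [lie_add]; exact Submodule.add_mem _ hy hy'
  | smul c y _ hy => rw [lie_smul]; exact Submodule.smul_mem _ c hy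

theorem f_lie_mem_Mx (x : L) (i : ι) : ∀ m ∈ Mx b x, ⁅b.f i, m⁆ ∈ Mx b x :=
  lie_mem_Mx_of_forall b x _ (fun l => iter_mem_Mx b x (i :: l))

theorem h_lie_mem_Mx {μ : H → K} {x : L} (hx : x ∈ rootSpace H μ) (h : H) :
    ∀ m ∈ Mx b x, ⁅(h : L), m⁆ ∈ Mx b x :=
  lie_mem_Mx_of_forall b x _ (fun l => by
    rw [(mem_rootSpace_iff _ _).mp (iter_mem b hx l) h]
    exact Submodule.smul_mem _ _ (iter_mem_Mx b x l))

theorem e_lie_mem_Mx {μ : H → K} {x : L} (hx : x ∈ rootSpace H μ)
    (hx0 : ∀ i, ⁅b.e i, x⁆ = 0) (i : ι) : ∀ m ∈ Mx b x, ⁅b.e i, m⁆ ∈ Mx b x := by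
  apply lie_mem_Mx_of_forall
  intro l
  induction l with
  | nil => rw [iter_nil, hx0 i]; exact Submodule.zero_mem _
  | cons j l ih =>
    rw [iter_cons, leibniz_lie]
    refine Submodule.add_mem _ ?_ (f_lie_mem_Mx b x j _ ih)
    by_cases hij : i = j
    · subst hij
      rw [(b.sl2 i).lie_e_f]
      exact h_lie_mem_Mx b hx (b.h' i) _ (iter_mem_Mx b x l)
    · rw [b.lie_e_f_ne i j hij, zero_lie]; exact Submodule.zero_mem _

theorem Mx_eq_top {μ : H → K} {x : L} (hx : x ∈ rootSpace H μ) (hxne : x ≠ 0)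
    (hx0 : ∀ i, ⁅b.e i, x⁆ = 0) : Mx b x = ⊤ := by
  -- the stabiliser is a Lie subalgebra
  let S : LieSubalgebra K L :=
    { carrier := {z | ∀ m ∈ Mx b x, ⁅z, m⁆ ∈ Mx b x}
      add_mem' := fun {z z'} hz hz' m hm => by
        rw [add_lie]; exact Submodule.add_mem _ (hz m hm) (hz' m hm)
      zero_mem' := fun m _ => by rw [zero_lie]; exact Submodule.zero_mem _
      smul_mem' := fun c z hz m hm => by
        rw [smul_lie]; exact Submodule.smul_mem _ c (hz m hm)
      lie_mem' := fun {z z'} hz hz' m hm => by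
        rw [lie_lie]
        exact Submodule.sub_mem _ (hz _ (hz' m hm)) (hz' _ (hz m hm)) }
  have hS : S = ⊤ := by
    rw [eq_top_iff, ← b.span_ef, LieSubalgebra.lieSpan_le]
    rintro z (⟨i, rfl⟩ | ⟨i, rfl⟩)
    · exact e_lie_mem_Mx b hx hx0 i
    · exact f_lie_mem_Mx b x i
  let I : LieIdeal K L :=
    { Mx b x with
      lie_mem := fun {z m} hm => by
        have hz : z ∈ S := by rw [hS]; trivial
        exact hz m hm }
  have hI : I = ⊤ := by
    rcases LieAlgebra.IsSimple.eq_bot_or_eq_top I with h | h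
    · exfalso
      have hxI : x ∈ I := iter_mem_Mx b x []
      rw [h] at hxI
      exact hxne ((LieSubmodule.mem_bot x).mp hxI)
    · exact h
  rw [eq_top_iff]
  intro y _
  have : y ∈ I := by rw [hI]; trivial
  exact this

end Groth.Agent.H87.Adj
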