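import Groth.Agent.H87.Adj3

set_option autoImplicit false
set_option linter.unusedSectionVars false
universe u v w

open LieAlgebra LieModule

namespace Groth.Agent.H87.Adj

variable {ι : Type u} {K : Type v} {L : Type w} [Fintype ι] [Field K] [CharZero K]
    [IsAlgClosed K] [LieRing L] [LieAlgebra K L] [FiniteDimensional K L] [LieAlgebra.IsSimple K L]
    {H : LieSubalgebra K L} [H.IsCartanSubalgebra] (b : LieAlgebra.Basis ι H)

theorem wt_eq_sum [DecidableEq ι] (l : List ι) :
    wt b l = ∑ i : ι, ((l.count i : ℕ) : K) • b.baseSupp i := by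
  induction l with
  | nil => simp
  | cons j l ih =>
    rw [wt_cons, ih]
    have : ∀ i : ι, (((j :: l).count i : ℕ) : K) • b.baseSupp i
        = ((l.count i : ℕ) : K) • b.baseSupp i + (if i = j then b.baseSupp i else 0) := by
      intro i
      rw [List.count_cons]
      by_cases h : i = j
      · subst h; simp [add_smul]
      · have : (j == i) = false := by simpa using (Ne.symm h)
        simp [this, h]
    simp_rw [this]
    rw [Finset.sum_add_distrib, Finset.sum_ite_eq' Finset.univ j, if_pos (Finset.mem_univ j), add_comm]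

theorem perm_of_wt_eq {l l' : List ι} (h : wt b l = wt b l') : l.Perm l' := by
  classical
  rw [List.perm_iff_count]
  intro i
  rw [wt_eq_sum, wt_eq_sum, ← sub_eq_zero, ← Finset.sum_sub_distrib] at h
  have h' : ∑ x : ι, (((l.count x : ℕ) : K) - ((l'.count x : ℕ) : K)) • b.baseSupp x = 0 := by
    rw [← h]
    refine Finset.sum_congr rfl (fun x _ => ?_)
    ext h
    simp [sub_mul]
  have := Fintype.linearIndependent_iff.mp b.linearIndependent_baseSupp _ h' i
  have h2 : ((l.count i : ℕ) : K) = ((l'.count i : ℕ) : K) := sub_eq_zero.mp this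
  exact_mod_cast h2

theorem eq_nil_of_wt_eq_zero {l : List ι} (h : wt b l = 0) : l = [] := by
  have : l.Perm [] := perm_of_wt_eq b (by rw [h, wt_nil])
  exact List.perm_nil.mp this

theorem eq_singleton_of_wt_eq {l : List ι} {i : ι} (h : wt b l = b.baseSupp i) : l = [i] := by
  have : l.Perm [i] := perm_of_wt_eq b (by rw [h, wt_cons, wt_nil, add_zero])
  exact List.perm_singleton.mp this

theorem eq_pair_of_wt_eq {l : List ι} {i j : ι} (h : wt b l = b.baseSupp i + b.baseSupp j) :
    l = [i, j] ∨ l = [j, i] := by
  have hp : l.Perm [i, j] := perm_of_wt_eq b (by rw [h, wt_cons, wt_cons, wt_nil, add_zero])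
  have hlen := hp.length_eq
  match l, hlen with
  | [a, c], _ =>
    have ha : a ∈ [i, j] := hp.subset (by simp)
    have hc : c ∈ [i, j] := hp.subset (by simp)
    have hi : i ∈ [a, c] := hp.symm.subset (by simp)
    have hj : j ∈ [a, c] := hp.symm.subset (by simp)
    simp only [List.mem_cons, List.not_mem_nil, or_false] at ha hc hi hj
    rcases ha with rfl | rfl <;> rcases hc with rfl | rfl
    · rcases hj with rfl | rfl <;> simp
    · simp
    · simp
    · rcases hi with rfl | rfl <;> simp

end Groth.Agent.H87.Adj
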