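import Groth.Agent.H87.Adj4

set_option autoImplicit false
set_option linter.unusedSectionVars false
universe u v w

open LieAlgebra LieModule

namespace Groth.Agent.H87.Adj

variable {ι : Type u} {K : Type v} {L : Type w} [Fintype ι] [Field K] [CharZero K]
    [IsAlgClosed K] [LieRing L] [LieAlgebra K L] [FiniteDimensional K L] [LieAlgebra.IsSimple K L]
    {H : LieSubalgebra K L} [H.IsCartanSubalgebra] (b : LieAlgebra.Basis ι H)

/-- graded description of the module generated by a highest weight vector -/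
theorem V_le_span {μ : H → K} {x : L} (hx : x ∈ rootSpace H μ) (hxne : x ≠ 0)
    (hx0 : ∀ i, ⁅b.e i, x⁆ = 0) (ν : H → K) :
    V H ν ≤ Submodule.span K {y | ∃ l : List ι, μ - ⇑(wt b l) = ν ∧ y = iter b l x} := by
  intro y hy
  have hyM : y ∈ Mx b x := by rw [Mx_eq_top b hx hxne hx0]; trivial
  set A : Set L := {y | ∃ l : List ι, μ - ⇑(wt b l) = ν ∧ y = iter b l x} with hA
  set B : Set L := {y | ∃ l : List ι, μ - ⇑(wt b l) ≠ ν ∧ y = iter b l x} with hB
  have hrange : (Set.range fun l : List ι => iter b l x) ⊆ A ∪ B := by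
    rintro _ ⟨l, rfl⟩
    by_cases h : μ - ⇑(wt b l) = ν
    · exact Or.inl ⟨l, h, rfl⟩
    · exact Or.inr ⟨l, h, rfl⟩
  have h1 : y ∈ Submodule.span K A ⊔ Submodule.span K B := by
    rw [← Submodule.span_union]
    exact Submodule.span_mono hrange hyM
  obtain ⟨s, hs, s', hs', rfl⟩ := Submodule.mem_sup.mp h1
  have hAV : Submodule.span K A ≤ V H ν := by
    rw [Submodule.span_le]
    rintro _ ⟨l, hl, rfl⟩
    have := iter_mem b hx l
    rw [hl] at this
    exact this
  have hBV : Submodule.span K B ≤ ⨆ (χ : H → K) (_ : χ ≠ ν), V H χ := by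
    rw [Submodule.span_le]
    rintro _ ⟨l, hl, rfl⟩
    have := iter_mem b hx l
    exact Submodule.mem_iSup_of_mem _ (Submodule.mem_iSup_of_mem hl this)
  have hs'0 : s' = 0 := by
    apply eq_zero_of_mem_of_mem_iSup (ν := ν) _ (hBV hs')
    have : s' = (s + s') - s := by abel
    rw [this]
    exact Submodule.sub_mem _ hy (hAV hs)
  rw [hs'0, add_zero]
  exact hs

/-- uniqueness of highest weight vectors -/
theorem hwv_unique {μ ν : H → K} {x y : L} (hx : x ∈ rootSpace H μ) (hxne : x ≠ 0)
    (hx0 : ∀ i, ⁅b.e i, x⁆ = 0) (hy : y ∈ rootSpace H ν) (hyne : y ≠ 0)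
    (hy0 : ∀ i, ⁅b.e i, y⁆ = 0) : μ = ν ∧ y ∈ Submodule.span K {x} := by
  have h1 := V_le_span b hx hxne hx0 ν hy
  have h2 := V_le_span b hy hyne hy0 μ hx
  have hne1 : ∃ l : List ι, μ - ⇑(wt b l) = ν := by
    by_contra hcon
    push Not at hcon
    have : {y | ∃ l : List ι, μ - ⇑(wt b l) = ν ∧ y = iter b l x} = (∅ : Set L) := by
      ext z; simp only [Set.mem_ofPred_eq, Set.mem_empty_iff_false, iff_false]
      rintro ⟨l, hl, -⟩; exact hcon l hl
    rw [this, Submodule.span_empty] at h1
    exact hyne ((Submodule.mem_bot K).mp h1)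
  have hne2 : ∃ l : List ι, ν - ⇑(wt b l) = μ := by
    by_contra hcon
    push Not at hcon
    have : {z | ∃ l : List ι, ν - ⇑(wt b l) = μ ∧ z = iter b l y} = (∅ : Set L) := by
      ext z; simp only [Set.mem_ofPred_eq, Set.mem_empty_iff_false, iff_false]
      rintro ⟨l, hl, -⟩; exact hcon l hl
    rw [this, Submodule.span_empty] at h2
    exact hxne ((Submodule.mem_bot K).mp h2)
  obtain ⟨l, hl⟩ := hne1
  obtain ⟨l', hl'⟩ := hne2
  have hsum : wt b (l ++ l') = 0 := by
    have hfun : (⇑(wt b l) : H → K) + ⇑(wt b l') = 0 := by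
      funext h
      have e1 := congrFun hl h
      have e2 := congrFun hl' h
      simp only [Pi.sub_apply, Pi.add_apply, Pi.zero_apply] at e1 e2 ⊢
      linear_combination -e1 - e2
    have happ : wt b (l ++ l') = wt b l + wt b l' := by simp [wt]
    rw [happ]
    ext h
    exact congrFun hfun h
  have hnil := eq_nil_of_wt_eq_zero b hsum
  have hlnil : l = [] := (List.append_eq_nil_iff.mp hnil).1
  have hμν : μ = ν := by
    rw [hlnil] at hl
    rw [← hl]; funext h; simp
  refine ⟨hμν, ?_⟩
  refine Submodule.span_mono ?_ h1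
  rintro _ ⟨l₁, hl₁, rfl⟩
  have : wt b l₁ = 0 := by
    ext h
    have := congrFun hl₁ h
    rw [hμν] at this
    simp only [Pi.sub_apply] at this
    simp only [LinearMap.zero_apply]
    linear_combination -this
  rw [eq_nil_of_wt_eq_zero b this]
  simp

end Groth.Agent.H87.Adj
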