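import Groth.Agent.H87.Adj5

set_option autoImplicit false
set_option linter.unusedSectionVars false
universe u v w

open LieAlgebra LieModule

namespace Groth.Agent.H87.Adj

variable {ι : Type u} {K : Type v} {L : Type w} [Fintype ι] [Field K] [CharZero K]
    [IsAlgClosed K] [LieRing L] [LieAlgebra K L] [FiniteDimensional K L] [LieAlgebra.IsSimple K L]
    {H : LieSubalgebra K L} [H.IsCartanSubalgebra] (b : LieAlgebra.Basis ι H)

/-- a height element -/
theorem exists_height : ∃ h₀ : H, ∀ i, b.baseSupp i h₀ = 1 := by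
  classical
  set A : Matrix ι ι K := (Int.castRingHom K).mapMatrix b.A with hA
  have hdet : IsUnit A.det := by
    rw [isUnit_iff_ne_zero, hA, ← RingHom.map_det]
    simpa using b.nondegen.det_ne_zero
  set c : ι → K := A⁻¹.mulVec (fun _ => 1) with hc
  have hAc : A.mulVec c = fun _ => 1 := by
    rw [hc, Matrix.mulVec_mulVec, Matrix.mul_nonsing_inv _ hdet, Matrix.one_mulVec]
  refine ⟨∑ j, c j • b.h' j, fun i => ?_⟩
  rw [map_sum]
  have : ∀ j, b.baseSupp i (c j • b.h' j) = A i j * c j := by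
    intro j
    rw [map_smul, b.baseSupp_apply_h', smul_eq_mul, mul_comm]
    simp [hA]
  simp_rw [this]
  have := congrFun hAc i
  simpa [Matrix.mulVec, dotProduct] using this

/-- a finite nonempty set of weights has a top element -/
theorem exists_top (P : Set (H → K)) (hfin : P.Finite) (hne : P.Nonempty) :
    ∃ χ ∈ P, ∀ i, χ + ⇑(b.baseSupp i) ∉ P := by
  obtain ⟨h₀, hh₀⟩ := exists_height b
  by_contra hcon
  push Not at hcon
  obtain ⟨χ₀, hχ₀⟩ := hne
  have hall : ∀ n : ℕ, ∃ ψ ∈ P, ψ h₀ = χ₀ h₀ + n := by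
    intro n
    induction n with
    | zero => exact ⟨χ₀, hχ₀, by simp⟩
    | succ n ih =>
      obtain ⟨ψ, hψ, hψn⟩ := ih
      obtain ⟨i, hi⟩ := hcon ψ hψ
      refine ⟨_, hi, ?_⟩
      rw [Pi.add_apply, hψn, hh₀ i]
      push_cast; ring
  choose ψ hψP hψ using hall
  have hinj : Function.Injective ψ := by
    intro n m hnm
    have := hψ n
    rw [hnm, hψ m] at this
    have h2 : (m : K) = n := add_left_cancel this
    exact_mod_cast h2.symm
  exact (Set.infinite_of_injective_forall_mem hinj hψP) hfin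

/-- primitive vectors for the `i`-th `sl₂`-triple -/
theorem prim (i : ι) (m : L) (c : K) (hm : m ≠ 0) (hh : ⁅b.h i, m⁆ = c • m)
    (he : ⁅b.e i, m⁆ = 0) :
    ∃ n : ℕ, c = n ∧ (n = 0 → ⁅b.f i, m⁆ = 0) ∧ (1 ≤ n → ⁅b.f i, m⁆ ≠ 0) ∧
      (n = 1 → ⁅b.f i, ⁅b.f i, m⁆⁆ = 0) := by
  have P : (b.sl2 i).HasPrimitiveVectorWith m c := ⟨hm, hh, he⟩
  obtain ⟨n, hn⟩ := P.exists_nat
  refine ⟨n, hn, ?_, ?_, ?_⟩
  · rintro rfl
    have := P.pow_toEnd_f_eq_zero_of_eq_nat hn
    simpa using this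
  · intro h1
    have := P.pow_toEnd_f_ne_zero_of_eq_nat hn h1
    simpa using this
  · rintro rfl
    have := P.pow_toEnd_f_eq_zero_of_eq_nat hn
    simpa [pow_succ] using this

end Groth.Agent.H87.Adj
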