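import Groth.Agent.H87.Adj6

set_option autoImplicit false
set_option linter.unusedSectionVars false
universe u v w

open LieAlgebra LieModule

namespace Groth.Agent.H87.Adj

variable {ι : Type u} {K : Type v} {L : Type w} [Fintype ι] [Field K] [CharZero K]
    [IsAlgClosed K] [LieRing L] [LieAlgebra K L] [FiniteDimensional K L] [LieAlgebra.IsSimple K L]
    {H : LieSubalgebra K L} [H.IsCartanSubalgebra] (b : LieAlgebra.Basis ι H)

/-- highest weight vectors -/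
structure IsHWV (ρ : Module.Dual K H) (v : L) : Prop where
  mem : v ∈ rootSpace H ρ
  ne : v ≠ 0
  e_lie : ∀ i, ⁅b.e i, v⁆ = 0

variable {ρ : Module.Dual K H} {v : L}

theorem exists_hwv (hρ : rootSpace H ρ ≠ ⊥) (htop : ∀ i, rootSpace H (ρ + b.baseSupp i) = ⊥) :
    ∃ v, IsHWV b ρ v := by
  rw [Ne, LieSubmodule.eq_bot_iff] at hρ
  push Not at hρ
  obtain ⟨v, hv, hv0⟩ := hρ
  refine ⟨v, hv, hv0, fun i => ?_⟩
  have h1 := lie_mem_rootSpace (e_mem b i) hv
  rw [add_comm, htop i] at h1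
  simpa using h1

theorem V_le_of_forall (hv : IsHWV b ρ v) (ν : H → K) (N : Submodule K L)
    (h : ∀ l, (ρ : H → K) - ⇑(wt b l) = ν → iter b l v ∈ N) : V H ν ≤ N := by
  refine (V_le_span b hv.mem hv.ne hv.e_lie ν).trans (Submodule.span_le.mpr ?_)
  rintro _ ⟨l, hl, rfl⟩
  exact h l hl

theorem V_rho (hv : IsHWV b ρ v) : V H ρ = Submodule.span K {v} := by
  apply le_antisymm
  · apply V_le_of_forall b hv
    intro l hl
    have : wt b l = 0 := by
      ext h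
      have := congrFun hl h
      simp only [Pi.sub_apply] at this
      simp only [LinearMap.zero_apply]
      linear_combination -this
    rw [eq_nil_of_wt_eq_zero b this]
    exact Submodule.mem_span_singleton_self v
  · rw [Submodule.span_le, Set.singleton_subset_iff]
    exact hv.mem

theorem f_lie_mem {χ : H → K} {m : L} (hm : m ∈ rootSpace H χ) (i : ι) :
    ⁅b.f i, m⁆ ∈ rootSpace H (χ - b.baseSupp i) := by
  have h1 := lie_mem_rootSpace (f_mem b i) hm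
  have h2 : (⇑(-b.baseSupp i) + χ : H → K) = χ - ⇑(b.baseSupp i) := by
    funext h; simp [sub_eq_add_neg, add_comm]
  rw [← h2]; exact h1

theorem V_rho_sub (hv : IsHWV b ρ v) (i : ι) :
    V H (ρ - b.baseSupp i) = Submodule.span K {⁅b.f i, v⁆} := by
  apply le_antisymm
  · apply V_le_of_forall b hv
    intro l hl
    have : wt b l = b.baseSupp i := by
      ext h
      have := congrFun hl h
      simp only [Pi.sub_apply] at this
      linear_combination -this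
    rw [eq_singleton_of_wt_eq b this]
    exact Submodule.mem_span_singleton_self _
  · rw [Submodule.span_le, Set.singleton_subset_iff]
    exact f_lie_mem b hv.mem i

theorem h_lie (hv : IsHWV b ρ v) (i : ι) : ⁅b.h i, v⁆ = ρ (b.h' i) • v :=
  (mem_rootSpace_iff _ _).mp hv.mem (b.h' i)

theorem lie_e_f_lie_self (i : ι) (m : L) (hm : ⁅b.e i, m⁆ = 0) :
    ⁅b.e i, ⁅b.f i, m⁆⁆ = ⁅b.h i, m⁆ := by
  rw [leibniz_lie, hm, lie_zero, add_zero, (b.sl2 i).lie_e_f]

theorem lie_e_f_lie_ne {i k : ι} (hik : i ≠ k) (m : L) (hm : ⁅b.e i, m⁆ = 0) :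
    ⁅b.e i, ⁅b.f k, m⁆⁆ = 0 := by
  rw [leibniz_lie, hm, lie_zero, add_zero, b.lie_e_f_ne i k hik, zero_lie]

/-- symmetry of vanishing of Cartan matrix entries -/
theorem A_eq_zero_symm {i k : ι} (hik : i ≠ k) (h : b.A k i = 0) : b.A i k = 0 := by
  -- `f k` is primitive for the `i`-th triple with eigenvalue `0`
  have h1 : ⁅b.h i, b.f k⁆ = (0 : K) • b.f k := by
    rw [b.lie_h_f k i, h]; simp
  obtain ⟨n, hn, hn0, -, -⟩ := prim b i (b.f k) 0 (b.sl2 k).f_ne_zero h1 (b.lie_e_f_ne i k hik)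
  have hn' : n = 0 := by exact_mod_cast hn.symm
  have h2 : ⁅b.f i, b.f k⁆ = 0 := hn0 hn'
  have h3 : ⁅b.h k, b.f i⁆ = ((-b.A i k : ℤ) : K) • b.f i := by
    rw [b.lie_h_f i k, Int.cast_smul_eq_zsmul]
  obtain ⟨m, hm, -, hm1, -⟩ := prim b k (b.f i) _ (b.sl2 i).f_ne_zero h3 (b.lie_e_f_ne k i hik.symm)
  have h4 : ⁅b.f k, b.f i⁆ = 0 := by rw [← lie_skew, h2, neg_zero]
  have hm0 : m = 0 := by
    by_contra hcon
    exact hm1 (Nat.one_le_iff_ne_zero.mpr hcon) h4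
  rw [hm0] at hm
  have : ((-b.A i k : ℤ) : K) = ((0 : ℤ) : K) := by rw [hm]; simp
  have := Int.cast_injective this
  omega

theorem A_ne_zero_symm {i k : ι} (hik : i ≠ k) (h : b.A k i ≠ 0) : b.A i k ≠ 0 :=
  fun h' => h (A_eq_zero_symm b hik.symm h')

section Top

variable {j : ι}

theorem f_lie_eq_zero (hv : IsHWV b ρ v) (hN : ∀ i, ρ (b.h' i) ≠ 0 ↔ i = j) {i : ι}
    (hi : i ≠ j) : ⁅b.f i, v⁆ = 0 := by
  have h0 : ρ (b.h' i) = 0 := by
    by_contra hcon; exact hi ((hN i).mp hcon)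
  have h1 : ⁅b.h i, v⁆ = (0 : K) • v := by rw [h_lie b hv, h0]
  obtain ⟨n, hn, hn0, -, -⟩ := prim b i v 0 hv.ne h1 (hv.e_lie i)
  exact hn0 (by exact_mod_cast hn.symm)

theorem f_lie_ne_zero (hv : IsHWV b ρ v) (hj : ρ (b.h' j) = 1) : ⁅b.f j, v⁆ ≠ 0 := by
  have h1 : ⁅b.h j, v⁆ = (1 : K) • v := by rw [h_lie b hv, hj]
  obtain ⟨n, hn, -, hn1, -⟩ := prim b j v 1 hv.ne h1 (hv.e_lie j)
  have : n = 1 := by exact_mod_cast hn.symm
  exact hn1 (by omega)

theorem f_f_lie_eq_zero (hv : IsHWV b ρ v) (hj : ρ (b.h' j) = 1) :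
    ⁅b.f j, ⁅b.f j, v⁆⁆ = 0 := by
  have h1 : ⁅b.h j, v⁆ = (1 : K) • v := by rw [h_lie b hv, hj]
  obtain ⟨n, hn, -, -, hn2⟩ := prim b j v 1 hv.ne h1 (hv.e_lie j)
  have : n = 1 := by exact_mod_cast hn.symm
  exact hn2 this

theorem e_lie_u_self (hv : IsHWV b ρ v) (hj : ρ (b.h' j) = 1) :
    ⁅b.e j, ⁅b.f j, v⁆⁆ = v := by
  rw [lie_e_f_lie_self b j v (hv.e_lie j), h_lie b hv, hj, one_smul]

theorem e_lie_u_ne (hv : IsHWV b ρ v) {i : ι} (hi : i ≠ j) : ⁅b.e i, ⁅b.f j, v⁆⁆ = 0 :=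
  lie_e_f_lie_ne b hi v (hv.e_lie i)

theorem h_lie_u (hv : IsHWV b ρ v) (i : ι) :
    ⁅b.h i, ⁅b.f j, v⁆⁆ = (ρ (b.h' i) - (b.A j i : K)) • ⁅b.f j, v⁆ := by
  have := (mem_rootSpace_iff _ _).mp (f_lie_mem b hv.mem j) (b.h' i)
  rw [Pi.sub_apply, b.baseSupp_apply_h'] at this
  exact this

theorem f_lie_u_ne_zero_iff (hv : IsHWV b ρ v) (hN : ∀ i, ρ (b.h' i) ≠ 0 ↔ i = j)
    (hj : ρ (b.h' j) = 1) {i : ι} (hi : i ≠ j) :
    ⁅b.f i, ⁅b.f j, v⁆⁆ ≠ 0 ↔ b.A j i ≠ 0 := by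
  have h0 : ρ (b.h' i) = 0 := by
    by_contra hcon; exact hi ((hN i).mp hcon)
  have h1 : ⁅b.h i, ⁅b.f j, v⁆⁆ = ((-b.A j i : ℤ) : K) • ⁅b.f j, v⁆ := by
    rw [h_lie_u b hv, h0]; push_cast; rw [zero_sub]
  obtain ⟨n, hn, hn0, hn1, -⟩ := prim b i _ _ (f_lie_ne_zero b hv hj) h1 (e_lie_u_ne b hv hi)
  have key : n = 0 ↔ b.A j i = 0 := by
    constructor
    · rintro rfl
      have : ((-b.A j i : ℤ) : K) = ((0 : ℤ) : K) := by rw [hn]; simp
      have := Int.cast_injective this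
      omega
    · intro h
      rw [h] at hn
      have : ((n : ℕ) : K) = ((0 : ℕ) : K) := by rw [← hn]; simp
      exact_mod_cast this
  constructor
  · intro h hA
    exact h (hn0 (key.mpr hA))
  · intro hA
    apply hn1
    have : n ≠ 0 := fun h => hA (key.mp h)
    omega

theorem V_rho_sub_sub (hv : IsHWV b ρ v) (hN : ∀ i, ρ (b.h' i) ≠ 0 ↔ i = j) (i : ι) :
    V H (ρ - b.baseSupp j - b.baseSupp i) = Submodule.span K {⁅b.f i, ⁅b.f j, v⁆⁆} := by
  apply le_antisymm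
  · apply V_le_of_forall b hv
    intro l hl
    have : wt b l = b.baseSupp j + b.baseSupp i := by
      ext h
      have := congrFun hl h
      simp only [Pi.sub_apply] at this
      simp only [LinearMap.add_apply]
      linear_combination -this
    rcases eq_pair_of_wt_eq b this with rfl | rfl
    · by_cases hi : i = j
      · subst hi
        exact Submodule.mem_span_singleton_self _
      · simp only [iter_cons, iter_nil]
        rw [f_lie_eq_zero b hv hN hi, lie_zero]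
        exact Submodule.zero_mem _
    · exact Submodule.mem_span_singleton_self _
  · rw [Submodule.span_le, Set.singleton_subset_iff]
    exact f_lie_mem b (f_lie_mem b hv.mem j) i

end Top

end Groth.Agent.H87.Adj
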