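import Groth.Agent.H87.Adj7

set_option autoImplicit false
set_option linter.unusedSectionVars false
universe u v w

open LieAlgebra LieModule

namespace Groth.Agent.H87.Adj

variable {ι : Type u} {K : Type v} {L : Type w} [Fintype ι] [Field K] [CharZero K]
    [IsAlgClosed K] [LieRing L] [LieAlgebra K L] [FiniteDimensional K L] [LieAlgebra.IsSimple K L]
    {H : LieSubalgebra K L} [H.IsCartanSubalgebra] (b : LieAlgebra.Basis ι H)

/-- stability under the generators of the Borel subalgebra -/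
def Stable (W : Submodule K L) : Prop :=
  (∀ h : H, ∀ w ∈ W, ⁅(h : L), w⁆ ∈ W) ∧ ∀ i, ∀ w ∈ W, ⁅b.e i, w⁆ ∈ W

theorem stable_of {W : Submodule K L}
    (hst : ∀ x ∈ H.toSubmodule ⊔ (b.borelUpper : Submodule K L), ∀ w ∈ W, ⁅x, w⁆ ∈ W) :
    Stable b W := by
  constructor
  · intro h w hw
    exact hst _ (Submodule.mem_sup_left h.2) w hw
  · intro i w hw
    refine hst _ (Submodule.mem_sup_right ?_) w hw
    change b.e i ∈ LieSubalgebra.lieSpan K L (Set.range b.e)
    exact LieSubalgebra.subset_lieSpan ⟨i, rfl⟩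

theorem Stable.lie_mem {W : Submodule K L} (hW : Stable b W) :
    ∀ x ∈ H.toSubmodule ⊔ (b.borelUpper : Submodule K L), ∀ w ∈ W, ⁅x, w⁆ ∈ W := by
  intro x hx
  obtain ⟨h, hh, n, hn, rfl⟩ := Submodule.mem_sup.mp hx
  intro w hw
  rw [add_lie]
  refine W.add_mem (hW.1 ⟨h, hh⟩ w hw) ?_
  change n ∈ LieSubalgebra.lieSpan K L (Set.range b.e) at hn
  clear hx
  induction hn using LieSubalgebra.lieSpan_induction generalizing w with
  | mem u hu => obtain ⟨i, rfl⟩ := hu; exact hW.2 i w hw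
  | zero => rw [zero_lie]; exact W.zero_mem
  | add u v _ _ hu hv => rw [add_lie]; exact W.add_mem (hu w hw) (hv w hw)
  | smul t u _ hu => rw [smul_lie]; exact W.smul_mem _ (hu w hw)
  | lie u v _ _ hu hv =>
    rw [lie_lie]
    exact W.sub_mem (hu _ (hv w hw)) (hv _ (hu w hw))

/-- the top-weight step -/
theorem exists_top_weight {W : Submodule K L} (hW : Stable b W) (E : Set (H → K))
    (hnot : ¬ W ≤ ⨆ χ ∈ E, V H χ) :
    ∃ χ ∉ E, ∃ w ∈ W, w ∈ V H χ ∧ w ≠ 0 ∧
      ∀ i, ⁅b.e i, w⁆ = 0 ∨ χ + ⇑(b.baseSupp i) ∈ E := by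
  set P : Set (H → K) := {χ | χ ∉ E ∧ W ⊓ V H χ ≠ ⊥} with hP
  have hfin : P.Finite := by
    refine (LieModule.finite_genWeightSpace_ne_bot K H L).subset ?_
    rintro χ ⟨-, hχ⟩ h0
    apply hχ
    rw [eq_bot_iff]
    intro x hx
    have : x ∈ rootSpace H χ := hx.2
    rw [rootSpace, h0] at this
    simpa using this
  have hne : P.Nonempty := by
    by_contra hcon
    rw [Set.not_nonempty_iff_eq_empty] at hcon
    apply hnot
    refine (le_iSup_inf W hW.1).trans (iSup_le fun χ => ?_)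
    by_cases hχ : χ ∈ E
    · exact inf_le_right.trans (le_iSup₂_of_le χ hχ le_rfl)
    · have : χ ∉ P := by rw [hcon]; exact Set.notMem_empty _
      have h0 : W ⊓ V H χ = ⊥ := by
        by_contra h1
        exact this ⟨hχ, h1⟩
      rw [h0]; exact bot_le
  obtain ⟨χ, ⟨hχE, hχ⟩, htop⟩ := exists_top b P hfin hne
  obtain ⟨w, hw, hw0⟩ := Submodule.exists_mem_ne_zero_of_ne_bot hχ
  refine ⟨χ, hχE, w, hw.1, hw.2, hw0, fun i => ?_⟩
  by_cases hi : χ + ⇑(b.baseSupp i) ∈ E
  · exact Or.inr hi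
  · left
    have h1 : ⁅b.e i, w⁆ ∈ W ⊓ V H (χ + ⇑(b.baseSupp i)) := by
      refine ⟨hW.2 i w hw.1, ?_⟩
      have := lie_mem_rootSpace (e_mem b i) hw.2
      rw [add_comm] at this
      exact this
    have h2 : W ⊓ V H (χ + ⇑(b.baseSupp i)) = ⊥ := by
      by_contra h3
      exact htop i ⟨hi, h3⟩
    rw [h2] at h1
    simpa using h1

theorem mem_of_mem_span_singleton {W : Submodule K L} {x w : L} (hw : w ∈ W)
    (hws : w ∈ Submodule.span K {x}) (hw0 : w ≠ 0) : x ∈ W := by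
  obtain ⟨c, rfl⟩ := Submodule.mem_span_singleton.mp hws
  have hc : c ≠ 0 := by rintro rfl; exact hw0 (zero_smul _ _)
  have : x = c⁻¹ • (c • x) := by rw [smul_smul, inv_mul_cancel₀ hc, one_smul]
  rw [this]; exact W.smul_mem _ hw

theorem ne_zero_of_mem_span_singleton {x w : L}
    (hws : w ∈ Submodule.span K {x}) (hw0 : w ≠ 0) : x ≠ 0 := by
  rintro rfl
  apply hw0
  simpa using hws

end Groth.Agent.H87.Adj
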