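import Groth.Agent.H87.Adj8

set_option autoImplicit false
set_option linter.unusedSectionVars false
universe u v w

open LieAlgebra LieModule

namespace Groth.Agent.H87.Adj

variable {ι : Type u} {K : Type v} {L : Type w} [Fintype ι] [Field K] [CharZero K]
    [IsAlgClosed K] [LieRing L] [LieAlgebra K L] [FiniteDimensional K L] [LieAlgebra.IsSimple K L]
    {H : LieSubalgebra K L} [H.IsCartanSubalgebra] (b : LieAlgebra.Basis ι H)

variable {ρ : Module.Dual K H} {v : L} {j : ι} {W : Submodule K L}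

theorem step1 (hv : IsHWV b ρ v) (hW : Stable b W) (hne : W ≠ ⊥) : v ∈ W := by
  have hnot : ¬ W ≤ ⨆ χ ∈ (∅ : Set (H → K)), V H χ := by
    simpa using hne
  obtain ⟨χ, -, w, hw, hwχ, hw0, he⟩ := exists_top_weight b hW ∅ hnot
  have he' : ∀ i, ⁅b.e i, w⁆ = 0 := fun i => (he i).resolve_right (Set.notMem_empty _)
  obtain ⟨-, hws⟩ := hwv_unique b hv.mem hv.ne hv.e_lie hwχ hw0 he'
  exact mem_of_mem_span_singleton hw hws hw0

theorem step2 (hv : IsHWV b ρ v) (hN : ∀ i, ρ (b.h' i) ≠ 0 ↔ i = j) (hW : Stable b W)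
    (hnot : ¬ W ≤ V H ρ) : ⁅b.f j, v⁆ ∈ W := by
  have hnot' : ¬ W ≤ ⨆ χ ∈ ({⇑ρ} : Set (H → K)), V H χ := by
    simpa using hnot
  obtain ⟨χ, hχ, w, hw, hwχ, hw0, he⟩ := exists_top_weight b hW _ hnot'
  have hχ' : χ ≠ ρ := hχ
  have hex : ∃ i, ⁅b.e i, w⁆ ≠ 0 := by
    by_contra hcon
    push Not at hcon
    exact hχ' (hwv_unique b hv.mem hv.ne hv.e_lie hwχ hw0 hcon).1.symm
  obtain ⟨i, hi⟩ := hex
  have h1 : χ + ⇑(b.baseSupp i) = ρ := (he i).resolve_left hi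
  have h2 : χ = ρ - ⇑(b.baseSupp i) := by rw [← h1]; simp
  rw [h2, V_rho_sub b hv i] at hwχ
  have h3 : ⁅b.f i, v⁆ ≠ 0 := ne_zero_of_mem_span_singleton hwχ hw0
  have hij : i = j := by
    by_contra hcon
    exact h3 (f_lie_eq_zero b hv hN hcon)
  subst hij
  exact mem_of_mem_span_singleton hw hwχ hw0

theorem step3 (hv : IsHWV b ρ v) (hN : ∀ i, ρ (b.h' i) ≠ 0 ↔ i = j) (hj : ρ (b.h' j) = 1)
    (hW : Stable b W) (hnot : ¬ W ≤ V H ρ ⊔ V H (ρ - b.baseSupp j)) :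
    ∃ i, i ≠ j ∧ b.A j i ≠ 0 ∧ ⁅b.f i, ⁅b.f j, v⁆⁆ ≠ 0 ∧ ⁅b.f i, ⁅b.f j, v⁆⁆ ∈ W := by
  have hnot' : ¬ W ≤ ⨆ χ ∈ ({⇑ρ, ⇑ρ - ⇑(b.baseSupp j)} : Set (H → K)), V H χ := by
    rw [iSup_pair]; exact hnot
  obtain ⟨χ, hχ, w, hw, hwχ, hw0, he⟩ := exists_top_weight b hW _ hnot'
  have hχ1 : χ ≠ ρ := fun h => hχ (by rw [h]; simp)
  have hχ2 : χ ≠ ⇑ρ - ⇑(b.baseSupp j) := fun h => hχ (by rw [h]; simp)
  have hex : ∃ i, ⁅b.e i, w⁆ ≠ 0 := by
    by_contra hcon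
    push Not at hcon
    exact hχ1 (hwv_unique b hv.mem hv.ne hv.e_lie hwχ hw0 hcon).1.symm
  obtain ⟨i, hi⟩ := hex
  have h1 := (he i).resolve_left hi
  rcases h1 with h1 | h1
  · exfalso
    have h2 : χ = ρ - ⇑(b.baseSupp i) := by rw [← h1]; simp
    rw [h2, V_rho_sub b hv i] at hwχ
    have h3 : ⁅b.f i, v⁆ ≠ 0 := ne_zero_of_mem_span_singleton hwχ hw0
    have hij : i = j := by
      by_contra hcon
      exact h3 (f_lie_eq_zero b hv hN hcon)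
    subst hij
    exact hχ2 h2
  · have h1' : χ + ⇑(b.baseSupp i) = ⇑ρ - ⇑(b.baseSupp j) := h1
    have h2 : χ = ρ - ⇑(b.baseSupp j) - ⇑(b.baseSupp i) := by rw [← h1']; simp
    rw [h2, V_rho_sub_sub b hv hN i] at hwχ
    have h3 : ⁅b.f i, ⁅b.f j, v⁆⁆ ≠ 0 := ne_zero_of_mem_span_singleton hwχ hw0
    have hij : i ≠ j := by
      rintro rfl
      exact h3 (f_f_lie_eq_zero b hv hj)
    exact ⟨i, hij, (f_lie_u_ne_zero_iff b hv hN hj hij).mp h3, h3,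
      mem_of_mem_span_singleton hw hwχ hw0⟩

theorem linearIndependent_of_weights {n : ℕ} (χ : Fin n → (H → K)) (hχ : Function.Injective χ)
    (x : Fin n → L) (hx : ∀ k, x k ∈ V H (χ k)) (hx0 : ∀ k, x k ≠ 0) : LinearIndependent K x :=
  iSupIndep.linearIndependent (fun k => V H (χ k)) ((iSupIndep_V (H := H)).comp hχ) hx hx0

theorem finrank_span_range {n : ℕ} (χ : Fin n → (H → K)) (hχ : Function.Injective χ)
    (x : Fin n → L) (hx : ∀ k, x k ∈ V H (χ k)) (hx0 : ∀ k, x k ≠ 0) :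
    Module.finrank K (Submodule.span K (Set.range x)) = n := by
  rw [finrank_span_eq_card (linearIndependent_of_weights χ hχ x hx hx0)]
  simp

/-- the three weights are distinct -/
theorem chi3_injective (ρ : Module.Dual K H) (j i : ι) :
    Function.Injective (![⇑ρ, ⇑ρ - ⇑(b.baseSupp j), ⇑ρ - ⇑(b.baseSupp j) - ⇑(b.baseSupp i)] :
      Fin 3 → (H → K)) := by
  obtain ⟨h₀, hh₀⟩ := exists_height b
  have key : ∀ k : Fin 3, (![⇑ρ, ⇑ρ - ⇑(b.baseSupp j), ⇑ρ - ⇑(b.baseSupp j) - ⇑(b.baseSupp i)] :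
      Fin 3 → (H → K)) k h₀ = ρ h₀ - ((k : ℕ) : K) := by
    intro k
    fin_cases k
    · simp
    · simp [hh₀]
    · simp [hh₀]; ring
  intro a c hac
  have := congrFun hac h₀
  rw [key, key] at this
  have h2 : ((a : ℕ) : K) = ((c : ℕ) : K) := by linear_combination -this
  exact Fin.ext (by exact_mod_cast h2)

theorem chi2_injective (ρ : Module.Dual K H) (j : ι) :
    Function.Injective (![⇑ρ, ⇑ρ - ⇑(b.baseSupp j)] : Fin 2 → (H → K)) := by
  obtain ⟨h₀, hh₀⟩ := exists_height b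
  have key : ∀ k : Fin 2, (![⇑ρ, ⇑ρ - ⇑(b.baseSupp j)] :
      Fin 2 → (H → K)) k h₀ = ρ h₀ - ((k : ℕ) : K) := by
    intro k
    fin_cases k
    · simp
    · simp [hh₀]
  intro a c hac
  have := congrFun hac h₀
  rw [key, key] at this
  have h2 : ((a : ℕ) : K) = ((c : ℕ) : K) := by linear_combination -this
  exact Fin.ext (by exact_mod_cast h2)

end Groth.Agent.H87.Adj
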