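import Mathlib.RingTheory.AdjoinRoot
import Mathlib.RingTheory.Localization.Integral
import Mathlib.RingTheory.Localization.FractionRing
import Mathlib.RingTheory.IntegralClosure.IsIntegralClosure.Basic
import Mathlib.RingTheory.TensorProduct.Basic

set_option autoImplicit false
universe u

open Polynomial TensorProduct

namespace Groth.Agent.H87.AdjInt

variable {P : Type u} [CommRing P] [IsDomain P]

/-- finrank of `Frac P ⊗ P[z]/(h)` -/
theorem finrank_tensor_adjoinRoot (F : Type u) [Field F] [Algebra P F] [IsFractionRing P F]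
    (h : P[X]) (h0 : h ≠ 0) :
    Module.finrank F (F ⊗[P] AdjoinRoot h) = h.natDegree := by
  let q : (F ⊗[P] P)[X] := h.map (Algebra.TensorProduct.includeRight : P →ₐ[P] F ⊗[P] P).toRingHom
  let e1 : F ⊗[P] AdjoinRoot h ≃ₐ[F] AdjoinRoot q := AdjoinRoot.tensorAlgEquiv h q rfl
  let r : F ⊗[P] P ≃ₐ[F] F := Algebra.TensorProduct.rid P F F
  have hq : q.map (r : F ⊗[P] P →+* F) = h.map (algebraMap P F) := by
    simp only [q, Polynomial.map_map]
    congr 1
    ext x
    simp [r, Algebra.smul_def]
  let e2 : AdjoinRoot q ≃ₐ[F] AdjoinRoot (h.map (algebraMap P F)) :=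
    AdjoinRoot.mapAlgEquiv r q _ (by rw [← hq])
  have hinj : Function.Injective (algebraMap P F) := IsFractionRing.injective P F
  have hne : h.map (algebraMap P F) ≠ 0 := (Polynomial.map_ne_zero_iff hinj).mpr h0
  rw [(e1.trans e2).toLinearEquiv.finrank_eq, (AdjoinRoot.powerBasis hne).finrank,
    AdjoinRoot.powerBasis_dim, Polynomial.natDegree_map_eq_of_injective hinj]

theorem isUnit_of_isIntegral (h : P[X]) (S : Submonoid P)
    (hint : Algebra.IsIntegral (Localization S)
      (Localization (Algebra.algebraMapSubmonoid (AdjoinRoot h) S))) :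
    IsUnit (algebraMap P (Localization S) h.leadingCoeff) := by
  by_cases h0 : (0:P) ∈ S
  · have : Subsingleton (Localization S) := IsLocalization.subsingleton (M := S) h0
    exact isUnit_of_subsingleton _
  · have hS : S ≤ nonZeroDivisors P := le_nonZeroDivisors_of_noZeroDivisors h0
    have hinj : Function.Injective (algebraMap P (Localization S)) :=
      IsLocalization.injective _ hS
    set A' := Localization (Algebra.algebraMapSubmonoid (AdjoinRoot h) S) with hA'
    let ζ : A' := algebraMap (AdjoinRoot h) A' (AdjoinRoot.root h)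
    obtain ⟨g, hgm, hg⟩ := hint.isIntegral ζ
    obtain ⟨b, hbS, hb⟩ := IsLocalization.integerNormalization_spec S g
    set g₀ := IsLocalization.integerNormalization S g with hg₀
    have h1 : aeval ζ g₀ = 0 :=
      IsLocalization.integerNormalization_aeval_eq_zero S g (by rwa [aeval_def])
    have h2 : algebraMap (AdjoinRoot h) A' (AdjoinRoot.mk h g₀) = 0 := by
      rw [← AdjoinRoot.aeval_eq, ← Polynomial.aeval_algebraMap_apply]
      exact h1
    obtain ⟨⟨m, hm⟩, hm2⟩ :=
      (IsLocalization.map_eq_zero_iff (Algebra.algebraMapSubmonoid (AdjoinRoot h) S) A' _).mp h2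
    obtain ⟨t, htS, rfl⟩ := hm
    have h3 : h ∣ C t * g₀ := by
      rw [← AdjoinRoot.mk_eq_zero, map_mul, AdjoinRoot.mk_C]
      exact hm2
    obtain ⟨q, hq⟩ := h3
    have h4 : t * g₀.leadingCoeff = h.leadingCoeff * q.leadingCoeff := by
      rw [← leadingCoeff_mul, ← hq, leadingCoeff_mul, leadingCoeff_C]
    have h5 : algebraMap P (Localization S) g₀.leadingCoeff = algebraMap P (Localization S) b := by
      rw [← leadingCoeff_map_of_injective hinj, hb, Algebra.smul_def, algebraMap_apply,
        leadingCoeff_mul_monic hgm, leadingCoeff_C]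
    have h6 := congrArg (algebraMap P (Localization S)) h4
    rw [map_mul, map_mul, h5] at h6
    have hu : IsUnit (algebraMap P (Localization S) t * algebraMap P (Localization S) b) :=
      (IsLocalization.map_units _ ⟨t, htS⟩).mul (IsLocalization.map_units _ ⟨b, hbS⟩)
    rw [h6] at hu
    exact isUnit_of_mul_isUnit_left hu


omit [IsDomain P] in
theorem isIntegral_of_isUnit (h : P[X]) (S : Submonoid P)
    (hu : IsUnit (algebraMap P (Localization S) h.leadingCoeff)) :
    Algebra.IsIntegral (Localization S)
      (Localization (Algebra.algebraMapSubmonoid (AdjoinRoot h) S)) := by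
  set R' := Localization S with hR'
  set A' := Localization (Algebra.algebraMapSubmonoid (AdjoinRoot h) S) with hA'
  rcases subsingleton_or_nontrivial R' with hsub | hnt
  · -- A' is also trivial
    have h0 : (0:P) ∈ S := (IsLocalization.subsingleton_iff (M := S) (S := R')).mp hsub
    have : Subsingleton A' := IsLocalization.subsingleton
      (M := Algebra.algebraMapSubmonoid (AdjoinRoot h) S) ⟨0, h0, map_zero _⟩
    exact ⟨fun x => by rw [Subsingleton.elim x 0]; exact isIntegral_zero⟩
  · obtain ⟨u, hu'⟩ := hu
    let ζ : A' := algebraMap (AdjoinRoot h) A' (AdjoinRoot.root h)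
    have hlc : (h.map (algebraMap P R')).leadingCoeff = u := by
      rw [leadingCoeff_map_of_leadingCoeff_ne_zero _ (by rw [← hu']; exact u.ne_zero), hu']
    have hζ : IsIntegral R' ζ := by
      refine ⟨C (↑u⁻¹ : R') * h.map (algebraMap P R'),
        monic_C_mul_of_mul_leadingCoeff_eq_one (by rw [hlc]; exact u.inv_mul), ?_⟩
      rw [eval₂_mul, eval₂_C, eval₂_map, ← IsScalarTower.algebraMap_eq, ← aeval_def]
      have : aeval ζ h = 0 := by
        rw [Polynomial.aeval_algebraMap_apply, AdjoinRoot.aeval_eq, AdjoinRoot.mk_self, map_zero]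
      rw [this, mul_zero]
    -- image of A is integral
    have hA : ∀ a : AdjoinRoot h, IsIntegral R' (algebraMap (AdjoinRoot h) A' a) := by
      intro a
      obtain ⟨p, rfl⟩ := AdjoinRoot.mk_surjective a
      rw [← AdjoinRoot.aeval_eq, ← Polynomial.aeval_algebraMap_apply,
        ← aeval_map_algebraMap R' ζ p]
      have hle : Algebra.adjoin R' {ζ} ≤ integralClosure R' A' :=
        Algebra.adjoin_le (Set.singleton_subset_iff.mpr hζ)
      exact hle (aeval_mem_adjoin_singleton R' ζ)
    refine ⟨fun x => ?_⟩
    obtain ⟨a, ⟨m, hm⟩, rfl⟩ := IsLocalization.exists_mk'_eq (Algebra.algebraMapSubmonoid (AdjoinRoot h) S) x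
    obtain ⟨t, htS, ht⟩ := id hm
    have hx : IsLocalization.mk' A' a ⟨m, hm⟩
        = algebraMap R' A' (IsLocalization.mk' R' 1 ⟨t, htS⟩) * algebraMap (AdjoinRoot h) A' a := by
      rw [IsLocalization.mk'_eq_iff_eq_mul]
      subst ht
      have e1 : algebraMap (AdjoinRoot h) A' (algebraMap P (AdjoinRoot h) t)
          = algebraMap R' A' (algebraMap P R' t) := by
        rw [← IsScalarTower.algebraMap_apply, ← IsScalarTower.algebraMap_apply]
      have e2 : IsLocalization.mk' R' (1:P) ⟨t, htS⟩ * algebraMap P R' t = 1 := by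
        have := IsLocalization.mk'_spec R' (1:P) ⟨t, htS⟩
        rw [map_one] at this
        exact this
      change _ = _ * _ * algebraMap (AdjoinRoot h) A' (algebraMap P (AdjoinRoot h) t)
      rw [e1, mul_right_comm, ← map_mul, e2, map_one, one_mul]
    rw [hx]
    exact isIntegral_algebraMap.mul (hA a)


end Groth.Agent.H87.AdjInt
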