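import Mathlib
import Groth.Agent.H87.ComplUnram

/-!
# Étale local homomorphisms and completions (helper87)

* `rTensor_injective_of_map`: if `I ⊗[A] M → M` is injective for an `R`-module `M` (`R` an
  `A`-algebra), then `IR ⊗[R] M → M` is injective.
* `flat_of_faithfullyFlat_of_flat`: `B → C` faithfully flat, `C` flat over `A` ⟹ `B` flat over `A`.
* `free_compl`, `etale_compl`, `of_etale_compl`, `exists_equiv_compl`: flat local homomorphism with
  `m_A B = m_B` and finite (separable) residue extension versus the map of completions.
-/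

set_option autoImplicit false
set_option linter.unusedSectionVars false

namespace Groth.Agent.H87.ComplEtale

open IsLocalRing TensorProduct

universe u

theorem rTensor_injective_of_map {A R M : Type*} [CommRing A] [CommRing R] [Algebra A R]
    [AddCommGroup M] [Module A M] [Module R M] [IsScalarTower A R M] (I : Ideal A)
    (h : Function.Injective (I.subtype.rTensor M)) :
    Function.Injective ((I.map (algebraMap A R)).subtype.rTensor M) := by
  set J := I.map (algebraMap A R) with hJ
  let u : I →ₗ[A] J :=
    { toFun := fun a => ⟨algebraMap A R a, Ideal.mem_map_of_mem _ a.2⟩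
      map_add' := fun a b => by ext; simp
      map_smul' := fun c a => by ext; simp [Algebra.smul_def] }
  let g : I ⊗[A] M →ₗ[A] J ⊗[R] M :=
    (TensorProduct.mapOfCompatibleSMul R A A J M).comp (u.rTensor M)
  have hg : ∀ (a : I) (m : M), g (a ⊗ₜ m) = (u a) ⊗ₜ[R] m := fun a m => by
    simp [g]
  have key : ∀ x : I ⊗[A] M, TensorProduct.lid R M (J.subtype.rTensor M (g x)) =
      TensorProduct.lid A M (I.subtype.rTensor M x) := by
    intro x
    induction x with
    | zero => simp
    | add x y hx hy => simp only [map_add, hx, hy]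
    | tmul a m =>
      rw [hg]
      simp [u]
  have hsurj : Function.Surjective g := by
    intro x
    induction x with
    | zero => exact ⟨0, map_zero _⟩
    | add x y hx hy =>
      obtain ⟨x', rfl⟩ := hx
      obtain ⟨y', rfl⟩ := hy
      exact ⟨x' + y', map_add _ _ _⟩
    | tmul j m =>
      obtain ⟨j, hj⟩ := j
      suffices H : ∀ (j : R) (hj : j ∈ J) (m : M), ∃ x, g x = (⟨j, hj⟩ : J) ⊗ₜ[R] m from H j hj m
      intro j hj
      refine Submodule.span_induction (p := fun j hj => ∀ m : M, ∃ x, g x = (⟨j, hj⟩ : J) ⊗ₜ[R] m)
        ?_ ?_ ?_ ?_ hj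
      · rintro _ ⟨a, ha, rfl⟩ m
        exact ⟨(⟨a, ha⟩ : I) ⊗ₜ m, hg _ _⟩
      · intro m
        exact ⟨0, by rw [map_zero]; exact (zero_tmul _ _).symm⟩
      · intro x y hx hy ihx ihy m
        obtain ⟨x', hx'⟩ := ihx m
        obtain ⟨y', hy'⟩ := ihy m
        refine ⟨x' + y', ?_⟩
        rw [map_add, hx', hy', ← add_tmul]
        rfl
      · intro r x hx ihx m
        obtain ⟨x', hx'⟩ := ihx (r • m)
        refine ⟨x', ?_⟩
        rw [hx', ← smul_tmul]
        rfl
  intro x y hxy
  obtain ⟨x', rfl⟩ := hsurj x
  obtain ⟨y', rfl⟩ := hsurj y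
  have h1 := key x'
  have h2 := key y'
  rw [hxy, h2] at h1
  have := h ((TensorProduct.lid A M).injective h1)
  rw [this]

theorem flat_of_faithfullyFlat_of_flat (A B C : Type*) [CommRing A] [CommRing B] [CommRing C]
    [Algebra A B] [Algebra B C] [Algebra A C] [IsScalarTower A B C] [Module.FaithfullyFlat B C]
    [Module.Flat A C] : Module.Flat A B := by
  rw [Module.Flat.iff_rTensor_injective']
  intro I
  let ι : B →ₗ[A] C := (IsScalarTower.toAlgHom A B C).toLinearMap
  have h1 : Function.Injective (ι.rTensor I) := by
    have hmk := Module.FaithfullyFlat.tensorProduct_mk_injective (A := B) (B := C) (B ⊗[A] I)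
    have heq : ∀ x : B ⊗[A] I, ι.rTensor I x =
        AlgebraTensorModule.cancelBaseChange A B C C I (TensorProduct.mk B C (B ⊗[A] I) 1 x) := by
      intro x
      induction x with
      | zero => simp
      | add x y hx hy => simp only [map_add, hx, hy]
      | tmul b i =>
        simp only [LinearMap.rTensor_tmul, TensorProduct.mk_apply,
          AlgebraTensorModule.cancelBaseChange_tmul]
        simp [ι, Algebra.smul_def]
    intro x y hxy
    rw [heq, heq] at hxy
    exact hmk ((AlgebraTensorModule.cancelBaseChange A B C C I).injective hxy)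
  have h2 : Function.Injective (ι.lTensor I) := (LinearMap.lTensor_inj_iff_rTensor_inj _ _).mpr h1
  have h3 : Function.Injective (I.subtype.rTensor C) :=
    Module.Flat.rTensor_preserves_injective_linearMap _ Subtype.val_injective
  have hsq : (I.subtype.rTensor C) ∘ₗ (ι.lTensor I) = (ι.lTensor A) ∘ₗ (I.subtype.rTensor B) := by
    rw [LinearMap.rTensor_comp_lTensor, LinearMap.lTensor_comp_rTensor]
  have h4 : Function.Injective ((ι.lTensor A) ∘ₗ (I.subtype.rTensor B)) := by
    rw [← hsq]
    exact h3.comp h2
  exact Function.Injective.of_comp h4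

section

variable {A B : Type u} [CommRing A] [CommRing B] [IsLocalRing A] [IsLocalRing B]
  [IsNoetherianRing A] [IsNoetherianRing B] [Algebra A B] [IsLocalHom (algebraMap A B)]

set_option hygiene false in
local notation "Ah" => AdicCompletion (maximalIdeal A) A
set_option hygiene false in
local notation "Bh" => AdicCompletion (maximalIdeal B) B

variable [Algebra Ah Bh]
  (hψ : (algebraMap Ah Bh).comp (algebraMap A Ah) = (algebraMap B Bh).comp (algebraMap A B))

include hψ

theorem isScalarTower_compl : IsScalarTower A Ah Bh :=
  .of_algebraMap_eq' (by rw [hψ, ← IsScalarTower.algebraMap_eq])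

theorem free_compl [Module.Flat A B]
    (hm : (maximalIdeal A).map (algebraMap A B) = maximalIdeal B)
    [Module.Finite (ResidueField A) (ResidueField B)] : Module.Free Ah Bh := by
  have hst : IsScalarTower A Ah Bh := isScalarTower_compl hψ
  have hfl : Module.Flat A Bh := Module.Flat.trans A B Bh
  have hinj : Function.Injective ((maximalIdeal A).subtype.rTensor Bh) :=
    Module.Flat.rTensor_preserves_injective_linearMap _ Subtype.val_injective
  have hinj' := rTensor_injective_of_map (R := Ah) (M := Bh) (maximalIdeal A) hinj
  rw [← AdicCompletion.maximalIdeal_eq_map] at hinj'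
  have hfin : Module.Finite Ah Bh := ComplUnram.finite_compl hψ hm
  have hN : IsNoetherianRing Ah := Groth.Agent.H20.isNoetherianRing_adicCompletion _
  have hfp : Module.FinitePresentation Ah Bh := Module.finitePresentation_of_finite Ah Bh
  exact Module.free_of_maximalIdeal_rTensor_injective hinj'

theorem etale_compl [Module.Flat A B]
    (hm : (maximalIdeal A).map (algebraMap A B) = maximalIdeal B)
    [Module.Finite (ResidueField A) (ResidueField B)]
    [Algebra.IsSeparable (ResidueField A) (ResidueField B)] : Algebra.Etale Ah Bh := by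
  have hfree : Module.Free Ah Bh := free_compl hψ hm
  have hfin : Module.Finite Ah Bh := ComplUnram.finite_compl hψ hm
  have hfu : Algebra.FormallyUnramified Ah Bh := ComplUnram.formallyUnramified_compl hψ hm
  have hN : IsNoetherianRing Ah := Groth.Agent.H20.isNoetherianRing_adicCompletion _
  have hfp : Algebra.FinitePresentation Ah Bh :=
    Algebra.FinitePresentation.of_finiteType.mp inferInstance
  exact Algebra.Etale.of_formallyUnramified_of_flat

theorem of_etale_compl [Algebra.Etale Ah Bh] :
    Module.Flat A B ∧ (maximalIdeal A).map (algebraMap A B) = maximalIdeal B ∧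
      Module.Finite (ResidueField A) (ResidueField B) ∧
      Algebra.IsSeparable (ResidueField A) (ResidueField B) := by
  refine ⟨?_, ComplUnram.of_formallyUnramified_compl hψ⟩
  have hst : IsScalarTower A Ah Bh := isScalarTower_compl hψ
  have hfl : Module.Flat A Bh := Module.Flat.trans A Ah Bh
  have hff := ComplUnram.faithfullyFlat_compl B
  exact flat_of_faithfullyFlat_of_flat A B Bh

theorem exists_equiv_compl [Algebra.Etale Ah Bh] :
    ∃ n : ℕ, 0 < n ∧ Nonempty ((Fin n → Ah) ≃ₗ[Ah] Bh) := by
  obtain ⟨hflat, hm, hfin, hsep⟩ := of_etale_compl hψ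
  have hfree : Module.Free Ah Bh := free_compl hψ hm
  have hfin' : Module.Finite Ah Bh := ComplUnram.finite_compl hψ hm
  exact ⟨Module.finrank Ah Bh, (Module.finrank_pos_iff_of_free Ah Bh).mpr inferInstance, ⟨(Module.finBasis Ah Bh).equivFun.symm⟩⟩

end

end Groth.Agent.H87.ComplEtale
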