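import Mathlib
import Groth.Agent.H87.ComplEtale
import Groth.Agent.H63.ComplNoeth
import Groth.Agent.H20.EtaleReduced

/-!
# Étale local homomorphisms preserve analytic reducedness (helper87)
-/

set_option autoImplicit false
set_option linter.unusedSectionVars false

namespace Groth.Agent.H87.AnReduced

open IsLocalRing

universe u

section

variable {A B : Type u} [CommRing A] [CommRing B] [IsLocalRing A] [IsLocalRing B]
  [IsNoetherianRing A] [IsNoetherianRing B] [Algebra A B] [IsLocalHom (algebraMap A B)]

/-- A formally unramified essentially of finite type local homomorphism has finite residue field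
extension. -/
theorem finite_residueField_of_formallyUnramified [Algebra.EssFiniteType A B]
    [Algebra.FormallyUnramified A B] :
    Module.Finite (ResidueField A) (ResidueField B) := by
  obtain ⟨hsep, -⟩ := Algebra.FormallyUnramified.iff_map_maximalIdeal_eq.mp
    (inferInstance : Algebra.FormallyUnramified A B)
  have h1 : Algebra.EssFiniteType A (ResidueField B) :=
    Algebra.EssFiniteType.comp A B (ResidueField B)
  have h2 : Algebra.EssFiniteType (ResidueField A) (ResidueField B) :=
    Algebra.EssFiniteType.of_comp A (ResidueField A) (ResidueField B)
  have h3 : Algebra.FormallyUnramified (ResidueField A) (ResidueField B) :=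
    Algebra.FormallyUnramified.of_isSeparable _ _
  exact Algebra.FormallyUnramified.finite_of_free (ResidueField A) (ResidueField B)

/-- An étale local homomorphism (flat, formally unramified, essentially of finite type) of
Noetherian local rings with analytically reduced source has analytically reduced target. -/
theorem isReduced_compl_of_etale_local [Algebra.EssFiniteType A B] [Module.Flat A B]
    [Algebra.FormallyUnramified A B]
    (hA : IsReduced (AdicCompletion (maximalIdeal A) A)) :
    IsReduced (AdicCompletion (maximalIdeal B) B) ∧ IsReduced B := by
  obtain ⟨hsep, hm⟩ := Algebra.FormallyUnramified.iff_map_maximalIdeal_eq.mp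
    (inferInstance : Algebra.FormallyUnramified A B)
  have hfin : Module.Finite (ResidueField A) (ResidueField B) :=
    finite_residueField_of_formallyUnramified
  let ψ : AdicCompletion (maximalIdeal A) A →+* AdicCompletion (maximalIdeal B) B :=
    Groth.Agent.H63.complMap (maximalIdeal A) (maximalIdeal B) (algebraMap A B) hm.le
  let _ : Algebra (AdicCompletion (maximalIdeal A) A) (AdicCompletion (maximalIdeal B) B) :=
    ψ.toAlgebra
  have hψ : (algebraMap (AdicCompletion (maximalIdeal A) A)
      (AdicCompletion (maximalIdeal B) B)).comp
        (algebraMap A (AdicCompletion (maximalIdeal A) A)) =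
      (algebraMap B (AdicCompletion (maximalIdeal B) B)).comp (algebraMap A B) :=
    Groth.Agent.H63.complMap_comp_algebraMap _ _ _ _
  have het : Algebra.Etale (AdicCompletion (maximalIdeal A) A)
      (AdicCompletion (maximalIdeal B) B) := ComplEtale.etale_compl hψ hm
  have hN : IsNoetherianRing (AdicCompletion (maximalIdeal A) A) :=
    Groth.Agent.H20.isNoetherianRing_adicCompletion _
  have hred : IsReduced (AdicCompletion (maximalIdeal B) B) :=
    Groth.Agent.H20.isReduced_of_flat_of_formallyUnramified
      (A := AdicCompletion (maximalIdeal A) A)
  refine ⟨hred, ?_⟩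
  exact isReduced_of_injective (algebraMap B (AdicCompletion (maximalIdeal B) B))
    (AdicCompletion.of_injective (maximalIdeal B) B)

end

/-- If `C` is a finitely presented `A`-algebra étale at a prime `q`, then `C_q` is flat over `A`. -/
theorem flat_atPrime_of_isEtaleAt (A C : Type u) [CommRing A] [CommRing C] [Algebra A C]
    [Algebra.FinitePresentation A C] (q : Ideal C) [q.IsPrime] [Algebra.IsEtaleAt A q] :
    Module.Flat A (Localization.AtPrime q) := by
  obtain ⟨f, hfq, hf⟩ := Algebra.exists_etale_of_isEtaleAt (R := A) q
  have hfu : IsUnit (algebraMap C (Localization.AtPrime q) f) :=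
    IsLocalization.map_units _ (⟨f, hfq⟩ : q.primeCompl)
  let ψ : Localization.Away f →+* Localization.AtPrime q := IsLocalization.Away.lift f hfu
  let _ : Algebra (Localization.Away f) (Localization.AtPrime q) := ψ.toAlgebra
  have : IsScalarTower C (Localization.Away f) (Localization.AtPrime q) :=
    .of_algebraMap_eq' (IsLocalization.Away.lift_comp f hfu).symm
  have : IsScalarTower A (Localization.Away f) (Localization.AtPrime q) := .to₁₃₄ A C _ _
  have : IsLocalization (Algebra.algebraMapSubmonoid (Localization.Away f) q.primeCompl)
      (Localization.AtPrime q) :=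
    IsLocalization.isLocalization_of_submonoid_le _ _ (.powers f) q.primeCompl
      (Submonoid.powers_le.mpr hfq)
  have : Module.Flat (Localization.Away f) (Localization.AtPrime q) :=
    IsLocalization.flat _ (Algebra.algebraMapSubmonoid (Localization.Away f) q.primeCompl)
  exact Module.Flat.trans A (Localization.Away f) (Localization.AtPrime q)

/-- The statement of S6001. -/
theorem isReduced_compl_atPrime_of_isEtaleAt (A C : Type u) [CommRing A] [IsLocalRing A]
    [IsNoetherianRing A] [CommRing C] [Algebra A C] [Algebra.FiniteType A C] (q : Ideal C)
    [q.IsPrime] (hq : Ideal.comap (algebraMap A C) q = maximalIdeal A)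
    (hC : Algebra.IsEtaleAt A q)
    (hA : IsReduced (AdicCompletion (maximalIdeal A) A)) :
    IsReduced (AdicCompletion (maximalIdeal (Localization.AtPrime q)) (Localization.AtPrime q)) ∧
      IsReduced (Localization.AtPrime q) := by
  have hNC : IsNoetherianRing C := Algebra.FiniteType.isNoetherianRing A C
  have hNB : IsNoetherianRing (Localization.AtPrime q) :=
    IsLocalization.isNoetherianRing q.primeCompl _ hNC
  have hfp : Algebra.FinitePresentation A C :=
    Algebra.FinitePresentation.of_finiteType.mp inferInstance
  have hloc : IsLocalHom (algebraMap A (Localization.AtPrime q)) := by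
    constructor
    intro a ha
    rw [IsScalarTower.algebraMap_apply A C (Localization.AtPrime q),
      IsLocalization.AtPrime.isUnit_to_map_iff _ q] at ha
    have h2 : a ∉ Ideal.comap (algebraMap A C) q := fun h => ha (Ideal.mem_comap.mp h)
    rw [hq] at h2
    exact IsLocalRing.notMem_maximalIdeal.mp h2
  have hess : Algebra.EssFiniteType C (Localization.AtPrime q) :=
    Algebra.EssFiniteType.of_isLocalization _ q.primeCompl
  have hess' : Algebra.EssFiniteType A (Localization.AtPrime q) :=
    Algebra.EssFiniteType.comp A C _
  have hflat : Module.Flat A (Localization.AtPrime q) := flat_atPrime_of_isEtaleAt A C q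
  have hfe : Algebra.FormallyEtale A (Localization.AtPrime q) := hC
  exact isReduced_compl_of_etale_local hA

end Groth.Agent.H87.AnReduced
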