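import Mathlib

/-!
# Local isomorphism from isomorphism modulo an ideal and flatness (Stacks 00R? step)
-/

set_option autoImplicit false
universe u

namespace Groth.Agent.H87.AwayIso

/-- Tor-vanishing consequence of flatness: if `π : E → P` is surjective with `P` flat, then
`ker π ∩ I E ≤ I ker π`. -/
theorem tor_cond_flat {R : Type u} [CommRing R] (I : Ideal R) {E P : Type u} [AddCommGroup E]
    [Module R E] [AddCommGroup P] [Module R P] (π : E →ₗ[R] P) (hπ : Function.Surjective π)
    [Module.Flat R P] :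
    LinearMap.ker π ⊓ (I • ⊤ : Submodule R E) ≤ I • LinearMap.ker π := by
  classical
  rintro z ⟨hzK, hzI⟩
  have hz' : z ∈ I • Submodule.span R (Set.range (id : E → E)) := by
    simpa using hzI
  obtain ⟨a, haI, hsum⟩ := (Submodule.mem_ideal_smul_span_iff_exists_sum I (id : E → E) z).1 hz'
  let ι := a.support
  have h2 : ∑ k : ι, a k.1 • k.1 = z := by
    rw [← hsum, Finsupp.sum]
    exact Finset.sum_coe_sort a.support (fun k => a k • k)
  have hrel : ∑ k : ι, a k.1 • π k.1 = 0 := by
    rw [← LinearMap.mem_ker.1 hzK, ← h2, map_sum]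
    exact Finset.sum_congr rfl fun k _ => (map_smul π _ _).symm
  obtain ⟨n, b, y, hxy, hfb⟩ := Module.Flat.isTrivialRelation_of_sum_smul_eq_zero hrel
  simp only at hxy hfb
  choose e' he' using fun j => hπ (y j)
  have hk : ∀ k : ι, k.1 - ∑ j, b k j • e' j ∈ LinearMap.ker π := by
    intro k
    rw [LinearMap.mem_ker, map_sub, hxy k, map_sum, sub_eq_zero]
    exact Finset.sum_congr rfl fun j _ => by rw [map_smul, he']
  have h3 : ∑ k : ι, a k.1 • ∑ j, b k j • e' j = 0 := by
    simp_rw [Finset.smul_sum, smul_smul]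
    rw [Finset.sum_comm]
    refine Finset.sum_eq_zero fun j _ => ?_
    rw [← Finset.sum_smul, hfb j, zero_smul]
  have hzsum : z = ∑ k : ι, a k.1 • (k.1 - ∑ j, b k j • e' j) := by
    simp_rw [smul_sub, Finset.sum_sub_distrib]
    rw [h2, h3, sub_zero]
  rw [hzsum]
  exact Submodule.sum_mem _ fun k _ => Submodule.smul_mem_smul (haI k.1) (hk k)

open IsLocalRing in
/-- Key step: kernel of a surjection `π₀ : S → M` dies near `q` when `M_q` is `R`-flat and
`ker π₀ ⊆ I S_q`, with `I S ⊆ q`. -/
theorem key (R S : Type u) [CommRing R] [CommRing S] [Algebra R S] (M : Type u) [AddCommGroup M]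
    [Module S M] [Module R M] [IsScalarTower R S M]
    (I : Ideal R) (π₀ : S →ₗ[S] M) (hπ₀ : Function.Surjective π₀) (q : Ideal S) [q.IsPrime]
    (hq : I.map (algebraMap R S) ≤ q)
    (hKfg : (LinearMap.ker π₀).FG)
    (hker : ∀ j, π₀ j = 0 →
      algebraMap S (Localization.AtPrime q) j ∈ I.map (algebraMap R (Localization.AtPrime q)))
    [Module.Flat R (LocalizedModule q.primeCompl M)] :
    ∃ g, g ∉ q ∧ ∀ j, π₀ j = 0 → g * j = 0 := by
  classical
  let Sq := Localization.AtPrime q
  let Mq := LocalizedModule q.primeCompl M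
  let m₁ : Mq := LocalizedModule.mk (π₀ 1) 1
  let π : Sq →ₗ[Sq] Mq := LinearMap.toSpanSingleton Sq Mq m₁
  have hπmk : ∀ (a : S) (s : q.primeCompl),
      π (Localization.mk a s) = LocalizedModule.mk (π₀ a) s := by
    intro a s
    simp only [π, LinearMap.toSpanSingleton_apply, m₁]
    rw [LocalizedModule.mk_smul_mk, mul_one, ← map_smul, smul_eq_mul, mul_one]
  have hπsurj : Function.Surjective π := by
    intro x
    induction x using LocalizedModule.induction_on with
    | h m s =>
      obtain ⟨a, rfl⟩ := hπ₀ m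
      exact ⟨Localization.mk a s, hπmk a s⟩
  have hkerπ : ∀ x : Sq, π x = 0 →
      ∃ (a : S) (s : q.primeCompl), π₀ a = 0 ∧ x = Localization.mk a s := by
    intro x hx
    obtain ⟨⟨a, s⟩, rfl⟩ := Localization.mkHom_surjective x
    change π (Localization.mk a s) = 0 at hx
    rw [hπmk, ← LocalizedModule.zero_mk s, LocalizedModule.mk_eq] at hx
    obtain ⟨u, hu⟩ := hx
    rw [smul_zero, smul_zero] at hu
    refine ⟨(u : S) * ((s : S) * a), u * (s * s), ?_, ?_⟩
    · rw [← smul_eq_mul, ← smul_eq_mul, map_smul, map_smul]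
      exact hu
    · change Localization.mk a s = _
      rw [Localization.mk_eq_mk_iff, Localization.r_iff_exists]
      refine ⟨1, ?_⟩
      push_cast
      ring
  -- the kernel ideal of `S_q`
  let Kq : Ideal Sq := LinearMap.ker π
  have hKq_mem : ∀ a : S, π₀ a = 0 → algebraMap S Sq a ∈ Kq := by
    intro a ha
    change π (algebraMap S Sq a) = 0
    rw [← Localization.mk_one_eq_algebraMap, hπmk, ha, LocalizedModule.zero_mk]
  have hmk_eq : ∀ (a : S) (s : q.primeCompl),
      (Localization.mk a s : Sq) = Localization.mk 1 s * algebraMap S Sq a := by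
    intro a s
    rw [← Localization.mk_one_eq_algebraMap, Localization.mk_mul, one_mul, mul_one]
  have hKq_eq : Kq = Ideal.map (algebraMap S Sq) (LinearMap.ker π₀) := by
    apply le_antisymm
    · intro x hx
      obtain ⟨a, s, ha, rfl⟩ := hkerπ x hx
      rw [hmk_eq]
      exact Ideal.mul_mem_left _ _ (Ideal.mem_map_of_mem _ ha)
    · rw [Ideal.map_le_iff_le_comap]
      intro a ha
      exact hKq_mem a ha
  have hKq_fg : (Kq : Submodule Sq Sq).FG := by
    rw [hKq_eq]
    exact Ideal.FG.map hKfg _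
  -- `K_q ⊆ I S_q`
  have hA : ∀ x ∈ Kq, x ∈ (I • ⊤ : Submodule R Sq) := by
    intro x hx
    obtain ⟨a, s, ha, rfl⟩ := hkerπ x hx
    rw [Ideal.smul_top_eq_map, Submodule.restrictScalars_mem, hmk_eq]
    exact Ideal.mul_mem_left _ _ (hker a ha)
  -- Tor condition
  let πR : Sq →ₗ[R] Mq := π.restrictScalars R
  have htor := tor_cond_flat I (E := Sq) (P := Mq) πR hπsurj
  have hI𝔪 : ∀ i ∈ I, algebraMap R Sq i ∈ maximalIdeal Sq := by
    intro i hi
    rw [IsScalarTower.algebraMap_apply R S Sq, IsLocalization.AtPrime.to_map_mem_maximal_iff Sq q]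
    exact hq (Ideal.mem_map_of_mem _ hi)
  have hB : (Kq : Submodule Sq Sq) ≤ maximalIdeal Sq • (Kq : Submodule Sq Sq) := by
    intro x hx
    have h1 : x ∈ I • LinearMap.ker πR := htor ⟨hx, hA x hx⟩
    refine Submodule.smul_induction_on h1 ?_ ?_
    · intro i hi k hk
      rw [← algebraMap_smul Sq i k]
      exact Submodule.smul_mem_smul (hI𝔪 i hi) hk
    · intro a b ha hb
      exact Submodule.add_mem _ ha hb
  have hKq_bot : (Kq : Submodule Sq Sq) = ⊥ :=
    Submodule.eq_bot_of_le_smul_of_le_jacobson_bot (maximalIdeal Sq) _ hKq_fg hB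
      (maximalIdeal_le_jacobson ⊥)
  -- each element of the kernel is killed by some `t ∉ q`
  have hkill : ∀ a : S, π₀ a = 0 → ∃ t : S, t ∉ q ∧ t * a = 0 := by
    intro a ha
    have h0 : algebraMap S Sq a = 0 := by
      have := hKq_mem a ha
      rw [show Kq = (⊥ : Ideal Sq) from hKq_bot] at this
      exact this
    obtain ⟨t, ht⟩ := (IsLocalization.map_eq_zero_iff q.primeCompl Sq a).1 h0
    exact ⟨t, t.2, ht⟩
  obtain ⟨T, hT⟩ := hKfg
  have hfin : ∀ T' : Finset S, (∀ a ∈ T', π₀ a = 0) →
      ∃ g, g ∉ q ∧ ∀ a ∈ T', g * a = 0 := by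
    intro T'
    induction T' using Finset.induction_on with
    | empty => exact fun _ => ⟨1, fun h => (Ideal.IsPrime.ne_top ‹_›) ((Ideal.eq_top_iff_one q).2 h), by simp⟩
    | insert b T'' hb ih =>
      intro h
      obtain ⟨g, hg, hg'⟩ := ih fun a ha => h a (Finset.mem_insert_of_mem ha)
      obtain ⟨t, ht, ht'⟩ := hkill b (h b (Finset.mem_insert_self _ _))
      refine ⟨t * g, fun hm => ?_, ?_⟩
      · rcases Ideal.IsPrime.mem_or_mem ‹_› hm with h' | h'
        · exact ht h'
        · exact hg h'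
      · intro a ha
        rcases Finset.mem_insert.1 ha with rfl | ha
        · rw [mul_right_comm, ht', zero_mul]
        · rw [mul_assoc, hg' a ha, mul_zero]
  have hTker : ∀ a ∈ T, π₀ a = 0 := by
    intro a ha
    have : a ∈ LinearMap.ker π₀ := by
      rw [← hT]; exact Submodule.subset_span ha
    exact this
  obtain ⟨g, hg, hg'⟩ := hfin T hTker
  refine ⟨g, hg, fun j hj => ?_⟩
  have hj' : j ∈ Submodule.span S (T : Set S) := by
    rw [hT]; exact hj
  refine Submodule.span_induction ?_ ?_ ?_ ?_ hj'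
  · intro a ha; exact hg' a ha
  · exact mul_zero g
  · intro a b _ _ ha hb; rw [mul_add, ha, hb, add_zero]
  · intro c a _ ha; rw [smul_eq_mul, mul_left_comm, ha, mul_zero]

end Groth.Agent.H87.AwayIso
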