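import Groth.Agent.H87.Dec4

set_option autoImplicit false

namespace Groth.Agent.H87

open Submodule W4c5adicflatcompl

section general

variable {R : Type*} [CommRing R] (I : Ideal R)
  {M : Type*} [AddCommGroup M] [Module R M] {N : Type*} [AddCommGroup N] [Module R N]

/-- a module killed by a power of `I` is `I`-adically complete -/
theorem isAdicComplete_of_pow_smul_top_eq_bot {n : ℕ}
    (h : (I ^ n • ⊤ : Submodule R M) = ⊥) : IsAdicComplete I M := by
  have hH : IsHausdorff I M := by
    refine ⟨fun x hx => ?_⟩
    have := hx n
    rw [SModEq.zero, h, Submodule.mem_bot] at this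
    exact this
  refine { toIsHausdorff := hH, prec' := ?_ }
  intro f hf
  refine ⟨f n, fun m => ?_⟩
  rcases le_total m n with hmn | hmn
  · exact hf hmn
  · have := hf hmn
    rw [SModEq.sub_mem, h, Submodule.mem_bot, sub_eq_zero] at this
    rw [this]

/-- a linear map which is bijective modulo every power of `I` induces a bijection on completions -/
theorem map_bijective_of_levelwise (f : M →ₗ[R] N)
    (hs : ∀ (n : ℕ) (y : N), ∃ x : M, y - f x ∈ (I ^ n • ⊤ : Submodule R N))
    (hi : ∀ (n : ℕ) (x : M), f x ∈ (I ^ n • ⊤ : Submodule R N) → x ∈ (I ^ n • ⊤ : Submodule R M)) :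
    Function.Bijective (AdicCompletion.map I f) := by
  constructor
  · rw [injective_iff_map_eq_zero]
    intro x hx
    obtain ⟨a, rfl⟩ := AdicCompletion.mk_surjective I M x
    apply AdicCompletion.ext
    intro n
    have h1 := congrArg (fun y => y.val n) hx
    simp only [AdicCompletion.map_mk, AdicCompletion.mk_apply_coe, AdicCompletion.val_zero,
      Pi.zero_apply] at h1 ⊢
    rw [Submodule.mkQ_apply, Submodule.Quotient.mk_eq_zero] at h1 ⊢
    exact hi n _ h1
  · intro y
    obtain ⟨b, rfl⟩ := AdicCompletion.mk_surjective I N y
    choose x hx using fun n => hs n (b n)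
    have hcauchy : AdicCompletion.IsAdicCauchy I M x := by
      intro m n hmn
      rw [SModEq.sub_mem]
      apply hi m
      have h1 : f (x m - x n) = (b n - f (x n)) - (b m - f (x m)) + (b m - b n) := by
        rw [map_sub]; abel
      rw [h1]
      refine Submodule.add_mem _ (Submodule.sub_mem _ ?_ (hx m)) ?_
      · exact pow_smul_top_anti hmn (hx n)
      · have := b.property hmn
        rwa [SModEq.sub_mem] at this
    refine ⟨AdicCompletion.mk I M ⟨x, hcauchy⟩, ?_⟩
    apply AdicCompletion.ext
    intro n
    change Submodule.Quotient.mk (f (x n)) = Submodule.Quotient.mk (b n)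
    rw [eq_comm, Submodule.Quotient.eq]
    exact hx n

end general

section approx

variable {A : Type*} [CommRing A] {I : Ideal A} {Z : Type*}

/-- every decaying function `Z → Â` is, modulo `I ^ n`, a finite combination of the `single z 1`. -/
theorem exists_finset_approx (hfg : I.FG) [DecidableEq Z]
    (g : decaying I Z (AdicCompletion I A)) (n : ℕ) :
    ∃ (S : Finset Z) (a : Z → A),
      g - ∑ z ∈ S, a z • single I z (1 : AdicCompletion I A) ∈
        (I ^ n • ⊤ : Submodule A (decaying I Z (AdicCompletion I A))) := by
  have hcomp : IsAdicComplete I (AdicCompletion I A) := AdicCompletion.isAdicComplete hfg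
  set S := (g.2 n).toFinset with hS
  choose a ha using fun z => approx_of_isPrecomplete (I := I) (M := A) n ((g : Z → AdicCompletion I A) z)
  refine ⟨S, a, ?_⟩
  apply mem_pow_smul_top_of_forall (Ideal.FG.pow hfg)
  intro z
  have hval : ((g - ∑ z ∈ S, a z • single I z (1 : AdicCompletion I A) :
      decaying I Z (AdicCompletion I A)) : Z → AdicCompletion I A) z =
      (g : Z → AdicCompletion I A) z - (if z ∈ S then AdicCompletion.of I A (a z) else 0) := by
    rw [Submodule.coe_sub, Pi.sub_apply, Submodule.coe_sum, Finset.sum_apply]
    congr 1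
    simp only [Submodule.coe_smul, coe_single, Pi.smul_apply, Pi.single_apply]
    by_cases hz : z ∈ S
    · rw [Finset.sum_eq_single_of_mem z hz]
      · simp only [hz, if_true]
        rw [← of_one, ← map_smul, smul_eq_mul, mul_one]
      · intro z' _ hne
        simp [hne.symm]
    · simp only [hz, if_false]
      apply Finset.sum_eq_zero
      intro z' hz'
      have hne : z ≠ z' := fun h => hz (h ▸ hz')
      simp [hne]
  rw [hval]
  by_cases hz : z ∈ S
  · simp only [hz, if_true]
    exact ha z
  · simp only [hz, if_false, sub_zero]
    rw [hS, Set.Finite.mem_toFinset] at hz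
    simpa using hz

end approx

end Groth.Agent.H87
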