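import Groth.Agent.H87.Dec2
import Mathlib.RingTheory.AdicCompletion.Algebra
import Mathlib.RingTheory.AdicCompletion.Functoriality

set_option autoImplicit false

namespace Groth.Agent.H87

open Submodule W4c5adicflatcompl

variable {A : Type*} [CommRing A] {I : Ideal A} {Z : Type*}

theorem of_one : AdicCompletion.of I A 1 = 1 := by
  apply AdicCompletion.ext
  intro n
  rw [AdicCompletion.of_apply, AdicCompletion.val_one]
  rfl

/-- Restriction of a decaying function to a finite set (zero elsewhere). -/
theorem restrict_mem_decaying {P : Type*} [AddCommGroup P] [Module A P] [DecidableEq Z]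
    (g : Z → P) (S : Finset Z) :
    (fun z => if z ∈ S then g z else 0) ∈ decaying I Z P := by
  intro n
  refine (S.finite_toSet).subset ?_
  intro z hz
  by_contra hcon
  apply hz
  rw [Finset.mem_coe] at hcon
  simp [hcon]

theorem restrict_eq_sum_single {P : Type*} [AddCommGroup P] [Module A P] [DecidableEq Z]
    (g : Z → P) (S : Finset Z) :
    (⟨fun z => if z ∈ S then g z else 0, restrict_mem_decaying g S⟩ : decaying I Z P) =
      ∑ z ∈ S, single I z (g z) := by
  apply Subtype.ext
  funext z'
  rw [Submodule.coe_sum, Finset.sum_apply]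
  simp only [coe_single, Pi.single_apply]
  rw [Finset.sum_ite_eq S z' g]

/-- a linear map out of decaying functions into a Hausdorff module is determined by its values on
`single z r` -/
theorem eq_zero_of_single {P : Type*} [AddCommGroup P] [Module A P] [IsHausdorff I P]
    (hfg : I.FG) [DecidableEq Z]
    {M : Type*} [AddCommGroup M] [Module A M] [IsHausdorff I M]
    (δ : decaying I Z P →ₗ[A] M) (hδ : ∀ z r, δ (single I z r) = 0) : δ = 0 := by
  ext g
  rw [LinearMap.zero_apply]
  apply IsHausdorff.haus' (I := I)
  intro n
  rw [SModEq.zero]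
  set S := (g.2 n).toFinset with hS
  let g₁ : decaying I Z P := ⟨fun z => if z ∈ S then (g : Z → P) z else 0, restrict_mem_decaying _ S⟩
  have hg₁ : δ g₁ = 0 := by
    have : g₁ = ∑ z ∈ S, single I z ((g : Z → P) z) := restrict_eq_sum_single _ S
    rw [this, map_sum]
    exact Finset.sum_eq_zero fun z _ => hδ z _
  have hg₂ : g - g₁ ∈ (I ^ n • ⊤ : Submodule A (decaying I Z P)) := by
    apply mem_pow_smul_top_of_forall (Ideal.FG.pow hfg)
    intro z
    show (g : Z → P) z - (if z ∈ S then (g : Z → P) z else 0) ∈ _
    by_cases hz : z ∈ S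
    · simp [hz]
    · simp only [hz, if_false, sub_zero]
      rw [hS, Set.Finite.mem_toFinset] at hz
      simpa using hz
  have : δ g = δ (g - g₁) := by rw [map_sub, hg₁, sub_zero]
  rw [this]
  exact map_mem_smul_top _ δ (I ^ n) hg₂

/-- for `P = Â`: determined by values on `single z 1`. -/
theorem eq_zero_of_single_one (hfg : I.FG) [DecidableEq Z]
    {M : Type*} [AddCommGroup M] [Module A M] [IsHausdorff I M]
    (δ : decaying I Z (AdicCompletion I A) →ₗ[A] M)
    (hδ : ∀ z, δ (single I z (1 : AdicCompletion I A)) = 0) : δ = 0 := by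
  have hcomp : IsAdicComplete I (AdicCompletion I A) := AdicCompletion.isAdicComplete hfg
  apply eq_zero_of_single hfg
  intro z r
  apply IsHausdorff.haus' (I := I)
  intro n
  rw [SModEq.zero]
  obtain ⟨a, ha⟩ := approx_of_isPrecomplete (I := I) (M := A) n r
  have h1 : single I z r = a • single I z (1 : AdicCompletion I A) +
      single I z (r - AdicCompletion.of I A a) := by
    apply Subtype.ext
    funext z'
    simp only [Submodule.coe_add, Submodule.coe_smul, coe_single, Pi.add_apply, Pi.smul_apply,
      Pi.single_apply]
    by_cases hz : z' = z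
    · simp only [hz, if_true]
      have : a • (1 : AdicCompletion I A) = AdicCompletion.of I A a := by
        rw [← of_one, ← map_smul, smul_eq_mul, mul_one]
      rw [this]; abel
    · simp [hz]
  rw [h1, map_add, map_smul, hδ, smul_zero, zero_add]
  apply map_mem_smul_top _ δ (I ^ n)
  apply mem_pow_smul_top_of_forall (Ideal.FG.pow hfg)
  intro z'
  simp only [coe_single, Pi.single_apply]
  by_cases hz : z' = z
  · simp only [hz, if_true]; exact ha
  · simp [hz]

end Groth.Agent.H87
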