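import Groth.Agent.H87.BaseChange
import Groth.Agent.S17548
import Groth.Agent.S17539
import Mathlib.LinearAlgebra.TensorProduct.Tower

set_option autoImplicit false

namespace Groth.Agent.H87

open Submodule W4c5adicflatcompl
open scoped TensorProduct

universe u

section

variable {A B : Type u} [CommRing A] [CommRing B] [Algebra A B]
  [IsNoetherianRing A] [IsNoetherianRing B] (I : Ideal A) (J : Ideal B)
  (P : Type u) [AddCommGroup P] [Module A P] (Z : Type u) [DecidableEq Z]
  (e : P ≃ₗ[A] decaying I Z (AdicCompletion I A))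

/-- the image in `P` of the `z`-th "basis vector" -/
noncomputable def uvec (z : Z) : P := e.symm (single I z (1 : AdicCompletion I A))

/-- the comparison map `(Z →₀ B) → B ⊗ P` -/
noncomputable def cB : (Z →₀ B) →ₗ[B] B ⊗[A] P :=
  Finsupp.linearCombination B (fun z => (1 : B) ⊗ₜ[A] uvec I P Z e z)

theorem cB_single (z : Z) (b : B) :
    cB I P Z e (Finsupp.single z b) = b ⊗ₜ[A] uvec I P Z e z := by
  unfold cB
  rw [Finsupp.linearCombination_single, TensorProduct.smul_tmul', smul_eq_mul, mul_one]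

variable {I J}

theorem algebraMap_mem_pow (hIJ : I.map (algebraMap A B) ≤ J) {n : ℕ} {a : A} (ha : a ∈ I ^ n) :
    algebraMap A B a ∈ J ^ n := by
  have h1 : algebraMap A B a ∈ (I ^ n).map (algebraMap A B) := Ideal.mem_map_of_mem _ ha
  rw [Ideal.map_pow] at h1
  exact Ideal.pow_right_mono hIJ n h1

theorem tmul_mem_of_mem (hIJ : I.map (algebraMap A B) ≤ J) {n : ℕ} (b : B) {w : P}
    (hw : w ∈ (I ^ n • ⊤ : Submodule A P)) :
    b ⊗ₜ[A] w ∈ (J ^ n • ⊤ : Submodule B (B ⊗[A] P)) := by
  refine Submodule.smul_induction_on hw ?_ ?_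
  · intro a ha p _
    have : b ⊗ₜ[A] (a • p) = algebraMap A B a • (b ⊗ₜ[A] p) := by
      rw [TensorProduct.tmul_smul, algebraMap_smul]
    rw [this]
    exact Submodule.smul_mem_smul (algebraMap_mem_pow hIJ ha) Submodule.mem_top
  · intro x y hx hy
    rw [TensorProduct.tmul_add]
    exact Submodule.add_mem _ hx hy

variable (I J)

theorem cB_surj_mod (hIJ : I.map (algebraMap A B) ≤ J) (n : ℕ) (y : B ⊗[A] P) :
    ∃ t : Z →₀ B, y - cB I P Z e t ∈ (J ^ n • ⊤ : Submodule B (B ⊗[A] P)) := by
  have hfg : I.FG := (isNoetherianRing_iff_ideal_fg A).mp inferInstance _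
  induction y using TensorProduct.induction_on with
  | zero => exact ⟨0, by simp⟩
  | tmul b x =>
    obtain ⟨S, a, ha⟩ := exists_finset_approx hfg (e x) n
    have h1 : x - ∑ z ∈ S, a z • uvec I P Z e z ∈ (I ^ n • ⊤ : Submodule A P) := by
      have := map_mem_smul_top _ e.symm.toLinearMap (I ^ n) ha
      simpa [uvec, map_sub, map_sum] using this
    refine ⟨∑ z ∈ S, Finsupp.single z (a z • b), ?_⟩
    have h2 : b ⊗ₜ[A] x - cB I P Z e (∑ z ∈ S, Finsupp.single z (a z • b)) =
        b ⊗ₜ[A] (x - ∑ z ∈ S, a z • uvec I P Z e z) := by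
      rw [map_sum, TensorProduct.tmul_sub, TensorProduct.tmul_sum]
      congr 1
      refine Finset.sum_congr rfl fun z _ => ?_
      rw [cB_single, TensorProduct.smul_tmul]
    rw [h2]
    exact tmul_mem_of_mem P hIJ b h1
  | add y y' hy hy' =>
    obtain ⟨t, ht⟩ := hy
    obtain ⟨t', ht'⟩ := hy'
    refine ⟨t + t', ?_⟩
    have : y + y' - cB I P Z e (t + t') = (y - cB I P Z e t) + (y' - cB I P Z e t') := by
      rw [map_add]; abel
    rw [this]
    exact Submodule.add_mem _ ht ht'


/-- `cB` is injective modulo every power of `J`. -/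
theorem cB_inj_mod (hIJ : I.map (algebraMap A B) ≤ J) (n : ℕ) (t : Z →₀ B)
    (ht : cB I P Z e t ∈ (J ^ n • ⊤ : Submodule B (B ⊗[A] P))) :
    t ∈ (J ^ n • ⊤ : Submodule B (Z →₀ B)) := by
  -- the quotient `Q = (Z →₀ B) / J^n`
  let Q := (Z →₀ B) ⧸ (J ^ n • ⊤ : Submodule B (Z →₀ B))
  have hJQ : ∀ q ∈ (J ^ n • ⊤ : Submodule B Q), q = 0 := by
    intro q hq
    refine Submodule.smul_induction_on hq ?_ ?_
    · intro j hj q _
      obtain ⟨t', rfl⟩ := Submodule.Quotient.mk_surjective _ q
      rw [← Submodule.Quotient.mk_smul, Submodule.Quotient.mk_eq_zero]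
      exact Submodule.smul_mem_smul hj Submodule.mem_top
    · rintro x y rfl rfl
      simp
  have hIQ : (I ^ n • ⊤ : Submodule A Q) = ⊥ := by
    rw [eq_bot_iff]
    intro q hq
    rw [Submodule.mem_bot]
    refine Submodule.smul_induction_on hq ?_ ?_
    · intro a ha q _
      apply hJQ
      rw [← algebraMap_smul B a q]
      exact Submodule.smul_mem_smul (algebraMap_mem_pow hIJ ha) Submodule.mem_top
    · rintro x y rfl rfl
      simp
  have hQc : IsAdicComplete I Q := isAdicComplete_of_pow_smul_top_eq_bot I hIQ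
  obtain ⟨r, hr, -⟩ := Groth.Agent.S17548.result I Z Q
    (fun z => Submodule.Quotient.mk (Finsupp.single z (1 : B)))
  let ρ : B ⊗[A] P →ₗ[B] Q :=
    TensorProduct.AlgebraTensorModule.lift
      (LinearMap.toSpanSingleton B (P →ₗ[A] Q) (r ∘ₗ e.toLinearMap))
  have hρ : ∀ t : Z →₀ B, ρ (cB I P Z e t) = Submodule.Quotient.mk t := by
    intro t
    have : ρ ∘ₗ cB I P Z e = (J ^ n • ⊤ : Submodule B (Z →₀ B)).mkQ := by
      apply Finsupp.lhom_ext
      intro z b
      rw [LinearMap.comp_apply, cB_single, Submodule.mkQ_apply]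
      simp only [ρ, TensorProduct.AlgebraTensorModule.lift_tmul, LinearMap.toSpanSingleton_apply,
        LinearMap.smul_apply, LinearMap.comp_apply, LinearEquiv.coe_coe]
      rw [uvec, LinearEquiv.apply_symm_apply, hr z, ← Submodule.Quotient.mk_smul,
        Finsupp.smul_single, smul_eq_mul, mul_one]
    rw [← LinearMap.comp_apply, this, Submodule.mkQ_apply]
  have h1 := hJQ _ (map_mem_smul_top _ ρ (J ^ n) ht)
  rw [hρ, Submodule.Quotient.mk_eq_zero] at h1
  exact h1

include e in
/-- the completed base change of an adically free module is adically free -/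
theorem adicFree_baseChange (hIJ : I.map (algebraMap A B) ≤ J) :
    Nonempty (AdicCompletion J (B ⊗[A] P) ≃ₗ[B] decaying J Z (AdicCompletion J B)) := by
  have hfgJ : J.FG := (isNoetherianRing_iff_ideal_fg B).mp inferInstance _
  have hbij := map_bijective_of_levelwise J (cB I P Z e) (cB_surj_mod I J P Z e hIJ)
    (cB_inj_mod I J P Z e hIJ)
  let e₁ : AdicCompletion J (Z →₀ B) ≃ₗ[B] AdicCompletion J (B ⊗[A] P) :=
    LinearEquiv.ofBijective ((AdicCompletion.map J (cB I P Z e)).restrictScalars B) hbij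
  have hcomp : IsAdicComplete J (AdicCompletion J B) := AdicCompletion.isAdicComplete hfgJ
  obtain ⟨hinj, hrange⟩ := Groth.Agent.S17539.result J Z B
  let e₂ := LinearEquiv.ofInjective _ hinj
  exact ⟨e₁.symm.trans (e₂.trans (LinearEquiv.ofEq _ _ hrange))⟩

end

end Groth.Agent.H87
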