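import Mathlib.RepresentationTheory.Irreducible
import Mathlib.RingTheory.SimpleModule.Basic

set_option autoImplicit false

namespace Groth.Agent.H87.Theta

open scoped MonoidAlgebra

variable {k : Type*} [Field k] {G : Type*} [Monoid G]
variable {V : Type*} [AddCommGroup V] [Module k V] (ρ : Representation k G V)

/-- Burnside's theorem: for an irreducible finite-dimensional representation over an algebraically
closed field the operators `ρ g` span `End V`. -/
theorem span_range_eq_top [FiniteDimensional k V] [IsAlgClosed k] [hirr : ρ.IsIrreducible] :
    Submodule.span k (Set.range ρ) = (⊤ : Submodule k (Module.End k V)) := by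
  rw [eq_top_iff]
  intro T _
  have hS := IsSimpleModule.algebraMap_end_bijective_of_isAlgClosed (A := k[G]) (V := ρ.asModule) k
  let e := ρ.asModuleEquiv
  let T' : ρ.asModule →ₗ[k] ρ.asModule := e.symm.toLinearMap ∘ₗ T ∘ₗ e.toLinearMap
  let f : Module.End (Module.End k[G] ρ.asModule) ρ.asModule :=
    { toFun := T'
      map_add' := T'.map_add
      map_smul' := fun φ m => by
        obtain ⟨c, rfl⟩ := hS.2 φ
        simp only [RingHom.id_apply]
        change T' (c • m) = c • T' m
        exact T'.map_smul c m }
  obtain ⟨s, hs⟩ := Module.Finite.fg_top (R := k) (M := ρ.asModule)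
  obtain ⟨r, hr⟩ := jacobson_density f s
  have hall : ∀ m : ρ.asModule, T' m = r • m := by
    intro m
    have hm : m ∈ Submodule.span k (s : Set ρ.asModule) := hs ▸ Submodule.mem_top
    induction hm using Submodule.span_induction with
    | mem m hm => exact hr m hm
    | zero => simp
    | add x y _ _ hx hy => rw [map_add, hx, hy, smul_add]
    | smul c x _ hx => rw [map_smul, hx, smul_comm]
  have hT : T = ρ.asAlgebraHom r := by
    ext v
    have h1 := hall (e.symm v)
    have h2 := congrArg e h1
    rw [Representation.asModuleEquiv_map_smul] at h2
    simpa [T', e] using h2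
  rw [hT, Representation.asAlgebraHom_def, MonoidAlgebra.lift_apply]
  refine Submodule.sum_mem _ fun g _ => Submodule.smul_mem _ _ (Submodule.subset_span ⟨g, rfl⟩)

end Groth.Agent.H87.Theta
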