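import Groth.Agent.H87.UnivThickA

/-!
# The universal property of a universal first order thickening on affine charts (helper87)

`exists_chart_lift`, `chart_lift_unique`: ring-level universal property of `Γ(Z', W') → Γ(Z, i⁻¹W')`
over `Γ(X, U)` for affine opens `W' ⊆ Z'`, `U ⊆ X` with `W' → U`.
-/

set_option autoImplicit false
universe u
open CategoryTheory Limits AlgebraicGeometry OmegaSh

namespace Groth.Agent.H87.ChartUP

open Groth.Agent.H87.UnivThick

variable {X Z Z' : Scheme.{u}} {h : Z ⟶ X} {i : Z ⟶ Z'} {h' : Z' ⟶ X}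

/-- Existence part of the chart-level universal property. -/
theorem exists_chart_lift (hu : IsUnivThickening h i h') {U : X.Opens} (hU : IsAffineOpen U)
    {W' : Z'.Opens} (hW' : IsAffineOpen W') (le : W' ≤ h' ⁻¹ᵁ U)
    (C : CommRingCat.{u}) (I : Ideal C) (hI : ∀ x y, x ∈ I → y ∈ I → x * y = 0)
    (α : Γ(Z, i ⁻¹ᵁ W') ⟶ CommRingCat.of (C ⧸ I)) (β : Γ(X, U) ⟶ C)
    (comm : β ≫ CommRingCat.ofHom (Ideal.Quotient.mk I) =
      (i ≫ h').appLE U (i ⁻¹ᵁ W') (i.preimage_mono le) ≫ α) :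
    ∃ θ : Γ(Z', W') ⟶ C, θ ≫ CommRingCat.ofHom (Ideal.Quotient.mk I) =
        i.appLE W' (i ⁻¹ᵁ W') le_rfl ≫ α ∧ h'.appLE U W' le ≫ θ = β := by
  haveI : IsClosedImmersion i := hu.1.1.1
  let q : C ⟶ CommRingCat.of (C ⧸ I) := CommRingCat.ofHom (Ideal.Quotient.mk I)
  have hjT : MoreMor.IsFirstOrderThickening (Spec.map q) :=
    Groth.Agent.H49.isFirstOrderThickening_specMap_of_surjective q Ideal.Quotient.mk_surjective
      (fun a b ha hb => hI a b (Ideal.Quotient.eq_zero_iff_mem.1 ha)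
        (Ideal.Quotient.eq_zero_iff_mem.1 hb))
  have hW : IsAffineOpen (i ⁻¹ᵁ W') := hW'.preimage i
  let a : Spec (CommRingCat.of (C ⧸ I)) ⟶ Z := Spec.map α ≫ hW.fromSpec
  let b : Spec C ⟶ X := Spec.map β ≫ hU.fromSpec
  have commS : Spec.map q ≫ b = a ≫ h := by
    simp only [a, b, Category.assoc]
    rw [← hu.2.1, ← IsAffineOpen.SpecMap_appLE_fromSpec (i ≫ h') hU hW (i.preimage_mono le),
      ← Spec.map_comp_assoc, ← Spec.map_comp_assoc, comm]
  let a' := lift hu (Spec.map q) b a hjT commS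
  have fl : Spec.map q ≫ a' = a ≫ i := lift_fac_left hu _ _ _ hjT commS
  have fr : a' ≫ h' = b := lift_fac_right hu _ _ _ hjT commS
  have hrange : Set.range a' ⊆ Set.range hW'.fromSpec := by
    rw [hW'.range_fromSpec]
    rintro _ ⟨x, rfl⟩
    obtain ⟨y, rfl⟩ := hjT.1.2.surj x
    have h1 : a' ((Spec.map q) y) = i (a y) := by
      rw [← Scheme.Hom.comp_apply, fl, Scheme.Hom.comp_apply]
    rw [h1]
    have h2 : a y ∈ Set.range hW.fromSpec := by
      change (Spec.map α ≫ hW.fromSpec) y ∈ _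
      rw [Scheme.Hom.comp_apply]
      exact Set.mem_range_self _
    rw [hW.range_fromSpec] at h2
    exact h2
  obtain ⟨θ, hθ⟩ := Spec.map_surjective (IsOpenImmersion.lift hW'.fromSpec a' hrange)
  have hθ' : Spec.map θ ≫ hW'.fromSpec = a' := by
    rw [hθ, IsOpenImmersion.lift_fac]
  refine ⟨θ, ?_, ?_⟩
  · apply Spec.map_injective
    rw [← cancel_mono hW'.fromSpec, Spec.map_comp, Category.assoc, hθ', fl]
    simp only [a, Category.assoc]
    rw [Spec.map_comp, Category.assoc, IsAffineOpen.SpecMap_appLE_fromSpec i hW' hW le_rfl]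
  · apply Spec.map_injective
    rw [← cancel_mono hU.fromSpec, Spec.map_comp, Category.assoc,
      IsAffineOpen.SpecMap_appLE_fromSpec h' hU hW' le, ← Category.assoc, hθ', fr]

/-- Uniqueness part of the chart-level universal property. -/
theorem chart_lift_unique (hu : IsUnivThickening h i h') {U : X.Opens} (hU : IsAffineOpen U)
    {W' : Z'.Opens} (hW' : IsAffineOpen W') (le : W' ≤ h' ⁻¹ᵁ U)
    (C : CommRingCat.{u}) (I : Ideal C) (hI : ∀ x y, x ∈ I → y ∈ I → x * y = 0)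
    (α : Γ(Z, i ⁻¹ᵁ W') ⟶ CommRingCat.of (C ⧸ I))
    (θ₁ θ₂ : Γ(Z', W') ⟶ C)
    (h1 : θ₁ ≫ CommRingCat.ofHom (Ideal.Quotient.mk I) = i.appLE W' (i ⁻¹ᵁ W') le_rfl ≫ α)
    (h1' : θ₂ ≫ CommRingCat.ofHom (Ideal.Quotient.mk I) = i.appLE W' (i ⁻¹ᵁ W') le_rfl ≫ α)
    (h2 : h'.appLE U W' le ≫ θ₁ = h'.appLE U W' le ≫ θ₂) : θ₁ = θ₂ := by
  haveI : IsClosedImmersion i := hu.1.1.1
  let q : C ⟶ CommRingCat.of (C ⧸ I) := CommRingCat.ofHom (Ideal.Quotient.mk I)
  have hjT : MoreMor.IsFirstOrderThickening (Spec.map q) :=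
    Groth.Agent.H49.isFirstOrderThickening_specMap_of_surjective q Ideal.Quotient.mk_surjective
      (fun a b ha hb => hI a b (Ideal.Quotient.eq_zero_iff_mem.1 ha)
        (Ideal.Quotient.eq_zero_iff_mem.1 hb))
  have hW : IsAffineOpen (i ⁻¹ᵁ W') := hW'.preimage i
  let a : Spec (CommRingCat.of (C ⧸ I)) ⟶ Z := Spec.map α ≫ hW.fromSpec
  have key : ∀ θ : Γ(Z', W') ⟶ C, θ ≫ q = i.appLE W' (i ⁻¹ᵁ W') le_rfl ≫ α →
      Spec.map q ≫ (Spec.map θ ≫ hW'.fromSpec) = a ≫ i := by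
    intro θ hθ
    simp only [a, Category.assoc]
    rw [← Spec.map_comp_assoc, hθ, Spec.map_comp, Category.assoc,
      IsAffineOpen.SpecMap_appLE_fromSpec i hW' hW le_rfl]
  have e : Spec.map θ₁ ≫ hW'.fromSpec = Spec.map θ₂ ≫ hW'.fromSpec := by
    refine lift_ext hu (Spec.map q) hjT ((key θ₁ h1).trans (key θ₂ h1').symm) ?_ a (key θ₂ h1')
    rw [Category.assoc, Category.assoc, ← IsAffineOpen.SpecMap_appLE_fromSpec h' hU hW' le,
      ← Spec.map_comp_assoc, ← Spec.map_comp_assoc, h2]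
  exact Spec.map_injective ((cancel_mono hW'.fromSpec).1 e)

/-- Existence, for an arbitrary surjection with square-zero kernel. -/
theorem exists_chart_lift' (hu : IsUnivThickening h i h') {U : X.Opens} (hU : IsAffineOpen U)
    {W' : Z'.Opens} (hW' : IsAffineOpen W') (le : W' ≤ h' ⁻¹ᵁ U)
    {C Cb : Type u} [CommRing C] [CommRing Cb] (τ : C →+* Cb) (hτ : Function.Surjective τ)
    (hsq : ∀ x y, τ x = 0 → τ y = 0 → x * y = 0)
    (α : Γ(Z, i ⁻¹ᵁ W') →+* Cb) (β : Γ(X, U) →+* C)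
    (comm : τ.comp β = α.comp ((i ≫ h').appLE U (i ⁻¹ᵁ W') (i.preimage_mono le)).hom) :
    ∃ θ : Γ(Z', W') →+* C, τ.comp θ = α.comp (i.appLE W' (i ⁻¹ᵁ W') le_rfl).hom ∧
      θ.comp (h'.appLE U W' le).hom = β := by
  let e := RingHom.quotientKerEquivOfSurjective hτ
  have he : ∀ c : C, e (Ideal.Quotient.mk (RingHom.ker τ) c) = τ c := fun c =>
    RingHom.quotientKerEquivOfSurjective_apply_mk hτ c
  obtain ⟨θ, h1, h2⟩ := exists_chart_lift hu hU hW' le (CommRingCat.of C) (RingHom.ker τ)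
    (fun x y hx hy => hsq x y hx hy)
    (CommRingCat.ofHom (e.symm.toRingHom.comp α)) (CommRingCat.ofHom β) (by
      ext r
      change Ideal.Quotient.mk (RingHom.ker τ) (β r) = e.symm (α _)
      rw [RingEquiv.eq_symm_apply, he]
      exact RingHom.congr_fun comm r)
  refine ⟨θ.hom, ?_, ?_⟩
  · ext r
    have := ConcreteCategory.congr_hom h1 r
    change Ideal.Quotient.mk (RingHom.ker τ) (θ.hom r) = e.symm (α _) at this
    rw [RingEquiv.eq_symm_apply, he] at this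
    exact this
  · ext r
    exact ConcreteCategory.congr_hom h2 r

/-- Uniqueness, for an arbitrary surjection with square-zero kernel. -/
theorem chart_lift_unique' (hu : IsUnivThickening h i h') {U : X.Opens} (hU : IsAffineOpen U)
    {W' : Z'.Opens} (hW' : IsAffineOpen W') (le : W' ≤ h' ⁻¹ᵁ U)
    {C Cb : Type u} [CommRing C] [CommRing Cb] (τ : C →+* Cb) (hτ : Function.Surjective τ)
    (hsq : ∀ x y, τ x = 0 → τ y = 0 → x * y = 0)
    (α : Γ(Z, i ⁻¹ᵁ W') →+* Cb) (θ₁ θ₂ : Γ(Z', W') →+* C)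
    (h1 : τ.comp θ₁ = α.comp (i.appLE W' (i ⁻¹ᵁ W') le_rfl).hom)
    (h1' : τ.comp θ₂ = α.comp (i.appLE W' (i ⁻¹ᵁ W') le_rfl).hom)
    (h2 : θ₁.comp (h'.appLE U W' le).hom = θ₂.comp (h'.appLE U W' le).hom) : θ₁ = θ₂ := by
  let e := RingHom.quotientKerEquivOfSurjective hτ
  have he : ∀ c : C, e (Ideal.Quotient.mk (RingHom.ker τ) c) = τ c := fun c =>
    RingHom.quotientKerEquivOfSurjective_apply_mk hτ c
  have key : ∀ θ : Γ(Z', W') →+* C, τ.comp θ = α.comp (i.appLE W' (i ⁻¹ᵁ W') le_rfl).hom →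
      CommRingCat.ofHom θ ≫ CommRingCat.ofHom (Ideal.Quotient.mk (RingHom.ker τ)) =
        i.appLE W' (i ⁻¹ᵁ W') le_rfl ≫ CommRingCat.ofHom (e.symm.toRingHom.comp α) := by
    intro θ hθ
    ext r
    change Ideal.Quotient.mk (RingHom.ker τ) (θ r) = e.symm (α _)
    rw [RingEquiv.eq_symm_apply, he]
    exact RingHom.congr_fun hθ r
  have := chart_lift_unique hu hU hW' le (CommRingCat.of C) (RingHom.ker τ)
    (fun x y hx hy => hsq x y hx hy) (CommRingCat.ofHom (e.symm.toRingHom.comp α))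
    (CommRingCat.ofHom θ₁) (CommRingCat.ofHom θ₂) (key θ₁ h1) (key θ₂ h1') (by
      ext r
      exact RingHom.congr_fun h2 r)
  exact congrArg CommRingCat.Hom.hom this

end Groth.Agent.H87.ChartUP
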