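import Groth.Agent.H44.ConormalMapExists
import Groth.Agent.H44.ConormalTriple
import Groth.Agent.H44.CotangentExact

/-!
# Composition of canonical maps of conormal sheaves (helper87)

`isConormalMap_comp_id`: the composite of the canonical map for a square `(𝟙, k)` with the canonical
map for a square `(a, ρ)` is the canonical map for `(a, ρ ≫ k)`.
-/

set_option autoImplicit false
universe u
open CategoryTheory Limits Opposite AlgebraicGeometry TopologicalSpace Scheme.Modules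

namespace Groth.Agent.H87.ConormalComp

open Groth.Agent.H44

variable {Z Z' Z'' T T' : Scheme.{u}} {i' : Z ⟶ Z'} {i'' : Z ⟶ Z''} {k : Z' ⟶ Z''}
  {j : T ⟶ T'} {a : T ⟶ Z} {ρ : T' ⟶ Z'} [QuasiCompact i']
  (ψ : (Scheme.Modules.pullback (𝟙 Z)).obj (Omega.conormal i'') ⟶ Omega.conormal i')
  (hψ : OmegaSh.IsConormalMap i' i'' k (𝟙 Z) ψ)
  (ψρ : (Scheme.Modules.pullback a).obj (Omega.conormal i') ⟶ Omega.conormal j)
  (hψρ : OmegaSh.IsConormalMap j i' ρ a ψρ)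

include hψ hψρ in
theorem isConormalMap_comp_id :
    OmegaSh.IsConormalMap j i'' (ρ ≫ k) a
      ((Scheme.Modules.pullback a).map ((pullbackId Z).inv.app (Omega.conormal i'') ≫ ψ) ≫ ψρ) := by
  have hsq1 : 𝟙 Z ≫ i'' = i' ≫ k := hψ.1
  have hsq2 : a ≫ i' = j ≫ ρ := hψρ.1
  refine ⟨by rw [← Category.assoc, ← hsq2, Category.assoc, ← hsq1, Category.id_comp], ?_⟩
  intro U'' s'' s hs V h₁ h₂
  have hs' := idealSect_idealPull i' i'' k (𝟙 Z) hsq1 U'' s''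
  have hO : i'' ⁻¹ᵁ U'' ≤ i' ⁻¹ᵁ (k ⁻¹ᵁ U'') := by
    have : i'' = i' ≫ k := by rw [← hsq1, Category.id_comp]
    rw [this]
    exact le_rfl
  have B₀ := hψ.2 U'' s'' (idealPull i' i'' k (𝟙 Z) hsq1 U'' s'') hs' (i'' ⁻¹ᵁ U'') le_rfl hO
  have B : ψ.app (i'' ⁻¹ᵁ U'') (OmegaSh.pullSect (𝟙 Z) (Omega.conormal i'') (i'' ⁻¹ᵁ U'')
      (OmegaSh.conormalSect i'' U'' s'')) =
      (Omega.conormal i').presheaf.map (homOfLE hO).op
        (OmegaSh.conormalSect i' (k ⁻¹ᵁ U'') (idealPull i' i'' k (𝟙 Z) hsq1 U'' s'')) :=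
    (resM_refl (M := Omega.conormal i') _).symm.trans B₀
  have hs₂ : OmegaSh.idealSect j.ker (ρ ⁻¹ᵁ (k ⁻¹ᵁ U'')) s =
      ρ.app (k ⁻¹ᵁ U'') (OmegaSh.idealSect i'.ker (k ⁻¹ᵁ U'')
        (idealPull i' i'' k (𝟙 Z) hsq1 U'' s'')) := by
    rw [hs']
    exact hs
  have h₁' : V ≤ a ⁻¹ᵁ (i' ⁻¹ᵁ (k ⁻¹ᵁ U'')) := h₁.trans (a.preimage_mono hO)
  have C := hψρ.2 (k ⁻¹ᵁ U'') (idealPull i' i'' k (𝟙 Z) hsq1 U'' s'') s hs₂ V h₁' h₂
  refine Eq.trans ?_ C
  rw [Scheme.Modules.Hom.comp_app, ConcreteCategory.comp_apply, ← pullSectLE_self,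
    pullSectLE_naturality, Scheme.Modules.Hom.comp_app, ConcreteCategory.comp_apply,
    pullbackId_inv_app_apply]
  rw [B, pullSectLE_of_res]
  unfold pullSectLE
  rw [hom_app_resLE, resM_comp]

end Groth.Agent.H87.ConormalComp
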