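import Groth.Agent.H87.UnivThickC

/-!
# Formally étale morphisms and universal first order thickenings
-/

set_option autoImplicit false
universe u

namespace Groth.Agent.H87.UnivThick

open AlgebraicGeometry CategoryTheory Limits OmegaSh

/-- Affine charts of a first order thickening. -/
lemma exists_affine_chart {T T' : Scheme.{u}} {j : T ⟶ T'}
    (hj : MoreMor.IsFirstOrderThickening j) (t : T') :
    ∃ (A B : CommRingCat.{u}) (ρ : A ⟶ B) (w : Spec B ⟶ T) (w' : Spec A ⟶ T'),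
      IsOpenImmersion w' ∧ t ∈ Set.range w' ∧ IsPullback (Spec.map ρ) w w' j ∧
        Function.Surjective ρ.hom ∧ ∀ x y : A, ρ.hom x = 0 → ρ.hom y = 0 → x * y = 0 := by
  have hjc : IsClosedImmersion j := hj.1.1
  obtain ⟨O, hO, htO, -⟩ := TopologicalSpace.Opens.isBasis_iff_nbhd.mp
    T'.isBasis_affineOpens (TopologicalSpace.Opens.mem_top t)
  have hO' : IsAffineOpen (j ⁻¹ᵁ O) := hO.preimage j
  have hw : hO'.fromSpec ≫ j = Spec.map (j.app O) ≫ hO.fromSpec := by
    rw [Scheme.Hom.app_eq_appLE]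
    exact (IsAffineOpen.SpecMap_appLE_fromSpec j hO hO' le_rfl).symm
  have sq : IsPullback (Spec.map (j.app O)) hO'.fromSpec hO.fromSpec j :=
    IsOpenImmersion.isPullback _ _ _ _ hw
      (by rw [hO.opensRange_fromSpec, hO'.opensRange_fromSpec])
  refine ⟨Γ(T', O), Γ(T, j ⁻¹ᵁ O), j.app O, hO'.fromSpec, hO.fromSpec, inferInstance, ?_, sq,
    j.app_surjective O hO, ?_⟩
  · rw [hO.range_fromSpec]
    exact htO
  · intro x y hx hy
    exact Groth.Agent.H49.IsFirstOrderThickening.mul_eq_zero hj ⟨O, hO⟩ x y hx hy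

/-- Formally étale morphisms lift against `Spec` of any square-zero surjection. -/
lemma formallyEtale_lift {X S : Scheme.{u}} {f : X ⟶ S} (hE : MoreMor.IsFormallyEtaleHom f)
    {A B : CommRingCat.{u}} (ρ : A ⟶ B) (hρ : Function.Surjective ρ.hom)
    (hk : ∀ x y : A, ρ.hom x = 0 → ρ.hom y = 0 → x * y = 0)
    (a : Spec B ⟶ X) (b : Spec A ⟶ S) (hab : Spec.map ρ ≫ b = a ≫ f) :
    ∃ l : Spec A ⟶ X, Spec.map ρ ≫ l = a ∧ l ≫ f = b := by
  have hI : RingHom.ker ρ.hom ^ 2 = ⊥ := by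
    rw [pow_two, eq_bot_iff, Ideal.mul_le]
    intro x hx y hy
    exact hk x y hx hy
  let eqv := RingHom.quotientKerEquivOfSurjective hρ
  let ε : B ⟶ CommRingCat.of (A ⧸ RingHom.ker ρ.hom) := CommRingCat.ofHom eqv.symm.toRingHom
  let ε' : CommRingCat.of (A ⧸ RingHom.ker ρ.hom) ⟶ B := CommRingCat.ofHom eqv.toRingHom
  have h1 : ρ ≫ ε = CommRingCat.ofHom (Ideal.Quotient.mk (RingHom.ker ρ.hom)) := by
    ext x
    exact RingHom.quotientKerEquivOfSurjective_symm_apply hρ x
  have h2 : CommRingCat.ofHom (Ideal.Quotient.mk (RingHom.ker ρ.hom)) ≫ ε' = ρ := by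
    ext x
    exact RingHom.quotientKerEquivOfSurjective_apply_mk hρ x
  have h3 : ε ≫ ε' = 𝟙 B := by
    ext x
    exact eqv.apply_symm_apply x
  have hab' : Spec.map (CommRingCat.ofHom (Ideal.Quotient.mk (RingHom.ker ρ.hom))) ≫ b =
      (Spec.map ε ≫ a) ≫ f := by
    rw [Category.assoc, ← hab, ← Category.assoc, ← Spec.map_comp, h1]
  obtain ⟨l, ⟨hl1, hl2⟩, -⟩ := hE A (RingHom.ker ρ.hom) hI (Spec.map ε ≫ a) b hab'
  refine ⟨l, ?_, hl2⟩
  rw [← h2, Spec.map_comp, Category.assoc, hl1, ← Category.assoc, ← Spec.map_comp, h3,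
    Spec.map_id, Category.id_comp]

lemma isFirstOrderThickening_id (X : Scheme.{u}) : MoreMor.IsFirstOrderThickening (𝟙 X) := by
  refine Groth.Agent.H49.isFirstOrderThickening_of_cover (𝟙 X) (fun U : X.affineOpens => U) ?_ ?_
  · exact iSup_affineOpens_eq_top X
  · intro U x y hx _
    have : x = 0 := hx
    rw [this, zero_mul]

/-- Formally étale implies formally unramified. -/
theorem formallyUnramified_of_formallyEtale {X S : Scheme.{u}} {f : X ⟶ S}
    (hE : MoreMor.IsFormallyEtaleHom f) : FormallyUnramified f := by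
  refine FormallyUnramified.of_hom_ext f ?_
  intro R B φ hφ hk g₁ g₂ h12 hf
  let I := RingHom.ker φ.hom
  let eqv := RingHom.quotientKerEquivOfSurjective hφ
  let θ : B ⟶ CommRingCat.of (R ⧸ I) := CommRingCat.ofHom eqv.symm.toRingHom
  have h1 : φ ≫ θ = CommRingCat.ofHom (Ideal.Quotient.mk I) := by
    ext x
    exact RingHom.quotientKerEquivOfSurjective_symm_apply hφ x
  let q := Spec.map (CommRingCat.ofHom (Ideal.Quotient.mk I))
  have hq : q = Spec.map θ ≫ Spec.map φ := by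
    rw [← Spec.map_comp, h1]
  obtain ⟨l, -, hl⟩ := hE R I hk (q ≫ g₁) (g₁ ≫ f) (by rw [Category.assoc])
  have e1 : g₁ = l := hl g₁ ⟨rfl, rfl⟩
  have e2 : g₂ = l := by
    refine hl g₂ ⟨?_, hf.symm⟩
    change q ≫ g₂ = q ≫ g₁
    rw [hq, Category.assoc, Category.assoc, h12]
  exact e1.trans e2.symm

/-- Formally étale morphisms are their own universal first order thickening. -/
theorem isUnivThickening_id_of_formallyEtale {X S : Scheme.{u}} {f : X ⟶ S}
    (hE : MoreMor.IsFormallyEtaleHom f) : IsUnivThickening f (𝟙 X) f := by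
  have hfu : FormallyUnramified f := formallyUnramified_of_formallyEtale hE
  refine ⟨isFirstOrderThickening_id X, Category.id_comp f, ?_⟩
  intro T T' j b a hj hcomm
  have hex : ∃ a' : T' ⟶ X, j ≫ a' = a ≫ 𝟙 X ∧ a' ≫ f = b := by
    refine exists_lift_of_local f (𝟙 X) j hj a b ?_
    intro t
    obtain ⟨A, B, ρ, w, w', hw', ht, sq, hρ, hk⟩ := exists_affine_chart hj t
    have hab : Spec.map ρ ≫ (w' ≫ b) = (w ≫ a) ≫ f := by
      rw [← Category.assoc, sq.w, Category.assoc, hcomm, Category.assoc]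
    obtain ⟨l, hl1, hl2⟩ := formallyEtale_lift hE ρ hρ hk (w ≫ a) (w' ≫ b) hab
    exact ⟨_, _, Spec.map ρ, w, w', hw', ht, sq, l, by rw [hl1, Category.comp_id], hl2⟩
  obtain ⟨a', h1, h2⟩ := hex
  refine ⟨a', ⟨h1, h2⟩, ?_⟩
  rintro a'' ⟨h1', h2'⟩
  exact hom_ext_of_unram hj f (h1'.trans h1.symm) (h2'.trans h2.symm)

/-- A morphism which is its own universal first order thickening is formally étale. -/
theorem formallyEtale_of_isUnivThickening_id {X S : Scheme.{u}} {f : X ⟶ S}
    (hu : IsUnivThickening f (𝟙 X) f) : MoreMor.IsFormallyEtaleHom f := by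
  intro A _ I hI a b hab
  have hT := Groth.Agent.H49.isFirstOrderThickening_specMap_mk A I hI
  obtain ⟨l, ⟨hl1, hl2⟩, hl⟩ := hu.2.2 _ _ _ b a hT hab
  refine ⟨l, ⟨by rw [hl1, Category.comp_id], hl2⟩, ?_⟩
  rintro l' ⟨h1, h2⟩
  exact hl l' ⟨by rw [h1, Category.comp_id], h2⟩

theorem formallyEtale_iff {X S : Scheme.{u}} (f : X ⟶ S) :
    MoreMor.IsFormallyEtaleHom f ↔ FormallyUnramified f ∧ IsUnivThickening f (𝟙 X) f :=
  ⟨fun hE => ⟨formallyUnramified_of_formallyEtale hE, isUnivThickening_id_of_formallyEtale hE⟩,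
    fun h => formallyEtale_of_isUnivThickening_id h.2⟩

/-- With universal thickening data `(i, h')`, formally étale is equivalent to `i` being an
isomorphism. -/
theorem formallyEtale_iff_isIso {X X' S : Scheme.{u}} {f : X ⟶ S} {i : X ⟶ X'} {h' : X' ⟶ S}
    (hu : IsUnivThickening f i h') : MoreMor.IsFormallyEtaleHom f ↔ IsIso i := by
  constructor
  · intro hE
    obtain ⟨e, he, -⟩ := exists_iso (isUnivThickening_id_of_formallyEtale hE) hu
    rw [Category.id_comp] at he
    rw [← he]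
    infer_instance
  · intro hi
    refine formallyEtale_of_isUnivThickening_id ?_
    have h1 := restrict hu (𝟙 X) i (𝟙 X) rfl
      (by rw [Scheme.Hom.opensRange_of_isIso, Scheme.Hom.opensRange_of_isIso]; rfl)
    rw [Category.id_comp, hu.2.1] at h1
    exact h1

end Groth.Agent.H87.UnivThick
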