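import Groth.Agent.H87.ConormalComp
import Groth.Agent.H87.UnivThickG
import Groth.Agent.H44.ConormalSquare
import Groth.Agent.H44.ConormalTriple
import Groth.Agent.H44.PullUnit
import Groth.Agent.H44.FormallySmoothOmega
import Groth.Agent.H49.Thickening

/-!
# The conormal sequence of universal thickenings for a formally smooth morphism is locally split
(helper87)
-/

set_option autoImplicit false
universe u
open CategoryTheory Limits Opposite AlgebraicGeometry TopologicalSpace Scheme.Modules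

namespace Groth.Agent.H87.ConormalSplitLoc

open Groth.Agent.H44 Groth.Agent.H87.UnivThick

/-- Formally smooth morphisms lift against `Spec` of any square-zero surjection. -/
lemma formallySmooth_lift {X S : Scheme.{u}} {f : X ⟶ S} (hE : MoreMor.IsFormallySmoothHom f)
    {A B : CommRingCat.{u}} (ρ : A ⟶ B) (hρ : Function.Surjective ρ.hom)
    (hk : ∀ x y : A, ρ.hom x = 0 → ρ.hom y = 0 → x * y = 0)
    (a : Spec B ⟶ X) (b : Spec A ⟶ S) (hab : Spec.map ρ ≫ b = a ≫ f) :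
    ∃ l : Spec A ⟶ X, Spec.map ρ ≫ l = a ∧ l ≫ f = b := by
  have hI : RingHom.ker ρ.hom ^ 2 = ⊥ := by
    rw [pow_two, eq_bot_iff, Ideal.mul_le]
    intro x hx y hy
    exact hk x y hx hy
  let eqv := RingHom.quotientKerEquivOfSurjective hρ
  let ε : B ⟶ CommRingCat.of (A ⧸ RingHom.ker ρ.hom) := CommRingCat.ofHom eqv.symm.toRingHom
  let ε' : CommRingCat.of (A ⧸ RingHom.ker ρ.hom) ⟶ B := CommRingCat.ofHom eqv.toRingHom
  have h1 : ρ ≫ ε = CommRingCat.ofHom (Ideal.Quotient.mk (RingHom.ker ρ.hom)) := by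
    ext x
    exact RingHom.quotientKerEquivOfSurjective_symm_apply hρ x
  have h2 : CommRingCat.ofHom (Ideal.Quotient.mk (RingHom.ker ρ.hom)) ≫ ε' = ρ := by
    ext x
    exact RingHom.quotientKerEquivOfSurjective_apply_mk hρ x
  have h3 : ε ≫ ε' = 𝟙 B := by
    ext x
    exact eqv.apply_symm_apply x
  have hab' : Spec.map (CommRingCat.ofHom (Ideal.Quotient.mk (RingHom.ker ρ.hom))) ≫ b =
      (Spec.map ε ≫ a) ≫ f := by
    rw [Category.assoc, ← hab, ← Category.assoc, ← Spec.map_comp, h1]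
  obtain ⟨l, hl1, hl2⟩ := hE A (RingHom.ker ρ.hom) hI (Spec.map ε ≫ a) b hab'
  refine ⟨l, ?_, hl2⟩
  rw [← h2, Spec.map_comp, Category.assoc, hl1, ← Category.assoc, ← Spec.map_comp, h3,
    Spec.map_id, Category.id_comp]

/-- Formally smooth morphisms lift against first order thickenings of affine schemes. -/
lemma formallySmooth_lift_of_isAffine {X S : Scheme.{u}} {f : X ⟶ S}
    (hE : MoreMor.IsFormallySmoothHom f) {T T' : Scheme.{u}} (j : T ⟶ T')
    (hj : MoreMor.IsFirstOrderThickening j) [IsAffine T'] (a : T ⟶ X) (b : T' ⟶ S)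
    (hab : j ≫ b = a ≫ f) : ∃ l : T' ⟶ X, j ≫ l = a ∧ l ≫ f = b := by
  haveI : IsClosedImmersion j := hj.1.1
  haveI : IsAffine T := isAffine_of_isAffineHom j
  have hsurj : Function.Surjective (j.appTop).hom := j.app_surjective ⊤ (isAffineOpen_top T')
  have hsq : ∀ x y : Γ(T', ⊤), (j.appTop).hom x = 0 → (j.appTop).hom y = 0 → x * y = 0 :=
    fun x y hx hy => Groth.Agent.H49.IsFirstOrderThickening.mul_eq_zero hj
      ⟨⊤, isAffineOpen_top T'⟩ x y hx hy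
  have nat := Scheme.isoSpec_hom_naturality j
  obtain ⟨l, hl1, hl2⟩ := formallySmooth_lift hE j.appTop hsurj hsq (T.isoSpec.inv ≫ a)
    (T'.isoSpec.inv ≫ b) (by
      rw [← Category.assoc, Scheme.isoSpec_inv_naturality, Category.assoc, Category.assoc, hab])
  refine ⟨T'.isoSpec.hom ≫ l, ?_, ?_⟩
  · rw [← Category.assoc, ← nat, Category.assoc, hl1, Iso.hom_inv_id_assoc]
  · rw [Category.assoc, hl2, Iso.hom_inv_id_assoc]

section Mono
variable {Z : Scheme.{u}} {M N : Z.Modules}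

/-- A morphism of modules which is locally a split monomorphism is a monomorphism. -/
theorem mono_of_locally_split (ψ : M ⟶ N)
    (h : ∀ z : Z, ∃ (U : Z.Opens) (r : (restrictFunctor U.ι).obj N ⟶ (restrictFunctor U.ι).obj M),
      z ∈ U ∧ (restrictFunctor U.ι).map ψ ≫ r = 𝟙 _) : Mono ψ := by
  choose U r hzU hr using h
  refine mono_of_injective_on_basis ψ
    (fun t : Σ z : Z, ((U z : Z.Opens) : Scheme.{u}).Opens => (U t.1).ι ''ᵁ t.2) ?_ ?_
  · rw [Opens.isBasis_iff_nbhd]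
    intro O x hx
    refine ⟨_, ⟨⟨x, (U x).ι ⁻¹ᵁ O⟩, rfl⟩, ?_, ?_⟩
    · change x ∈ (U x).ι ''ᵁ ((U x).ι ⁻¹ᵁ O)
      rw [Scheme.Hom.image_preimage_eq_opensRange_inf, Scheme.Opens.opensRange_ι]
      exact ⟨hzU x, hx⟩
    · change (U x).ι ''ᵁ ((U x).ι ⁻¹ᵁ O) ≤ O
      rw [Scheme.Hom.image_preimage_eq_opensRange_inf]
      exact inf_le_right
  · rintro ⟨z, O'⟩
    change Function.Injective (((restrictFunctor (U z).ι).map ψ).app O')
    have h1 := congr(($(hr z)).app O')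
    intro x y hxy
    have h2 := congr(($h1) x)
    have h3 := congr(($h1) y)
    rw [Scheme.Modules.Hom.comp_app, ConcreteCategory.comp_apply] at h2 h3
    rw [hxy] at h2
    exact (h2.symm.trans h3 : _)

end Mono

section Main
variable {Z X Y Z' Z'' : Scheme.{u}} {i : Z ⟶ X} {p : X ⟶ Y} {i' : Z ⟶ Z'} {a : Z' ⟶ X}
  {i'' : Z ⟶ Z''} {b : Z'' ⟶ Y} {k : Z' ⟶ Z''}

set_option maxHeartbeats 4000000 in
/-- The local retraction of the canonical map `C_{Z/Z''} ⟶ C_{Z/Z'}`. -/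
theorem exists_local_retraction (hp : MoreMor.IsFormallySmoothHom p)
    (hZ' : OmegaSh.IsUnivThickening i i' a) (hZ'' : OmegaSh.IsUnivThickening (i ≫ p) i'' b)
    (hk₁ : i' ≫ k = i'') (hk₂ : k ≫ b = a ≫ p)
    (ψ : (Scheme.Modules.pullback (𝟙 Z)).obj (Omega.conormal i'') ⟶ Omega.conormal i')
    (hψ : OmegaSh.IsConormalMap i' i'' k (𝟙 Z) ψ) {V : Z''.Opens} (hV : IsAffineOpen V) :
    ∃ r : (restrictFunctor (i'' ⁻¹ᵁ V).ι).obj (Omega.conormal i') ⟶
        (restrictFunctor (i'' ⁻¹ᵁ V).ι).obj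
          ((Scheme.Modules.pullback (𝟙 Z)).obj (Omega.conormal i'')),
      (restrictFunctor (i'' ⁻¹ᵁ V).ι).map ψ ≫ r = 𝟙 _ := by
  haveI : IsClosedImmersion i' := hZ'.1.1.1
  haveI : IsClosedImmersion i'' := hZ''.1.1.1
  have hjT : MoreMor.IsFirstOrderThickening (i'' ∣_ V) :=
    Groth.Agent.H49.isFirstOrderThickening_morphismRestrict hZ''.1 V
  haveI : IsClosedImmersion (i'' ∣_ V) := hjT.1.1
  haveI : IsAffine (V : Scheme.{u}) := hV
  have comm₀ : (i'' ∣_ V) ≫ (V.ι ≫ b) = ((i'' ⁻¹ᵁ V).ι ≫ i) ≫ p := by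
    rw [← Category.assoc, morphismRestrict_ι, Category.assoc, Category.assoc, hZ''.2.1]
  obtain ⟨l, hl1, hl2⟩ := formallySmooth_lift_of_isAffine hp (i'' ∣_ V) hjT
    ((i'' ⁻¹ᵁ V).ι ≫ i) (V.ι ≫ b) comm₀
  let ρ : (V : Scheme.{u}) ⟶ Z' := lift hZ' (i'' ∣_ V) l (i'' ⁻¹ᵁ V).ι hjT hl1
  have fl : (i'' ∣_ V) ≫ ρ = (i'' ⁻¹ᵁ V).ι ≫ i' := lift_fac_left hZ' _ _ _ hjT hl1
  have fr : ρ ≫ a = l := lift_fac_right hZ' _ _ _ hjT hl1
  have hρk : ρ ≫ k = V.ι := by
    refine lift_ext hZ'' (i'' ∣_ V) hjT ?_ ?_ (i'' ⁻¹ᵁ V).ι (morphismRestrict_ι i'' V)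
    · rw [← Category.assoc, fl, Category.assoc, hk₁, morphismRestrict_ι]
    · rw [Category.assoc, hk₂, ← Category.assoc, fr, hl2]
  obtain ⟨ψρ, hψρ, -⟩ := existsUnique_isConormalMap (i'' ∣_ V) i' ρ (i'' ⁻¹ᵁ V).ι fl.symm
  let ψt : Omega.conormal i'' ⟶ Omega.conormal i' :=
    (pullbackId Z).inv.app (Omega.conormal i'') ≫ ψ
  have hφ := Groth.Agent.H87.ConormalComp.isConormalMap_comp_id ψ hψ ψρ hψρ
  rw [hρk] at hφ
  haveI hiso : IsIso ((Scheme.Modules.pullback (i'' ⁻¹ᵁ V).ι).map ψt ≫ ψρ) :=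
    (conormalMap_epi_and_isIso_of_isPullback _ hφ (isPullback_morphismRestrict i'' V)).2
      inferInstance
  let e := restrictFunctorIsoPullback (i'' ⁻¹ᵁ V).ι
  have hψ_eq : ψ = (pullbackId Z).hom.app (Omega.conormal i'') ≫ ψt := by
    change ψ = (pullbackId Z).hom.app (Omega.conormal i'') ≫
      (pullbackId Z).inv.app (Omega.conormal i'') ≫ ψ
    rw [Iso.hom_inv_id_app_assoc]
  have nat : (restrictFunctor (i'' ⁻¹ᵁ V).ι).map ψt ≫ e.hom.app (Omega.conormal i') =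
      e.hom.app (Omega.conormal i'') ≫ (Scheme.Modules.pullback (i'' ⁻¹ᵁ V).ι).map ψt :=
    e.hom.naturality ψt
  refine ⟨e.hom.app (Omega.conormal i') ≫ ψρ ≫
    inv ((Scheme.Modules.pullback (i'' ⁻¹ᵁ V).ι).map ψt ≫ ψρ) ≫
    e.inv.app (Omega.conormal i'') ≫
    (restrictFunctor (i'' ⁻¹ᵁ V).ι).map ((pullbackId Z).inv.app (Omega.conormal i'')), ?_⟩
  rw [hψ_eq, Functor.map_comp, Category.assoc, ← Category.assoc
    ((restrictFunctor (i'' ⁻¹ᵁ V).ι).map ψt), nat, Category.assoc,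
    ← Category.assoc ((Scheme.Modules.pullback (i'' ⁻¹ᵁ V).ι).map ψt) ψρ,
    IsIso.hom_inv_id_assoc, Iso.hom_inv_id_app_assoc, ← Functor.map_comp, Iso.hom_inv_id_app]
  exact CategoryTheory.Functor.map_id _ _

/-- **The sequence `0 ⟶ C_{Z/Z''} ⟶ C_{Z/Z'} ⟶ (i')^*Ω_{Z'/Z''} ⟶ 0` is short exact and locally
split** for universal thickenings attached to `i` and `i ≫ p` with `p` formally smooth. -/
theorem conormal_seq_shortExact_locallySplit (hp : MoreMor.IsFormallySmoothHom p)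
    (hZ' : OmegaSh.IsUnivThickening i i' a) (hZ'' : OmegaSh.IsUnivThickening (i ≫ p) i'' b)
    (hk₁ : i' ≫ k = i'') (hk₂ : k ≫ b = a ≫ p)
    (Ω : Z'.Modules) (d : OmegaSh.Der k Ω) (hd : OmegaSh.IsUniversal d)
    (ψ : (Scheme.Modules.pullback (𝟙 Z)).obj (Omega.conormal i'') ⟶ Omega.conormal i')
    (hψ : OmegaSh.IsConormalMap i' i'' k (𝟙 Z) ψ)
    (φ : Omega.conormal i' ⟶ (Scheme.Modules.pullback i').obj Ω)
    (hφ : OmegaSh.IsConormalDiff i' d φ) :
    ∃ w : ψ ≫ φ = 0, (ShortComplex.mk ψ φ w).ShortExact ∧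
      ∀ z : Z, ∃ (U : Z.Opens)
        (r : (Scheme.Modules.restrictFunctor U.ι).obj (Omega.conormal i') ⟶
          (Scheme.Modules.restrictFunctor U.ι).obj
            ((Scheme.Modules.pullback (𝟙 Z)).obj (Omega.conormal i''))),
        z ∈ U ∧ (Scheme.Modules.restrictFunctor U.ι).map ψ ≫ r = 𝟙 _ := by
  have hloc : ∀ z : Z, ∃ (U : Z.Opens)
      (r : (Scheme.Modules.restrictFunctor U.ι).obj (Omega.conormal i') ⟶
        (Scheme.Modules.restrictFunctor U.ι).obj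
          ((Scheme.Modules.pullback (𝟙 Z)).obj (Omega.conormal i''))),
      z ∈ U ∧ (Scheme.Modules.restrictFunctor U.ι).map ψ ≫ r = 𝟙 _ := by
    intro z
    obtain ⟨V, hV, hzV, -⟩ := Opens.isBasis_iff_nbhd.mp Z''.isBasis_affineOpens
      (show i'' z ∈ (⊤ : Z''.Opens) from trivial)
    obtain ⟨r, hr⟩ := exists_local_retraction hp hZ' hZ'' hk₁ hk₂ ψ hψ hV
    exact ⟨i'' ⁻¹ᵁ V, r, hzV, hr⟩
  have hmono : Mono ψ := mono_of_locally_split ψ hloc
  subst hk₁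
  haveI : IsClosedImmersion i' := hZ'.1.1.1
  haveI : IsClosedImmersion (i' ≫ k) := hZ''.1.1.1
  obtain ⟨w, hex, hepi⟩ := triple_seq_exact ψ hψ d hd φ hφ
  refine ⟨w, ?_, hloc⟩
  haveI : Mono (ShortComplex.mk ψ φ w).f := hmono
  haveI : Epi (ShortComplex.mk ψ φ w).g := hepi
  exact ShortComplex.ShortExact.mk hex

end Main

end Groth.Agent.H87.ConormalSplitLoc
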