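import Groth.Agent.H49.Thickening
import Groth.Agent.S9732
import Mathlib.AlgebraicGeometry.Morphisms.FormallyUnramified

/-!
# Universal first order thickenings: basic lemmas

Lifts, uniqueness up to isomorphism, restriction along open immersions, post-composition with
open immersions, and gluing of local lifts.
-/

set_option autoImplicit false
universe u

namespace Groth.Agent.H87.UnivThick

open AlgebraicGeometry CategoryTheory Limits OmegaSh

variable {X : Scheme.{u}}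

lemma isNilpotent_ker {T T' : Scheme.{u}} {j : T ⟶ T'}
    (hj : MoreMor.IsFirstOrderThickening j) : IsNilpotent j.ker :=
  ⟨2, by rw [pow_two]; exact hj.2⟩

/-- Uniqueness of lifts into a formally unramified target. -/
lemma hom_ext_of_unram {T T' Z' : Scheme.{u}} {j : T ⟶ T'}
    (hj : MoreMor.IsFirstOrderThickening j) (h' : Z' ⟶ X) [FormallyUnramified h']
    {g₁ g₂ : T' ⟶ Z'} (h1 : j ≫ g₁ = j ≫ g₂) (h2 : g₁ ≫ h' = g₂ ≫ h') : g₁ = g₂ := by
  have : IsClosedImmersion j := hj.1.1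
  exact FormallyUnramified.hom_ext j (isNilpotent_ker hj) h' h1 h2

/-- Pre-composition of a first order thickening with an isomorphism. -/
lemma isFirstOrderThickening_iso_comp {A B C : Scheme.{u}} (e : A ⟶ B) [IsIso e] {f : B ⟶ C}
    (hf : MoreMor.IsFirstOrderThickening f) : MoreMor.IsFirstOrderThickening (e ≫ f) := by
  have sq : IsPullback (e ≫ f) e (𝟙 C) f := IsPullback.of_vert_isIso ⟨by simp⟩
  exact Groth.Agent.H49.isFirstOrderThickening_of_isPullback hf sq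

section lift

variable {Z Z' : Scheme.{u}} {h : Z ⟶ X} {i : Z ⟶ Z'} {h' : Z' ⟶ X}

/-- The lift given by a universal thickening. -/
noncomputable def lift (hu : IsUnivThickening h i h') {T T' : Scheme.{u}} (j : T ⟶ T')
    (b : T' ⟶ X) (a : T ⟶ Z) (hj : MoreMor.IsFirstOrderThickening j) (comm : j ≫ b = a ≫ h) :
    T' ⟶ Z' :=
  (hu.2.2 T T' j b a hj comm).exists.choose

lemma lift_fac_left (hu : IsUnivThickening h i h') {T T' : Scheme.{u}} (j : T ⟶ T')
    (b : T' ⟶ X) (a : T ⟶ Z) (hj : MoreMor.IsFirstOrderThickening j) (comm : j ≫ b = a ≫ h) :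
    j ≫ lift hu j b a hj comm = a ≫ i :=
  (hu.2.2 T T' j b a hj comm).exists.choose_spec.1

lemma lift_fac_right (hu : IsUnivThickening h i h') {T T' : Scheme.{u}} (j : T ⟶ T')
    (b : T' ⟶ X) (a : T ⟶ Z) (hj : MoreMor.IsFirstOrderThickening j) (comm : j ≫ b = a ≫ h) :
    lift hu j b a hj comm ≫ h' = b :=
  (hu.2.2 T T' j b a hj comm).exists.choose_spec.2

lemma lift_uniq (hu : IsUnivThickening h i h') {T T' : Scheme.{u}} (j : T ⟶ T')
    (b : T' ⟶ X) (a : T ⟶ Z) (hj : MoreMor.IsFirstOrderThickening j) (comm : j ≫ b = a ≫ h)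
    (a' : T' ⟶ Z') (h1 : j ≫ a' = a ≫ i) (h2 : a' ≫ h' = b) : a' = lift hu j b a hj comm :=
  (hu.2.2 T T' j b a hj comm).unique ⟨h1, h2⟩
    ⟨lift_fac_left hu j b a hj comm, lift_fac_right hu j b a hj comm⟩

lemma lift_ext (hu : IsUnivThickening h i h') {T T' : Scheme.{u}} (j : T ⟶ T')
    (hj : MoreMor.IsFirstOrderThickening j) {a₁ a₂ : T' ⟶ Z'}
    (h1 : j ≫ a₁ = j ≫ a₂) (h2 : a₁ ≫ h' = a₂ ≫ h') (a : T ⟶ Z) (ha : j ≫ a₂ = a ≫ i) :
    a₁ = a₂ := by
  have comm : j ≫ (a₂ ≫ h') = a ≫ h := by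
    rw [← Category.assoc, ha, Category.assoc, hu.2.1]
  exact (lift_uniq hu j (a₂ ≫ h') a hj comm a₁ (h1.trans ha) h2).trans
    (lift_uniq hu j (a₂ ≫ h') a hj comm a₂ ha rfl).symm

end lift

/-- Two universal thickenings of the same morphism are isomorphic (compatibly). -/
theorem exists_iso {Z Z₁ Z₂ : Scheme.{u}} {h : Z ⟶ X} {i₁ : Z ⟶ Z₁} {h₁ : Z₁ ⟶ X}
    {i₂ : Z ⟶ Z₂} {h₂ : Z₂ ⟶ X} (hu₁ : IsUnivThickening h i₁ h₁)
    (hu₂ : IsUnivThickening h i₂ h₂) :
    ∃ e : Z₁ ≅ Z₂, i₁ ≫ e.hom = i₂ ∧ e.hom ≫ h₂ = h₁ := by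
  have c₁ : i₁ ≫ h₁ = 𝟙 Z ≫ h := by rw [hu₁.2.1, Category.id_comp]
  have c₂ : i₂ ≫ h₂ = 𝟙 Z ≫ h := by rw [hu₂.2.1, Category.id_comp]
  let m₁₂ := lift hu₂ i₁ h₁ (𝟙 Z) hu₁.1 c₁
  let m₂₁ := lift hu₁ i₂ h₂ (𝟙 Z) hu₂.1 c₂
  have e1 : i₁ ≫ m₁₂ = i₂ := by
    rw [lift_fac_left hu₂ i₁ h₁ (𝟙 Z) hu₁.1 c₁, Category.id_comp]
  have e2 : m₁₂ ≫ h₂ = h₁ := lift_fac_right hu₂ i₁ h₁ (𝟙 Z) hu₁.1 c₁
  have e3 : i₂ ≫ m₂₁ = i₁ := by
    rw [lift_fac_left hu₁ i₂ h₂ (𝟙 Z) hu₂.1 c₂, Category.id_comp]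
  have e4 : m₂₁ ≫ h₁ = h₂ := lift_fac_right hu₁ i₂ h₂ (𝟙 Z) hu₂.1 c₂
  refine ⟨⟨m₁₂, m₂₁, ?_, ?_⟩, e1, e2⟩
  · refine lift_ext hu₁ i₁ hu₁.1 ?_ ?_ (𝟙 Z) (by simp)
    · rw [← Category.assoc, e1, e3, Category.comp_id]
    · rw [Category.assoc, e4, e2, Category.id_comp]
  · refine lift_ext hu₂ i₂ hu₂.1 ?_ ?_ (𝟙 Z) (by simp)
    · rw [← Category.assoc, e3, e1, Category.comp_id]
    · rw [Category.assoc, e2, e4, Category.id_comp]

/-- Restriction of a universal thickening along open immersions forming a pullback square. -/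
theorem restrict {Y Y' V V' : Scheme.{u}} {g : Y ⟶ X} {i : Y ⟶ Y'} {g' : Y' ⟶ X}
    (hu : IsUnivThickening g i g') (u : V ⟶ Y) (u' : V' ⟶ Y') (iV : V ⟶ V')
    [IsOpenImmersion u] [IsOpenImmersion u']
    (H : u ≫ i = iV ≫ u') (H' : i ⁻¹ᵁ u'.opensRange = u.opensRange) :
    IsUnivThickening (u ≫ g) iV (u' ≫ g') := by
  have sq : IsPullback iV u u' i := IsOpenImmersion.isPullback iV u u' i H H'
  refine ⟨Groth.Agent.H49.isFirstOrderThickening_of_isPullback hu.1 sq, ?_, ?_⟩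
  · rw [← Category.assoc, ← H, Category.assoc, hu.2.1]
  · intro T T' jT b a hT hcomm
    have comm : jT ≫ b = (a ≫ u) ≫ g := by rw [hcomm, Category.assoc]
    let e := lift hu jT b (a ≫ u) hT comm
    have he1 : jT ≫ e = (a ≫ u) ≫ i := lift_fac_left hu jT b (a ≫ u) hT comm
    have he2 : e ≫ g' = b := lift_fac_right hu jT b (a ≫ u) hT comm
    have hrange : Set.range e ⊆ Set.range u' := by
      rintro _ ⟨p, rfl⟩
      obtain ⟨q, rfl⟩ := Groth.Agent.H49.IsFirstOrderThickening.surjective hT p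
      have h1 : e (jT q) = u' (iV (a q)) := by
        rw [← Scheme.Hom.comp_apply, he1, Category.assoc, H, ← Scheme.Hom.comp_apply,
          ← Scheme.Hom.comp_apply]
      rw [h1]
      exact Set.mem_range_self _
    refine ⟨IsOpenImmersion.lift u' e hrange, ⟨?_, ?_⟩, ?_⟩
    · rw [← cancel_mono u', Category.assoc, IsOpenImmersion.lift_fac, he1, Category.assoc, H,
        Category.assoc]
    · rw [← Category.assoc, IsOpenImmersion.lift_fac, he2]
    · rintro a'' ⟨h1, h2⟩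
      rw [← cancel_mono u', IsOpenImmersion.lift_fac]
      refine lift_uniq hu jT b (a ≫ u) hT comm (a'' ≫ u') ?_ ?_
      · rw [← Category.assoc, h1, Category.assoc, ← H, Category.assoc]
      · rw [Category.assoc, h2]

/-- Post-composition of a universal thickening with an open immersion of the base. -/
theorem postcomp {Y Y' X₀ : Scheme.{u}} {g : Y ⟶ X₀} {i : Y ⟶ Y'} {g' : Y' ⟶ X₀}
    (hu : IsUnivThickening g i g') (u : X₀ ⟶ X) [IsOpenImmersion u] :
    IsUnivThickening (g ≫ u) i (g' ≫ u) := by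
  refine ⟨hu.1, ?_, ?_⟩
  · rw [← Category.assoc, hu.2.1]
  · intro T T' jT b a hT hcomm
    have hrange : Set.range b ⊆ Set.range u := by
      rintro _ ⟨p, rfl⟩
      obtain ⟨q, rfl⟩ := Groth.Agent.H49.IsFirstOrderThickening.surjective hT p
      have h1 : b (jT q) = u (g (a q)) := by
        rw [← Scheme.Hom.comp_apply, hcomm, ← Scheme.Hom.comp_apply, ← Scheme.Hom.comp_apply]
      rw [h1]
      exact Set.mem_range_self _
    let b₀ := IsOpenImmersion.lift u b hrange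
    have hb₀ : b₀ ≫ u = b := IsOpenImmersion.lift_fac u b hrange
    have comm : jT ≫ b₀ = a ≫ g := by
      rw [← cancel_mono u, Category.assoc, hb₀, hcomm, Category.assoc]
    refine ⟨lift hu jT b₀ a hT comm, ⟨lift_fac_left hu jT b₀ a hT comm, ?_⟩, ?_⟩
    · rw [← Category.assoc, lift_fac_right hu jT b₀ a hT comm, hb₀]
    · rintro a'' ⟨h1, h2⟩
      refine lift_uniq hu jT b₀ a hT comm a'' h1 ?_
      rw [← cancel_mono u, Category.assoc, h2, hb₀]

end Groth.Agent.H87.UnivThick
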