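import Groth.Agent.S9741
import Groth.Agent.H87.UnivThickA
import Groth.Agent.H44.ConormalTrans
import Groth.Agent.H49.Thickening

/-!
# Transitivity of conormal sheaves of universal first order thickenings (helper87)

`isPullback_thick` (the square of universal thickenings is cartesian), `psi1_pullSectLE`,
`thick_seq_chart`, `thick_seq_exact`, `exact_pullbackId`.
-/

set_option autoImplicit false
universe u
open CategoryTheory Limits Opposite AlgebraicGeometry TopologicalSpace TensorProduct Scheme.Modules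

namespace Groth.Agent.H87.ConormalThick

open Groth.Agent.H44

section Thick
open Groth.Agent.H87.UnivThick

variable {Z Y X Z' Y' Z'' : Scheme.{u}}

/-- The square `Z'' → Z'`, `Z'' → Y`, `Z' → Y'`, `Y → Y'` of universal thickenings is cartesian. -/
theorem isPullback_thick (i : Z ⟶ Y) (b : Y ⟶ X)
    [FormallyUnramified i] [FormallyUnramified b]
    (i' : Z ⟶ Z') (c : Z' ⟶ X) (hZ' : OmegaSh.IsUnivThickening (i ≫ b) i' c)
    (j : Y ⟶ Y') (d : Y' ⟶ X) (hY' : OmegaSh.IsUnivThickening b j d)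
    (m : Z' ⟶ Y') (hm₁ : i' ≫ m = i ≫ j) (hm₂ : m ≫ d = c)
    (i'' : Z ⟶ Z'') (e : Z'' ⟶ Y) (hZ'' : OmegaSh.IsUnivThickening i i'' e)
    (n : Z'' ⟶ Z') (hn₁ : i'' ≫ n = i') (hn₂ : n ≫ c = e ≫ b) :
    IsPullback n e m j := by
  obtain ⟨m₀, hm₀, hm₀d, hP⟩ := Groth.Agent.S9741.result i b i' c hZ' j d hY'
  have hmm : m = m₀ := by
    refine lift_ext hY' i' hZ'.1 ?_ ?_ i hm₀
    · rw [hm₁, hm₀]
    · rw [hm₂, hm₀d]
  subst hmm
  obtain ⟨ε, hε1, hε2⟩ := exists_iso hZ'' hP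
  have hsnd : ε.hom ≫ pullback.snd j m = n := by
    refine lift_ext hZ' i'' hZ''.1 ?_ ?_ (𝟙 Z) (by rw [hn₁, Category.id_comp])
    · rw [← Category.assoc, hε1, pullback.lift_snd, hn₁]
    · rw [hn₂, Category.assoc, ← hm₂, ← Category.assoc (pullback.snd j m), ← pullback.condition,
        Category.assoc, hY'.2.1, ← Category.assoc, hε2]
  have h1 : IsPullback e n j m :=
    IsPullback.of_iso_pullback ⟨by rw [← hε2, ← hsnd, Category.assoc, Category.assoc,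
      pullback.condition]⟩ ε hε2 hsnd
  exact h1.flip

end Thick

theorem coborderRange_eq_top {X Y : Scheme.{u}} (f : X ⟶ Y) [IsClosedImmersion f] :
    f.coborderRange = ⊤ := by
  ext x
  simp only [Scheme.Hom.coborderRange, Opens.coe_mk, Opens.coe_top]
  rw [f.isClosedEmbedding.isClosed_range.coborder_eq]

theorem app_eq_zero_of_eq {X Y : Scheme.{u}} {f g : X ⟶ Y} (h : f = g) (U : Y.Opens) (x : Γ(Y, U))
    (hx : f.app U x = 0) : g.app U x = 0 := by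
  subst h
  exact hx

section Chart
variable {Z Y Z' Y' Z'' : Scheme.{u}} {i : Z ⟶ Y} {j : Y ⟶ Y'} {m : Z' ⟶ Y'} {i'' : Z ⟶ Z''}
  {n : Z'' ⟶ Z'} [IsClosedImmersion j] [IsClosedImmersion i''] [IsClosedImmersion n]

omit [IsClosedImmersion j] in
theorem leY (hm₁ : i ≫ j = (i'' ≫ n) ≫ m) (dc : DoubleChart i'' n) {V' : Y'.Opens}
    (le : dc.V ≤ m ⁻¹ᵁ V') : i'' ⁻¹ᵁ dc.U ≤ i ⁻¹ᵁ (j ⁻¹ᵁ V') := by
  intro z hz
  have h0 : (i'' ≫ n) z ∈ dc.V := dc.leW hz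
  have h1 : (i'' ≫ n) z ∈ m ⁻¹ᵁ V' := le h0
  have h2 : ((i'' ≫ n) ≫ m) z ∈ V' := h1
  rw [← hm₁] at h2
  exact h2

variable (ψ₁ : (Scheme.Modules.pullback i).obj (Omega.conormal j) ⟶ Omega.conormal (i'' ≫ n))
  (hm₁ : i ≫ j = (i'' ≫ n) ≫ m)
  (hψ₁ : OmegaSh.IsConormalMap (i'' ≫ n) j m i ψ₁)

include hψ₁ in
theorem psi1_pullSectLE (dc : DoubleChart i'' n) {V' : Y'.Opens} (hV' : IsAffineOpen V')
    (le : dc.V ≤ m ⁻¹ᵁ V') (σ' : Γ(ClSub.idealMod j.ker, V')) :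
    ∃ σ : Γ(ClSub.idealMod (i'' ≫ n).ker, dc.V),
      OmegaSh.idealSect (i'' ≫ n).ker dc.V σ =
        m.appLE V' dc.V le (OmegaSh.idealSect j.ker V' σ') ∧
      ψ₁.app (i'' ⁻¹ᵁ dc.U) (pullSectLE i (Omega.conormal j) (j ⁻¹ᵁ V') (i'' ⁻¹ᵁ dc.U)
        (leY hm₁ dc le) (pullSectLE j (ClSub.idealMod j.ker) V' (j ⁻¹ᵁ V') le_rfl σ')) =
      pullSectLE (i'' ≫ n) (ClSub.idealMod (i'' ≫ n).ker) dc.V (i'' ⁻¹ᵁ dc.U) dc.leW σ := by
  have hker : (i'' ≫ n).app (m ⁻¹ᵁ V') (m.app V' (OmegaSh.idealSect j.ker V' σ')) = 0 := by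
    have h1 : OmegaSh.idealSect j.ker V' σ' ∈ j.ker.ideal ⟨V', hV'⟩ :=
      idealModι_app_mem_ideal j.ker hV' σ'
    rw [Scheme.Hom.ker_apply, RingHom.mem_ker] at h1
    have h1' : j.app V' (OmegaSh.idealSect j.ker V' σ') = 0 := h1
    have h2 : (i ≫ j).app V' (OmegaSh.idealSect j.ker V' σ') = 0 := by
      change i.app (j ⁻¹ᵁ V') (j.app V' (OmegaSh.idealSect j.ker V' σ')) = 0
      rw [h1', map_zero]
    exact app_eq_zero_of_eq hm₁ V' _ h2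
  obtain ⟨τ, hτ⟩ := exists_idealSect_eq_of_app_eq_zero (i'' ≫ n) (m ⁻¹ᵁ V') _ hker
  have h₂ : i'' ⁻¹ᵁ dc.U ≤ (i'' ≫ n) ⁻¹ᵁ (m ⁻¹ᵁ V') :=
    dc.leW.trans ((i'' ≫ n).preimage_mono le)
  have key := hψ₁.2 V' σ' τ hτ (i'' ⁻¹ᵁ dc.U) (leY hm₁ dc le) h₂
  refine ⟨(ClSub.idealMod (i'' ≫ n).ker).presheaf.map (homOfLE le).op τ, ?_, ?_⟩
  · rw [OmegaSh.idealSect_apply, OmegaSh.idealModι_app_map]
    have h3 : OmegaSh.fnSect Z' (m ⁻¹ᵁ V')
        ((ClSub.idealModι (i'' ≫ n).ker).app (m ⁻¹ᵁ V') τ) =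
        m.app V' (OmegaSh.idealSect j.ker V' σ') := hτ
    change Z'.presheaf.map (homOfLE le).op
      (OmegaSh.fnSect Z' (m ⁻¹ᵁ V') ((ClSub.idealModι (i'' ≫ n).ker).app (m ⁻¹ᵁ V') τ)) = _
    rw [h3]
    rfl
  · rw [pullSectLE_of_res]
    rw [← hom_app_resLE] at key
    refine Eq.trans ?_ key
    congr 1
    rw [pullSectLE_self]
    rfl

variable (ψ₂ : (Scheme.Modules.pullback (𝟙 Z)).obj (Omega.conormal (i'' ≫ n)) ⟶ Omega.conormal i'')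
  (hψ₂ : OmegaSh.IsConormalMap i'' (i'' ≫ n) n (𝟙 Z) ψ₂)
  {e : Z'' ⟶ Y} (sq : IsPullback n e m j)

omit [IsClosedImmersion i''] [IsClosedImmersion n] [IsClosedImmersion j] in
include sq in
theorem comp_appLE_eq_zero {V' : Y'.Opens} {W' : Z'.Opens} {W'' : Z''.Opens} (le : W' ≤ m ⁻¹ᵁ V')
    (le' : W'' ≤ n ⁻¹ᵁ W')
    (b : Γ(Y', V')) (hb : j.app V' b = 0) :
    n.appLE W' W'' le' (m.appLE V' W' le b) = 0 := by
  have hle : W'' ≤ (n ≫ m) ⁻¹ᵁ V' := le'.trans (n.preimage_mono le)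
  have h1 : n.appLE W' W'' le' (m.appLE V' W' le b) = (n ≫ m).appLE V' W'' hle b := by
    rw [← CommRingCat.comp_apply, Scheme.Hom.appLE_comp_appLE]
  rw [h1]
  have key : ∀ (g : Z'' ⟶ Y') (hg : g = e ≫ j) (hle' : W'' ≤ g ⁻¹ᵁ V'),
      g.appLE V' W'' hle' b = 0 := by
    intro g hg hle'
    subst hg
    have h2 : W'' ≤ e ⁻¹ᵁ (j ⁻¹ᵁ V') := hle'
    have h3 : (e ≫ j).appLE V' W'' hle' =
        j.appLE V' (j ⁻¹ᵁ V') le_rfl ≫ e.appLE (j ⁻¹ᵁ V') W'' h2 := by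
      rw [Scheme.Hom.appLE_comp_appLE]
    rw [h3, CommRingCat.comp_apply]
    have h4 : j.appLE V' (j ⁻¹ᵁ V') le_rfl b = 0 := by
      rw [Scheme.Hom.appLE_eq_app]
      exact hb
    rw [h4, map_zero]
  exact key _ sq.w hle

set_option maxHeartbeats 4000000 in
include hm₁ hψ₁ hψ₂ sq in
/-- Chart-level exactness of `i^*C_{Y/Y'} ⟶ C_{Z/Z'} ⟶ C_{Z/Z''} ⟶ 0`. -/
theorem thick_seq_chart (dc : DoubleChart i'' n) (geU : n ⁻¹ᵁ dc.V ≤ dc.U)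
    {V' : Y'.Opens} (hV' : IsAffineOpen V') (le : dc.V ≤ m ⁻¹ᵁ V') :
    Function.Surjective (ψ₂.app (i'' ⁻¹ᵁ dc.U)) ∧
    (∀ y, ψ₂.app (i'' ⁻¹ᵁ dc.U) (((pullbackId Z).inv.app (Omega.conormal (i'' ≫ n))).app
      (i'' ⁻¹ᵁ dc.U) (ψ₁.app (i'' ⁻¹ᵁ dc.U) y)) = 0) ∧
    (∀ x, ψ₂.app (i'' ⁻¹ᵁ dc.U) (((pullbackId Z).inv.app (Omega.conormal (i'' ≫ n))).app
      (i'' ⁻¹ᵁ dc.U) x) = 0 → ∃ y, ψ₁.app (i'' ⁻¹ᵁ dc.U) y = x) := by
  letI algRA : Algebra Γ(Z', dc.V) Γ(Z'', dc.U) := (n.appLE dc.V dc.U dc.e).hom.toAlgebra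
  letI algRB : Algebra Γ(Z', dc.V) Γ(Z, i'' ⁻¹ᵁ dc.U) :=
    ((i'' ≫ n).appLE dc.V (i'' ⁻¹ᵁ dc.U) dc.leW).hom.toAlgebra
  letI algAB : Algebra Γ(Z'', dc.U) Γ(Z, i'' ⁻¹ᵁ dc.U) :=
    (i''.appLE dc.U (i'' ⁻¹ᵁ dc.U) le_rfl).hom.toAlgebra
  haveI : IsScalarTower Γ(Z', dc.V) Γ(Z'', dc.U) Γ(Z, i'' ⁻¹ᵁ dc.U) :=
    IsScalarTower.of_algebraMap_eq' (by
      change ((i'' ≫ n).appLE dc.V (i'' ⁻¹ᵁ dc.U) dc.leW).hom =
        (i''.appLE dc.U (i'' ⁻¹ᵁ dc.U) le_rfl).hom.comp (n.appLE dc.V dc.U dc.e).hom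
      rw [← CommRingCat.hom_comp, Scheme.Hom.appLE_comp_appLE])
  have hUeq : dc.U = n ⁻¹ᵁ dc.V := le_antisymm dc.e geU
  have hRA : Function.Surjective (algebraMap Γ(Z', dc.V) Γ(Z'', dc.U)) := by
    change Function.Surjective (n.appLE dc.V dc.U dc.e).hom
    intro y
    obtain ⟨r, hr⟩ := n.app_surjective dc.V dc.hV (Z''.presheaf.map (homOfLE geU).op y)
    refine ⟨r, ?_⟩
    change Z''.presheaf.map (homOfLE dc.e).op (n.app dc.V r) = y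
    rw [hr, ← CommRingCat.comp_apply, ← Functor.map_comp]
    exact congr($(Z''.presheaf.map_id _) y)
  have hAB : Function.Surjective (algebraMap Γ(Z'', dc.U) Γ(Z, i'' ⁻¹ᵁ dc.U)) := by
    change Function.Surjective (i''.appLE dc.U (i'' ⁻¹ᵁ dc.U) le_rfl).hom
    rw [Scheme.Hom.appLE_eq_app]
    exact i''.app_surjective dc.U dc.hU
  have h2 := conormalMap_chart_description ψ₂ hψ₂ dc
  have hV : IsAffineOpen (j ⁻¹ᵁ V') := hV'.preimage j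
  -- ψ₁ on generators, in tensor form
  have h1 : ∀ σ' : Γ(ClSub.idealMod j.ker, V'), ∃ (c : Γ(Z', dc.V))
      (hc : c ∈ RingHom.ker (algebraMap Γ(Z', dc.V) Γ(Z, i'' ⁻¹ᵁ dc.U))),
      c = m.appLE V' dc.V le (OmegaSh.idealSect j.ker V' σ') ∧
      conormalEquiv (i'' ≫ n) dc.hV dc.hW dc.leW dc.ge
        (ψ₁.app (i'' ⁻¹ᵁ dc.U) (pullSectLE i (Omega.conormal j) (j ⁻¹ᵁ V') (i'' ⁻¹ᵁ dc.U)
          (leY hm₁ dc le) (pullSectLE j (ClSub.idealMod j.ker) V' (j ⁻¹ᵁ V') le_rfl σ'))) =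
        (1 : Γ(Z, i'' ⁻¹ᵁ dc.U)) ⊗ₜ[Γ(Z', dc.V)] ⟨c, hc⟩ := by
    intro σ'
    obtain ⟨σ, hσ, hk⟩ := psi1_pullSectLE ψ₁ hm₁ hψ₁ dc hV' le σ'
    refine ⟨_, (idealKerEquiv (i'' ≫ n) dc.hV dc.leW dc.ge σ).2, hσ, ?_⟩
    rw [hk]
    exact conormalEquiv_pullSectLE (i'' ≫ n) dc.hV dc.hW dc.leW dc.ge σ
  refine ⟨fun z => ?_, ?_, fun x hx => ?_⟩
  · obtain ⟨v, hv⟩ := conormalMap_surjective_of_surjective hRA hAB
      (conormalEquiv i'' dc.hU dc.hW le_rfl le_rfl z)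
    refine ⟨((pullbackId Z).inv.app (Omega.conormal (i'' ≫ n))).app (i'' ⁻¹ᵁ dc.U)
      ((conormalEquiv (i'' ≫ n) dc.hV dc.hW dc.leW dc.ge).symm v), ?_⟩
    apply (conormalEquiv i'' dc.hU dc.hW le_rfl le_rfl).injective
    rw [h2, LinearEquiv.apply_symm_apply, hv]
  · haveI : (Omega.conormal j).IsQuasicoherent := isQuasicoherent_conormal j
    refine pullback_sections_induction i (Omega.conormal j) hV dc.hW (leY hm₁ dc le) _
      (span_conormal_generators j hV' hV le_rfl le_rfl) _ ?_ ?_ ?_ ?_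
    · rw [map_zero, map_zero, map_zero]
    · intro x y hx hy
      rw [map_add, map_add, map_add, hx, hy, add_zero]
    · intro a x hx
      rw [Scheme.Modules.Hom.app_smul, app_pullId_smul, hx, smul_zero]
    · rintro _ ⟨σ', rfl⟩
      apply (conormalEquiv i'' dc.hU dc.hW le_rfl le_rfl).injective
      obtain ⟨c, hc, hceq, hcE⟩ := h1 σ'
      rw [map_zero, h2, hcE]
      refine conormalMap_one_tmul_of_mem_ker _ _ _ c ?_
      rw [RingHom.mem_ker, hceq]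
      have hb : j.app V' (OmegaSh.idealSect j.ker V' σ') = 0 := by
        have h1 : OmegaSh.idealSect j.ker V' σ' ∈ j.ker.ideal ⟨V', hV'⟩ :=
          idealModι_app_mem_ideal j.ker hV' σ'
        rw [Scheme.Hom.ker_apply, RingHom.mem_ker] at h1
        exact h1
      exact comp_appLE_eq_zero sq le dc.e _ hb
  · have h3 : conormalMap Γ(Z', dc.V) Γ(Z'', dc.U) Γ(Z, i'' ⁻¹ᵁ dc.U)
        (conormalEquiv (i'' ≫ n) dc.hV dc.hW dc.leW dc.ge x) = 0 := by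
      rw [← h2, hx, map_zero]
    obtain ⟨r, hr, hrt⟩ := exists_of_conormalMap_eq_zero hRA hAB _ h3
    -- `r` lies in the extension of the ideal of `j`
    have hr0 : (n.app dc.V).hom r = 0 := by
      have h4 : (n.appLE dc.V dc.U dc.e).hom r = 0 := hr
      have h5 : Z''.presheaf.map (homOfLE geU).op (n.appLE dc.V dc.U dc.e r) = n.app dc.V r := by
        rw [Scheme.Hom.appLE, CommRingCat.comp_apply, ← CommRingCat.comp_apply (Z''.presheaf.map _),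
          ← Functor.map_comp]
        exact congr($(Z''.presheaf.map_id _) _)
      rw [← h5]
      change Z''.presheaf.map (homOfLE geU).op ((n.appLE dc.V dc.U dc.e).hom r) = 0
      rw [h4, map_zero]
    have hmem := Groth.Agent.H49.ker_app_le_map_of_isPullback sq V' hV' dc.V dc.hV le r hr0
    -- span induction
    have key : ∀ c ∈ (RingHom.ker (j.app V').hom).map (m.appLE V' dc.V le).hom,
        ∃ (hc : c ∈ RingHom.ker (algebraMap Γ(Z', dc.V) Γ(Z, i'' ⁻¹ᵁ dc.U))),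
          ∃ y, ψ₁.app (i'' ⁻¹ᵁ dc.U) y =
            (conormalEquiv (i'' ≫ n) dc.hV dc.hW dc.leW dc.ge).symm
              ((1 : Γ(Z, i'' ⁻¹ᵁ dc.U)) ⊗ₜ[Γ(Z', dc.V)] ⟨c, hc⟩) := by
      intro c hc
      rw [Ideal.map] at hc
      induction hc using Submodule.span_induction with
      | mem c hc =>
        obtain ⟨b, hb, rfl⟩ := hc
        have hb' : b ∈ j.ker.ideal ⟨V', hV'⟩ := by
          rw [Scheme.Hom.ker_apply]
          exact hb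
        obtain ⟨c, hc, hceq, hcE⟩ := h1 ((idealSectEquiv j.ker hV').symm ⟨b, hb'⟩)
        have hbb : OmegaSh.idealSect j.ker V' ((idealSectEquiv j.ker hV').symm ⟨b, hb'⟩) = b := by
          rw [← idealSectEquiv_coe j.ker hV', LinearEquiv.apply_symm_apply]
        rw [hbb] at hceq
        subst hceq
        exact ⟨hc, _, ((LinearEquiv.eq_symm_apply _).2 hcE)⟩
      | zero =>
        refine ⟨Submodule.zero_mem _, 0, ?_⟩
        have : (⟨0, Submodule.zero_mem _⟩ :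
            RingHom.ker (algebraMap Γ(Z', dc.V) Γ(Z, i'' ⁻¹ᵁ dc.U))) = 0 := rfl
        rw [this, TensorProduct.tmul_zero, map_zero, map_zero]
      | add x y _ _ hx hy =>
        obtain ⟨hxc, yx, hyx⟩ := hx
        obtain ⟨hyc, yy, hyy⟩ := hy
        refine ⟨Submodule.add_mem _ hxc hyc, yx + yy, ?_⟩
        have : (⟨x + y, Submodule.add_mem _ hxc hyc⟩ :
            RingHom.ker (algebraMap Γ(Z', dc.V) Γ(Z, i'' ⁻¹ᵁ dc.U))) = ⟨x, hxc⟩ + ⟨y, hyc⟩ := rfl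
        rw [this, TensorProduct.tmul_add, map_add, map_add, hyx, hyy]
      | smul a x _ hx =>
        obtain ⟨hxc, yx, hyx⟩ := hx
        have hax : a • x ∈ RingHom.ker (algebraMap Γ(Z', dc.V) Γ(Z, i'' ⁻¹ᵁ dc.U)) :=
          Submodule.smul_mem _ a hxc
        refine ⟨hax, (algebraMap Γ(Z', dc.V) Γ(Z, i'' ⁻¹ᵁ dc.U) a) • yx, ?_⟩
        have : (⟨a • x, hax⟩ :
            RingHom.ker (algebraMap Γ(Z', dc.V) Γ(Z, i'' ⁻¹ᵁ dc.U))) = a • ⟨x, hxc⟩ := rfl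
        have e1 : ((1 : Γ(Z, i'' ⁻¹ᵁ dc.U)) ⊗ₜ[Γ(Z', dc.V)] (a • (⟨x, hxc⟩ :
            RingHom.ker (algebraMap Γ(Z', dc.V) Γ(Z, i'' ⁻¹ᵁ dc.U))))) =
            (algebraMap Γ(Z', dc.V) Γ(Z, i'' ⁻¹ᵁ dc.U) a) •
              ((1 : Γ(Z, i'' ⁻¹ᵁ dc.U)) ⊗ₜ[Γ(Z', dc.V)] (⟨x, hxc⟩ :
                RingHom.ker (algebraMap Γ(Z', dc.V) Γ(Z, i'' ⁻¹ᵁ dc.U)))) := by
          rw [TensorProduct.smul_tmul', smul_eq_mul, mul_one, ← TensorProduct.smul_tmul,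
            Algebra.smul_def, mul_one]
        rw [this, e1, Scheme.Modules.Hom.app_smul, hyx, _root_.map_smul]
    obtain ⟨hc, y, hy⟩ := key r hmem
    refine ⟨y, ?_⟩
    rw [hy, LinearEquiv.symm_apply_eq, hrt]

/-- Charts: affine opens `V' ⊆ Y'`, `W' ⊆ Z'` with `W' → V'`. -/
structure ThChart (m : Z' ⟶ Y') where
  V' : Y'.Opens
  W' : Z'.Opens
  hV' : IsAffineOpen V'
  hW' : IsAffineOpen W'
  le : W' ≤ m ⁻¹ᵁ V'

variable (i'' n) in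
/-- The double chart attached to a chart. -/
def ThChart.toDoubleChart (t : ThChart m) : DoubleChart i'' n where
  U := n ⁻¹ᵁ t.W'
  V := t.W'
  hU := t.hW'.preimage n
  hV := t.hW'
  e := le_rfl
  hcU := by rw [coborderRange_eq_top]; exact le_top
  hcV := by rw [coborderRange_eq_top]; exact le_top
  ge := le_rfl

omit [IsClosedImmersion j] in
variable (m i'' n) in
theorem exists_thChart (z : Z) (O : Z.Opens) (hz : z ∈ O) :
    ∃ t : ThChart m, z ∈ i'' ⁻¹ᵁ (t.toDoubleChart i'' n).U ∧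
      i'' ⁻¹ᵁ (t.toDoubleChart i'' n).U ≤ O := by
  obtain ⟨O', hO', hOO'⟩ := (i'' ≫ n).isEmbedding.isInducing.isOpen_iff.1 O.2
  have hzO' : (i'' ≫ n) z ∈ (⟨O', hO'⟩ : Z'.Opens) := by
    change z ∈ (i'' ≫ n) ⁻¹' O'
    rw [hOO']
    exact hz
  obtain ⟨V', hV', hzV'⟩ : ∃ V' : Y'.Opens, IsAffineOpen V' ∧ m ((i'' ≫ n) z) ∈ V' := by
    obtain ⟨V', hV', hzV', -⟩ := Opens.isBasis_iff_nbhd.mp Y'.isBasis_affineOpens
      (show m ((i'' ≫ n) z) ∈ (⊤ : Y'.Opens) from trivial)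
    exact ⟨V', hV', hzV'⟩
  obtain ⟨W', hW', hzW', hW'le⟩ := Opens.isBasis_iff_nbhd.mp Z'.isBasis_affineOpens
    (show (i'' ≫ n) z ∈ (m ⁻¹ᵁ V') ⊓ (⟨O', hO'⟩ : Z'.Opens) from ⟨hzV', hzO'⟩)
  refine ⟨⟨V', W', hV', hW', hW'le.trans inf_le_left⟩, hzW', ?_⟩
  intro y hy
  have h1 : (i'' ≫ n) y ∈ O' := (hW'le hy).2
  have h2 : y ∈ (i'' ≫ n) ⁻¹' O' := h1
  rw [hOO'] at h2
  exact h2

include hm₁ hψ₁ hψ₂ sq in
/-- The sequence `i^*C_{Y/Y'} ⟶ C_{Z/Z'} ⟶ C_{Z/Z''} ⟶ 0` is exact when `Z'' = Y ×_{Y'} Z'`. -/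
theorem thick_seq_exact :
    Epi ψ₂ ∧ ∃ w : ψ₁ ≫ ((pullbackId Z).inv.app (Omega.conormal (i'' ≫ n)) ≫ ψ₂) = 0,
      (ShortComplex.mk ψ₁ ((pullbackId Z).inv.app (Omega.conormal (i'' ≫ n)) ≫ ψ₂) w).Exact := by
  have hcov : ∀ z : Z, ∃ t : ThChart m, z ∈ i'' ⁻¹ᵁ (t.toDoubleChart i'' n).U := fun z => by
    obtain ⟨t, hzt, -⟩ := exists_thChart m i'' n z ⊤ trivial
    exact ⟨t, hzt⟩
  have hchart := fun t : ThChart m =>
    thick_seq_chart ψ₁ hm₁ hψ₁ ψ₂ hψ₂ sq (t.toDoubleChart i'' n) le_rfl t.hV' t.le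
  have hbasis : Opens.IsBasis (Set.range (fun t : ThChart m => i'' ⁻¹ᵁ (t.toDoubleChart i'' n).U)) := by
    rw [Opens.isBasis_iff_nbhd]
    intro W x hx
    obtain ⟨t, hxt, htW⟩ := exists_thChart m i'' n x W hx
    exact ⟨_, ⟨t, rfl⟩, hxt, htW⟩
  have w : ψ₁ ≫ ((pullbackId Z).inv.app (Omega.conormal (i'' ≫ n)) ≫ ψ₂) = 0 := by
    refine hom_eq_zero_of_isBasis _ _ hbasis ?_
    rintro _ ⟨t, rfl⟩ x
    exact (hchart t).2.1 x
  refine ⟨epi_of_surjective_on_cover ψ₂ (fun t : ThChart m => i'' ⁻¹ᵁ (t.toDoubleChart i'' n).U) hcov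
    (fun t => (t.toDoubleChart i'' n).hW) (fun t => (hchart t).1), w, ?_⟩
  exact exact_of_exact_on_cover ψ₁ _ w (fun t : ThChart m => i'' ⁻¹ᵁ (t.toDoubleChart i'' n).U) hcov
    (fun t => (t.toDoubleChart i'' n).hW) (fun t => (hchart t).2.2)

end Chart

section Final
variable {Z : Scheme.{u}} {A C D : Z.Modules}

/-- Transport along `pullbackId`. -/
theorem exact_pullbackId (ψ₁ : A ⟶ C) (ψ₂ : (Scheme.Modules.pullback (𝟙 Z)).obj C ⟶ D)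
    (w : ψ₁ ≫ ((pullbackId Z).inv.app C ≫ ψ₂) = 0)
    (hex : (ShortComplex.mk ψ₁ ((pullbackId Z).inv.app C ≫ ψ₂) w).Exact) :
    ∃ w' : (Scheme.Modules.pullback (𝟙 Z)).map ψ₁ ≫ ψ₂ = 0, (ShortComplex.mk _ _ w').Exact := by
  have hnat : (pullbackId Z).hom.app A ≫ ψ₁ =
      (Scheme.Modules.pullback (𝟙 Z)).map ψ₁ ≫ (pullbackId Z).hom.app C :=
    ((pullbackId Z).hom.naturality ψ₁).symm
  have w' : (Scheme.Modules.pullback (𝟙 Z)).map ψ₁ ≫ ψ₂ = 0 := by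
    have h1 : (Scheme.Modules.pullback (𝟙 Z)).map ψ₁ ≫ ψ₂ =
        (pullbackId Z).hom.app A ≫ (ψ₁ ≫ ((pullbackId Z).inv.app C ≫ ψ₂)) := by
      rw [← Category.assoc, hnat, Category.assoc, Iso.hom_inv_id_app_assoc]
    rw [h1, w, comp_zero]
  refine ⟨w', ?_⟩
  refine (ShortComplex.exact_iff_of_iso (ShortComplex.isoMk ((pullbackId Z).app A)
    ((pullbackId Z).app C) (Iso.refl D) ?_ ?_)).2 hex
  · exact hnat
  · change (pullbackId Z).hom.app C ≫ ((pullbackId Z).inv.app C ≫ ψ₂) = ψ₂ ≫ 𝟙 D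
    rw [Iso.hom_inv_id_app_assoc, Category.comp_id]

end Final

end Groth.Agent.H87.ConormalThick
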