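import Groth.Agent.H87.ThickInjAlg
import Groth.Agent.H44.ConormalAlg5
import Groth.Agent.H94.KoszulH1
import Groth.Prelude.Def_LCI2

/-!
# Injectivity of `B ⊗ I_A → B'` for lci `A → B` from universal properties (helper87)

`ker_awayMap`, `awayMap_surjective`, `al_at_prime`, `al_global`.
-/

set_option autoImplicit false
universe u
open TensorProduct

namespace Groth.Agent.H87.ThickInjAlg

theorem ker_awayMap {R P : Type u} [CommRing R] [CommRing P] (S Q : Type u) [CommRing S]
    [CommRing Q] [Algebra R S] [Algebra P Q] (f : R →+* P) (r : R) [IsLocalization.Away r S]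
    [IsLocalization.Away (f r) Q] :
    RingHom.ker (IsLocalization.Away.map S Q f r) = (RingHom.ker f).map (algebraMap R S) := by
  ext x
  obtain ⟨a, s, rfl⟩ := IsLocalization.exists_mk'_eq (Submonoid.powers r) x
  rw [IsLocalization.mk'_mem_map_algebraMap_iff, RingHom.mem_ker, IsLocalization.Away.map,
    IsLocalization.map_mk', IsLocalization.mk'_eq_zero_iff]
  constructor
  · rintro ⟨⟨_, m, rfl⟩, hm⟩
    refine ⟨r ^ m, ⟨m, rfl⟩, ?_⟩
    rw [RingHom.mem_ker, map_mul, map_pow]
    exact hm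
  · rintro ⟨_, ⟨m, rfl⟩, hm⟩
    refine ⟨⟨f r ^ m, ⟨m, rfl⟩⟩, ?_⟩
    rw [RingHom.mem_ker, map_mul, map_pow] at hm
    exact hm

theorem awayMap_surjective {R P : Type u} [CommRing R] [CommRing P] (S Q : Type u) [CommRing S]
    [CommRing Q] [Algebra R S] [Algebra P Q] (f : R →+* P) (hf : Function.Surjective f) (r : R)
    [IsLocalization.Away r S] [IsLocalization.Away (f r) Q] :
    Function.Surjective (IsLocalization.Away.map S Q f r) := by
  rw [IsLocalization.Away.map_surjective_iff]
  intro a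
  obtain ⟨b, rfl⟩ := hf a
  exact ⟨b, 0, by rw [pow_zero, one_mul]⟩


section AtPrime
variable {R₀ A' A B' B : Type u} [CommRing R₀] [CommRing A'] [CommRing A] [CommRing B'] [CommRing B]
  [Algebra A' A] [Algebra A' B'] [Algebra A B] [Algebra B' B] [Algebra A' B]
  [IsScalarTower A' A B] [IsScalarTower A' B' B]
  (ρA : R₀ →+* A') (ρB : R₀ →+* B') (hρ : (algebraMap A' B').comp ρA = ρB)
  (hπA : Function.Surjective (algebraMap A' A))
  (UPB : ∀ {C Cb : Type u} [CommRing C] [CommRing Cb] (τ : C →+* Cb), Function.Surjective τ →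
    (∀ x y, τ x = 0 → τ y = 0 → x * y = 0) → ∀ (α : B →+* Cb) (β : R₀ →+* C),
      τ.comp β = α.comp ((algebraMap B' B).comp ρB) →
      ∃ θ : B' →+* C, τ.comp θ = α.comp (algebraMap B' B) ∧ θ.comp ρB = β)
  (UPA : ∀ {C Cb : Type u} [CommRing C] [CommRing Cb] (τ : C →+* Cb), Function.Surjective τ →
    (∀ x y, τ x = 0 → τ y = 0 → x * y = 0) → ∀ (α : A →+* Cb) (θ₁ θ₂ : A' →+* C),
      τ.comp θ₁ = α.comp (algebraMap A' A) → τ.comp θ₂ = α.comp (algebraMap A' A) →
      θ₁.comp ρA = θ₂.comp ρA → θ₁ = θ₂)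

include hρ hπA UPB UPA in
theorem al_at_prime {n : ℕ} (f : MvPolynomial (Fin n) A →ₐ[A] B) (hf : Function.Surjective f)
    (g : MvPolynomial (Fin n) A) (l : List (Localization.Away g))
    (hl : LCI.IsKoszulRegularSeq (Localization.Away g) l)
    (hker : (RingHom.ker f.toRingHom).map (algebraMap _ (Localization.Away g)) =
      Ideal.span {x | x ∈ l})
    (I : Ideal A') (hIdef : I = RingHom.ker (algebraMap A' A))
    (s : B' ⊗[A'] I) (hs : mulI I B' s = 0) :
    ∃ N : ℕ, (f g) ^ N • (LinearMap.rTensor I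
      (IsScalarTower.toAlgHom A' B' B).toLinearMap s) = 0 := by
  classical
  let mapπ : MvPolynomial (Fin n) A' →+* MvPolynomial (Fin n) A :=
    MvPolynomial.map (algebraMap A' A)
  have hmapπ : Function.Surjective mapπ := MvPolynomial.map_surjective _ hπA
  obtain ⟨g', rfl⟩ := hmapπ g
  let Q' := MvPolynomial (Fin n) A'
  let Q := MvPolynomial (Fin n) A
  let P' := Localization.Away g'
  let P := Localization.Away (mapπ g')
  let fr : Q →+* B := f.toRingHom
  let B₁ := Localization.Away (fr (mapπ g'))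
  let πP : P' →+* P := IsLocalization.Away.map P' P mapπ g'
  let lamP : P →+* B₁ := IsLocalization.Away.map P B₁ fr (mapπ g')
  have hπP : Function.Surjective πP := awayMap_surjective P' P mapπ hmapπ g'
  have hlamP : Function.Surjective lamP := awayMap_surjective P B₁ fr hf (mapπ g')
  have hπP_alg : ∀ q : Q', πP (algebraMap Q' P' q) = algebraMap Q P (mapπ q) := fun q =>
    IsLocalization.map_eq _ q
  have hlamP_alg : ∀ q : Q, lamP (algebraMap Q P q) = algebraMap B B₁ (fr q) := fun q =>
    IsLocalization.map_eq _ q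
  -- `lam` as an `A'`-algebra map
  have hcomm : ∀ a : A', (lamP.comp πP) (algebraMap A' P' a) = algebraMap A' B₁ a := by
    intro a
    rw [IsScalarTower.algebraMap_apply A' Q' P', RingHom.comp_apply, hπP_alg, hlamP_alg]
    have h1 : mapπ (algebraMap A' Q' a) = algebraMap A Q (algebraMap A' A a) := by
      change MvPolynomial.map (algebraMap A' A) (MvPolynomial.C a) = MvPolynomial.C _
      rw [MvPolynomial.map_C]
    rw [h1]
    have h2 : fr (algebraMap A Q (algebraMap A' A a)) = algebraMap A B (algebraMap A' A a) :=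
      f.commutes _
    rw [h2, ← IsScalarTower.algebraMap_apply A' A B, ← IsScalarTower.algebraMap_apply A' B B₁]
  let lam : P' →ₐ[A'] B₁ := { lamP.comp πP with commutes' := hcomm }
  let gam : B' →ₐ[A'] B₁ :=
    { (algebraMap B B₁).comp (algebraMap B' B) with
      commutes' := fun a => by
        change algebraMap B B₁ (algebraMap B' B (algebraMap A' B' a)) = algebraMap A' B₁ a
        rw [← IsScalarTower.algebraMap_apply A' B' B, ← IsScalarTower.algebraMap_apply A' B B₁] }
  haveI : Module.Flat A' P' := Module.Flat.trans A' Q' P'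
  have hlam : Function.Surjective lam := hlamP.comp hπP
  have hI : ∀ x ∈ I, algebraMap A' B₁ x = 0 := by
    intro x hx
    rw [hIdef] at hx
    rw [IsScalarTower.algebraMap_apply A' B B₁, IsScalarTower.algebraMap_apply A' A B,
      (RingHom.mem_ker.1 hx), map_zero, map_zero]
  set K := RingHom.ker lam.toRingHom with hK
  -- kernels
  have hkerπP : RingHom.ker πP = Ideal.map (algebraMap A' P') I := by
    rw [ker_awayMap P' P mapπ g', MvPolynomial.ker_map, Ideal.map_map, hIdef]
    rfl
  have hkerlamP : RingHom.ker lamP = Ideal.span (Set.range l.get) := by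
    rw [ker_awayMap P B₁ fr (mapπ g'), hker]
    congr 1
    ext b
    constructor
    · intro hb
      obtain ⟨k, rfl⟩ := List.mem_iff_get.mp hb
      exact ⟨k, rfl⟩
    · rintro ⟨k, rfl⟩
      exact List.get_mem l k
  -- the `H_1`-regularity input
  have hH1 : ∀ x ∈ Ideal.map (algebraMap A' P') I, x ∈ K ^ 2 →
      x ∈ K * Ideal.map (algebraMap A' P') I := by
    letI algPP : Algebra P' P := πP.toAlgebra
    letI algPB : Algebra P B₁ := lamP.toAlgebra
    letI algP'B : Algebra P' B₁ := (lamP.comp πP).toAlgebra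
    haveI : IsScalarTower P' P B₁ := IsScalarTower.of_algebraMap_eq (fun x => rfl)
    intro x hx hx2
    have := Groth.Agent.H44.mem_mul_of_mem_sq_of_isH1Regular (R := P') (A := P) (B := B₁) hπP
      l.get (Groth.Agent.H94.KoszulH1.isH1Regular_of_isKoszulRegularSeq l hl) hkerlamP x
      (by rw [← hkerπP] at hx; exact hx) hx2
    rw [← hkerπP]
    exact this
  have hle : K ^ 2 ≤ RingHom.ker lam.toRingHom := Ideal.pow_le_self two_ne_zero
  let lamb : P' ⧸ K ^ 2 →+* B₁ := Ideal.Quotient.lift (K ^ 2) lam.toRingHom (fun a ha => hle ha)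
  have hlamb : ∀ p, lamb (Ideal.Quotient.mk (K ^ 2) p) = lam p := fun p =>
    Ideal.Quotient.lift_mk _ _ _
  have hlambsurj : Function.Surjective lamb := by
    intro b
    obtain ⟨p, rfl⟩ := hlam b
    exact ⟨Ideal.Quotient.mk _ p, hlamb p⟩
  have hsq : ∀ u v : P' ⧸ K ^ 2, lamb u = 0 → lamb v = 0 → u * v = 0 := by
    intro u v hu hv
    obtain ⟨u₀, rfl⟩ := Ideal.Quotient.mk_surjective u
    obtain ⟨v₀, rfl⟩ := Ideal.Quotient.mk_surjective v
    rw [hlamb] at hu hv
    rw [← map_mul, Ideal.Quotient.eq_zero_iff_mem, pow_two]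
    exact Ideal.mul_mem_mul hu hv
  -- the lift `θ`
  let β : R₀ →+* P' ⧸ K ^ 2 := (Ideal.Quotient.mk (K ^ 2)).comp ((algebraMap A' P').comp ρA)
  have hcompat : lamb.comp β = (algebraMap B B₁).comp ((algebraMap B' B).comp ρB) := by
    ext r
    change lamb (Ideal.Quotient.mk (K ^ 2) (algebraMap A' P' (ρA r))) =
      algebraMap B B₁ (algebraMap B' B (ρB r))
    rw [hlamb, ← hρ]
    change lam (algebraMap A' P' (ρA r)) = algebraMap B B₁ (algebraMap B' B (algebraMap A' B' (ρA r)))
    rw [AlgHom.commutes, ← IsScalarTower.algebraMap_apply A' B' B,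
      ← IsScalarTower.algebraMap_apply A' B B₁]
  obtain ⟨θ, hθτ, hθρ⟩ := UPB lamb hlambsurj hsq (algebraMap B B₁) β hcompat
  have hθ1 : ∀ b' : B', lamb (θ b') = gam b' := fun b' => RingHom.congr_fun hθτ b'
  have hθ2 : ∀ a : A', θ (algebraMap A' B' a) = Ideal.Quotient.mk (K ^ 2) (algebraMap A' P' a) := by
    have := UPA lamb hlambsurj hsq ((algebraMap B B₁).comp (algebraMap A B))
      (θ.comp (algebraMap A' B')) ((Ideal.Quotient.mk (K ^ 2)).comp (algebraMap A' P')) ?_ ?_ ?_
    · exact fun a => RingHom.congr_fun this a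
    · ext a
      change lamb (θ (algebraMap A' B' a)) = algebraMap B B₁ (algebraMap A B (algebraMap A' A a))
      rw [hθ1]
      change algebraMap B B₁ (algebraMap B' B (algebraMap A' B' a)) = _
      rw [← IsScalarTower.algebraMap_apply A' B' B, ← IsScalarTower.algebraMap_apply A' A B]
    · ext a
      change lamb (Ideal.Quotient.mk (K ^ 2) (algebraMap A' P' a)) =
        algebraMap B B₁ (algebraMap A B (algebraMap A' A a))
      rw [hlamb, AlgHom.commutes, ← IsScalarTower.algebraMap_apply A' A B,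
        ← IsScalarTower.algebraMap_apply A' B B₁]
    · rw [RingHom.comp_assoc, hρ, hθρ]
      rfl
  have hloc := al_local I lam gam hlam hI K hK hH1 lamb hlamb θ hθ1 hθ2 s hs
  -- back to `B`
  have hcomp : ∀ t : B' ⊗[A'] I, LinearMap.rTensor I gam.toLinearMap t =
      AlgebraTensorModule.rTensor A' I (Algebra.linearMap B B₁)
        (LinearMap.rTensor I (IsScalarTower.toAlgHom A' B' B).toLinearMap t) := by
    intro t
    induction t using TensorProduct.induction_on with
    | zero => rw [map_zero, map_zero, map_zero]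
    | add x y hx hy => rw [map_add, map_add, map_add, hx, hy]
    | tmul b' x => rfl
  rw [hcomp] at hloc
  obtain ⟨⟨_, N, rfl⟩, hc⟩ := (IsLocalizedModule.eq_zero_iff (Submonoid.powers (fr (mapπ g')))
    (AlgebraTensorModule.rTensor A' I (Algebra.linearMap B B₁))).1 hloc
  exact ⟨N, hc⟩

include hρ hπA UPB UPA in
/-- **Injectivity of `B ⊗ I_A → B'`** for an lci map `A → B`, from the universal properties. -/
theorem al_global (hlci : LCI.IsLCI A B) (I : Ideal A') (hIdef : I = RingHom.ker (algebraMap A' A))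
    (s : B' ⊗[A'] I) (hs : mulI I B' s = 0) :
    LinearMap.rTensor I (IsScalarTower.toAlgHom A' B' B).toLinearMap s = 0 := by
  obtain ⟨-, n, f, hf, hKos⟩ := hlci
  by_contra hne
  let ann : Ideal B := LinearMap.ker (LinearMap.toSpanSingleton B (B ⊗[A'] I)
    (LinearMap.rTensor I (IsScalarTower.toAlgHom A' B' B).toLinearMap s))
  have hmem : ∀ b : B, b ∈ ann ↔
      b • (LinearMap.rTensor I (IsScalarTower.toAlgHom A' B' B).toLinearMap s) = 0 := fun b => by
    rw [LinearMap.mem_ker, LinearMap.toSpanSingleton_apply]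
  have hann : ann ≠ ⊤ := by
    intro h
    have h1 : (1 : B) ∈ ann := h ▸ Submodule.mem_top
    rw [hmem, one_smul] at h1
    exact hne h1
  obtain ⟨𝔪, h𝔪, hle⟩ := Ideal.exists_le_maximal ann hann
  haveI : 𝔪.IsPrime := h𝔪.isPrime
  let 𝔭 : PrimeSpectrum (MvPolynomial (Fin n) A) := ⟨𝔪.comap f.toRingHom, inferInstance⟩
  have hk : RingHom.ker f.toRingHom ≤ 𝔭.asIdeal := by
    intro x hx
    change f.toRingHom x ∈ 𝔪
    rw [RingHom.mem_ker.1 hx]
    exact 𝔪.zero_mem
  obtain ⟨g, hg, l, hl, hker⟩ := hKos 𝔭 hk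
  obtain ⟨N, hN⟩ := al_at_prime ρA ρB hρ hπA UPB UPA f hf g l hl hker I hIdef s hs
  have h1 : (f g) ^ N ∈ ann := (hmem _).2 hN
  have h2 : f g ∈ 𝔪 := Ideal.IsPrime.mem_of_pow_mem inferInstance N (hle h1)
  exact hg h2

end AtPrime

end Groth.Agent.H87.ThickInjAlg
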