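import Groth.Agent.H87.ConormalThick
import Groth.Agent.H87.ChartUP
import Groth.Agent.H87.ThickInjAlg2
import Groth.Agent.H39.KoszulAtForall
import Groth.Agent.H44.ConormalH1

/-!
# Injectivity of `i^*C_{Y/Y'} ⟶ C_{Z/Z'}` for lci `i` (helper87)
-/

set_option autoImplicit false
universe u
open CategoryTheory Limits Opposite AlgebraicGeometry TopologicalSpace TensorProduct Scheme.Modules

namespace Groth.Agent.H87.ConormalThick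

open Groth.Agent.H44 Groth.Agent.H87.ThickInjAlg

section ChartInj
variable {Z Y Z' Y' Z'' : Scheme.{u}} {i : Z ⟶ Y} {j : Y ⟶ Y'} {m : Z' ⟶ Y'} {i'' : Z ⟶ Z''}
  {n : Z'' ⟶ Z'} [IsClosedImmersion j] [IsClosedImmersion i''] [IsClosedImmersion n]
  (ψ₁ : (Scheme.Modules.pullback i).obj (Omega.conormal j) ⟶ Omega.conormal (i'' ≫ n))
  (hm₁ : i ≫ j = (i'' ≫ n) ≫ m)
  (hψ₁ : OmegaSh.IsConormalMap (i'' ≫ n) j m i ψ₁)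

include hψ₁ in
/-- `ψ₁` on generators, in tensor form. -/
theorem psi1_generator (dc : DoubleChart i'' n) {V' : Y'.Opens} (hV' : IsAffineOpen V')
    (le : dc.V ≤ m ⁻¹ᵁ V') (σ' : Γ(ClSub.idealMod j.ker, V')) :
    letI _algRB : Algebra Γ(Z', dc.V) Γ(Z, i'' ⁻¹ᵁ dc.U) :=
      ((i'' ≫ n).appLE dc.V (i'' ⁻¹ᵁ dc.U) dc.leW).hom.toAlgebra
    ∃ (c : Γ(Z', dc.V))
      (hc : c ∈ RingHom.ker (algebraMap Γ(Z', dc.V) Γ(Z, i'' ⁻¹ᵁ dc.U))),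
      c = m.appLE V' dc.V le (OmegaSh.idealSect j.ker V' σ') ∧
      conormalEquiv (i'' ≫ n) dc.hV dc.hW dc.leW dc.ge
        (ψ₁.app (i'' ⁻¹ᵁ dc.U) (pullSectLE i (Omega.conormal j) (j ⁻¹ᵁ V') (i'' ⁻¹ᵁ dc.U)
          (leY hm₁ dc le) (pullSectLE j (ClSub.idealMod j.ker) V' (j ⁻¹ᵁ V') le_rfl σ'))) =
        (1 : Γ(Z, i'' ⁻¹ᵁ dc.U)) ⊗ₜ[Γ(Z', dc.V)] ⟨c, hc⟩ := by
  letI _algRB : Algebra Γ(Z', dc.V) Γ(Z, i'' ⁻¹ᵁ dc.U) :=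
    ((i'' ≫ n).appLE dc.V (i'' ⁻¹ᵁ dc.U) dc.leW).hom.toAlgebra
  obtain ⟨σ, hσ, hk⟩ := psi1_pullSectLE ψ₁ hm₁ hψ₁ dc hV' le σ'
  refine ⟨_, (idealKerEquiv (i'' ≫ n) dc.hV dc.leW dc.ge σ).2, hσ, ?_⟩
  rw [hk]
  exact conormalEquiv_pullSectLE (i'' ≫ n) dc.hV dc.hW dc.leW dc.ge σ

set_option maxHeartbeats 4000000 in
include hψ₁ in
/-- Chart-level injectivity of `ψ₁`, from the chart-level universal properties and an lci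
presentation. -/
theorem psi1_app_injective (dc : DoubleChart i'' n) {V' : Y'.Opens} (hV' : IsAffineOpen V')
    (le : dc.V ≤ m ⁻¹ᵁ V') {R₀ : Type u} [CommRing R₀] (ρA : R₀ →+* Γ(Y', V'))
    (ρB : R₀ →+* Γ(Z', dc.V)) (hρ : (m.appLE V' dc.V le).hom.comp ρA = ρB)
    (UPB : ∀ {C Cb : Type u} [CommRing C] [CommRing Cb] (τ : C →+* Cb), Function.Surjective τ →
      (∀ x y, τ x = 0 → τ y = 0 → x * y = 0) → ∀ (α : Γ(Z, i'' ⁻¹ᵁ dc.U) →+* Cb) (β : R₀ →+* C),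
        τ.comp β = α.comp (((i'' ≫ n).appLE dc.V (i'' ⁻¹ᵁ dc.U) dc.leW).hom.comp ρB) →
        ∃ θ : Γ(Z', dc.V) →+* C,
          τ.comp θ = α.comp ((i'' ≫ n).appLE dc.V (i'' ⁻¹ᵁ dc.U) dc.leW).hom ∧ θ.comp ρB = β)
    (UPA : ∀ {C Cb : Type u} [CommRing C] [CommRing Cb] (τ : C →+* Cb), Function.Surjective τ →
      (∀ x y, τ x = 0 → τ y = 0 → x * y = 0) → ∀ (α : Γ(Y, j ⁻¹ᵁ V') →+* Cb)
        (θ₁ θ₂ : Γ(Y', V') →+* C),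
        τ.comp θ₁ = α.comp (j.appLE V' (j ⁻¹ᵁ V') le_rfl).hom →
        τ.comp θ₂ = α.comp (j.appLE V' (j ⁻¹ᵁ V') le_rfl).hom →
        θ₁.comp ρA = θ₂.comp ρA → θ₁ = θ₂)
    (hlci : Groth.Agent.H39.LCIMor.IsLCIHom
      (i.appLE (j ⁻¹ᵁ V') (i'' ⁻¹ᵁ dc.U) (leY hm₁ dc le)).hom)
    (hsqB : ∀ x y : Γ(Z', dc.V), ((i'' ≫ n).appLE dc.V (i'' ⁻¹ᵁ dc.U) dc.leW).hom x = 0 →
      ((i'' ≫ n).appLE dc.V (i'' ⁻¹ᵁ dc.U) dc.leW).hom y = 0 → x * y = 0) :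
    Function.Injective (ψ₁.app (i'' ⁻¹ᵁ dc.U)) := by
  have hV : IsAffineOpen (j ⁻¹ᵁ V') := hV'.preimage j
  letI algA'A : Algebra Γ(Y', V') Γ(Y, j ⁻¹ᵁ V') := (j.appLE V' (j ⁻¹ᵁ V') le_rfl).hom.toAlgebra
  letI algAB : Algebra Γ(Y, j ⁻¹ᵁ V') Γ(Z, i'' ⁻¹ᵁ dc.U) :=
    (i.appLE (j ⁻¹ᵁ V') (i'' ⁻¹ᵁ dc.U) (leY hm₁ dc le)).hom.toAlgebra
  letI algB'B : Algebra Γ(Z', dc.V) Γ(Z, i'' ⁻¹ᵁ dc.U) :=
    ((i'' ≫ n).appLE dc.V (i'' ⁻¹ᵁ dc.U) dc.leW).hom.toAlgebra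
  letI algA'B' : Algebra Γ(Y', V') Γ(Z', dc.V) := (m.appLE V' dc.V le).hom.toAlgebra
  letI algA'B : Algebra Γ(Y', V') Γ(Z, i'' ⁻¹ᵁ dc.U) :=
    ((i.appLE (j ⁻¹ᵁ V') (i'' ⁻¹ᵁ dc.U) (leY hm₁ dc le)).hom.comp
      (j.appLE V' (j ⁻¹ᵁ V') le_rfl).hom).toAlgebra
  haveI tow1 : IsScalarTower Γ(Y', V') Γ(Y, j ⁻¹ᵁ V') Γ(Z, i'' ⁻¹ᵁ dc.U) :=
    IsScalarTower.of_algebraMap_eq (fun x => rfl)
  have hcompeq : (i.appLE (j ⁻¹ᵁ V') (i'' ⁻¹ᵁ dc.U) (leY hm₁ dc le)).hom.comp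
      (j.appLE V' (j ⁻¹ᵁ V') le_rfl).hom =
      ((i'' ≫ n).appLE dc.V (i'' ⁻¹ᵁ dc.U) dc.leW).hom.comp (m.appLE V' dc.V le).hom := by
    rw [← CommRingCat.hom_comp, ← CommRingCat.hom_comp, Scheme.Hom.appLE_comp_appLE,
      Scheme.Hom.appLE_comp_appLE]
    congr 1
    exact Groth.Agent.H39.KoszulAtBridge3.appLE_congr_hom hm₁ _ _ _
  haveI tow2 : IsScalarTower Γ(Y', V') Γ(Z', dc.V) Γ(Z, i'' ⁻¹ᵁ dc.U) :=
    IsScalarTower.of_algebraMap_eq (fun x => RingHom.congr_fun hcompeq x)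
  have hπA : Function.Surjective (algebraMap Γ(Y', V') Γ(Y, j ⁻¹ᵁ V')) := by
    change Function.Surjective (j.appLE V' (j ⁻¹ᵁ V') le_rfl).hom
    rw [Scheme.Hom.appLE_eq_app]
    exact j.app_surjective V' hV'
  have hπB : Function.Surjective (algebraMap Γ(Z', dc.V) Γ(Z, i'' ⁻¹ᵁ dc.U)) := by
    change Function.Surjective ((i'' ≫ n).appLE dc.V (i'' ⁻¹ᵁ dc.U) dc.leW).hom
    exact dc.surjRB
  haveI qc : (Omega.conormal j).IsQuasicoherent := isQuasicoherent_conormal j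
  -- the identification of sections of `i^* C_{Y/Y'}` over the chart
  let I := RingHom.ker (algebraMap Γ(Y', V') Γ(Y, j ⁻¹ᵁ V'))
  obtain ⟨ε, hεgen⟩ : ∃ ε : Γ((Scheme.Modules.pullback i).obj (Omega.conormal j), i'' ⁻¹ᵁ dc.U)
      ≃ₗ[Γ(Z, i'' ⁻¹ᵁ dc.U)] Γ(Z, i'' ⁻¹ᵁ dc.U) ⊗[Γ(Y', V')] I,
      ∀ σ' : Γ(ClSub.idealMod j.ker, V'),
      ε (pullSectLE i (Omega.conormal j) (j ⁻¹ᵁ V') (i'' ⁻¹ᵁ dc.U)
        (leY hm₁ dc le) (pullSectLE j (ClSub.idealMod j.ker) V' (j ⁻¹ᵁ V') le_rfl σ')) =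
      (1 : Γ(Z, i'' ⁻¹ᵁ dc.U)) ⊗ₜ[Γ(Y', V')] (idealKerEquiv j hV' le_rfl le_rfl σ') := by
    let E₁ := pullbackSectionsEquiv i (Omega.conormal j) dc.hW hV (leY hm₁ dc le)
    let E₂ := conormalEquiv j hV' hV le_rfl le_rfl
    refine ⟨E₁ ≪≫ₗ (AlgebraTensorModule.congr
      (LinearEquiv.refl Γ(Z, i'' ⁻¹ᵁ dc.U) Γ(Z, i'' ⁻¹ᵁ dc.U)) E₂) ≪≫ₗ
      (AlgebraTensorModule.cancelBaseChange Γ(Y', V') Γ(Y, j ⁻¹ᵁ V') Γ(Z, i'' ⁻¹ᵁ dc.U)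
        Γ(Z, i'' ⁻¹ᵁ dc.U) I), ?_⟩
    intro σ'
    change AlgebraTensorModule.cancelBaseChange _ _ _ _ _
      (AlgebraTensorModule.congr (LinearEquiv.refl _ _) E₂ (E₁ _)) = _
    rw [pullbackSectionsEquiv_pullSectLE, AlgebraTensorModule.congr_tmul,
      conormalEquiv_pullSectLE, AlgebraTensorModule.cancelBaseChange_tmul, one_smul]
    rfl
  -- the key relation
  have key : ∀ s : Γ(Z', dc.V) ⊗[Γ(Y', V')] I,
      ∃ (c : Γ(Z', dc.V)) (hc : c ∈ RingHom.ker (algebraMap Γ(Z', dc.V) Γ(Z, i'' ⁻¹ᵁ dc.U))),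
        c = mulI I Γ(Z', dc.V) s ∧
        conormalEquiv (i'' ≫ n) dc.hV dc.hW dc.leW dc.ge (ψ₁.app (i'' ⁻¹ᵁ dc.U)
          (ε.symm (LinearMap.rTensor I
            (IsScalarTower.toAlgHom Γ(Y', V') Γ(Z', dc.V) Γ(Z, i'' ⁻¹ᵁ dc.U)).toLinearMap s))) =
          (1 : Γ(Z, i'' ⁻¹ᵁ dc.U)) ⊗ₜ[Γ(Z', dc.V)] ⟨c, hc⟩ := by
    intro s
    induction s using TensorProduct.induction_on with
    | zero =>
      refine ⟨0, Submodule.zero_mem _, by rw [map_zero], ?_⟩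
      have : (⟨0, Submodule.zero_mem _⟩ :
          RingHom.ker (algebraMap Γ(Z', dc.V) Γ(Z, i'' ⁻¹ᵁ dc.U))) = 0 := rfl
      rw [this, TensorProduct.tmul_zero, map_zero, map_zero, map_zero, map_zero]
    | add x y hx hy =>
      obtain ⟨cx, hcx, hcx1, hcx2⟩ := hx
      obtain ⟨cy, hcy, hcy1, hcy2⟩ := hy
      refine ⟨cx + cy, Submodule.add_mem _ hcx hcy, by rw [map_add, hcx1, hcy1], ?_⟩
      have : (⟨cx + cy, Submodule.add_mem _ hcx hcy⟩ :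
          RingHom.ker (algebraMap Γ(Z', dc.V) Γ(Z, i'' ⁻¹ᵁ dc.U))) = ⟨cx, hcx⟩ + ⟨cy, hcy⟩ := rfl
      rw [this, TensorProduct.tmul_add, map_add, map_add, map_add, map_add, hcx2, hcy2]
    | tmul β x =>
      obtain ⟨c, hc, hceq, hcE⟩ := psi1_generator ψ₁ hm₁ hψ₁ dc hV' le
        ((idealKerEquiv j hV' le_rfl le_rfl).symm x)
      have hx' : OmegaSh.idealSect j.ker V' ((idealKerEquiv j hV' le_rfl le_rfl).symm x) =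
          (x : Γ(Y', V')) := by
        rw [← idealKerEquiv_coe j hV' le_rfl le_rfl, LinearEquiv.apply_symm_apply]
      rw [hx'] at hceq
      have hmem : β * c ∈ RingHom.ker (algebraMap Γ(Z', dc.V) Γ(Z, i'' ⁻¹ᵁ dc.U)) :=
        Ideal.mul_mem_left _ _ hc
      refine ⟨β * c, hmem, ?_, ?_⟩
      · rw [mulI_tmul, hceq, Algebra.smul_def, mul_comm]
        rfl
      · have h1 : LinearMap.rTensor I
            (IsScalarTower.toAlgHom Γ(Y', V') Γ(Z', dc.V) Γ(Z, i'' ⁻¹ᵁ dc.U)).toLinearMap (β ⊗ₜ x) =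
            (algebraMap Γ(Z', dc.V) Γ(Z, i'' ⁻¹ᵁ dc.U) β) •
              ((1 : Γ(Z, i'' ⁻¹ᵁ dc.U)) ⊗ₜ[Γ(Y', V')] x) := by
          rw [LinearMap.rTensor_tmul, TensorProduct.smul_tmul', smul_eq_mul, mul_one]
          rfl
        have h2 : (1 : Γ(Z, i'' ⁻¹ᵁ dc.U)) ⊗ₜ[Γ(Y', V')] x =
            ε (pullSectLE i (Omega.conormal j) (j ⁻¹ᵁ V') (i'' ⁻¹ᵁ dc.U)
              (leY hm₁ dc le) (pullSectLE j (ClSub.idealMod j.ker) V' (j ⁻¹ᵁ V') le_rfl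
                ((idealKerEquiv j hV' le_rfl le_rfl).symm x))) := by
          rw [hεgen, LinearEquiv.apply_symm_apply]
        rw [h1, h2, _root_.map_smul, LinearEquiv.symm_apply_apply, Scheme.Modules.Hom.app_smul,
          _root_.map_smul, hcE, TensorProduct.smul_tmul', smul_eq_mul, mul_one]
        have h3 : (⟨β * c, hmem⟩ :
            RingHom.ker (algebraMap Γ(Z', dc.V) Γ(Z, i'' ⁻¹ᵁ dc.U))) = β • ⟨c, hc⟩ := rfl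
        rw [h3, TensorProduct.tmul_smul, TensorProduct.smul_tmul', Algebra.smul_def, mul_one]
  -- injectivity
  intro y₁ y₂ hy
  have h0 : ψ₁.app (i'' ⁻¹ᵁ dc.U) (y₁ - y₂) = 0 := by rw [map_sub, hy, sub_self]
  obtain ⟨s, hs⟩ := LinearMap.rTensor_surjective I
    (g := (IsScalarTower.toAlgHom Γ(Y', V') Γ(Z', dc.V) Γ(Z, i'' ⁻¹ᵁ dc.U)).toLinearMap) hπB
    (ε (y₁ - y₂))
  obtain ⟨c, hc, hc1, hc2⟩ := key s
  have e1 : ε.symm (LinearMap.rTensor I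
      (IsScalarTower.toAlgHom Γ(Y', V') Γ(Z', dc.V) Γ(Z, i'' ⁻¹ᵁ dc.U)).toLinearMap s) =
      y₁ - y₂ := by
    exact (congrArg ε.symm hs).trans (LinearEquiv.symm_apply_apply ε _)
  have hc3 : (1 : Γ(Z, i'' ⁻¹ᵁ dc.U)) ⊗ₜ[Γ(Z', dc.V)]
      (⟨c, hc⟩ : RingHom.ker (algebraMap Γ(Z', dc.V) Γ(Z, i'' ⁻¹ᵁ dc.U))) = 0 := by
    refine hc2.symm.trans ?_
    refine (congrArg (fun y => conormalEquiv (i'' ≫ n) dc.hV dc.hW dc.leW dc.ge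
      (ψ₁.app (i'' ⁻¹ᵁ dc.U) y)) e1).trans ?_
    change conormalEquiv (i'' ≫ n) dc.hV dc.hW dc.leW dc.ge (ψ₁.app (i'' ⁻¹ᵁ dc.U) (y₁ - y₂)) = 0
    rw [h0, map_zero]
  have hc0 : c = 0 := by
    have h4 := (one_tmul_eq_zero_iff hπB ⟨c, hc⟩).1 hc3
    have h5 : (RingHom.ker (algebraMap Γ(Z', dc.V) Γ(Z, i'' ⁻¹ᵁ dc.U))) ^ 2 = ⊥ := by
      rw [pow_two, eq_bot_iff, Ideal.mul_le]
      intro x hx y hy
      exact hsqB x y hx hy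
    rw [h5] at h4
    exact h4
  have hmul : mulI I Γ(Z', dc.V) s = 0 := by rw [← hc1, hc0]
  have hfin := al_global (A' := Γ(Y', V')) (A := Γ(Y, j ⁻¹ᵁ V')) (B' := Γ(Z', dc.V))
    (B := Γ(Z, i'' ⁻¹ᵁ dc.U)) ρA ρB hρ hπA UPB UPA hlci I rfl s hmul
  rw [hs] at hfin
  have : y₁ - y₂ = 0 := ε.injective (by rw [hfin, map_zero])
  exact sub_eq_zero.1 this

end ChartInj

section Global
variable {Z Y X Z' Y' Z'' : Scheme.{u}} {i : Z ⟶ Y} {b : Y ⟶ X} {j : Y ⟶ Y'} {d : Y' ⟶ X}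
  {m : Z' ⟶ Y'} {i'' : Z ⟶ Z''} {n : Z'' ⟶ Z'}
  [IsClosedImmersion j] [IsClosedImmersion i''] [IsClosedImmersion n]

/-- Charts with an affine open of the base. -/
structure XChart (m : Z' ⟶ Y') (d : Y' ⟶ X) extends ThChart m where
  U : X.Opens
  hU : IsAffineOpen U
  leU : V' ≤ d ⁻¹ᵁ U

omit [IsClosedImmersion j] in
variable (m d i'' n) in
theorem exists_xChart (z : Z) (O : Z.Opens) (hz : z ∈ O) :
    ∃ t : XChart m d, z ∈ i'' ⁻¹ᵁ (t.toThChart.toDoubleChart i'' n).U ∧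
      i'' ⁻¹ᵁ (t.toThChart.toDoubleChart i'' n).U ≤ O := by
  obtain ⟨O', hO', hOO'⟩ := (i'' ≫ n).isEmbedding.isInducing.isOpen_iff.1 O.2
  have hzO' : (i'' ≫ n) z ∈ (⟨O', hO'⟩ : Z'.Opens) := by
    change z ∈ (i'' ≫ n) ⁻¹' O'
    rw [hOO']
    exact hz
  obtain ⟨U, hU, hzU, -⟩ := Opens.isBasis_iff_nbhd.mp X.isBasis_affineOpens
    (show d (m ((i'' ≫ n) z)) ∈ (⊤ : X.Opens) from trivial)
  obtain ⟨V', hV', hzV', hV'le⟩ := Opens.isBasis_iff_nbhd.mp Y'.isBasis_affineOpens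
    (show m ((i'' ≫ n) z) ∈ d ⁻¹ᵁ U from hzU)
  obtain ⟨W', hW', hzW', hW'le⟩ := Opens.isBasis_iff_nbhd.mp Z'.isBasis_affineOpens
    (show (i'' ≫ n) z ∈ (m ⁻¹ᵁ V') ⊓ (⟨O', hO'⟩ : Z'.Opens) from ⟨hzV', hzO'⟩)
  refine ⟨⟨⟨V', W', hV', hW', hW'le.trans inf_le_left⟩, U, hU, hV'le⟩, hzW', ?_⟩
  intro y hy
  have h1 : (i'' ≫ n) y ∈ O' := (hW'le hy).2
  have h2 : y ∈ (i'' ≫ n) ⁻¹' O' := h1
  rw [hOO'] at h2
  exact h2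

/-- For `i` a local complete intersection morphism, `i^*C_{Y/Y'} ⟶ C_{Z/Z'}` is a monomorphism. -/
theorem mono_psi1 (hY' : OmegaSh.IsUnivThickening b j d)
    (hZ' : OmegaSh.IsUnivThickening (i ≫ b) (i'' ≫ n) (m ≫ d))
    (ψ₁ : (Scheme.Modules.pullback i).obj (Omega.conormal j) ⟶ Omega.conormal (i'' ≫ n))
    (hm₁ : i ≫ j = (i'' ≫ n) ≫ m)
    (hψ₁ : OmegaSh.IsConormalMap (i'' ≫ n) j m i ψ₁)
    (hlci : ∀ z : Z, Synt.IsKoszulAt i z) : Mono ψ₁ := by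
  have hbasis : Opens.IsBasis (Set.range (fun t : XChart m d =>
      i'' ⁻¹ᵁ (t.toThChart.toDoubleChart i'' n).U)) := by
    rw [Opens.isBasis_iff_nbhd]
    intro W x hx
    obtain ⟨t, hxt, htW⟩ := exists_xChart d m i'' n x W hx
    exact ⟨_, ⟨t, rfl⟩, hxt, htW⟩
  refine mono_of_injective_on_basis ψ₁ _ hbasis fun t => ?_
  have leB : t.W' ≤ (m ≫ d) ⁻¹ᵁ t.U := t.le.trans (m.preimage_mono t.leU)
  refine psi1_app_injective ψ₁ hm₁ hψ₁ (t.toThChart.toDoubleChart i'' n) t.hV' t.le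
    (d.appLE t.U t.V' t.leU).hom ((m ≫ d).appLE t.U t.W' leB).hom ?_ ?_ ?_ ?_ ?_
  · rw [← CommRingCat.hom_comp, Scheme.Hom.appLE_comp_appLE]
    rfl
  · intro C Cb _ _ τ hτ hsq α β comm
    refine Groth.Agent.H87.ChartUP.exists_chart_lift' hZ' t.hU t.hW' leB τ hτ hsq α β ?_
    rw [comm]
    congr 1
    exact congrArg CommRingCat.Hom.hom (Scheme.Hom.appLE_comp_appLE (i'' ≫ n) (m ≫ d) t.U t.W'
      ((i'' ≫ n) ⁻¹ᵁ t.W') leB le_rfl)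
  · intro C Cb _ _ τ hτ hsq α θ₁ θ₂ h1 h1' h2
    exact Groth.Agent.H87.ChartUP.chart_lift_unique' hY' t.hU t.hV' t.leU τ hτ hsq α θ₁ θ₂ h1 h1' h2
  · exact Groth.Agent.H39.KoszulAtForall.isLCIHom_appLE_of_forall_isKoszulAt i hlci _ _
      (t.toThChart.toDoubleChart i'' n).hW (t.hV'.preimage j) _
  · intro x y hx hy
    have key : ∀ z : Γ(Z', t.W'), ((i'' ≫ n).appLE t.W' ((i'' ≫ n) ⁻¹ᵁ t.W') le_rfl).hom z = 0 →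
        ((i'' ≫ n).app t.W').hom z = 0 := by
      intro z hz
      rw [Scheme.Hom.appLE_eq_app] at hz
      exact hz
    exact Groth.Agent.H49.IsFirstOrderThickening.mul_eq_zero hZ'.1 ⟨t.W', t.hW'⟩ x y
      (key x hx) (key y hy)

end Global

end Groth.Agent.H87.ConormalThick
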