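import Mathlib

set_option autoImplicit false
set_option linter.unusedSectionVars false

namespace Groth.Agent.H87.Crimp

open Module Matrix

section Trace

variable {R St ι : Type*} [CommRing R] [IsDomain R] [CommRing St] [Algebra R St] [Fintype ι]
  [DecidableEq ι]

theorem det_toMatrix_ne_zero {M N : Type*} [AddCommGroup M] [Module R M] [AddCommGroup N]
    [Module R N] (bM : Basis ι R M) (bN : Basis ι R N) (f : M →ₗ[R] N)
    (hf : Function.Injective f) : (LinearMap.toMatrix bM bN f).det ≠ 0 := by
  intro h0
  obtain ⟨v, hv, hv0⟩ := Matrix.exists_mulVec_eq_zero_iff.mpr h0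
  apply hv
  set x : M := ∑ j, v j • bM j with hx
  have hrepr : (bM.repr x : ι → R) = v := by
    funext i
    rw [hx, bM.repr_sum_self]
  have h1 : f x = 0 := by
    apply bN.repr.injective
    apply DFunLike.coe_injective
    rw [← LinearMap.toMatrix_mulVec_repr bM bN f, hrepr, hv0]
    simp
  have h2 : x = 0 := hf (by rw [h1, map_zero])
  rw [← hrepr, h2]
  simp

theorem trace_subalgebra_eq (bt : Basis ι R St) (S : Subalgebra R St) (bS : Basis ι R S) (x : S) :
    Algebra.trace R S x = Algebra.trace R St (x : St) := by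
  set ιS : S →ₗ[R] St := S.val.toLinearMap with hιS
  set P := LinearMap.toMatrix bS bt ιS with hP
  have hPdet : P.det ≠ 0 := det_toMatrix_ne_zero bS bt ιS Subtype.val_injective
  set mS := LinearMap.toMatrix bS bS (Algebra.lmul R S x) with hmS
  set mt := LinearMap.toMatrix bt bt (Algebra.lmul R St (x : St)) with hmt
  have hcomm : P * mS = mt * P := by
    rw [hP, hmS, hmt, ← LinearMap.toMatrix_comp, ← LinearMap.toMatrix_comp]
    congr 1
  rw [Algebra.trace_apply, Algebra.trace_apply, LinearMap.trace_eq_matrix_trace R bS,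
    LinearMap.trace_eq_matrix_trace R bt]
  have key : P.det * mS.trace = P.det * mt.trace := by
    calc P.det * mS.trace = (P.det • mS).trace := by simp [Matrix.trace_smul]
      _ = (P.adjugate * P * mS).trace := by
        rw [Matrix.adjugate_mul, Matrix.smul_mul, Matrix.one_mul]
      _ = (P.adjugate * (mt * P)).trace := by rw [Matrix.mul_assoc, hcomm]
      _ = (mt * P * P.adjugate).trace := by rw [Matrix.trace_mul_comm]
      _ = (P.det • mt).trace := by
        rw [Matrix.mul_assoc, Matrix.mul_adjugate, Matrix.mul_smul, Matrix.mul_one]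
      _ = P.det * mt.trace := by simp [Matrix.trace_smul]
  exact mul_left_cancel₀ hPdet key

end Trace

section Discr

variable {R St ι : Type*} [CommRing R] [IsDomain R] [CommRing St] [Algebra R St] [Fintype ι]
  [DecidableEq ι]

theorem discr_sub (bt : Basis ι R St) (S : Subalgebra R St) (bS : Basis ι R S) :
    Algebra.discr R ⇑bS =
      (LinearMap.toMatrix bS bt S.val.toLinearMap).det ^ 2 * Algebra.discr R ⇑bt := by
  have h1 : Algebra.discr R ⇑bS = Algebra.discr R (fun j => ((bS j : S) : St)) := by
    rw [Algebra.discr_def, Algebra.discr_def]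
    congr 1
    ext i j
    rw [Algebra.traceMatrix_apply, Algebra.traceMatrix_apply, Algebra.traceForm_apply,
      Algebra.traceForm_apply, trace_subalgebra_eq bt S bS]
    rfl
  rw [h1, ← Algebra.discr_of_matrix_vecMul]
  congr 1
  funext j
  simp only [Matrix.vecMul, dotProduct, Matrix.map_apply, LinearMap.toMatrix_apply]
  have := bt.sum_repr ((bS j : S) : St)
  conv_lhs => rw [← this]
  apply Finset.sum_congr rfl
  intro i _
  rw [Algebra.smul_def, mul_comm]
  rfl

end Discr

section PID

variable {R M ι : Type*} [CommRing R] [IsDomain R] [IsPrincipalIdealRing R] [AddCommGroup M]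
  [Module R M] [Fintype ι] [DecidableEq ι]

theorem ord_prod (a : ι → R) (ha : ∀ i, a i ≠ 0) :
    Ring.ord R (∏ i, a i) = ∑ i, Ring.ord R (a i) := by
  classical
  have : ∀ s : Finset ι, Ring.ord R (∏ i ∈ s, a i) = ∑ i ∈ s, Ring.ord R (a i) := by
    intro s
    induction s using Finset.induction_on with
    | empty => simp
    | insert i s hi ih =>
      rw [Finset.prod_insert hi, Finset.sum_insert hi,
        Ring.ord_mul' R (mem_nonZeroDivisors_of_ne_zero (ha i)), ih]
  exact this Finset.univ

theorem det_smul_mem (bM : Basis ι R M) (N : Submodule R M) (bN : Basis ι R N) (m : M) :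
    (LinearMap.toMatrix bN bM N.subtype).det • m ∈ N := by
  set P := LinearMap.toMatrix bN bM N.subtype with hP
  set c : ι → R := ⇑(bM.repr m) with hc
  set c' : ι → R := P.adjugate *ᵥ c with hc'
  set n : N := ∑ j, c' j • bN j with hn
  have hrepr : (bN.repr n : ι → R) = c' := by
    funext i
    rw [hn, bN.repr_sum_self]
  have h1 : (n : M) = P.det • m := by
    apply bM.repr.injective
    apply DFunLike.coe_injective
    have := LinearMap.toMatrix_mulVec_repr bN bM N.subtype n
    rw [Submodule.subtype_apply] at this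
    rw [← this, hrepr, hc', Matrix.mulVec_mulVec, ← hP, Matrix.mul_adjugate, Matrix.smul_mulVec,
      Matrix.one_mulVec, map_smul]
    rfl
  rw [← h1]
  exact n.2

theorem det_associated_prod (bM : Basis ι R M) (N : Submodule R M) (bN : Basis ι R N)
    (h : Module.finrank R N = Module.finrank R M) :
    Associated (LinearMap.toMatrix bN bM N.subtype).det
      (∏ i, Submodule.smithNormalFormCoeffs bM h i) := by
  set a := Submodule.smithNormalFormCoeffs bM h with ha
  set b' := Submodule.smithNormalFormTopBasis bM h with hb'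
  set ab := Submodule.smithNormalFormBotBasis bM h with hab
  set φ : M →ₗ[R] M := N.subtype ∘ₗ (bM.equiv bN (Equiv.refl ι) : M →ₗ[R] N) with hφ
  set φ' : M →ₗ[R] M := N.subtype ∘ₗ (b'.equiv ab (Equiv.refl ι) : M →ₗ[R] N) with hφ'
  have hdetφ : LinearMap.det φ = (LinearMap.toMatrix bN bM N.subtype).det := by
    rw [← LinearMap.det_toMatrix bM, hφ, LinearMap.toMatrix_comp bM bN bM,
      LinearMap.toMatrix_basis_equiv, Matrix.mul_one]
  have hdetφ' : LinearMap.det φ' = ∏ i, a i := by
    rw [← LinearMap.det_toMatrix b', ← Matrix.det_diagonal]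
    congr 1
    ext i j
    rw [LinearMap.toMatrix_apply, hφ', LinearMap.comp_apply, LinearEquiv.coe_coe,
      Basis.equiv_apply, Equiv.refl_apply, Submodule.subtype_apply,
      Submodule.smithNormalFormBotBasis_def, map_smul, Basis.repr_self, Matrix.diagonal_apply]
    by_cases hij : i = j
    · subst hij; simp [ha]
    · rw [if_neg hij]
      simp [Ne.symm hij]
  rw [← hdetφ, ← hdetφ']
  refine LinearMap.associated_det_of_eq_comp
    ((bM.equiv bN (Equiv.refl ι)).trans (b'.equiv ab (Equiv.refl ι)).symm) φ φ' ?_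
  intro x
  change N.subtype ((bM.equiv bN (Equiv.refl ι)) x) =
    N.subtype ((b'.equiv ab (Equiv.refl ι))
      ((b'.equiv ab (Equiv.refl ι)).symm ((bM.equiv bN (Equiv.refl ι)) x)))
  rw [LinearEquiv.apply_symm_apply]

theorem length_quotient_eq_ord (bM : Basis ι R M) (N : Submodule R M) (bN : Basis ι R N) :
    Module.length R (M ⧸ N) = Ring.ord R (LinearMap.toMatrix bN bM N.subtype).det := by
  have h : Module.finrank R N = Module.finrank R M := by
    rw [Module.finrank_eq_card_basis bN, Module.finrank_eq_card_basis bM]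
  rw [Ring.ord_eq_of_associated (det_associated_prod bM N bN h),
    ord_prod _ (Submodule.smithNormalFormCoeffs_ne_zero bM h),
    (N.quotientEquivPiSpan bM h).length_eq, Module.length_pi_of_fintype]
  rfl

end PID

section Main

universe u v

theorem ord_X_pow {k : Type u} [Field k] (n : ℕ) :
    Ring.ord (PowerSeries k) ((PowerSeries.X : PowerSeries k) ^ n) = n := by
  rw [Ring.ord_pow (mem_nonZeroDivisors_of_ne_zero PowerSeries.X_ne_zero),
    Ring.ord_of_irreducible PowerSeries.X_irreducible]
  simp

theorem main {k : Type u} [Field k]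
    {St : Type v} [CommRing St] [Algebra (PowerSeries k) St] (d a b : ℕ)
    (bt : Module.Basis (Fin d) (PowerSeries k) St)
    (ha : Ideal.span {Algebra.discr (PowerSeries k) ⇑bt} =
      Ideal.span {(PowerSeries.X : PowerSeries k) ^ a})
    (S : Subalgebra (PowerSeries k) St) (bS : Module.Basis (Fin d) (PowerSeries k) S)
    (hb : Ideal.span {Algebra.discr (PowerSeries k) ⇑bS} =
      Ideal.span {(PowerSeries.X : PowerSeries k) ^ b}) :
    (∀ q : St ⧸ Subalgebra.toSubmodule S, ((PowerSeries.X : PowerSeries k) ^ b) • q = 0) ∧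
    2 * Module.length (PowerSeries k) (St ⧸ Subalgebra.toSubmodule S) + (a : ℕ∞) = (b : ℕ∞) := by
  set R := PowerSeries k with hR
  set N : Submodule R St := Subalgebra.toSubmodule S with hN
  set bN : Basis (Fin d) R N := bS.map (Subalgebra.toSubmoduleEquiv S).symm with hbN
  set D : R := (LinearMap.toMatrix bN bt N.subtype).det with hD
  have hDeq : D = (LinearMap.toMatrix bS bt S.val.toLinearMap).det := by
    rw [hD]
    congr 1
  have hdiscr : Algebra.discr R ⇑bS = D ^ 2 * Algebra.discr R ⇑bt := by
    rw [hDeq]; exact discr_sub bt S bS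
  have hassa : Associated (Algebra.discr R ⇑bt) ((PowerSeries.X : R) ^ a) :=
    Ideal.span_singleton_eq_span_singleton.mp ha
  have hassb : Associated (Algebra.discr R ⇑bS) ((PowerSeries.X : R) ^ b) :=
    Ideal.span_singleton_eq_span_singleton.mp hb
  have hXne : ∀ n : ℕ, ((PowerSeries.X : R) ^ n) ≠ 0 := fun n => pow_ne_zero n PowerSeries.X_ne_zero
  have hbt0 : Algebra.discr R ⇑bt ≠ 0 := by
    intro h0
    rw [h0] at hassa
    exact hXne a ((associated_zero_iff_eq_zero _).mp hassa.symm)
  have hbS0 : Algebra.discr R ⇑bS ≠ 0 := by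
    intro h0
    rw [h0] at hassb
    exact hXne b ((associated_zero_iff_eq_zero _).mp hassb.symm)
  have hD0 : D ≠ 0 := by
    rintro h
    rw [hdiscr, h] at hbS0
    simp at hbS0
  have hord : 2 * Ring.ord R D + (a : ℕ∞) = (b : ℕ∞) := by
    have h1 : Ring.ord R (Algebra.discr R ⇑bS) = b := by
      rw [Ring.ord_eq_of_associated hassb, ord_X_pow]
    have h2 : Ring.ord R (Algebra.discr R ⇑bt) = a := by
      rw [Ring.ord_eq_of_associated hassa, ord_X_pow]
    rw [hdiscr, Ring.ord_mul R (mem_nonZeroDivisors_of_ne_zero hbt0),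
      Ring.ord_pow (mem_nonZeroDivisors_of_ne_zero hD0), h2] at h1
    rw [← h1, nsmul_eq_mul]
    rfl
  have hlen : Module.length R (St ⧸ N) = Ring.ord R D := length_quotient_eq_ord bt N bN
  refine ⟨?_, by rw [hlen]; exact hord⟩
  have hdvd : D ∣ (PowerSeries.X : R) ^ b := by
    have : D ∣ Algebra.discr R ⇑bS := ⟨D * Algebra.discr R ⇑bt, by rw [hdiscr]; ring⟩
    exact this.trans hassb.dvd
  obtain ⟨c, hc⟩ := hdvd
  intro q
  obtain ⟨m, rfl⟩ := Submodule.Quotient.mk_surjective _ q
  rw [← Submodule.Quotient.mk_smul, Submodule.Quotient.mk_eq_zero, hc, mul_comm, mul_smul]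
  exact N.smul_mem c (det_smul_mem bt N bN m)

end Main

end Groth.Agent.H87.Crimp
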