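import Groth.Prelude.Def_W4c5adicflatcomplDec
import Groth.Agent.H87.Adic
import Mathlib.RingTheory.Finiteness.Ideal

set_option autoImplicit false

namespace Groth.Agent.H87

open Submodule W4c5adicflatcompl

variable {A : Type*} [CommRing A] (I : Ideal A) (Z : Type*) (P : Type*) [AddCommGroup P] [Module A P]

/-- evaluation at a point, on decaying functions -/
def evDec (z : Z) : decaying I Z P →ₗ[A] P :=
  (LinearMap.proj z).comp (decaying I Z P).subtype

variable {I Z P}

@[simp] theorem evDec_apply (z : Z) (f : decaying I Z P) : evDec I Z P z f = (f : Z → P) z := rfl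

theorem apply_mem_of_mem_smul_top (J : Ideal A) {f : decaying I Z P}
    (hf : f ∈ (J • ⊤ : Submodule A (decaying I Z P))) (z : Z) :
    (f : Z → P) z ∈ (J • ⊤ : Submodule A P) := by
  rw [← evDec_apply]
  exact map_mem_smul_top _ (evDec I Z P z) J hf

theorem pow_smul_top_anti {m n : ℕ} (h : m ≤ n) :
    (I ^ n • ⊤ : Submodule A P) ≤ (I ^ m • ⊤ : Submodule A P) :=
  Submodule.smul_mono (Ideal.pow_le_pow_right h) le_rfl

/-- splitting elements of `I^(n+m) P` along generators of `I^n`. -/
theorem exists_split {s : ℕ} (a : Fin s → A) {n : ℕ} (ha : I ^ n = Ideal.span (Set.range a)) (m : ℕ)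
    {x : P} (hx : x ∈ (I ^ (n + m) • ⊤ : Submodule A P)) :
    ∃ h : Fin s → P, (∀ j, h j ∈ (I ^ m • ⊤ : Submodule A P)) ∧ x = ∑ j, a j • h j := by
  have hx' : x ∈ (I ^ n • (I ^ m • ⊤ : Submodule A P) : Submodule A P) := by
    rw [← Submodule.mul_smul, ← pow_add]; exact hx
  refine Submodule.smul_induction_on hx' ?_ ?_
  · intro r hr y hy
    rw [ha, Ideal.mem_span_range_iff_exists_fun] at hr
    obtain ⟨c, rfl⟩ := hr
    refine ⟨fun j => c j • y, fun j => Submodule.smul_mem _ _ hy, ?_⟩
    rw [Finset.sum_smul]
    refine Finset.sum_congr rfl fun j _ => ?_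
    rw [smul_smul, mul_comm]
  · rintro y y' ⟨h, hh, rfl⟩ ⟨h', hh', rfl⟩
    refine ⟨fun j => h j + h' j, fun j => Submodule.add_mem _ (hh j) (hh' j), ?_⟩
    simp [smul_add, Finset.sum_add_distrib]

/-- per-element choice with optimal decay -/
theorem exists_split_best [IsHausdorff I P] {s : ℕ} (a : Fin s → A) {n : ℕ}
    (ha : I ^ n = Ideal.span (Set.range a)) {x : P} (hx : x ∈ (I ^ n • ⊤ : Submodule A P)) :
    ∃ h : Fin s → P, x = ∑ j, a j • h j ∧
      ∀ m, x ∈ (I ^ (n + m) • ⊤ : Submodule A P) → ∀ j, h j ∈ (I ^ m • ⊤ : Submodule A P) := by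
  classical
  by_cases hall : ∀ m, x ∈ (I ^ (n + m) • ⊤ : Submodule A P)
  · have hx0 : x = 0 := by
      apply IsHausdorff.haus' (I := I)
      intro k
      rw [SModEq.zero]
      exact pow_smul_top_anti (Nat.le_add_left k n) (hall k)
    exact ⟨fun _ => 0, by simp [hx0], fun m _ j => Submodule.zero_mem _⟩
  · push Not at hall
    have hfind := Nat.find_spec hall
    set m₀ := Nat.find hall with hm₀
    have hm₀pos : 0 < m₀ := by
      rcases Nat.eq_zero_or_pos m₀ with h0 | h0
      · exfalso; apply hfind; rw [h0]; simpa using hx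
      · exact h0
    have hmem : x ∈ (I ^ (n + (m₀ - 1)) • ⊤ : Submodule A P) := by
      have := Nat.find_min hall (m := m₀ - 1) (by omega)
      simpa using this
    obtain ⟨h, hh, hsum⟩ := exists_split a ha (m₀ - 1) hmem
    refine ⟨h, hsum, fun m hm j => ?_⟩
    have hlt : m < m₀ := by
      by_contra hge
      push Not at hge
      exact hfind (pow_smul_top_anti (by omega) hm)
    exact pow_smul_top_anti (by omega) (hh j)

/-- (G1): a decaying function with all values in `I^n P` lies in `I^n • decaying`. -/
theorem mem_pow_smul_top_of_forall [IsHausdorff I P] {n : ℕ} (hfg : (I ^ n).FG)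
    (f : decaying I Z P) (hf : ∀ z, (f : Z → P) z ∈ (I ^ n • ⊤ : Submodule A P)) :
    f ∈ (I ^ n • ⊤ : Submodule A (decaying I Z P)) := by
  classical
  obtain ⟨s, a, ha⟩ := Submodule.fg_iff_exists_fin_generating_family.mp hfg
  have ha' : I ^ n = Ideal.span (Set.range a) := ha.symm
  choose h hsum hbest using fun z => exists_split_best a ha' (hf z)
  have hdec : ∀ j, (fun z => h z j) ∈ decaying I Z P := by
    intro j m
    refine (f.2 (n + m)).subset ?_
    intro z hz
    by_contra hcon
    simp only [Set.mem_ofPred_eq, not_not] at hcon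
    exact hz (hbest z m hcon j)
  have hfeq : f = ∑ j, a j • (⟨fun z => h z j, hdec j⟩ : decaying I Z P) := by
    apply Subtype.ext
    funext z
    rw [hsum z]
    simp [Finset.sum_apply]
  rw [hfeq]
  refine Submodule.sum_mem _ fun j _ => ?_
  refine Submodule.smul_mem_smul ?_ Submodule.mem_top
  rw [ha']
  exact Ideal.subset_span (Set.mem_range_self j)

theorem isHausdorff_decaying [IsHausdorff I P] : IsHausdorff I (decaying I Z P) := by
  refine ⟨fun x hx => ?_⟩
  ext z
  show (x : Z → P) z = 0
  apply IsHausdorff.haus' (I := I)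
  intro n
  have h := hx n
  rw [SModEq.zero] at h ⊢
  exact apply_mem_of_mem_smul_top _ h z

/-- (G2): decaying functions into a complete module form a complete module (I f.g.). -/
theorem isAdicComplete_decaying (hfg : I.FG) [IsAdicComplete I P] :
    IsAdicComplete I (decaying I Z P) := by
  have : IsHausdorff I (decaying I Z P) := isHausdorff_decaying
  refine { toIsHausdorff := inferInstance, prec' := ?_ }
  intro F hF
  -- pointwise limits
  have hpt : ∀ z, ∃ L : P, ∀ n, (F n : Z → P) z ≡ L [SMOD (I ^ n • ⊤ : Submodule A P)] := by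
    intro z
    apply IsPrecomplete.prec' (I := I)
    intro m n hmn
    have := hF hmn
    rw [SModEq.sub_mem] at this ⊢
    exact apply_mem_of_mem_smul_top _ this z
  choose L hL using hpt
  have hLdec : L ∈ decaying I Z P := by
    intro n
    refine ((F n).2 n).subset ?_
    intro z hz
    by_contra hcon
    simp only [Set.mem_ofPred_eq, not_not] at hcon
    apply hz
    have := hL z n
    rw [SModEq.sub_mem] at this
    have h2 : L z = (F n : Z → P) z - ((F n : Z → P) z - L z) := by abel
    rw [h2]
    exact Submodule.sub_mem _ hcon this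
  refine ⟨⟨L, hLdec⟩, fun n => ?_⟩
  rw [SModEq.sub_mem]
  apply mem_pow_smul_top_of_forall (Ideal.FG.pow hfg)
  intro z
  have := hL z n
  rw [SModEq.sub_mem] at this
  exact this

end Groth.Agent.H87

namespace Groth.Agent.H87

open Submodule W4c5adicflatcompl

variable {A : Type*} [CommRing A] {I : Ideal A} {Z : Type*}

/-- preimage with optimal decay along a surjection onto a Hausdorff module -/
theorem exists_best_preimage {M M'' : Type*} [AddCommGroup M] [Module A M] [AddCommGroup M'']
    [Module A M''] [IsHausdorff I M''] (φ : M →ₗ[A] M'') (hφ : Function.Surjective φ) (x : M'') :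
    ∃ y : M, φ y = x ∧ ∀ m, x ∈ (I ^ m • ⊤ : Submodule A M'') → y ∈ (I ^ m • ⊤ : Submodule A M) := by
  classical
  have hmap : ∀ J : Ideal A, Submodule.map φ (J • ⊤ : Submodule A M) = (J • ⊤ : Submodule A M'') := by
    intro J
    rw [Submodule.map_smul'', Submodule.map_top, LinearMap.range_eq_top.mpr hφ]
  by_cases hall : ∀ m, x ∈ (I ^ m • ⊤ : Submodule A M'')
  · have hx0 : x = 0 := by
      apply IsHausdorff.haus' (I := I)
      intro k
      rw [SModEq.zero]
      exact hall k
    exact ⟨0, by simp [hx0], fun m _ => Submodule.zero_mem _⟩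
  · push Not at hall
    have hfind := Nat.find_spec hall
    set m₀ := Nat.find hall with hm₀
    have hm₀pos : 0 < m₀ := by
      rcases Nat.eq_zero_or_pos m₀ with h0 | h0
      · exfalso; apply hfind; rw [h0]; simp
      · exact h0
    have hmem : x ∈ (I ^ (m₀ - 1) • ⊤ : Submodule A M'') := by
      have := Nat.find_min hall (m := m₀ - 1) (by omega)
      simpa using this
    rw [← hmap] at hmem
    obtain ⟨y, hy, hyx⟩ := hmem
    refine ⟨y, hyx, fun m hm => ?_⟩
    have hlt : m < m₀ := by
      by_contra hge
      push Not at hge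
      exact hfind (pow_smul_top_anti hge hm)
    exact pow_smul_top_anti (by omega) hy

/-- decaying functions lift along surjections onto Hausdorff modules -/
theorem exists_decaying_lift {M M'' : Type*} [AddCommGroup M] [Module A M] [AddCommGroup M'']
    [Module A M''] [IsHausdorff I M''] (φ : M →ₗ[A] M'') (hφ : Function.Surjective φ)
    (g : Z → M'') (hg : g ∈ decaying I Z M'') :
    ∃ f : Z → M, f ∈ decaying I Z M ∧ ∀ z, φ (f z) = g z := by
  choose f hf hbest using fun z => exists_best_preimage (I := I) φ hφ (g z)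
  refine ⟨f, fun n => ?_, hf⟩
  refine (hg n).subset ?_
  intro z hz hcon
  exact hz (hbest z n hcon)

end Groth.Agent.H87
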