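import Groth.Agent.H87.Dec3
import Mathlib.RingTheory.Flat.EquationalCriterion
import Mathlib.RingTheory.AdicCompletion.Functoriality

set_option autoImplicit false

namespace Groth.Agent.H87

open Submodule W4c5adicflatcompl

variable {A : Type*} [CommRing A] (I : Ideal A) (Z : Type*)

/-- pointwise composition of decaying functions with a linear map -/
def decayingMap {P Q : Type*} [AddCommGroup P] [Module A P] [AddCommGroup Q] [Module A Q]
    (e : P →ₗ[A] Q) : decaying I Z P →ₗ[A] decaying I Z Q where
  toFun f := ⟨fun z => e ((f : Z → P) z), fun n => (f.2 n).subset fun z hz hcon =>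
    hz (map_mem_smul_top _ e _ hcon)⟩
  map_add' f g := by
    apply Subtype.ext
    funext z
    simp
  map_smul' a f := by
    apply Subtype.ext
    funext z
    simp

@[simp] theorem decayingMap_apply {P Q : Type*} [AddCommGroup P] [Module A P] [AddCommGroup Q]
    [Module A Q] (e : P →ₗ[A] Q) (f : decaying I Z P) (z : Z) :
    ((decayingMap I Z e f : decaying I Z Q) : Z → Q) z = e ((f : Z → P) z) := rfl

/-- pointwise transport of decaying functions along a linear equivalence -/
def decayingCongr {P Q : Type*} [AddCommGroup P] [Module A P] [AddCommGroup Q] [Module A Q]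
    (e : P ≃ₗ[A] Q) : decaying I Z P ≃ₗ[A] decaying I Z Q :=
  LinearEquiv.ofLinearMap (decayingMap I Z e.toLinearMap) (decayingMap I Z e.symm.toLinearMap)
    (by
      apply LinearMap.ext
      intro f
      apply Subtype.ext
      funext z
      simp)
    (by
      apply LinearMap.ext
      intro f
      apply Subtype.ext
      funext z
      simp)

variable {I Z}

/-- transport of adic completeness along a linear equivalence -/
theorem isAdicComplete_of_linearEquiv {M N : Type*} [AddCommGroup M] [Module A M]
    [AddCommGroup N] [Module A N] (e : M ≃ₗ[A] N) [IsAdicComplete I M] : IsAdicComplete I N := by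
  have hH : IsHausdorff I N := by
    refine ⟨fun x hx => ?_⟩
    have : e.symm x = 0 := by
      apply IsHausdorff.haus' (I := I)
      intro n
      have h := hx n
      rw [SModEq.zero] at h ⊢
      exact map_mem_smul_top _ e.symm.toLinearMap _ h
    simpa using congrArg e this
  refine { toIsHausdorff := hH, prec' := ?_ }
  intro f hf
  have hc : ∀ {m n : ℕ}, m ≤ n →
      e.symm (f m) ≡ e.symm (f n) [SMOD (I ^ m • ⊤ : Submodule A M)] := by
    intro m n hmn
    have h := hf hmn
    rw [SModEq.sub_mem] at h ⊢
    rw [← map_sub]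
    exact map_mem_smul_top _ e.symm.toLinearMap _ h
  obtain ⟨L, hL⟩ := IsPrecomplete.prec' (I := I) (fun n => e.symm (f n)) hc
  refine ⟨e L, fun n => ?_⟩
  have h := hL n
  rw [SModEq.sub_mem] at h ⊢
  have h2 := map_mem_smul_top _ e.toLinearMap _ h
  simpa using h2

/-- flat kernel lemma: for a surjection `φ : D → M` onto a flat module, `ker φ ∩ J D = J ker φ`. -/
theorem ker_inf_smul_top_le {D M : Type*} [AddCommGroup D] [Module A D] [AddCommGroup M]
    [Module A M] [Module.Flat A M] (φ : D →ₗ[A] M) (hφ : Function.Surjective φ) (J : Ideal A) :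
    LinearMap.ker φ ⊓ (J • ⊤ : Submodule A D) ≤ J • LinearMap.ker φ := by
  classical
  rintro x ⟨hxK, hxJ⟩
  have hspan : (⊤ : Submodule A D) = span A (Set.range (id : D → D)) := by simp
  rw [SetLike.mem_coe, hspan, mem_ideal_smul_span_iff_exists_sum] at hxJ
  obtain ⟨a, ha, hsum⟩ := hxJ
  rw [Finsupp.sum] at hsum
  simp only [id] at hsum
  -- relation in M
  have hrel : ∑ i : a.support, a i • φ (i : D) = 0 := by
    have h0 : φ x = 0 := hxK
    rw [← hsum, map_sum] at h0
    rw [← h0, ← Finset.sum_coe_sort a.support]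
    simp
  obtain ⟨k, b, y, hy, hb⟩ := Module.Flat.isTrivialRelation_of_sum_smul_eq_zero hrel
  choose e he using fun j => hφ (y j)
  have hk : ∀ i : a.support, (i : D) - ∑ j, b i j • e j ∈ LinearMap.ker φ := by
    intro i
    have hyi : φ (i : D) = ∑ j, b i j • y j := hy i
    rw [LinearMap.mem_ker, map_sub, map_sum, hyi, sub_eq_zero]
    refine Finset.sum_congr rfl fun j _ => ?_
    rw [map_smul, he]
  have hx : x = ∑ i : a.support, a i • ((i : D) - ∑ j, b i j • e j) := by
    have h1 : ∑ i : a.support, a i • ∑ j, b i j • e j = 0 := by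
      simp_rw [Finset.smul_sum, smul_smul]
      rw [Finset.sum_comm]
      refine Finset.sum_eq_zero fun j _ => ?_
      rw [← Finset.sum_smul, hb j, zero_smul]
    simp_rw [smul_sub]
    rw [Finset.sum_sub_distrib, h1, sub_zero, ← hsum, ← Finset.sum_coe_sort a.support]
  rw [hx]
  exact Submodule.sum_mem _ fun i _ => Submodule.smul_mem_smul (ha i) (hk i)

/-- a submodule `K` of a Hausdorff module with `K ≤ I • K` is zero. -/
theorem eq_bot_of_le_smul {D : Type*} [AddCommGroup D] [Module A D] [IsHausdorff I D]
    (K : Submodule A D) (hK : K ≤ I • K) : K = ⊥ := by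
  have hn : ∀ n : ℕ, K ≤ I ^ n • K := by
    intro n
    induction n with
    | zero => simp
    | succ n ih =>
      calc K ≤ I • K := hK
        _ ≤ I • (I ^ n • K) := Submodule.smul_mono le_rfl ih
        _ = I ^ (n + 1) • K := by rw [← Submodule.mul_smul, ← pow_succ']
  rw [eq_bot_iff]
  intro x hx
  rw [Submodule.mem_bot]
  apply IsHausdorff.haus' (I := I)
  intro n
  rw [SModEq.zero]
  exact Submodule.smul_mono le_rfl le_top (hn n hx)

/-- the convergent-sum property determines the value on `single`. -/
theorem conv_single {M : Type*} [AddCommGroup M] [Module A M] [IsHausdorff I M] [DecidableEq Z]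
    (f : Z → M) (φ : decaying I Z A →ₗ[A] M)
    (hφ : ∀ (g : decaying I Z A) (n : ℕ), ∃ S : Finset Z,
      (∀ z, z ∉ S → (g : Z → A) z • f z ∈ (I ^ n • ⊤ : Submodule A M)) ∧
      φ g - (∑ z ∈ S, (g : Z → A) z • f z) ∈ (I ^ n • ⊤ : Submodule A M)) (z : Z) (c : A) :
    φ (single I z c) = c • f z := by
  rw [← sub_eq_zero]
  apply IsHausdorff.haus' (I := I)
  intro n
  rw [SModEq.zero]
  obtain ⟨S, hS1, hS2⟩ := hφ (single I z c) n
  by_cases hz : z ∈ S
  · rw [Finset.sum_eq_single_of_mem z hz] at hS2
    · simpa using hS2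
    · intro z' _ hne
      simp [Pi.single_eq_of_ne hne]
  · rw [Finset.sum_eq_zero] at hS2
    · have h1 := hS1 z hz
      simp only [coe_single, Pi.single_eq_same] at h1
      rw [sub_zero] at hS2
      exact Submodule.sub_mem _ hS2 h1
    · intro z' hz'
      have hne : z' ≠ z := fun h => hz (h ▸ hz')
      simp [Pi.single_eq_of_ne hne]

end Groth.Agent.H87
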