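import Mathlib.RingTheory.LocalRing.Module
import Mathlib.RingTheory.Artinian.Ring
import Mathlib.LinearAlgebra.TensorProduct.Quotient

set_option autoImplicit false
universe u v w

open TensorProduct

namespace Groth.Agent.H87.DefoAlg

variable {A : Type u} [CommRing A]

/-- nilpotent Nakayama -/
theorem eq_bot_of_le_smul {M : Type v} [AddCommGroup M] [Module A M] (I : Ideal A)
    (hI : IsNilpotent I) (N : Submodule A M) (h : N ≤ I • N) : N = ⊥ := by
  obtain ⟨n, hn⟩ := hI
  have key : ∀ j : ℕ, N ≤ I ^ j • N := by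
    intro j
    induction j with
    | zero => rw [pow_zero, Ideal.one_eq_top, Submodule.top_smul]
    | succ j ih =>
      calc N ≤ I • N := h
        _ ≤ I • (I ^ j • N) := Submodule.smul_mono le_rfl ih
        _ = I ^ (j + 1) • N := by rw [← Submodule.mul_smul, ← pow_succ']
  have := key n
  rw [hn, Ideal.zero_eq_bot, Submodule.bot_smul] at this
  exact le_bot_iff.mp this

theorem sup_smul_top {M : Type v} [AddCommGroup M] [Module A M] (I : Ideal A)
    (hI : IsNilpotent I) (R : Submodule A M) (h : ⊤ ≤ R ⊔ I • (⊤ : Submodule A M)) : R = ⊤ := by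
  obtain ⟨n, hn⟩ := hI
  have key : ∀ j : ℕ, (⊤ : Submodule A M) ≤ R ⊔ I ^ j • (⊤ : Submodule A M) := by
    intro j
    induction j with
    | zero => rw [pow_zero, Ideal.one_eq_top, Submodule.top_smul]; exact le_sup_right
    | succ j ih =>
      calc (⊤ : Submodule A M) ≤ R ⊔ I • (⊤ : Submodule A M) := h
        _ ≤ R ⊔ I • (R ⊔ I ^ j • (⊤ : Submodule A M)) :=
          sup_le_sup_left (Submodule.smul_mono le_rfl ih) _
        _ = R ⊔ (I • R ⊔ I ^ (j + 1) • (⊤ : Submodule A M)) := by
          rw [Submodule.smul_sup, ← Submodule.mul_smul, ← pow_succ']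
        _ ≤ R ⊔ I ^ (j + 1) • (⊤ : Submodule A M) := by
          refine sup_le le_sup_left (sup_le ?_ le_sup_right)
          exact le_trans Submodule.smul_le_right le_sup_left
  have := key n
  rw [hn, Ideal.zero_eq_bot, Submodule.bot_smul, sup_bot_eq] at this
  exact top_le_iff.mp this

theorem isNilpotent_maximalIdeal [IsLocalRing A] [IsArtinianRing A] :
    IsNilpotent (IsLocalRing.maximalIdeal A) := by
  have := IsArtinianRing.isNilpotent_jacobson_bot (R := A)
  rwa [IsLocalRing.jacobson_eq_maximalIdeal ⊥ bot_ne_top] at this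

theorem bijective_of_flat [IsLocalRing A] [IsArtinianRing A]
    {M : Type v} {M' : Type v} {E : Type w} [AddCommGroup M] [Module A M] [AddCommGroup M']
    [Module A M'] [AddCommGroup E] [Module.Flat A M']
    (f : M →ₗ[A] M') (π : M →+ E) (π' : M' →+ E)
    (hπ : ∀ v, π' (f v) = π v)
    (hsurj : Function.Surjective π)
    (hker : ∀ v, π v = 0 → v ∈ IsLocalRing.maximalIdeal A • (⊤ : Submodule A M))
    (hker' : ∀ v, π' v = 0 → v ∈ IsLocalRing.maximalIdeal A • (⊤ : Submodule A M')) :
    Function.Bijective f := by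
  set m := IsLocalRing.maximalIdeal A with hm
  have hnil : IsNilpotent m := isNilpotent_maximalIdeal
  -- surjectivity
  have hsurjf : Function.Surjective f := by
    rw [← LinearMap.range_eq_top]
    apply sup_smul_top m hnil
    intro v' _
    obtain ⟨v, hv⟩ := hsurj (π' v')
    have h0 : π' (v' - f v) = 0 := by rw [map_sub, hπ, hv, sub_self]
    have : v' = f v + (v' - f v) := by abel
    rw [this]
    exact Submodule.add_mem_sup (LinearMap.mem_range_self f v) (hker' _ h0)
  refine ⟨?_, hsurjf⟩
  -- injectivity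
  rw [← LinearMap.ker_eq_bot]
  set K := LinearMap.ker f with hK
  have hinj : Function.Injective (K.subtype.lTensor (A ⧸ m)) := by
    refine lTensor_injective_of_exact_of_exact_of_rTensor_injective
      (M₁ := m) (M₂ := A) (M₃ := A ⧸ m) (N₁ := K) (N₂ := M) (N₃ := M')
      (f₁ := m.subtype) (f₂ := Submodule.mkQ m) (g₁ := K.subtype) (g₂ := f)
      (LinearMap.exact_subtype_mkQ m) (Submodule.mkQ_surjective _)
      (LinearMap.exact_subtype_ker_map f) hsurjf ?_ ?_
    · exact Module.Flat.rTensor_preserves_injective_linearMap _ Subtype.val_injective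
    · exact Module.Flat.lTensor_preserves_injective_linearMap _ Subtype.val_injective
  have hKtop : (⊤ : Submodule A K) = ⊥ := by
    apply eq_bot_of_le_smul m hnil
    intro x _
    have hx0 : π x.1 = 0 := by
      rw [← hπ, LinearMap.mem_ker.mp x.2, map_zero]
    have hx1 : x.1 ∈ m • (⊤ : Submodule A M) := hker _ hx0
    have h1 : (K.subtype.lTensor (A ⧸ m)) ((1 : A ⧸ m) ⊗ₜ[A] x) = 0 := by
      rw [LinearMap.lTensor_tmul]
      apply (TensorProduct.quotTensorEquivQuotSMul M m).injective
      rw [TensorProduct.quotTensorEquivQuotSMul_mk_one_tmul, map_zero]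
      exact (Submodule.Quotient.mk_eq_zero _).mpr hx1
    have h2 : ((1 : A ⧸ m) ⊗ₜ[A] x) = 0 := hinj (by rw [h1, map_zero])
    have h3 := congrArg (TensorProduct.quotTensorEquivQuotSMul K m) h2
    rw [TensorProduct.quotTensorEquivQuotSMul_mk_one_tmul, map_zero] at h3
    exact (Submodule.Quotient.mk_eq_zero _).mp h3
  rw [eq_bot_iff]
  intro x hx
  have : (⟨x, hx⟩ : K) ∈ (⊤ : Submodule A K) := Submodule.mem_top
  rw [hKtop] at this
  have := (Submodule.mem_bot A).mp this
  exact (Submodule.mem_bot A).mpr (congrArg Subtype.val this)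

end Groth.Agent.H87.DefoAlg
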