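import Groth.Agent.S1386
import Mathlib.AlgebraicGeometry.Morphisms.Flat
import Mathlib.AlgebraicGeometry.Fiber

/-!
# Flatness of a morphism of flat schemes over a thickening is detected after base change
-/

set_option autoImplicit false
universe u

namespace Groth.Agent.H87.DeformFlat

open AlgebraicGeometry CategoryTheory Limits

theorem isIso_residueFieldMap_of_isPreimmersion {V V' : Scheme.{u}} (j : V ⟶ V')
    [IsPreimmersion j] (v : V) : IsIso (j.residueFieldMap v) := by
  rw [ConcreteCategory.isIso_iff_bijective]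
  refine ⟨(j.residueFieldMap v).hom.injective, ?_⟩
  intro y
  obtain ⟨y', rfl⟩ := IsLocalRing.residue_surjective (R := V.presheaf.stalk v) y
  obtain ⟨z, rfl⟩ := j.stalkMap_surjective v y'
  refine ⟨V'.residue (j v) z, ?_⟩
  exact congrArg (fun t => t.hom z) (Scheme.residue_residueFieldMap j v)

/-- Points of the thickened base lift to the base. -/
theorem exists_lift_fromSpecResidueField {S S' : Scheme.{u}} {iS : S ⟶ S'}
    (hS : MoreMor.IsThickening iS) (s' : S') :
    ∃ t : Spec (S'.residueField s') ⟶ S, t ≫ iS = S'.fromSpecResidueField s' := by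
  have : IsClosedImmersion iS := hS.1
  obtain ⟨s, rfl⟩ := hS.2.surj s'
  have : IsIso (iS.residueFieldMap s) := isIso_residueFieldMap_of_isPreimmersion iS s
  refine ⟨Spec.map (inv (iS.residueFieldMap s)) ≫ S.fromSpecResidueField s, ?_⟩
  rw [Category.assoc, ← Scheme.Hom.SpecMap_residueFieldMap_fromSpecResidueField,
    ← Spec.map_comp_assoc, IsIso.hom_inv_id, Spec.map_id, Category.id_comp]

theorem isPullback_fiberMap {X Y S : Scheme.{u}} (f : X ⟶ Y) (g : Y ⟶ S) (s : S) :
    IsPullback ((f ≫ g).fiberι s) (MoreMor.fiberMap f g s) f (g.fiberι s) := by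
  have h1 : MoreMor.fiberMap f g s ≫ g.fiberι s = (f ≫ g).fiberι s ≫ f :=
    pullback.lift_fst _ _ _
  have h2 : MoreMor.fiberMap f g s ≫ g.fiberToSpecResidueField s =
      (f ≫ g).fiberToSpecResidueField s := pullback.lift_snd _ _ _
  have hbig : IsPullback (MoreMor.fiberMap f g s ≫ g.fiberToSpecResidueField s) ((f ≫ g).fiberι s)
      (S.fromSpecResidueField s) (f ≫ g) := by
    rw [h2]
    exact (IsPullback.of_hasPullback (f ≫ g) (S.fromSpecResidueField s)).flip
  have hright : IsPullback (g.fiberToSpecResidueField s) (g.fiberι s)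
      (S.fromSpecResidueField s) g :=
    (IsPullback.of_hasPullback g (S.fromSpecResidueField s)).flip
  exact (IsPullback.of_right hbig h1 hright).flip

/-- The fibre maps of `f'` over the thickened base are base changes of `f`. -/
theorem flat_fiberMap {X X' Y Y' S S' : Scheme.{u}} {iX : X ⟶ X'} {iY : Y ⟶ Y'} {iS : S ⟶ S'}
    {f : X ⟶ Y} {f' : X' ⟶ Y'} {g : Y ⟶ S} {g' : Y' ⟶ S'}
    (hS : MoreMor.IsThickening iS) (hcX : IsPullback iX (f ≫ g) (f' ≫ g') iS)
    (hcY : IsPullback iY g g' iS) (w : iX ≫ f' = f ≫ iY)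
    (P : MorphismProperty Scheme.{u}) [P.IsStableUnderBaseChange] (hf : P f) (s' : S') :
    P (MoreMor.fiberMap f' g' s') := by
  have hsq : IsPullback iX f f' iY := (IsPullback.of_right hcX.flip w.symm hcY.flip).flip
  obtain ⟨t, ht⟩ := exists_lift_fromSpecResidueField hS s'
  have hc : g'.fiberι s' ≫ g' = (g'.fiberToSpecResidueField s' ≫ t) ≫ iS := by
    rw [Category.assoc, ht]
    exact g'.fiber_fac s'
  let ρ := hcY.lift (g'.fiberι s') (g'.fiberToSpecResidueField s' ≫ t) hc
  have hρ : ρ ≫ iY = g'.fiberι s' := hcY.lift_fst _ _ _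
  have BIG := isPullback_fiberMap f' g' s'
  have hc2 : (f' ≫ g').fiberι s' ≫ f' = (MoreMor.fiberMap f' g' s' ≫ ρ) ≫ iY := by
    rw [Category.assoc, hρ]
    exact BIG.w
  let σ := hsq.lift ((f' ≫ g').fiberι s') (MoreMor.fiberMap f' g' s' ≫ ρ) hc2
  have hσ1 : σ ≫ iX = (f' ≫ g').fiberι s' := hsq.lift_fst _ _ _
  have hσ2 : σ ≫ f = MoreMor.fiberMap f' g' s' ≫ ρ := hsq.lift_snd _ _ _
  have left : IsPullback σ (MoreMor.fiberMap f' g' s') f ρ := by
    refine IsPullback.of_right ?_ hσ2 hsq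
    rw [hσ1, hρ]
    exact BIG
  exact MorphismProperty.of_isPullback left hf

theorem flat_iff {X X' Y Y' S S' : Scheme.{u}} (iX : X ⟶ X') (iY : Y ⟶ Y') (iS : S ⟶ S')
    (f : X ⟶ Y) (f' : X' ⟶ Y') (g : Y ⟶ S) (g' : Y' ⟶ S')
    (hS : MoreMor.IsThickening iS) (hcX : IsPullback iX (f ≫ g) (f' ≫ g') iS)
    (hcY : IsPullback iY g g' iS)
    (w : iX ≫ f' = f ≫ iY) [Flat (f' ≫ g')] [LocallyOfFinitePresentation (f' ≫ g')]
    [LocallyOfFiniteType g'] : Flat f ↔ Flat f' := by
  have hsq : IsPullback iX f f' iY := (IsPullback.of_right hcX.flip w.symm hcY.flip).flip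
  constructor
  · intro hf
    rw [Flat.iff_flat_stalkMap]
    intro x'
    have key := (Groth.Agent.S1386.result f' g').1 x'
    have hfib : Flat (MoreMor.fiberMap f' g' (g' (f' x'))) :=
      flat_fiberMap hS hcX hcY w @Flat hf _
    exact (key.mp ⟨Flat.stalkMap (f' ≫ g') x', Flat.stalkMap _ _⟩).2
  · intro hf'
    exact MorphismProperty.of_isPullback hsq hf'

end Groth.Agent.H87.DeformFlat
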