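import Groth.Agent.H87.DeformFlat
import Groth.Agent.H25.GrpSmooth
import Groth.Agent.H25.FibreEtale
import Groth.Agent.H25.EtaleStalk

/-!
# Smoothness / étaleness of a morphism of flat schemes over a thickening after base change
-/

set_option autoImplicit false
universe u

namespace Groth.Agent.H87.DeformFlat

open AlgebraicGeometry CategoryTheory Limits

/-- Base changes of `f'` along maps factoring through `iY` are base changes of `f`. -/
theorem of_base_factor {X X' Y Y' : Scheme.{u}} {iX : X ⟶ X'} {iY : Y ⟶ Y'} {f : X ⟶ Y}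
    {f' : X' ⟶ Y'} (hsq : IsPullback iX f f' iY) (P : MorphismProperty Scheme.{u})
    [P.IsStableUnderBaseChange] (hf : P f) {T : Scheme.{u}} (a : T ⟶ Y') (a₀ : T ⟶ Y)
    (ha : a₀ ≫ iY = a) : P (pullback.snd f' a) := by
  subst ha
  have hc : pullback.fst f' (a₀ ≫ iY) ≫ f' = (pullback.snd f' (a₀ ≫ iY) ≫ a₀) ≫ iY := by
    rw [Category.assoc]
    exact pullback.condition
  let σ := hsq.lift (pullback.fst f' (a₀ ≫ iY)) (pullback.snd f' (a₀ ≫ iY) ≫ a₀) hc
  have hσ1 : σ ≫ iX = pullback.fst f' (a₀ ≫ iY) := hsq.lift_fst _ _ _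
  have hσ2 : σ ≫ f = pullback.snd f' (a₀ ≫ iY) ≫ a₀ := hsq.lift_snd _ _ _
  have left : IsPullback σ (pullback.snd f' (a₀ ≫ iY)) f a₀ := by
    refine IsPullback.of_right ?_ hσ2 hsq
    rw [hσ1]
    exact IsPullback.of_hasPullback f' (a₀ ≫ iY)
  exact MorphismProperty.of_isPullback left hf

section
variable {X X' Y Y' S S' : Scheme.{u}} (iX : X ⟶ X') (iY : Y ⟶ Y') (iS : S ⟶ S')
    (f : X ⟶ Y) (f' : X' ⟶ Y') (g : Y ⟶ S) (g' : Y' ⟶ S')
    (hS : MoreMor.IsThickening iS) (hcX : IsPullback iX (f ≫ g) (f' ≫ g') iS)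
    (hcY : IsPullback iY g g' iS) (w : iX ≫ f' = f ≫ iY)

include hS hcY in
theorem isThickening_iY : MoreMor.IsThickening iY := by
  have h1 : IsClosedImmersion iS := hS.1
  have h2 : Surjective iS := hS.2
  exact ⟨MorphismProperty.of_isPullback hcY.flip h1, MorphismProperty.of_isPullback hcY.flip h2⟩

include hS hcX hcY w in
theorem smooth_iff [Flat (f' ≫ g')] [LocallyOfFinitePresentation (f' ≫ g')]
    [LocallyOfFiniteType g'] : Smooth f ↔ Smooth f' := by
  have hsq : IsPullback iX f f' iY := (IsPullback.of_right hcX.flip w.symm hcY.flip).flip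
  constructor
  · intro hf
    have hflat : Flat f := inferInstance
    have hflat' : Flat f' := (flat_iff iX iY iS f f' g g' hS hcX hcY w).mp hflat
    have hlfp : LocallyOfFinitePresentation f' := Groth.Agent.H25.EtaleStalk.lfp_of_comp f' g'
    refine Groth.Agent.H25.GrpSmooth.smooth_of_flat_of_smooth_fibres f' fun y' => ?_
    obtain ⟨t, ht⟩ := exists_lift_fromSpecResidueField (isThickening_iY iY iS g g' hS hcY) y'
    exact of_base_factor hsq @Smooth hf (Y'.fromSpecResidueField y') t ht
  · intro hf'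
    exact MorphismProperty.of_isPullback hsq hf'

include hS hcX hcY w in
theorem etale_iff [Flat (f' ≫ g')] [LocallyOfFinitePresentation (f' ≫ g')]
    [LocallyOfFiniteType g'] : Etale f ↔ Etale f' := by
  have hsq : IsPullback iX f f' iY := (IsPullback.of_right hcX.flip w.symm hcY.flip).flip
  constructor
  · intro hf
    have hflat : Flat f := inferInstance
    have hflat' : Flat f' := (flat_iff iX iY iS f f' g g' hS hcX hcY w).mp hflat
    have hlfp : LocallyOfFinitePresentation f' := Groth.Agent.H25.EtaleStalk.lfp_of_comp f' g'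
    have h1 : LocallyOfFinitePresentation (f' ≫ 𝟙 Y') := by rw [Category.comp_id]; exact hlfp
    have h2 : Flat (f' ≫ 𝟙 Y') := by rw [Category.comp_id]; exact hflat'
    refine Groth.Agent.H25.FibreEtale.etale_of_fibres f' (𝟙 Y') fun y' => ?_
    obtain ⟨t, ht⟩ := exists_lift_fromSpecResidueField (isThickening_iY iY iS g g' hS hcY) y'
    refine of_base_factor hsq @Etale hf (Scheme.Hom.fiberι (𝟙 Y') y')
      (Scheme.Hom.fiberToSpecResidueField (𝟙 Y') y' ≫ t) ?_
    rw [Category.assoc, ht, ← Scheme.Hom.fiber_fac (𝟙 Y') y', Category.comp_id]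
  · intro hf'
    exact MorphismProperty.of_isPullback hsq hf'

end

end Groth.Agent.H87.DeformFlat
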