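import Groth.Agent.H21.EtAffineLift
import Groth.Agent.H7.EtaleLift
import Groth.Agent.H69.EtaleTopInvOver

/-!
# Lifting étale schemes along thickenings, part A (helper87)

`i : S₀ ⟶ S` is a surjective closed immersion.  A `Lift i q` of an `S₀`-scheme `q : V ⟶ S₀` is an
étale `S`-scheme `h : L ⟶ S` together with `j : V ⟶ L` making `V = L ×_S S₀`.

* `Lift.existsUnique_hom`: morphisms of `S₀`-schemes lift uniquely to morphisms of lifts.
* `Lift.isPullback_hom`, `Lift.isOpenImmersion_hom`: the lift of an open immersion is an open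
  immersion.
* `exists_lift_of_affine`: affine étale `S₀`-schemes lying over an affine open of `S` have lifts.
-/

set_option autoImplicit false
universe u
open CategoryTheory CategoryTheory.Limits AlgebraicGeometry MorphismProperty

namespace Groth.Agent.H87.EtThick

variable {S S₀ : Scheme.{u}} (i : S₀ ⟶ S)

/-- A lift of the `S₀`-scheme `q : V ⟶ S₀` to an étale `S`-scheme. -/
structure Lift {V : Scheme.{u}} (q : V ⟶ S₀) where
  /-- the lifted scheme -/
  L : Scheme.{u}
  /-- its structure morphism -/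
  h : L ⟶ S
  /-- the thickening -/
  j : V ⟶ L
  etale : Etale h
  sq : IsPullback j q h i

namespace Lift

variable {i}
variable {V V' V'' : Scheme.{u}} {q : V ⟶ S₀} {q' : V' ⟶ S₀} {q'' : V'' ⟶ S₀}

instance (A : Lift i q) : Etale A.h := A.etale

theorem isClosedImmersion_j [IsClosedImmersion i] (A : Lift i q) : IsClosedImmersion A.j :=
  MorphismProperty.of_isPullback (P := @IsClosedImmersion) A.sq.flip inferInstance

theorem surjective_j [Surjective i] (A : Lift i q) : Surjective A.j :=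
  MorphismProperty.of_isPullback (P := @Surjective) A.sq.flip inferInstance

theorem etale_q (A : Lift i q) : Etale q :=
  MorphismProperty.of_isPullback (P := @Etale) A.sq inferInstance

variable [IsClosedImmersion i] [Surjective i]

theorem existsUnique_hom (A : Lift i q) (A' : Lift i q') (a : V ⟶ V') (ha : a ≫ q' = q) :
    ∃! t : A.L ⟶ A'.L, t ≫ A'.h = A.h ∧ A.j ≫ t = a ≫ A'.j := by
  have := A.isClosedImmersion_j
  have := A.surjective_j
  refine Groth.Agent.H7.existsUnique_lift_of_etale_of_thickening A'.h A.h A.j (a ≫ A'.j) ?_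
  rw [Category.assoc, A'.sq.w, ← Category.assoc, ha, A.sq.w]

/-- The lift of a morphism. -/
noncomputable def hom (A : Lift i q) (A' : Lift i q') (a : V ⟶ V') (ha : a ≫ q' = q) :
    A.L ⟶ A'.L :=
  (existsUnique_hom A A' a ha).choose

@[reassoc]
theorem hom_h (A : Lift i q) (A' : Lift i q') (a : V ⟶ V') (ha : a ≫ q' = q) :
    hom A A' a ha ≫ A'.h = A.h :=
  (existsUnique_hom A A' a ha).choose_spec.1.1

@[reassoc]
theorem j_hom (A : Lift i q) (A' : Lift i q') (a : V ⟶ V') (ha : a ≫ q' = q) :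
    A.j ≫ hom A A' a ha = a ≫ A'.j :=
  (existsUnique_hom A A' a ha).choose_spec.1.2

theorem hom_unique (A : Lift i q) (A' : Lift i q') (a : V ⟶ V') (ha : a ≫ q' = q)
    (t : A.L ⟶ A'.L) (h1 : t ≫ A'.h = A.h) (h2 : A.j ≫ t = a ≫ A'.j) : t = hom A A' a ha :=
  (existsUnique_hom A A' a ha).choose_spec.2 t ⟨h1, h2⟩

theorem hom_id (A : Lift i q) : hom A A (𝟙 V) (Category.id_comp q) = 𝟙 A.L :=
  (hom_unique A A (𝟙 V) (Category.id_comp q) (𝟙 _) (Category.id_comp _)
    (by rw [Category.comp_id, Category.id_comp])).symm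

theorem hom_comp (A : Lift i q) (A' : Lift i q') (A'' : Lift i q'') (a : V ⟶ V') (ha : a ≫ q' = q)
    (b : V' ⟶ V'') (hb : b ≫ q'' = q') :
    hom A A' a ha ≫ hom A' A'' b hb =
      hom A A'' (a ≫ b) (by rw [Category.assoc, hb, ha]) := by
  apply hom_unique
  · rw [Category.assoc, hom_h, hom_h]
  · rw [j_hom_assoc, j_hom, Category.assoc]

theorem isPullback_hom (A : Lift i q) (A' : Lift i q') (a : V ⟶ V') (ha : a ≫ q' = q) :
    IsPullback a A.j A'.j (hom A A' a ha) := by
  refine IsPullback.of_right (h₁₂ := q') (v₁₃ := i) (h₂₂ := A'.h) ?_ (j_hom A A' a ha).symm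
    A'.sq.flip
  rw [ha, hom_h]
  exact A.sq.flip

theorem etale_hom (A : Lift i q) (A' : Lift i q') (a : V ⟶ V') (ha : a ≫ q' = q) :
    Etale (hom A A' a ha) := by
  have : Etale (hom A A' a ha ≫ A'.h) := by rw [hom_h]; infer_instance
  exact Etale.of_comp _ A'.h

theorem isOpenImmersion_hom (A : Lift i q) (A' : Lift i q') (a : V ⟶ V') (ha : a ≫ q' = q)
    [IsOpenImmersion a] : IsOpenImmersion (hom A A' a ha) := by
  have := etale_hom A A' a ha
  have hs := A'.surjective_j
  have hui : UniversallyInjective (hom A A' a ha) :=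
    of_isPullback_of_descendsAlong (P := @UniversallyInjective) (Q := @Surjective)
      (isPullback_hom A A' a ha) hs inferInstance
  have := Groth.Agent.H69.EtaleTopInv.mono_of_etale_of_universallyInjective (hom A A' a ha)
  exact IsOpenImmersion.of_flat_of_mono _

end Lift

/-- Affine étale `S₀`-schemes lying over an affine open of `S` have lifts. -/
theorem exists_lift_of_affine [IsClosedImmersion i] {Y₀ : Scheme.{u}} (q : Y₀ ⟶ S₀) [Etale q]
    (V : Y₀.Opens) (hV : IsAffineOpen V) (U : S.Opens) (hU : IsAffineOpen U)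
    (hVU : V ≤ q ⁻¹ᵁ i ⁻¹ᵁ U) : Nonempty (Lift i (V.ι ≫ q)) := by
  have hrange : Set.range (V.ι ≫ q) ⊆ Set.range (i ⁻¹ᵁ U).ι := by
    rintro _ ⟨x, rfl⟩
    rw [Scheme.Opens.range_ι]
    exact hVU x.2
  obtain ⟨φ, hφ⟩ : ∃ φ : V.toScheme ⟶ (i ⁻¹ᵁ U).toScheme, φ ≫ (i ⁻¹ᵁ U).ι = V.ι ≫ q :=
    ⟨IsOpenImmersion.lift (i ⁻¹ᵁ U).ι (V.ι ≫ q) hrange, IsOpenImmersion.lift_fac _ _ _⟩
  have hφe : Etale φ := by
    have : Etale (φ ≫ (i ⁻¹ᵁ U).ι) := by rw [hφ]; infer_instance
    exact Etale.of_comp φ (i ⁻¹ᵁ U).ι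
  have : IsAffine U.toScheme := hU
  have : IsAffine V.toScheme := hV
  obtain ⟨U', g, hg, -, b, hb⟩ := Groth.Agent.H21.EtAffineLift.exists_lift_affine (i ∣_ U) φ
  have sq2 : IsPullback (i ∣_ U) (i ⁻¹ᵁ U).ι U.ι i := isPullback_morphismRestrict i U
  have sq := hb.paste_vert sq2
  rw [hφ] at sq
  exact ⟨⟨U', g ≫ U.ι, b, inferInstance, sq⟩⟩

end Groth.Agent.H87.EtThick
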