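import Groth.Agent.H87.EtThickA
import Mathlib.AlgebraicGeometry.Cover.Directed
import Mathlib.AlgebraicGeometry.Gluing
import Mathlib.AlgebraicGeometry.Pullbacks

/-!
# Lifting étale schemes along thickenings, part B: the index category and the diagram (helper87)
-/

set_option autoImplicit false
universe u
open CategoryTheory CategoryTheory.Limits AlgebraicGeometry MorphismProperty

namespace Groth.Agent.H87.EtThick

variable {S S₀ : Scheme.{u}} (i : S₀ ⟶ S) {Y₀ : Scheme.{u}} (q : Y₀ ⟶ S₀)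

/-- Affine opens of `Y₀` lying over an affine open of `S`. -/
abbrev Idx : Type u :=
  {V : Y₀.Opens // IsAffineOpen V ∧ ∃ U : S.Opens, IsAffineOpen U ∧ V ≤ q ⁻¹ᵁ i ⁻¹ᵁ U}

theorem Idx.exists_mem_le (y : Y₀) (W : Y₀.Opens) (hy : y ∈ W) :
    ∃ V : Idx i q, y ∈ V.1 ∧ V.1 ≤ W := by
  obtain ⟨U, hU, hyU, -⟩ := exists_isAffineOpen_mem_and_subset (x := i (q y)) (U := ⊤) trivial
  have hy' : y ∈ W ⊓ q ⁻¹ᵁ i ⁻¹ᵁ U := ⟨hy, hyU⟩
  obtain ⟨V, hV, hyV, hVW⟩ := exists_isAffineOpen_mem_and_subset (x := y) hy'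
  exact ⟨⟨V, hV, U, hU, fun z hz => (hVW hz).2⟩, hyV, fun z hz => (hVW hz).1⟩

/-- The open cover of `Y₀` by the opens in `Idx`. -/
@[reducible]
def cover : Y₀.OpenCover where
  I₀ := Idx i q
  X V := V.1
  f V := V.1.ι
  mem₀ := by
    rw [Scheme.presieve₀_mem_precoverage_iff]
    refine ⟨fun y => ?_, fun _ => inferInstance⟩
    obtain ⟨V, hyV, -⟩ := Idx.exists_mem_le i q y ⊤ trivial
    exact ⟨V, ⟨y, hyV⟩, rfl⟩

instance : Preorder (cover i q).I₀ := inferInstanceAs (Preorder (Idx i q))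

noncomputable instance : Scheme.Cover.LocallyDirected (cover i q) :=
  .ofIsBasisOpensRange (by intro V V'; simp only [Scheme.Opens.opensRange_ι]; rfl) <| by
    rw [TopologicalSpace.Opens.isBasis_iff_nbhd]
    intro W y hy
    obtain ⟨V, hyV, hVW⟩ := Idx.exists_mem_le i q y W hy
    exact ⟨V.1, ⟨V, by simp only [Scheme.Opens.opensRange_ι]⟩, hyV, hVW⟩


theorem cover_trans {V V' : Idx i q} (f : V ⟶ V') :
    (cover i q).trans f = Y₀.homOfLE (leOfHom f) := by
  rw [← cancel_mono (V'.1.ι)]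
  have := (cover i q).trans_map f
  simp only at this
  rw [this, Scheme.homOfLE_ι]

variable [IsClosedImmersion i] [Surjective i] [Etale q]

/-- The chosen lift of the open `V`. -/
noncomputable def lift (V : Idx i q) : Lift i (V.1.ι ≫ q) :=
  (exists_lift_of_affine i q V.1 V.2.1 V.2.2.choose V.2.2.choose_spec.1 V.2.2.choose_spec.2).some

/-- The diagram of lifts. -/
noncomputable def diagram : Idx i q ⥤ Scheme.{u} where
  obj V := (lift i q V).L
  map {V V'} f := Lift.hom (lift i q V) (lift i q V') (Y₀.homOfLE (leOfHom f))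
    (Scheme.homOfLE_ι_assoc _ _ _)
  map_id V := by
    symm
    apply Lift.hom_unique
    · exact Category.id_comp _
    · rw [Category.comp_id, Scheme.homOfLE_rfl, Category.id_comp]
  map_comp {V V' V''} f g := by
    rw [Lift.hom_comp]
    congr 1
    exact (Scheme.homOfLE_homOfLE _ _ _).symm

/-- The thickening `V ⟶ L_V`, with target the value of the diagram. -/
noncomputable def jD (V : Idx i q) : V.1.toScheme ⟶ (diagram i q).obj V := (lift i q V).j

/-- The structure morphism `L_V ⟶ S`, with source the value of the diagram. -/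
noncomputable def hD (V : Idx i q) : (diagram i q).obj V ⟶ S := (lift i q V).h

instance (V : Idx i q) : Etale (hD i q V) := (lift i q V).etale

theorem isPullback_jD (V : Idx i q) : IsPullback (jD i q V) (V.1.ι ≫ q) (hD i q V) i :=
  (lift i q V).sq

@[reassoc]
theorem diagram_map_hD {V V' : Idx i q} (f : V ⟶ V') :
    (diagram i q).map f ≫ hD i q V' = hD i q V :=
  Lift.hom_h _ _ _ (Scheme.homOfLE_ι_assoc _ _ _)

@[reassoc]
theorem jD_diagram_map {V V' : Idx i q} (f : V ⟶ V') :
    jD i q V ≫ (diagram i q).map f = Y₀.homOfLE (leOfHom f) ≫ jD i q V' :=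
  Lift.j_hom _ _ _ (Scheme.homOfLE_ι_assoc _ _ _)

instance {V V' : Idx i q} (f : V ⟶ V') : IsOpenImmersion ((diagram i q).map f) :=
  Lift.isOpenImmersion_hom _ _ _ (Scheme.homOfLE_ι_assoc _ _ _)

instance (V : Idx i q) : IsClosedImmersion (jD i q V) := (lift i q V).isClosedImmersion_j

instance (V : Idx i q) : Surjective (jD i q V) := (lift i q V).surjective_j

end Groth.Agent.H87.EtThick
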