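import Groth.Agent.H87.EtThickB

/-!
# Lifting étale schemes along thickenings, part C: gluing (helper87)
-/

set_option autoImplicit false
universe u
open CategoryTheory CategoryTheory.Limits AlgebraicGeometry MorphismProperty

namespace Groth.Agent.H87.EtThick

theorem ι_homOfLE_apply {Y : Scheme.{u}} {U V : Y.Opens} (e : U ≤ V) (x : U.toScheme) :
    V.ι (Y.homOfLE e x) = U.ι x :=
  congr($(Y.homOfLE_ι e) x)

theorem exists_ι_eq {Y : Scheme.{u}} (U : Y.Opens) (y : Y) (hy : y ∈ U) :
    ∃ x : U.toScheme, U.ι x = y := by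
  have : y ∈ Set.range U.ι := by rw [Scheme.Opens.range_ι]; exact hy
  exact this

theorem ι_mem {Y : Scheme.{u}} (U : Y.Opens) (x : U.toScheme) : U.ι x ∈ U := by
  have : U.ι x ∈ Set.range U.ι := ⟨x, rfl⟩
  rwa [Scheme.Opens.range_ι] at this

variable {S S₀ : Scheme.{u}} (i : S₀ ⟶ S) {Y₀ : Scheme.{u}} (q : Y₀ ⟶ S₀)
variable [IsClosedImmersion i] [Surjective i] [Etale q]

theorem jD_surjective (V : Idx i q) : Function.Surjective (jD i q V) :=
  (jD i q V).surjective

theorem jD_injective (V : Idx i q) : Function.Injective (jD i q V) :=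
  (jD i q V).isClosedEmbedding.injective

theorem jD_diagram_map_apply {V V' : Idx i q} (f : V ⟶ V') (y : V.1.toScheme) :
    (diagram i q).map f (jD i q V y) = jD i q V' (Y₀.homOfLE (leOfHom f) y) :=
  congr($(jD_diagram_map i q f) y)

instance : ((diagram i q) ⋙ Scheme.forget).IsLocallyDirected where
  cond {Vi Vj Vk} fi fj xi xj h := by
    obtain ⟨yi, rfl⟩ := jD_surjective i q Vi xi
    obtain ⟨yj, rfl⟩ := jD_surjective i q Vj xj
    have h' : (diagram i q).map fi (jD i q Vi yi) = (diagram i q).map fj (jD i q Vj yj) := h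
    rw [jD_diagram_map_apply, jD_diagram_map_apply] at h'
    have h'' := jD_injective i q Vk h'
    have hval : Vi.1.ι yi = Vj.1.ι yj := by
      have := congrArg Vk.1.ι h''
      rwa [ι_homOfLE_apply, ι_homOfLE_apply] at this
    obtain ⟨Vl, hyl, hle⟩ := Idx.exists_mem_le i q (Vi.1.ι yi) (Vi.1 ⊓ Vj.1)
      ⟨ι_mem _ yi, hval ▸ ι_mem _ yj⟩
    have hli : Vl ≤ Vi := fun z hz => (hle hz).1
    have hlj : Vl ≤ Vj := fun z hz => (hle hz).2
    obtain ⟨yl, hyl'⟩ := exists_ι_eq Vl.1 _ hyl
    refine ⟨Vl, homOfLE hli, homOfLE hlj, jD i q Vl yl, ?_, ?_⟩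
    · change (diagram i q).map (homOfLE hli) (jD i q Vl yl) = _
      rw [jD_diagram_map_apply]
      congr 1
      apply Vi.1.ι.isOpenEmbedding.injective
      rw [ι_homOfLE_apply, hyl']
    · change (diagram i q).map (homOfLE hlj) (jD i q Vl yl) = _
      rw [jD_diagram_map_apply]
      congr 1
      apply Vj.1.ι.isOpenEmbedding.injective
      rw [ι_homOfLE_apply, hyl', hval]


/-- The glued scheme. -/
noncomputable abbrev glued : Scheme.{u} := colimit (diagram i q)

/-- The structure morphism of the glued scheme. -/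
noncomputable def gluedHom : glued i q ⟶ S :=
  colimit.desc (diagram i q)
    { pt := S
      ι :=
        { app := fun V => hD i q V
          naturality := fun V V' f => by
            simp only [Functor.const_obj_obj, Functor.const_obj_map, Category.comp_id]
            exact diagram_map_hD i q f } }

@[reassoc]
theorem ι_gluedHom (V : Idx i q) :
    colimit.ι (diagram i q) V ≫ gluedHom i q = hD i q V :=
  colimit.ι_desc _ _

instance : Etale (gluedHom i q) := by
  have : IsZariskiLocalAtSource @Etale.{u} :=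
    HasRingHomProperty.instIsZariskiLocalAtSource (P := @Etale)
  rw [IsZariskiLocalAtSource.iff_of_openCover (P := @Etale)
    (Scheme.IsLocallyDirected.openCover (diagram i q))]
  intro (V : Idx i q)
  change Etale (colimit.ι (diagram i q) V ≫ gluedHom i q)
  rw [ι_gluedHom]
  infer_instance

/-- The thickening `Y₀ ⟶ glued`. -/
noncomputable def gluedJ : Y₀ ⟶ glued i q :=
  (cover i q).glueMorphismsOfLocallyDirected (fun V => jD i q V ≫ colimit.ι (diagram i q) V)
    (fun {V V'} f => by
      rw [cover_trans, ← jD_diagram_map_assoc, colimit.w (diagram i q) f])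

@[reassoc]
theorem ι_gluedJ (V : Idx i q) :
    V.1.ι ≫ gluedJ i q = jD i q V ≫ colimit.ι (diagram i q) V :=
  (cover i q).map_glueMorphismsOfLocallyDirected _
    (fun {V V'} f => by
      rw [cover_trans, ← jD_diagram_map_assoc, colimit.w (diagram i q) f]) V

theorem gluedJ_gluedHom : gluedJ i q ≫ gluedHom i q = q ≫ i := by
  apply (cover i q).hom_ext
  intro V
  change V.1.ι ≫ _ = V.1.ι ≫ _
  rw [ι_gluedJ_assoc, ι_gluedHom, (isPullback_jD i q V).w, Category.assoc]

end Groth.Agent.H87.EtThick
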