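import Groth.Agent.H87.EtThickD
import Mathlib.AlgebraicGeometry.Morphisms.Finite
import Mathlib.AlgebraicGeometry.Morphisms.Integral

/-!
# Lifting étale schemes along thickenings, part E: affine and finite lifts (helper87)

* `Lift.iso`: two lifts of the same `S₀`-scheme are isomorphic.
* `isAffineHom_of_isPullback`, `isFinite_of_isPullback`: if `Y₀ = Y ×_S S₀` with `Y` étale over `S`
  and `Y₀ ⟶ S₀` is affine (finite), then so is `Y ⟶ S`.
* `exists_finite_etale_lift`.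
-/

set_option autoImplicit false
universe u
open CategoryTheory CategoryTheory.Limits AlgebraicGeometry MorphismProperty

namespace Groth.Agent.H87.EtThick

variable {S S₀ : Scheme.{u}} (i : S₀ ⟶ S)

/-- Two lifts of the same `S₀`-scheme are isomorphic. -/
noncomputable def Lift.iso [IsClosedImmersion i] [Surjective i] {V : Scheme.{u}} {q : V ⟶ S₀}
    (A A' : Lift i q) : A.L ≅ A'.L where
  hom := Lift.hom A A' (𝟙 V) (Category.id_comp q)
  inv := Lift.hom A' A (𝟙 V) (Category.id_comp q)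
  hom_inv_id := by
    rw [Lift.hom_comp, ← Lift.hom_id A]
    congr 1
  inv_hom_id := by
    rw [Lift.hom_comp, ← Lift.hom_id A']
    congr 1

/-- Affine étale `S₀`-schemes lying over an affine open of `S` have affine lifts. -/
theorem exists_affine_lift_of_affine [IsClosedImmersion i] {Y₀ : Scheme.{u}} (q : Y₀ ⟶ S₀)
    [Etale q] (V : Y₀.Opens) (hV : IsAffineOpen V) (U : S.Opens) (hU : IsAffineOpen U)
    (hVU : V ≤ q ⁻¹ᵁ i ⁻¹ᵁ U) : ∃ A : Lift i (V.ι ≫ q), IsAffine A.L := by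
  have hrange : Set.range (V.ι ≫ q) ⊆ Set.range (i ⁻¹ᵁ U).ι := by
    rintro _ ⟨x, rfl⟩
    rw [Scheme.Opens.range_ι]
    exact hVU x.2
  obtain ⟨φ, hφ⟩ : ∃ φ : V.toScheme ⟶ (i ⁻¹ᵁ U).toScheme, φ ≫ (i ⁻¹ᵁ U).ι = V.ι ≫ q :=
    ⟨IsOpenImmersion.lift (i ⁻¹ᵁ U).ι (V.ι ≫ q) hrange, IsOpenImmersion.lift_fac _ _ _⟩
  have hφe : Etale φ := by
    have : Etale (φ ≫ (i ⁻¹ᵁ U).ι) := by rw [hφ]; infer_instance
    exact Etale.of_comp φ (i ⁻¹ᵁ U).ι
  have : IsAffine U.toScheme := hU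
  have : IsAffine V.toScheme := hV
  obtain ⟨U', g, hg, hU', b, hb⟩ := Groth.Agent.H21.EtAffineLift.exists_lift_affine (i ∣_ U) φ
  have sq2 : IsPullback (i ∣_ U) (i ⁻¹ᵁ U).ι U.ι i := isPullback_morphismRestrict i U
  have sq := hb.paste_vert sq2
  rw [hφ] at sq
  exact ⟨⟨U', g ≫ U.ι, b, inferInstance, sq⟩, hU'⟩

variable [IsClosedImmersion i] [Surjective i]

/-- If `Y₀ = Y ×_S S₀` with `Y` étale over `S` and `Y₀ ⟶ S₀` affine, then `Y ⟶ S` is affine. -/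
theorem isAffineHom_of_isPullback {Y Y₀ : Scheme.{u}} {q : Y₀ ⟶ S₀} {h : Y ⟶ S} {j : Y₀ ⟶ Y}
    [Etale h] (sq : IsPullback j q h i) [IsAffineHom q] : IsAffineHom h := by
  have hq : Etale q := MorphismProperty.of_isPullback (P := @Etale) sq inferInstance
  refine ⟨fun U hU => ?_⟩
  -- the lift given by the open subscheme `h ⁻¹ᵁ U`
  have sqW : IsPullback (j ∣_ (h ⁻¹ᵁ U)) ((j ⁻¹ᵁ (h ⁻¹ᵁ U)).ι ≫ q) ((h ⁻¹ᵁ U).ι ≫ h) i :=
    (isPullback_morphismRestrict j (h ⁻¹ᵁ U)).paste_vert sq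
  let A : Lift i ((j ⁻¹ᵁ (h ⁻¹ᵁ U)).ι ≫ q) := ⟨_, _, _, inferInstance, sqW⟩
  have hVeq : j ⁻¹ᵁ (h ⁻¹ᵁ U) = q ⁻¹ᵁ (i ⁻¹ᵁ U) := by
    rw [← Scheme.Hom.comp_preimage, ← Scheme.Hom.comp_preimage, sq.w]
  have hV : IsAffineOpen (j ⁻¹ᵁ (h ⁻¹ᵁ U)) := by
    rw [hVeq]
    exact (hU.preimage i).preimage q
  obtain ⟨A', hA'⟩ := exists_affine_lift_of_affine i q (j ⁻¹ᵁ (h ⁻¹ᵁ U)) hV U hU hVeq.le
  have e : A.L ≅ A'.L := Lift.iso i A A'
  exact IsAffine.of_isIso (X := A.L) e.hom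

/-- If `Y₀ = Y ×_S S₀` with `Y` étale over `S` and `Y₀ ⟶ S₀` finite, then `Y ⟶ S` is finite. -/
theorem isFinite_of_isPullback {Y Y₀ : Scheme.{u}} {q : Y₀ ⟶ S₀} {h : Y ⟶ S} {j : Y₀ ⟶ Y}
    [Etale h] (sq : IsPullback j q h i) [IsFinite q] : IsFinite h := by
  have haff : IsAffineHom h := isAffineHom_of_isPullback i sq
  have hjs : Surjective j := MorphismProperty.of_isPullback (P := @Surjective) sq.flip inferInstance
  have huc : UniversallyClosed h := by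
    have : UniversallyClosed (j ≫ h) := by rw [sq.w]; infer_instance
    exact UniversallyClosed.of_comp_surjective j h
  rw [IsFinite.iff_isIntegralHom_and_locallyOfFiniteType]
  exact ⟨IsIntegralHom.iff_universallyClosed_and_isAffineHom.mpr ⟨huc, haff⟩, inferInstance⟩

/-- Finite étale covers lift along thickenings. -/
theorem exists_finite_etale_lift {Y₀ : Scheme.{u}} (q : Y₀ ⟶ S₀) [Etale q] [IsFinite q] :
    ∃ (Y : Scheme.{u}) (h : Y ⟶ S) (j : Y₀ ⟶ Y), Etale h ∧ IsFinite h ∧ IsPullback j q h i := by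
  obtain ⟨Y, h, j, hh, sq⟩ := exists_etale_lift i q
  exact ⟨Y, h, j, hh, isFinite_of_isPullback i sq, sq⟩

end Groth.Agent.H87.EtThick
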