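import Mathlib

/-!
# An affineness criterion for locally ringed spaces (helper87)

`isIso_toΓSpec`: a locally ringed space `Q` whose canonical map `Q ⟶ Spec Γ(Q)` is a homeomorphism
and whose sections on the basic opens `D(r)` are the localizations `Γ(Q)_r` is affine.
-/

open CategoryTheory AlgebraicGeometry Opposite TopologicalSpace PrimeSpectrum

namespace Groth.Agent.H87.FerrAffine

universe u

/-- **Affine criterion for locally ringed spaces**: if `toΓSpec` is a homeomorphism on underlying
spaces and the comparison maps on basic opens are isomorphisms, then `Q ≅ Spec Γ(Q)`. -/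
theorem isIso_toΓSpec (Q : LocallyRingedSpace.{u})
    (hbase : IsIso Q.toΓSpecBase)
    (hloc : ∀ r : LocallyRingedSpace.Γ.obj (op Q), IsIso (Q.toΓSpecCApp r)) :
    IsIso Q.toΓSpec := by
  have h1 : IsIso (LocallyRingedSpace.forgetToSheafedSpace.map Q.toΓSpec) := by
    have h2 : IsIso (SheafedSpace.forgetToPresheafedSpace.map
        (LocallyRingedSpace.forgetToSheafedSpace.map Q.toΓSpec)) := by
      have hb : IsIso (SheafedSpace.forgetToPresheafedSpace.map
        (LocallyRingedSpace.forgetToSheafedSpace.map Q.toΓSpec)).base := hbase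
      have hc : IsIso (SheafedSpace.forgetToPresheafedSpace.map
        (LocallyRingedSpace.forgetToSheafedSpace.map Q.toΓSpec)).c := by
        let F : TopCat.Sheaf CommRingCat (Spec.topObj (LocallyRingedSpace.Γ.obj (op Q))) :=
          Spec.structureSheaf (LocallyRingedSpace.Γ.obj (op Q))
        let G : TopCat.Sheaf CommRingCat (Spec.topObj (LocallyRingedSpace.Γ.obj (op Q))) :=
          (TopCat.Sheaf.pushforward _ Q.toΓSpecBase).obj Q.𝒪
        let φ : F ⟶ G := ⟨Q.toΓSpecSheafedSpace.hom.c⟩
        have hφ : IsIso φ := by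
          refine TopCat.Sheaf.isIso_iff_isIso_basis
            (B := fun r : LocallyRingedSpace.Γ.obj (op Q) => basicOpen r)
            isBasis_basic_opens ?_
          intro r
          have : φ.hom.app (op (basicOpen r)) = Q.toΓSpecCApp r :=
            Q.toΓSpecSheafedSpace_app_eq r
          rw [this]
          exact hloc r
        exact (inferInstance : IsIso ((TopCat.Sheaf.forget _ _).map φ))
      exact PresheafedSpace.isIso_of_components _
    exact isIso_of_reflects_iso _ SheafedSpace.forgetToPresheafedSpace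
  exact isIso_of_reflects_iso _ LocallyRingedSpace.forgetToSheafedSpace

/-- A ring map `ρ : R → P` inverting `r`, whose elements are fractions `ρ s / ρ r ^ n` and whose
kernel is the `r`-power torsion, exhibits `P` as the localization of `R` away from `r`. -/
theorem isLocalizationAway_of {R P : Type*} [CommRing R] [CommRing P] (ρ : R →+* P) (r : R)
    (h1 : IsUnit (ρ r))
    (h2 : ∀ s' : P, ∃ (n : ℕ) (s : R), s' * ρ r ^ n = ρ s)
    (h3 : ∀ s : R, ρ s = 0 → ∃ n : ℕ, r ^ n * s = 0) :
    @IsLocalization.Away R _ r P _ ρ.toAlgebra := by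
  let _ := ρ.toAlgebra
  refine ⟨?_, ?_, ?_⟩
  · rintro ⟨_, n, rfl⟩
    change IsUnit (ρ (r ^ n))
    rw [map_pow]
    exact h1.pow n
  · intro s'
    obtain ⟨n, s, hs⟩ := h2 s'
    exact ⟨⟨s, ⟨r ^ n, n, rfl⟩⟩, by change s' * ρ (r ^ n) = ρ s; rw [map_pow]; exact hs⟩
  · intro x y hxy
    have hxy' : ρ (x - y) = 0 := by
      change ρ x = ρ y at hxy
      rw [map_sub, hxy, sub_self]
    obtain ⟨n, hn⟩ := h3 _ hxy'
    refine ⟨⟨r ^ n, n, rfl⟩, ?_⟩
    change r ^ n * x = r ^ n * y
    rw [mul_sub] at hn
    exact sub_eq_zero.mp hn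

/-- The lift of such a `ρ` to any localization of `R` away from `r` is bijective. -/
theorem bijective_awayLift {R S P : Type*} [CommRing R] [CommRing S] [CommRing P] [Algebra R S]
    (r : R) [IsLocalization.Away r S] (ρ : R →+* P) (h1 : IsUnit (ρ r))
    (h2 : ∀ s' : P, ∃ (n : ℕ) (s : R), s' * ρ r ^ n = ρ s)
    (h3 : ∀ s : R, ρ s = 0 → ∃ n : ℕ, r ^ n * s = 0) :
    Function.Bijective (IsLocalization.Away.lift (S := S) r h1) := by
  have hloc := isLocalizationAway_of ρ r h1 h2 h3
  let _ := ρ.toAlgebra
  let e := IsLocalization.algEquiv (Submonoid.powers r) S P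
  have he : IsLocalization.Away.lift (S := S) r h1 = e.toAlgHom.toRingHom := by
    refine IsLocalization.ringHom_ext (Submonoid.powers r) ?_
    ext s
    rw [RingHom.comp_apply, RingHom.comp_apply, IsLocalization.Away.lift_eq]
    simp [e]
    rfl
  rw [he]
  exact e.bijective

set_option backward.isDefEq.respectTransparency false in
/-- The comparison map `Γ(Q)_r → Γ(Q, D(r))` is an isomorphism as soon as `Γ(Q, D(r))` consists of
fractions and the kernel of restriction is `r`-power torsion. -/
theorem isIso_toΓSpecCApp (Q : LocallyRingedSpace.{u}) (r : LocallyRingedSpace.Γ.obj (op Q))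
    (h2 : ∀ s' : Q.presheaf.obj (op (Q.toΓSpecMapBasicOpen r)),
      ∃ (n : ℕ) (s : LocallyRingedSpace.Γ.obj (op Q)),
        s' * (Q.toToΓSpecMapBasicOpen r).hom r ^ n = (Q.toToΓSpecMapBasicOpen r).hom s)
    (h3 : ∀ s : LocallyRingedSpace.Γ.obj (op Q),
      (Q.toToΓSpecMapBasicOpen r).hom s = 0 → ∃ n : ℕ, r ^ n * s = 0) :
    IsIso (Q.toΓSpecCApp r) := by
  rw [ConcreteCategory.isIso_iff_bijective]
  exact bijective_awayLift r (Q.toToΓSpecMapBasicOpen r).hom
    (Q.isUnit_res_toΓSpecMapBasicOpen r) h2 h3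

end Groth.Agent.H87.FerrAffine
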