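import Groth.Prelude.Def_EtMil
import Mathlib.RingTheory.Spectrum.Prime.Topology
import Mathlib.RingTheory.Spectrum.Prime.RingHom
import Mathlib.Topology.Category.TopCat.Limits.Basic
import Mathlib.CategoryTheory.Limits.Types.Pushouts
import Mathlib.CategoryTheory.Limits.Preserves.Shapes.Pullbacks

/-!
# Milnor squares, part 9: the spectrum of a fibre product of rings
-/

set_option autoImplicit false
universe u
open Function PrimeSpectrum CategoryTheory CategoryTheory.Limits

namespace Groth.Agent.H87.Mil9

variable {B' B A' A : Type u} [CommRing B'] [CommRing B] [CommRing A'] [CommRing A]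
  [Algebra B' B] [Algebra B' A'] [Algebra B A] [Algebra A' A] [Algebra B' A]
  [IsScalarTower B' B A] [IsScalarTower B' A' A]

omit [IsScalarTower B' B A] [IsScalarTower B' A' A] [Algebra B' A] in
theorem surjB (hsq : EtMil.IsFibreSquare B' B A' A) : Surjective (algebraMap B' B) := by
  intro b
  obtain ⟨a', ha'⟩ := hsq.1 (algebraMap B A b)
  obtain ⟨b', ⟨hb', _⟩, _⟩ := hsq.2 b a' ha'.symm
  exact ⟨b', hb'⟩

theorem comm (x : B') :
    algebraMap B A (algebraMap B' B x) = algebraMap A' A (algebraMap B' A' x) := by
  rw [← IsScalarTower.algebraMap_apply B' B A, ← IsScalarTower.algebraMap_apply B' A' A]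

theorem comap_comm (r : PrimeSpectrum A) :
    comap (algebraMap B' B) (comap (algebraMap B A) r) =
      comap (algebraMap B' A') (comap (algebraMap A' A) r) := by
  ext x
  change algebraMap B A (algebraMap B' B x) ∈ r.asIdeal ↔
    algebraMap A' A (algebraMap B' A' x) ∈ r.asIdeal
  rw [comm (B := B) (A' := A')]

theorem ext' (hsq : EtMil.IsFibreSquare B' B A' A) {x y : B'}
    (h1 : algebraMap B' B x = algebraMap B' B y) (h2 : algebraMap B' A' x = algebraMap B' A' y) :
    x = y := by
  obtain ⟨z, _, hz⟩ := hsq.2 (algebraMap B' B y) (algebraMap B' A' y) (comm y)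
  rw [hz x ⟨h1, h2⟩, hz y ⟨rfl, rfl⟩]

/-- lifting a multiple of an element of `J = ker (B' → B)` -/
theorem exists_lift_mul (hsq : EtMil.IsFibreSquare B' B A' A) (j : B')
    (hj : algebraMap B' B j = 0) (a' : A') :
    ∃ j2 : B', algebraMap B' B j2 = 0 ∧ algebraMap B' A' j2 = algebraMap B' A' j * a' := by
  have : algebraMap B A 0 = algebraMap A' A (algebraMap B' A' j * a') := by
    rw [map_zero, map_mul, ← comm (B := B) (A' := A'), hj, map_zero, zero_mul]
  obtain ⟨j2, ⟨h1, h2⟩, _⟩ := hsq.2 0 _ this
  exact ⟨j2, h1, h2⟩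

/-- primes of `B'` containing `J` come from `B` -/
theorem mem_range_comapB (hsq : EtMil.IsFibreSquare B' B A' A) (p' : PrimeSpectrum B')
    (h : ∀ j : B', algebraMap B' B j = 0 → j ∈ p'.asIdeal) :
    ∃ p : PrimeSpectrum B, comap (algebraMap B' B) p = p' := by
  have : p' ∈ Set.range (comap (algebraMap B' B)) := by
    rw [range_comap_of_surjective _ _ (surjB hsq), mem_zeroLocus]
    intro j hj
    exact h j hj
  exact this

/-- primes of `B'` not containing `J` come from `A'` -/
theorem mem_range_comapA' (hsq : EtMil.IsFibreSquare B' B A' A) (p' : PrimeSpectrum B')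
    (j : B') (hj : algebraMap B' B j = 0) (hjp : j ∉ p'.asIdeal) :
    ∃ q' : PrimeSpectrum A', comap (algebraMap B' A') q' = p' := by
  have : p' ∈ Set.range (comap (algebraMap B' A')) := by
    rw [mem_range_comap_iff]
    refine le_antisymm ?_ Ideal.le_comap_map
    intro b' hb'
    rw [Ideal.mem_comap] at hb'
    have key : ∀ x (hx : x ∈ Ideal.map (algebraMap B' A') p'.asIdeal), ∀ j0 : B',
        algebraMap B' B j0 = 0 → ∃ y ∈ p'.asIdeal, algebraMap B' B y = 0 ∧
          algebraMap B' A' y = algebraMap B' A' j0 * x := by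
      intro x hx
      refine Submodule.span_induction (p := fun x _ => ∀ j0 : B',
        algebraMap B' B j0 = 0 → ∃ y ∈ p'.asIdeal, algebraMap B' B y = 0 ∧
          algebraMap B' A' y = algebraMap B' A' j0 * x) ?_ ?_ ?_ ?_ hx
      · rintro _ ⟨p0, hp0, rfl⟩ j0 hj0
        exact ⟨j0 * p0, Ideal.mul_mem_left _ _ hp0, by rw [map_mul, hj0, zero_mul], map_mul _ _ _⟩
      · intro j0 _
        exact ⟨0, zero_mem _, map_zero _, by rw [map_zero, mul_zero]⟩
      · intro x y _ _ hx hy j0 hj0
        obtain ⟨y1, hy1, hy1', hy1''⟩ := hx j0 hj0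
        obtain ⟨y2, hy2, hy2', hy2''⟩ := hy j0 hj0
        exact ⟨y1 + y2, add_mem hy1 hy2, by rw [map_add, hy1', hy2', add_zero],
          by rw [map_add, hy1'', hy2'', mul_add]⟩
      · intro a' x _ hx j0 hj0
        obtain ⟨j2, hj2, hj2'⟩ := exists_lift_mul hsq j0 hj0 a'
        obtain ⟨y, hy, hy', hy''⟩ := hx j2 hj2
        exact ⟨y, hy, hy', by rw [hy'', hj2', smul_eq_mul, mul_assoc]⟩
    obtain ⟨y, hy, hy', hy''⟩ := key _ hb' j hj
    have : y = j * b' := by
      apply ext' hsq
      · rw [hy', map_mul, hj, zero_mul]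
      · rw [hy'', map_mul]
    rw [this] at hy
    exact (p'.isPrime.mem_or_mem hy).resolve_left hjp
  exact this

/-- outside `V(I)`, the map `Spec A' → Spec B'` is injective (one inclusion) -/
theorem le_of_comap_le (hsq : EtMil.IsFibreSquare B' B A' A) (q1 q2 : PrimeSpectrum A')
    (j : B') (hj : algebraMap B' B j = 0) (hj2 : algebraMap B' A' j ∉ q2.asIdeal)
    (h : (comap (algebraMap B' A') q1).asIdeal ≤ (comap (algebraMap B' A') q2).asIdeal) :
    q1.asIdeal ≤ q2.asIdeal := by
  intro a' ha'
  obtain ⟨j2, _, hj2'⟩ := exists_lift_mul hsq j hj a'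
  have h1 : j2 ∈ (comap (algebraMap B' A') q1).asIdeal := by
    change algebraMap B' A' j2 ∈ q1.asIdeal
    rw [hj2']
    exact Ideal.mul_mem_left _ _ ha'
  have h2 : algebraMap B' A' j2 ∈ q2.asIdeal := h h1
  rw [hj2'] at h2
  exact (q2.isPrime.mem_or_mem h2).resolve_left hj2

/-- the square of spectra is a pullback of sets -/
theorem exists_of_comap_eq (hsq : EtMil.IsFibreSquare B' B A' A) (p : PrimeSpectrum B)
    (q' : PrimeSpectrum A') (h : comap (algebraMap B' B) p = comap (algebraMap B' A') q') :
    ∃ r : PrimeSpectrum A, comap (algebraMap B A) r = p ∧ comap (algebraMap A' A) r = q' := by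
  have hq' : q' ∈ Set.range (comap (algebraMap A' A)) := by
    rw [range_comap_of_surjective _ _ hsq.1, mem_zeroLocus]
    intro i hi
    have hi0 : algebraMap A' A i = 0 := hi
    have : algebraMap B A 0 = algebraMap A' A i := by rw [map_zero, hi0]
    obtain ⟨j, ⟨hj1, hj2⟩, _⟩ := hsq.2 0 i this
    have hjp : j ∈ (comap (algebraMap B' B) p).asIdeal := by
      change algebraMap B' B j ∈ p.asIdeal
      rw [hj1]
      exact zero_mem _
    rw [h] at hjp
    have : algebraMap B' A' j ∈ q'.asIdeal := hjp
    rwa [hj2] at this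
  obtain ⟨r, hr⟩ := hq'
  refine ⟨r, ?_, hr⟩
  apply comap_injective_of_surjective _ (surjB hsq)
  rw [comap_comm (B := B) (A' := A'), hr, h]

/-- closedness can be tested on `Spec B` and `Spec A'` -/
theorem isClosed_of_preimages (hsq : EtMil.IsFibreSquare B' B A' A) (T : Set (PrimeSpectrum B'))
    (h1 : IsClosed (comap (algebraMap B' B) ⁻¹' T))
    (h2 : IsClosed (comap (algebraMap B' A') ⁻¹' T)) : IsClosed T := by
  set KB : Ideal B := vanishingIdeal (comap (algebraMap B' B) ⁻¹' T) with hKB
  set K' : Ideal A' := vanishingIdeal (comap (algebraMap B' A') ⁻¹' T) with hK'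
  have hzB : zeroLocus (KB : Set B) = comap (algebraMap B' B) ⁻¹' T := by
    rw [hKB, zeroLocus_vanishingIdeal_eq_closure, h1.closure_eq]
  have hzA' : zeroLocus (K' : Set A') = comap (algebraMap B' A') ⁻¹' T := by
    rw [hK', zeroLocus_vanishingIdeal_eq_closure, h2.closure_eq]
  set K : Ideal B' := KB.comap (algebraMap B' B) ⊓ K'.comap (algebraMap B' A') with hK
  have hT : T = zeroLocus (K : Set B') := by
    apply Set.Subset.antisymm
    · intro p' hp'
      rw [mem_zeroLocus]
      intro x hx
      have hx1 : algebraMap B' B x ∈ KB := hx.1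
      have hx2 : algebraMap B' A' x ∈ K' := hx.2
      by_cases hJ : ∀ j : B', algebraMap B' B j = 0 → j ∈ p'.asIdeal
      · obtain ⟨p, rfl⟩ := mem_range_comapB hsq p' hJ
        rw [hKB, mem_vanishingIdeal] at hx1
        exact hx1 p hp'
      · push Not at hJ
        obtain ⟨j, hj, hjp⟩ := hJ
        obtain ⟨q', rfl⟩ := mem_range_comapA' hsq p' j hj hjp
        rw [hK', mem_vanishingIdeal] at hx2
        exact hx2 q' hp'
    · intro p' hp'
      rw [mem_zeroLocus] at hp'
      by_cases hJ : ∀ j : B', algebraMap B' B j = 0 → j ∈ p'.asIdeal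
      · obtain ⟨p, rfl⟩ := mem_range_comapB hsq p' hJ
        have : p ∈ zeroLocus (KB : Set B) := by
          rw [mem_zeroLocus]
          intro b hb
          -- the image of `b` in `A` lies in the radical of the extension of `K'`
          have hrad : algebraMap B A b ∈ (Ideal.map (algebraMap A' A) K').radical := by
            rw [← vanishingIdeal_zeroLocus_eq_radical, mem_vanishingIdeal]
            intro r hr
            rw [mem_zeroLocus] at hr
            have hr' : comap (algebraMap A' A) r ∈ zeroLocus (K' : Set A') := by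
              rw [mem_zeroLocus]
              intro a' ha'
              exact hr (Ideal.mem_map_of_mem _ ha')
            rw [hzA'] at hr'
            have hr'' : comap (algebraMap B A) r ∈ comap (algebraMap B' B) ⁻¹' T := by
              change comap (algebraMap B' B) (comap (algebraMap B A) r) ∈ T
              rw [comap_comm (B := B) (A' := A')]
              exact hr'
            have hb' : b ∈ vanishingIdeal (comap (algebraMap B' B) ⁻¹' T) := hb
            rw [mem_vanishingIdeal] at hb'
            exact hb' _ hr''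
          obtain ⟨n, hn⟩ := hrad
          have hn' : algebraMap B A b ^ (n + 1) ∈ Ideal.map (algebraMap A' A) K' := by
            rw [pow_succ]
            exact Ideal.mul_mem_right _ _ hn
          rw [Ideal.mem_map_iff_of_surjective _ hsq.1] at hn'
          obtain ⟨a', ha', ha''⟩ := hn'
          have hc : algebraMap B A (b ^ (n + 1)) = algebraMap A' A a' := by
            rw [map_pow, ha'']
          obtain ⟨b', ⟨hb'1, hb'2⟩, _⟩ := hsq.2 _ _ hc
          have hb'K : b' ∈ K := by
            refine ⟨?_, ?_⟩
            · change algebraMap B' B b' ∈ KB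
              rw [hb'1]
              exact Ideal.pow_mem_of_mem _ hb _ (Nat.succ_pos n)
            · change algebraMap B' A' b' ∈ K'
              rw [hb'2]
              exact ha'
          have : algebraMap B' B b' ∈ p.asIdeal := hp' hb'K
          rw [hb'1] at this
          exact p.isPrime.mem_of_pow_mem _ this
        rw [hzB] at this
        exact this
      · push Not at hJ
        obtain ⟨j, hj, hjp⟩ := hJ
        obtain ⟨q', rfl⟩ := mem_range_comapA' hsq p' j hj hjp
        have : q' ∈ zeroLocus (K' : Set A') := by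
          rw [mem_zeroLocus]
          intro a' ha'
          obtain ⟨j2, hj2, hj2'⟩ := exists_lift_mul hsq j hj a'
          have hj2K : j2 ∈ K := by
            refine ⟨?_, ?_⟩
            · change algebraMap B' B j2 ∈ KB
              rw [hj2]
              exact zero_mem _
            · change algebraMap B' A' j2 ∈ K'
              rw [hj2']
              exact Ideal.mul_mem_left _ _ ha'
          have : algebraMap B' A' j2 ∈ q'.asIdeal := hp' hj2K
          rw [hj2'] at this
          exact (q'.isPrime.mem_or_mem this).resolve_left hjp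
        rw [hzA'] at this
        exact this
  rw [hT]
  exact isClosed_zeroLocus _

/-- the continuous map `Spec S → Spec R` as a morphism of `TopCat` -/
noncomputable abbrev specMap {R S : Type u} [CommRing R] [CommRing S] (φ : R →+* S) :
    TopCat.of (PrimeSpectrum S) ⟶ TopCat.of (PrimeSpectrum R) :=
  TopCat.ofHom (ContinuousMap.mk (PrimeSpectrum.comap φ) (PrimeSpectrum.continuous_comap _))

theorem exists_of_not_mem_range (hsq : EtMil.IsFibreSquare B' B A' A) (q : PrimeSpectrum A')
    (hq : q ∉ Set.range (comap (algebraMap A' A))) :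
    ∃ j : B', algebraMap B' B j = 0 ∧ algebraMap B' A' j ∉ q.asIdeal := by
  rw [range_comap_of_surjective _ _ hsq.1, mem_zeroLocus, Set.not_subset] at hq
  obtain ⟨i, hi, hiq⟩ := hq
  have hi0 : algebraMap A' A i = 0 := hi
  have : algebraMap B A 0 = algebraMap A' A i := by rw [map_zero, hi0]
  obtain ⟨j, ⟨hj1, hj2⟩, _⟩ := hsq.2 0 i this
  exact ⟨j, hj1, by rw [hj2]; exact hiq⟩

theorem isOpen_of_preimages (hsq : EtMil.IsFibreSquare B' B A' A) (s : Set (PrimeSpectrum B'))
    (h1 : IsOpen (comap (algebraMap B' B) ⁻¹' s))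
    (h2 : IsOpen (comap (algebraMap B' A') ⁻¹' s)) : IsOpen s := by
  rw [← isClosed_compl_iff]
  apply isClosed_of_preimages hsq
  · rw [Set.preimage_compl, isClosed_compl_iff]
    exact h1
  · rw [Set.preimage_compl, isClosed_compl_iff]
    exact h2

theorem spec_isPushout (hsq : EtMil.IsFibreSquare B' B A' A) :
    IsPushout (specMap (algebraMap B A)) (specMap (algebraMap A' A))
      (specMap (algebraMap B' B)) (specMap (algebraMap B' A')) := by
  have w : specMap (algebraMap B A) ≫ specMap (algebraMap B' B) =
      specMap (algebraMap A' A) ≫ specMap (algebraMap B' A') := by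
    refine TopCat.hom_ext (ContinuousMap.ext fun r => ?_)
    exact comap_comm (B' := B') (B := B) (A' := A') r
  refine ⟨⟨w⟩, ?_⟩
  -- the set-level pushout
  have hT : IsPushout ((forget TopCat).map (specMap (algebraMap B A)))
      ((forget TopCat).map (specMap (algebraMap A' A)))
      ((forget TopCat).map (specMap (algebraMap B' B)))
      ((forget TopCat).map (specMap (algebraMap B' A'))) := by
    have hpb : IsPullback ((forget TopCat).map (specMap (algebraMap B A)))
        ((forget TopCat).map (specMap (algebraMap A' A)))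
        ((forget TopCat).map (specMap (algebraMap B' B)))
        ((forget TopCat).map (specMap (algebraMap B' A'))) := by
      rw [Types.isPullback_iff]
      refine ⟨by rw [← Functor.map_comp, ← Functor.map_comp, w], ?_, ?_⟩
      · rintro x y ⟨_, h2⟩
        exact comap_injective_of_surjective _ hsq.1 h2
      · intro p q' h
        exact exists_of_comap_eq hsq p q' h
    have : Mono ((forget TopCat).map (specMap (algebraMap B' B))) := by
      rw [mono_iff_injective]
      exact comap_injective_of_surjective _ (surjB hsq)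
    refine Types.isPushout_of_isPullback_of_mono' hpb ?_ ?_
    · rw [Set.eq_univ_iff_forall]
      intro p'
      by_cases hJ : ∀ j : B', algebraMap B' B j = 0 → j ∈ (show PrimeSpectrum B' from p').asIdeal
      · obtain ⟨p, hp⟩ := mem_range_comapB hsq p' hJ
        exact Or.inl ⟨p, hp⟩
      · push Not at hJ
        obtain ⟨j, hj, hjp⟩ := hJ
        obtain ⟨q', hq'⟩ := mem_range_comapA' hsq p' j hj hjp
        exact Or.inr ⟨q', hq'⟩
    · intro q1 q2 hq1 hq2 h
      obtain ⟨j1, hj1, hj1'⟩ := exists_of_not_mem_range hsq q1 hq1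
      obtain ⟨j2, hj2, hj2'⟩ := exists_of_not_mem_range hsq q2 hq2
      have h' : comap (algebraMap B' A') q1 = comap (algebraMap B' A') q2 := h
      exact PrimeSpectrum.ext (le_antisymm (le_of_comap_le hsq q1 q2 j2 hj2 hj2' (by rw [h']))
        (le_of_comap_le hsq q2 q1 j1 hj1 hj1' (by rw [h'])))
  have hc : IsColimit ((forget TopCat).mapCocone (PushoutCocone.mk _ _ w)) :=
    (isColimitMapCoconePushoutCoconeEquiv (forget TopCat) w).symm hT.isColimit
  rw [TopCat.nonempty_isColimit_iff_eq_coinduced _ hc]
  apply le_antisymm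
  · intro s hs
    rw [isOpen_iSup_iff] at hs
    have h1 := hs WalkingSpan.left
    have h2 := hs WalkingSpan.right
    rw [isOpen_coinduced] at h1 h2
    exact isOpen_of_preimages hsq s h1 h2
  · refine iSup_le fun j => ?_
    exact ((PushoutCocone.mk _ _ w).ι.app j).hom.continuous.coinduced_le

end Groth.Agent.H87.Mil9
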