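import Mathlib
import Groth.Agent.H87.Mil9

/-!
# Fibre squares of rings in bundled form (helper87)

`IsFibSq p q f g` says `R = A ×_C B` via `p : R → A`, `q : R → B`, `f : A → C`, `g : B → C`.
Spec-level consequences (from `Groth.Agent.H87.Mil9`) in bundled form, and the fact that a fibre
square of localizations of a fibre square is the localization (`IsFibSq.away`).
-/

set_option autoImplicit false
set_option linter.style.haveILetI false
universe u
open PrimeSpectrum

namespace Groth.Agent.H87.FerrAlg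

/-- `R = A ×_C B` (no surjectivity assumed). -/
structure IsFibSq {R A B C : Type*} [CommRing R] [CommRing A] [CommRing B] [CommRing C]
    (p : R →+* A) (q : R →+* B) (f : A →+* C) (g : B →+* C) : Prop where
  comm : ∀ r, f (p r) = g (q r)
  ext : ∀ r r', p r = p r' → q r = q r' → r = r'
  glue : ∀ a b, f a = g b → ∃ r, p r = a ∧ q r = b

/-- every element of the target is a fraction `ρ s / ρ r ^ n` -/
def IsFrac {R R' : Type*} [CommRing R] [CommRing R'] (ρ : R →+* R') (r : R) : Prop :=
  ∀ s' : R', ∃ (n : ℕ) (s : R), s' * ρ r ^ n = ρ s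

/-- the kernel consists of `r`-power torsion -/
def IsTors {R R' : Type*} [CommRing R] [CommRing R'] (ρ : R →+* R') (r : R) : Prop :=
  ∀ s : R, ρ s = 0 → ∃ n : ℕ, r ^ n * s = 0

section Away

variable {R A B C R' A' B' C' : Type*} [CommRing R] [CommRing A] [CommRing B] [CommRing C]
  [CommRing R'] [CommRing A'] [CommRing B'] [CommRing C']
  {p : R →+* A} {q : R →+* B} {f : A →+* C} {g : B →+* C}
  {p' : R' →+* A'} {q' : R' →+* B'} {f' : A' →+* C'} {g' : B' →+* C'}

/-- A fibre square whose corners are localizations (away from the images of `r`) of the corners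
of a fibre square `R = A ×_C B` has vertex the localization of `R` away from `r`. -/
theorem IsFibSq.away (h : IsFibSq p q f g) (h' : IsFibSq p' q' f' g')
    (ρ : R →+* R') (α : A →+* A') (β : B →+* B') (γ : C →+* C')
    (hpα : ∀ r, p' (ρ r) = α (p r)) (hqβ : ∀ r, q' (ρ r) = β (q r))
    (hfγ : ∀ a, f' (α a) = γ (f a)) (hgγ : ∀ b, g' (β b) = γ (g b)) (r : R)
    (hα2 : IsFrac α (p r)) (hα3 : IsTors α (p r)) (hβ2 : IsFrac β (q r)) (hβ3 : IsTors β (q r))
    (hγ3 : IsTors γ (f (p r))) : IsFrac ρ r ∧ IsTors ρ r := by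
  constructor
  · intro s'
    obtain ⟨n, x, hx⟩ := hα2 (p' s')
    obtain ⟨m, y, hy⟩ := hβ2 (q' s')
    -- common exponent `n + m`
    have hx' : p' s' * α (p r) ^ (n + m) = α (p r ^ m * x) := by
      rw [map_mul, map_pow, ← hx, pow_add]; ring
    have hy' : q' s' * β (q r) ^ (n + m) = β (q r ^ n * y) := by
      rw [map_mul, map_pow, ← hy, pow_add]; ring
    have hC : γ (f (p r ^ m * x) - g (q r ^ n * y)) = 0 := by
      rw [map_sub, ← hfγ, ← hgγ, ← hx', ← hy', map_mul, map_mul, map_pow, map_pow, hfγ, hgγ,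
        h'.comm s', h.comm r, sub_self]
    obtain ⟨k, hk⟩ := hγ3 _ hC
    have hglue : f (p r ^ k * (p r ^ m * x)) = g (q r ^ k * (q r ^ n * y)) := by
      rw [mul_sub, sub_eq_zero] at hk
      rw [map_mul, map_mul g, map_pow, map_pow g, ← h.comm r, hk]
    obtain ⟨s, hs1, hs2⟩ := h.glue _ _ hglue
    refine ⟨k + (n + m), s, ?_⟩
    apply h'.ext
    · rw [hpα, hs1, map_mul, map_pow, hpα, map_mul, map_pow, ← hx', pow_add]; ring
    · rw [hqβ, hs2, map_mul, map_pow, hqβ, map_mul, map_pow, ← hy', pow_add]; ring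
  · intro s hs
    have h1 : α (p s) = 0 := by rw [← hpα, hs, map_zero]
    have h2 : β (q s) = 0 := by rw [← hqβ, hs, map_zero]
    obtain ⟨n, hn⟩ := hα3 _ h1
    obtain ⟨m, hm⟩ := hβ3 _ h2
    refine ⟨n + m, ?_⟩
    apply h.ext
    · rw [map_mul, map_pow, map_zero, pow_add, mul_comm (p r ^ n), mul_assoc, hn, mul_zero]
    · rw [map_mul, map_pow, map_zero, pow_add, mul_assoc, hm, mul_zero]

end Away

section Spec

variable {R A B C : Type u} [CommRing R] [CommRing A] [CommRing B] [CommRing C]
  {p : R →+* A} {q : R →+* B} {f : A →+* C} {g : B →+* C}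

/-- `q` is surjective when `f` is. -/
theorem IsFibSq.surjective_q (h : IsFibSq p q f g) (hf : Function.Surjective f) :
    Function.Surjective q := by
  intro b
  obtain ⟨a, ha⟩ := hf (g b)
  obtain ⟨r, _, hr⟩ := h.glue a b ha
  exact ⟨r, hr⟩

/-- conversion to the prelude's unbundled Milnor squares -/
theorem IsFibSq.toEtMil (h : IsFibSq p q f g) (hf : Function.Surjective f) :
    @EtMil.IsFibreSquare R B A C _ _ _ _ q.toAlgebra p.toAlgebra g.toAlgebra f.toAlgebra := by
  letI := q.toAlgebra
  letI := p.toAlgebra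
  letI := g.toAlgebra
  letI := f.toAlgebra
  refine ⟨hf, fun b a hab => ?_⟩
  obtain ⟨r, hr1, hr2⟩ := h.glue a b hab.symm
  exact ⟨r, ⟨hr2, hr1⟩, fun r' hr' => h.ext _ _ (hr'.2.trans hr1.symm) (hr'.1.trans hr2.symm)⟩

end Spec

section Spec2

variable {R A B C : Type u} [CommRing R] [CommRing A] [CommRing B] [CommRing C]
  {p : R →+* A} {q : R →+* B} {f : A →+* C} {g : B →+* C}

/-- every prime of `R = A ×_C B` comes from `B` or from `A` -/
theorem IsFibSq.spec_cases (h : IsFibSq p q f g) (hf : Function.Surjective f)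
    (x : PrimeSpectrum R) :
    (∃ y : PrimeSpectrum B, comap q y = x) ∨ (∃ y : PrimeSpectrum A, comap p y = x) := by
  letI := q.toAlgebra; letI := p.toAlgebra; letI := g.toAlgebra; letI := f.toAlgebra
  letI := (f.comp p).toAlgebra
  haveI : IsScalarTower R B C := IsScalarTower.of_algebraMap_eq (fun r => h.comm r)
  haveI : IsScalarTower R A C := IsScalarTower.of_algebraMap_eq (fun r => rfl)
  have hsq := h.toEtMil hf
  by_cases hx : ∀ j : R, q j = 0 → j ∈ x.asIdeal
  · exact Or.inl (Mil9.mem_range_comapB hsq x hx)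
  · push Not at hx
    obtain ⟨j, hj, hjx⟩ := hx
    exact Or.inr (Mil9.mem_range_comapA' hsq x j hj hjx)

/-- the square of spectra is a pullback of sets -/
theorem IsFibSq.spec_pullback (h : IsFibSq p q f g) (hf : Function.Surjective f)
    (y : PrimeSpectrum B) (x : PrimeSpectrum A) (hxy : comap q y = comap p x) :
    ∃ z : PrimeSpectrum C, comap g z = y ∧ comap f z = x := by
  letI := q.toAlgebra; letI := p.toAlgebra; letI := g.toAlgebra; letI := f.toAlgebra
  letI := (f.comp p).toAlgebra
  haveI : IsScalarTower R B C := IsScalarTower.of_algebraMap_eq (fun r => h.comm r)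
  haveI : IsScalarTower R A C := IsScalarTower.of_algebraMap_eq (fun r => rfl)
  exact Mil9.exists_of_comap_eq (h.toEtMil hf) y x hxy

/-- `Spec A → Spec R` is injective outside the image of `Spec C` -/
theorem IsFibSq.spec_inj_A (h : IsFibSq p q f g) (hf : Function.Surjective f)
    (x x' : PrimeSpectrum A) (hx : x ∉ Set.range (comap f)) (hx' : x' ∉ Set.range (comap f))
    (hxx' : comap p x = comap p x') : x = x' := by
  letI := q.toAlgebra; letI := p.toAlgebra; letI := g.toAlgebra; letI := f.toAlgebra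
  letI := (f.comp p).toAlgebra
  haveI : IsScalarTower R B C := IsScalarTower.of_algebraMap_eq (fun r => h.comm r)
  haveI : IsScalarTower R A C := IsScalarTower.of_algebraMap_eq (fun r => rfl)
  have hsq := h.toEtMil hf
  obtain ⟨j, hj, hjx⟩ := Mil9.exists_of_not_mem_range hsq x hx
  obtain ⟨j', hj', hjx'⟩ := Mil9.exists_of_not_mem_range hsq x' hx'
  apply PrimeSpectrum.ext
  exact le_antisymm (Mil9.le_of_comap_le hsq x x' j' hj' hjx' (le_of_eq (congrArg _ hxx')))
    (Mil9.le_of_comap_le hsq x' x j hj hjx (le_of_eq (congrArg _ hxx'.symm)))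

/-- closedness in `Spec R` can be tested on `Spec B` and `Spec A` -/
theorem IsFibSq.spec_isClosed (h : IsFibSq p q f g) (hf : Function.Surjective f)
    (T : Set (PrimeSpectrum R)) (h1 : IsClosed (comap q ⁻¹' T)) (h2 : IsClosed (comap p ⁻¹' T)) :
    IsClosed T := by
  letI := q.toAlgebra; letI := p.toAlgebra; letI := g.toAlgebra; letI := f.toAlgebra
  letI := (f.comp p).toAlgebra
  haveI : IsScalarTower R B C := IsScalarTower.of_algebraMap_eq (fun r => h.comm r)
  haveI : IsScalarTower R A C := IsScalarTower.of_algebraMap_eq (fun r => rfl)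
  exact Mil9.isClosed_of_preimages (h.toEtMil hf) T h1 h2

end Spec2

end Groth.Agent.H87.FerrAlg
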