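import Mathlib

/-!
# Avoiding the fibre of an integral ring map (helper87)

`exists_notMem_of_liesOver`: for `B → C` integral, a prime `𝔮` of `B` and a ring map `ρ : R → C`
which is locally (along `s₁, …, s_m ∈ R` generating the unit ideal of `C`) a localization, some
element of `(s₁, …, s_m) ⊆ R` does not vanish at any prime of `C` over `𝔮` (a substitute for prime
avoidance for the possibly infinite fibre, using that the fibre ring is zero-dimensional).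
-/

set_option autoImplicit false
open Polynomial TensorProduct

namespace Groth.Agent.H87.FerrAvoid

/-- In an algebra integral over a field, the complement of a basic open is a basic open. -/
theorem exists_compl_of_isIntegral {κ K : Type*} [Field κ] [CommRing K] [Algebra κ K]
    [Algebra.IsIntegral κ K] (x : K) :
    ∃ x' : K, ∀ 𝔭 : Ideal K, 𝔭.IsPrime → (x ∈ 𝔭 ↔ x' ∉ 𝔭) := by
  obtain ⟨p, hpm, hp⟩ := Algebra.IsIntegral.isIntegral (R := κ) x
  have hp0 : p ≠ 0 := hpm.ne_zero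
  obtain ⟨q, hq, hqd⟩ := Polynomial.exists_eq_pow_rootMultiplicity_mul_and_not_dvd p hp0 0
  rw [map_zero, sub_zero] at hq hqd
  have hq0 : q.coeff 0 ≠ 0 := fun h0 => hqd (Polynomial.X_dvd_iff.mpr h0)
  have hx0 : x ^ (rootMultiplicity 0 p) * aeval x q = 0 := by
    have := hp
    rw [← Polynomial.aeval_def, hq, map_mul, map_pow, aeval_X] at this
    exact this
  have hdiv : aeval x q = aeval x q.divX * x + algebraMap κ K (q.coeff 0) := by
    conv_lhs => rw [← Polynomial.divX_mul_X_add q]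
    rw [map_add, map_mul, aeval_X, aeval_C]
  refine ⟨aeval x q, fun 𝔭 h𝔭 => ⟨fun hx hx' => ?_, fun hx' => ?_⟩⟩
  · have h1 : algebraMap κ K (q.coeff 0) ∈ 𝔭 := by
      have h2 : algebraMap κ K (q.coeff 0) = aeval x q - aeval x q.divX * x := by
        rw [hdiv]; ring
      rw [h2]
      exact 𝔭.sub_mem hx' (𝔭.mul_mem_left _ hx)
    have hu : IsUnit (algebraMap κ K (q.coeff 0)) := (IsUnit.mk0 _ hq0).map _
    exact h𝔭.ne_top (Ideal.eq_top_of_isUnit_mem _ h1 hu)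
  · by_contra hx
    have h1 : x ^ (rootMultiplicity 0 p) * aeval x q ∈ 𝔭 := by
      rw [hx0]; exact 𝔭.zero_mem
    rcases h𝔭.mem_or_mem h1 with h2 | h2
    · exact hx (h𝔭.mem_of_pow_mem _ h2)
    · exact hx' h2

/-- **Avoidance in zero-dimensional fibres.** Let `ψ : R → K` with `K` "zero-dimensional" (the
complement of a basic open is a basic open). Let `s₁, …, s_m ∈ R` be such that the `D(ψ s_k)` cover
`Spec K` and every basic open of `Spec K` inside `D(ψ s_k)` is `D(ψ a)` for some `a ∈ R`. Then some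
`e ∈ (s₁, …, s_m)` maps to a unit of `K`. -/
theorem exists_isUnit_of_cover {R K : Type*} [CommRing R] [CommRing K] (ψ : R →+* K)
    (hcpl : ∀ x : K, ∃ x' : K, ∀ 𝔭 : PrimeSpectrum K, x ∈ 𝔭.asIdeal ↔ x' ∉ 𝔭.asIdeal)
    (l : List R)
    (H : ∀ s ∈ l, ∀ k : K, ∃ a : R, ∀ 𝔭 : PrimeSpectrum K,
      ψ a ∉ 𝔭.asIdeal ↔ (k ∉ 𝔭.asIdeal ∧ ψ s ∉ 𝔭.asIdeal))
    (hcov : ∀ 𝔭 : PrimeSpectrum K, ∃ s ∈ l, ψ s ∉ 𝔭.asIdeal) :
    ∃ e ∈ Ideal.span {s | s ∈ l}, IsUnit (ψ e) := by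
  -- the inductive statement
  have key : ∀ l : List R, (∀ s ∈ l, ∀ k : K, ∃ a : R, ∀ 𝔭 : PrimeSpectrum K,
      ψ a ∉ 𝔭.asIdeal ↔ (k ∉ 𝔭.asIdeal ∧ ψ s ∉ 𝔭.asIdeal)) →
      ∀ k : K, (∀ 𝔭 : PrimeSpectrum K, k ∉ 𝔭.asIdeal → ∃ s ∈ l, ψ s ∉ 𝔭.asIdeal) →
      ∃ e ∈ Ideal.span {s | s ∈ l}, ∀ 𝔭 : PrimeSpectrum K, k ∉ 𝔭.asIdeal → ψ e ∉ 𝔭.asIdeal := by
    intro l
    induction l with
    | nil =>
      intro _ k hk
      refine ⟨0, Ideal.zero_mem _, fun 𝔭 h𝔭 => ?_⟩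
      obtain ⟨s, hs, -⟩ := hk 𝔭 h𝔭
      simp at hs
    | cons s l ih =>
      intro H k hk
      obtain ⟨s', hs'⟩ := hcpl (ψ s)
      -- `E₁ = D(k) \ D(ψ s) = D(k * s')`
      obtain ⟨e₁, he₁, he₁'⟩ := ih (fun t ht => H t (List.mem_cons_of_mem _ ht)) (k * s') (by
        intro 𝔭 h𝔭
        have hk𝔭 : k ∉ 𝔭.asIdeal := fun hh => h𝔭 (Ideal.mul_mem_right _ _ hh)
        have hs𝔭 : ψ s ∈ 𝔭.asIdeal := by
          rw [hs' 𝔭]
          exact fun hh => h𝔭 (Ideal.mul_mem_left _ _ hh)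
        obtain ⟨t, ht, ht'⟩ := hk 𝔭 hk𝔭
        rcases List.mem_cons.mp ht with rfl | ht2
        · exact (ht' hs𝔭).elim
        · exact ⟨t, ht2, ht'⟩)
      obtain ⟨e₁', he₁c⟩ := hcpl (ψ e₁)
      -- `E₂ = D(k) \ D(ψ e₁) = D(k * e₁') ⊆ D(ψ s)`
      obtain ⟨a, ha⟩ := H s (List.mem_cons_self ..) (k * e₁')
      refine ⟨e₁ + a * s, ?_, fun 𝔭 h𝔭 => ?_⟩
      · refine Ideal.add_mem _ ?_ ?_
        · exact Ideal.span_mono (fun t ht => List.mem_cons_of_mem _ ht) he₁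
        · exact Ideal.mul_mem_left _ _ (Ideal.subset_span (List.mem_cons_self ..))
      · by_cases h1 : ψ e₁ ∈ 𝔭.asIdeal
        · -- `𝔭 ∈ E₂`
          have h2 : e₁' ∉ 𝔭.asIdeal := (he₁c 𝔭).mp h1
          have h3 : k * e₁' ∉ 𝔭.asIdeal := fun hh =>
            (𝔭.isPrime.mem_or_mem hh).elim h𝔭 h2
          have h4 : ψ s ∉ 𝔭.asIdeal := by
            by_contra h5
            have h6 : s' ∉ 𝔭.asIdeal := (hs' 𝔭).mp h5
            have h7 : k * s' ∉ 𝔭.asIdeal := fun hh => (𝔭.isPrime.mem_or_mem hh).elim h𝔭 h6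
            exact he₁' 𝔭 h7 h1
          have h5 : ψ a ∉ 𝔭.asIdeal := (ha 𝔭).mpr ⟨h3, h4⟩
          intro hh
          rw [map_add, map_mul] at hh
          have h6 : ψ a * ψ s ∈ 𝔭.asIdeal := by
            have := 𝔭.asIdeal.sub_mem hh h1
            rwa [add_sub_cancel_left] at this
          exact (𝔭.isPrime.mem_or_mem h6).elim h5 h4
        · -- `𝔭 ∉ E₂`, so `ψ a ∈ 𝔭`
          have h2 : e₁' ∈ 𝔭.asIdeal := by
            by_contra h3
            exact h1 ((he₁c 𝔭).mpr h3)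
          have h3 : ψ a ∈ 𝔭.asIdeal := by
            by_contra h4
            exact ((ha 𝔭).mp h4).1 (Ideal.mul_mem_left _ _ h2)
          intro hh
          rw [map_add, map_mul] at hh
          have h4 : ψ e₁ ∈ 𝔭.asIdeal := by
            have := 𝔭.asIdeal.sub_mem hh (Ideal.mul_mem_right (ψ s) _ h3)
            rwa [add_sub_cancel_right] at this
          exact h1 h4
  obtain ⟨e, he, he'⟩ := key l H 1 (fun 𝔭 _ => hcov 𝔭)
  refine ⟨e, he, ?_⟩
  by_contra hu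
  obtain ⟨M, hM, hMe⟩ := exists_max_ideal_of_mem_nonunits (show ψ e ∈ nonunits K from hu)
  exact he' ⟨M, hM.isPrime⟩ (fun h1 => hM.ne_top ((Ideal.eq_top_iff_one _).mpr h1)) hMe

/-- **Avoiding a fibre of an integral ring map.** `B → C` integral, `𝔮` a prime of `B`, and
`ρ : R → C` a ring map which is "locally a localization" along elements `s ∈ l` whose images
generate the unit ideal of `C`. Then some `e ∈ (l)` is nonzero at all primes of `C` over `𝔮`. -/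
theorem exists_notMem_of_liesOver {B C R : Type*} [CommRing B] [CommRing C] [CommRing R]
    [Algebra B C] [Algebra.IsIntegral B C] (𝔮 : Ideal B) [𝔮.IsPrime] (ρ : R →+* C) (l : List R)
    (hcov : Ideal.span {c | ∃ s ∈ l, ρ s = c} = ⊤)
    (hloc : ∀ s ∈ l, ∀ c : C, ∃ (a₀ : R) (N M : ℕ), ρ s ^ M * ρ a₀ = ρ s ^ (M + N) * c) :
    ∃ e ∈ Ideal.span {s | s ∈ l}, ∀ 𝔭 : Ideal C, 𝔭.IsPrime →
      𝔭.comap (algebraMap B C) = 𝔮 → ρ e ∉ 𝔭 := by
  let K := 𝔮.Fiber C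
  let ι : C →+* K := (Algebra.TensorProduct.includeRight (R := B) (A := 𝔮.ResidueField)
    (B := C)).toRingHom
  let ψ : R →+* K := ι.comp ρ
  have hcpl : ∀ x : K, ∃ x' : K, ∀ 𝔭 : PrimeSpectrum K, x ∈ 𝔭.asIdeal ↔ x' ∉ 𝔭.asIdeal := by
    intro x
    obtain ⟨x', hx'⟩ := exists_compl_of_isIntegral (κ := 𝔮.ResidueField) x
    exact ⟨x', fun 𝔭 => hx' 𝔭.asIdeal 𝔭.isPrime⟩
  have hH : ∀ s ∈ l, ∀ k : K, ∃ a : R, ∀ 𝔭 : PrimeSpectrum K,
      ψ a ∉ 𝔭.asIdeal ↔ (k ∉ 𝔭.asIdeal ∧ ψ s ∉ 𝔭.asIdeal) := by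
    intro s hs k
    obtain ⟨r, hr, c, hrc⟩ := Ideal.Fiber.exists_smul_eq_one_tmul 𝔮 k
    obtain ⟨a₀, N, M, ha₀⟩ := hloc s hs c
    have hru : IsUnit (algebraMap B K r) := by
      have h1 : algebraMap B K r = algebraMap 𝔮.ResidueField K (algebraMap B 𝔮.ResidueField r) :=
        IsScalarTower.algebraMap_apply B 𝔮.ResidueField K r
      rw [h1]
      refine IsUnit.map _ (IsUnit.mk0 _ ?_)
      rwa [Ne, Ideal.algebraMap_residueField_eq_zero]
    have hk : ∀ 𝔭 : PrimeSpectrum K, k ∈ 𝔭.asIdeal ↔ ι c ∈ 𝔭.asIdeal := by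
      intro 𝔭
      have h1 : ι c = algebraMap B K r * k := by
        rw [← Algebra.smul_def, hrc]
        rfl
      rw [h1]
      constructor
      · intro hh
        exact Ideal.mul_mem_left _ _ hh
      · intro hh
        rcases 𝔭.isPrime.mem_or_mem hh with h2 | h2
        · exact (𝔭.isPrime.ne_top (Ideal.eq_top_of_isUnit_mem _ h2 hru)).elim
        · exact h2
    have hrel : ψ s ^ M * ψ a₀ = ψ s ^ (M + N) * ι c := by
      have := congrArg ι ha₀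
      simpa [ψ, map_mul, map_pow] using this
    refine ⟨a₀ * s, fun 𝔭 => ?_⟩
    rw [hk 𝔭, map_mul]
    constructor
    · intro hh
      have h1 : ψ s ∉ 𝔭.asIdeal := fun h2 => hh (Ideal.mul_mem_left _ _ h2)
      have h2 : ψ a₀ ∉ 𝔭.asIdeal := fun h2 => hh (Ideal.mul_mem_right _ _ h2)
      refine ⟨fun h3 => ?_, h1⟩
      have h4 : ψ s ^ M * ψ a₀ ∈ 𝔭.asIdeal := by
        rw [hrel]
        exact Ideal.mul_mem_left _ _ h3
      rcases 𝔭.isPrime.mem_or_mem h4 with h5 | h5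
      · exact h1 (𝔭.isPrime.mem_of_pow_mem _ h5)
      · exact h2 h5
    · rintro ⟨h1, h2⟩ hh
      rcases 𝔭.isPrime.mem_or_mem hh with h3 | h3
      · have h4 : ψ s ^ (M + N) * ι c ∈ 𝔭.asIdeal := by
          rw [← hrel]
          exact Ideal.mul_mem_left _ _ h3
        rcases 𝔭.isPrime.mem_or_mem h4 with h5 | h5
        · exact h2 (𝔭.isPrime.mem_of_pow_mem _ h5)
        · exact h1 h5
      · exact h2 h3
  have hcov' : ∀ 𝔭 : PrimeSpectrum K, ∃ s ∈ l, ψ s ∉ 𝔭.asIdeal := by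
    intro 𝔭
    by_contra hcon
    push Not at hcon
    have h1 : Ideal.span {c | ∃ s ∈ l, ρ s = c} ≤ 𝔭.asIdeal.comap ι := by
      rw [Ideal.span_le]
      rintro _ ⟨s, hs, rfl⟩
      exact hcon s hs
    rw [hcov, top_le_iff, Ideal.comap_eq_top_iff] at h1
    exact 𝔭.isPrime.ne_top h1
  obtain ⟨e, he, heu⟩ := exists_isUnit_of_cover ψ hcpl l hH hcov'
  refine ⟨e, he, fun 𝔭 h𝔭 h𝔭𝔮 hmem => ?_⟩
  -- the prime of the fibre ring over `𝔭`
  let 𝔭' : PrimeSpectrum C := ⟨𝔭, h𝔭⟩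
  have hmemfib : 𝔭' ∈ PrimeSpectrum.comap (algebraMap B C) ⁻¹' {(⟨𝔮, inferInstance⟩ : PrimeSpectrum B)} := by
    apply PrimeSpectrum.ext
    exact h𝔭𝔮
  let Q := PrimeSpectrum.preimageEquivFiber B C ⟨𝔮, inferInstance⟩ ⟨𝔭', hmemfib⟩
  have hQ : Q.asIdeal.comap ι = 𝔭 := by
    have := (PrimeSpectrum.preimageEquivFiber B C ⟨𝔮, inferInstance⟩).left_inv ⟨𝔭', hmemfib⟩
    exact congrArg (fun t => t.1.asIdeal) this
  have h1 : ψ e ∈ Q.asIdeal := by
    have : ρ e ∈ Q.asIdeal.comap ι := by rw [hQ]; exact hmem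
    exact this
  exact Q.isPrime.ne_top (Ideal.eq_top_of_isUnit_mem _ h1 heu)

end Groth.Agent.H87.FerrAvoid
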