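import Mathlib
import Groth.Agent.H87.FerrAlg

/-!
# Flat base change of fibre squares of rings (helper87)
-/

set_option autoImplicit false
universe u
open CategoryTheory TensorProduct

namespace Groth.Agent.H87.FerrAlg

/-- flat base change preserves left exact sequences (in `IsBaseChange` form) -/
theorem exact_of_isBaseChange {R : Type*} [CommRing R] (S : Type*) [CommRing S] [Algebra R S]
    [Module.Flat R S]
    {M₁ M₂ M₃ N₁ N₂ N₃ : Type*} [AddCommGroup M₁] [AddCommGroup M₂] [AddCommGroup M₃]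
    [AddCommGroup N₁] [AddCommGroup N₂] [AddCommGroup N₃] [Module R M₁] [Module R M₂] [Module R M₃]
    [Module R N₁] [Module R N₂] [Module R N₃] [Module S N₁] [Module S N₂] [Module S N₃]
    [IsScalarTower R S N₁] [IsScalarTower R S N₂] [IsScalarTower R S N₃]
    (h₁ : M₁ →ₗ[R] N₁) (h₂ : M₂ →ₗ[R] N₂) (h₃ : M₃ →ₗ[R] N₃)
    {f : M₁ →ₗ[R] M₂} {g : M₂ →ₗ[R] M₃} {f' : N₁ →ₗ[S] N₂} {g' : N₂ →ₗ[S] N₃}
    (comm₁ : ∀ m, h₂ (f m) = f' (h₁ m)) (comm₂ : ∀ m, h₃ (g m) = g' (h₂ m))
    (isb₁ : IsBaseChange S h₁) (isb₂ : IsBaseChange S h₂) (isb₃ : IsBaseChange S h₃)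
    (exact₁ : Function.Exact f g) (inj₁ : Function.Injective f) :
    Function.Exact f' g' ∧ Function.Injective f' := by
  have c₁ : f' ∘ₗ isb₁.equiv.toLinearMap = isb₂.equiv.toLinearMap ∘ₗ (f.baseChange S) := by
    ext m
    simp [IsBaseChange.equiv_tmul, comm₁]
  have c₂ : g' ∘ₗ isb₂.equiv.toLinearMap = isb₃.equiv.toLinearMap ∘ₗ (g.baseChange S) := by
    ext m
    simp [IsBaseChange.equiv_tmul, comm₂]
  have hex : Function.Exact (f.baseChange S) (g.baseChange S) := by
    have := Module.Flat.lTensor_exact S exact₁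
    intro y
    have h1 := this y
    rw [← LinearMap.baseChange_eq_ltensor (A := S), ← LinearMap.baseChange_eq_ltensor (A := S)]
      at h1
    exact h1
  have hinj : Function.Injective (f.baseChange S) := by
    have := Module.Flat.lTensor_preserves_injective_linearMap (M := S) f inj₁
    rw [← LinearMap.baseChange_eq_ltensor (A := S)] at this
    exact this
  refine ⟨Function.Exact.of_ladder_linearEquiv_of_exact c₁ c₂ hex, ?_⟩
  have h2 : (f' : N₁ → N₂) = isb₂.equiv ∘ (f.baseChange S) ∘ isb₁.equiv.symm := by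
    ext n
    have := congrArg (fun φ => φ (isb₁.equiv.symm n)) c₁
    simpa using this
  rw [h2]
  exact isb₂.equiv.injective.comp (hinj.comp isb₁.equiv.symm.injective)


set_option maxHeartbeats 1600000 in
/-- **Flat base change of a fibre square of rings.** -/
theorem IsFibSq.flat_baseChange {R A B C R' A' B' C' : Type u} [CommRing R] [CommRing A]
    [CommRing B] [CommRing C] [CommRing R'] [CommRing A'] [CommRing B'] [CommRing C']
    {p : R →+* A} {q : R →+* B} {f : A →+* C} {g : B →+* C}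
    {p' : R' →+* A'} {q' : R' →+* B'} {f' : A' →+* C'} {g' : B' →+* C'}
    (sq : IsFibSq p q f g) (hcomm' : ∀ s, f' (p' s) = g' (q' s))
    (ρ : R →+* R') (hρ : ρ.Flat) (α : A →+* A') (β : B →+* B') (γ : C →+* C')
    (hpα : ∀ r, p' (ρ r) = α (p r)) (hqβ : ∀ r, q' (ρ r) = β (q r))
    (hfγ : ∀ a, f' (α a) = γ (f a)) (hgγ : ∀ b, g' (β b) = γ (g b))
    (hA : IsPushout (CommRingCat.ofHom ρ) (CommRingCat.ofHom p) (CommRingCat.ofHom p')
      (CommRingCat.ofHom α))
    (hB : IsPushout (CommRingCat.ofHom ρ) (CommRingCat.ofHom q) (CommRingCat.ofHom q')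
      (CommRingCat.ofHom β))
    (hC : IsPushout (CommRingCat.ofHom ρ) (CommRingCat.ofHom (f.comp p))
      (CommRingCat.ofHom (f'.comp p')) (CommRingCat.ofHom γ)) :
    IsFibSq p' q' f' g' := by
  letI : Algebra R R' := ρ.toAlgebra
  haveI : Module.Flat R R' := hρ
  letI : Algebra R A := p.toAlgebra
  letI : Algebra R B := q.toAlgebra
  letI : Algebra R C := (f.comp p).toAlgebra
  letI : Algebra A C := f.toAlgebra
  letI : Algebra B C := g.toAlgebra
  haveI : IsScalarTower R A C := IsScalarTower.of_algebraMap_eq (fun _ => rfl)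
  haveI : IsScalarTower R B C := IsScalarTower.of_algebraMap_eq (fun r => sq.comm r)
  letI : Algebra R' A' := p'.toAlgebra
  letI : Algebra R' B' := q'.toAlgebra
  letI : Algebra R' C' := (f'.comp p').toAlgebra
  letI : Algebra A' C' := f'.toAlgebra
  letI : Algebra B' C' := g'.toAlgebra
  haveI : IsScalarTower R' A' C' := IsScalarTower.of_algebraMap_eq (fun _ => rfl)
  haveI : IsScalarTower R' B' C' := IsScalarTower.of_algebraMap_eq (fun s => hcomm' s)
  letI : Algebra A A' := α.toAlgebra
  letI : Algebra B B' := β.toAlgebra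
  letI : Algebra C C' := γ.toAlgebra
  letI : Algebra R A' := (α.comp p).toAlgebra
  haveI : IsScalarTower R A A' := IsScalarTower.of_algebraMap_eq (fun _ => rfl)
  haveI : IsScalarTower R R' A' := IsScalarTower.of_algebraMap_eq (fun r => (hpα r).symm)
  letI : Algebra R B' := (β.comp q).toAlgebra
  haveI : IsScalarTower R B B' := IsScalarTower.of_algebraMap_eq (fun _ => rfl)
  haveI : IsScalarTower R R' B' := IsScalarTower.of_algebraMap_eq (fun r => (hqβ r).symm)
  letI : Algebra R C' := (γ.comp (f.comp p)).toAlgebra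
  haveI : IsScalarTower R C C' := IsScalarTower.of_algebraMap_eq (fun _ => rfl)
  haveI : IsScalarTower R R' C' := IsScalarTower.of_algebraMap_eq (fun r => by
    change γ (f (p r)) = f' (p' (ρ r))
    rw [hpα, hfγ])
  have pA : Algebra.IsPushout R R' A A' := CommRingCat.isPushout_iff_isPushout.mp hA
  have pB : Algebra.IsPushout R R' B B' := CommRingCat.isPushout_iff_isPushout.mp hB
  have pC : Algebra.IsPushout R R' C C' := CommRingCat.isPushout_iff_isPushout.mp hC
  -- the linear maps
  let fl : R →ₗ[R] A × B := LinearMap.prod (Algebra.linearMap R A) (Algebra.linearMap R B)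
  let gl : A × B →ₗ[R] C :=
    (IsScalarTower.toAlgHom R A C).toLinearMap.comp (LinearMap.fst R A B) -
      (IsScalarTower.toAlgHom R B C).toLinearMap.comp (LinearMap.snd R A B)
  let fl' : R' →ₗ[R'] A' × B' := LinearMap.prod (Algebra.linearMap R' A') (Algebra.linearMap R' B')
  let gl' : A' × B' →ₗ[R'] C' :=
    (IsScalarTower.toAlgHom R' A' C').toLinearMap.comp (LinearMap.fst R' A' B') -
      (IsScalarTower.toAlgHom R' B' C').toLinearMap.comp (LinearMap.snd R' A' B')
  have hfl : ∀ r, fl r = (p r, q r) := fun _ => rfl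
  have hgl : ∀ x, gl x = f x.1 - g x.2 := fun _ => rfl
  have hfl' : ∀ s, fl' s = (p' s, q' s) := fun _ => rfl
  have hgl' : ∀ x, gl' x = f' x.1 - g' x.2 := fun _ => rfl
  have isb₁ : IsBaseChange R' (Algebra.linearMap R R') := IsBaseChange.linearMap R R'
  have isb₂ : IsBaseChange R' ((IsScalarTower.toAlgHom R A A').toLinearMap.prodMap
      (IsScalarTower.toAlgHom R B B').toLinearMap) := IsBaseChange.prodMap _ _ pA.out pB.out
  have isb₃ : IsBaseChange R' (IsScalarTower.toAlgHom R C C').toLinearMap := pC.out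
  have exact₁ : Function.Exact fl gl := by
    intro x
    rw [hgl, sub_eq_zero]
    constructor
    · intro hx
      obtain ⟨r, hr1, hr2⟩ := sq.glue x.1 x.2 hx
      exact ⟨r, by rw [hfl, hr1, hr2]⟩
    · rintro ⟨r, rfl⟩
      rw [hfl]
      exact sq.comm r
  have inj₁ : Function.Injective fl := by
    intro r r' hrr'
    rw [hfl, hfl] at hrr'
    exact sq.ext r r' (congrArg Prod.fst hrr') (congrArg Prod.snd hrr')
  obtain ⟨hex, hinj⟩ := exact_of_isBaseChange R' _ _ _ (f := fl) (g := gl) (f' := fl') (g' := gl')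
    (fun r => by
      change (α (p r), β (q r)) = (p' (ρ r), q' (ρ r))
      rw [hpα, hqβ])
    (fun x => by
      change γ (f x.1 - g x.2) = f' (α x.1) - g' (β x.2)
      rw [map_sub, hfγ, hgγ])
    isb₁ isb₂ isb₃ exact₁ inj₁
  refine ⟨hcomm', ?_, ?_⟩
  · intro s s' h1 h2
    apply hinj
    rw [hfl', hfl', h1, h2]
  · intro x y hxy
    have h0 : gl' (x, y) = 0 := by rw [hgl', sub_eq_zero]; exact hxy
    obtain ⟨s, hs⟩ := (hex (x, y)).mp h0
    rw [hfl'] at hs
    exact ⟨s, congrArg Prod.fst hs, congrArg Prod.snd hs⟩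

end Groth.Agent.H87.FerrAlg
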