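import Groth.Agent.H87.Mil11
import Mathlib.RingTheory.FiniteStability

set_option autoImplicit false
universe u
open TensorProduct Function

namespace Groth.Agent.H87.Mil12

variable {B' B A' A : Type u} [CommRing B'] [CommRing B] [CommRing A'] [CommRing A]
  [Algebra B' B] [Algebra B' A'] [Algebra B A] [Algebra A' A] [Algebra B' A]
  [IsScalarTower B' B A] [IsScalarTower B' A' A]
  {D' D C' C : Type u} [CommRing D'] [CommRing D] [CommRing C'] [CommRing C]
  [Algebra D' D] [Algebra D' C'] [Algebra D C] [Algebra C' C] [Algebra D' C]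
  [IsScalarTower D' D C] [IsScalarTower D' C' C]
  [Algebra B' D'] [Algebra B D] [Algebra A' C'] [Algebra A C]
  [Algebra B' D] [IsScalarTower B' B D] [IsScalarTower B' D' D]
  [Algebra B' C'] [IsScalarTower B' A' C'] [IsScalarTower B' D' C']
  [Algebra B C] [IsScalarTower B A C] [IsScalarTower B D C]
  [Algebra A' C] [IsScalarTower A' A C] [IsScalarTower A' C' C]
  [Algebra.IsPushout B D A C] [Algebra.IsPushout A' C' A C]

variable (B A' A D C' C) in
/-- the glueing isomorphism `A ⊗[B] D ≃ A ⊗[A'] C'` (both are `C`) -/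
noncomputable def phi0 : A ⊗[B] D ≃ₗ[A] A ⊗[A'] C' :=
  haveI : Algebra.IsPushout B A D C := Algebra.IsPushout.symm inferInstance
  haveI : Algebra.IsPushout A' A C' C := Algebra.IsPushout.symm inferInstance
  (Algebra.IsPushout.equiv B A D C).toLinearEquiv ≪≫ₗ
    (Algebra.IsPushout.equiv A' A C' C).toLinearEquiv.symm

theorem phi0_iff (d : D) (c' : C') :
    phi0 B A' A D C' C ((1 : A) ⊗ₜ[B] d) = (1 : A) ⊗ₜ[A'] c' ↔
      algebraMap D C d = algebraMap C' C c' := by
  haveI : Algebra.IsPushout B A D C := Algebra.IsPushout.symm inferInstance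
  haveI : Algebra.IsPushout A' A C' C := Algebra.IsPushout.symm inferInstance
  unfold phi0
  rw [LinearEquiv.trans_apply, LinearEquiv.symm_apply_eq]
  change Algebra.IsPushout.equiv B A D C ((1 : A) ⊗ₜ[B] d) =
    Algebra.IsPushout.equiv A' A C' C ((1 : A) ⊗ₜ[A'] c') ↔ _
  rw [Algebra.IsPushout.equiv_tmul, Algebra.IsPushout.equiv_tmul, map_one, one_mul, one_mul]

/-- `D'` as the glued module of `D` and `C'` -/
noncomputable def theta (hsq' : EtMil.IsFibreSquare D' D C' C) :
    D' ≃ₗ[B'] ↥(EtMil.glue B' (phi0 B A' A D C' C)) :=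
  LinearEquiv.ofBijective
    (LinearMap.codRestrict (EtMil.glue B' (phi0 B A' A D C' C))
      (LinearMap.prod (IsScalarTower.toAlgHom B' D' D).toLinearMap
        (IsScalarTower.toAlgHom B' D' C').toLinearMap)
      (fun d' => (phi0_iff _ _).2 (Groth.Agent.H87.Mil9.comm (B := D) (A' := C') d')))
    (by
      constructor
      · intro x y hxy
        have h := congrArg Subtype.val hxy
        have h1 : algebraMap D' D x = algebraMap D' D y := congrArg Prod.fst h
        have h2 : algebraMap D' C' x = algebraMap D' C' y := congrArg Prod.snd h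
        exact Groth.Agent.H87.Mil9.ext' hsq' h1 h2
      · rintro ⟨⟨d, c'⟩, hdc⟩
        obtain ⟨d', ⟨h1, h2⟩, _⟩ := hsq'.2 d c' ((phi0_iff d c').1 hdc)
        exact ⟨d', Subtype.ext (Prod.ext h1 h2)⟩)

theorem theta_fst (hsq' : EtMil.IsFibreSquare D' D C' C) (d' : D') :
    ((theta (B' := B') (B := B) (A' := A') (A := A) hsq' d' :
      ↥(EtMil.glue B' (phi0 B A' A D C' C))) : D × C').1 = algebraMap D' D d' := rfl

theorem theta_snd (hsq' : EtMil.IsFibreSquare D' D C' C) (d' : D') :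
    ((theta (B' := B') (B := B) (A' := A') (A := A) hsq' d' :
      ↥(EtMil.glue B' (phi0 B A' A D C' C))) : D × C').2 = algebraMap D' C' d' := rfl

variable (B' B A' A D' D C' C) in
theorem pushoutD (hsq : EtMil.IsFibreSquare B' B A' A) (hsq' : EtMil.IsFibreSquare D' D C' C) :
    Algebra.IsPushout B' B D' D := by
  let e : B ⊗[B'] D' ≃ₗ[B] D :=
    (LinearEquiv.baseChange B' B D' _ (theta (B' := B') (B := B) (A' := A') (A := A) hsq')) ≪≫ₗ
      LinearEquiv.ofBijective _
        (Groth.Agent.H87.Mil.glueFst_bijective (phi0 B A' A D C' C) hsq)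
  refine ⟨IsBaseChange.of_equiv e (fun d' => ?_)⟩
  change LinearMap.liftBaseChange B (EtMil.glueFst B' (phi0 B A' A D C' C))
    ((1 : B) ⊗ₜ[B'] (theta (B' := B') (B := B) (A' := A') (A := A) hsq' d')) = _
  rw [LinearMap.liftBaseChange_tmul, one_smul]
  rfl

variable (B' B A' A D' D C' C) in
theorem pushoutC' (hsq : EtMil.IsFibreSquare B' B A' A) (hsq' : EtMil.IsFibreSquare D' D C' C) :
    Algebra.IsPushout B' A' D' C' := by
  let e : A' ⊗[B'] D' ≃ₗ[A'] C' :=
    (LinearEquiv.baseChange B' A' D' _ (theta (B' := B') (B := B) (A' := A') (A := A) hsq')) ≪≫ₗ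
      LinearEquiv.ofBijective _
        (Groth.Agent.H87.Mil.glueSnd_bijective (phi0 B A' A D C' C) hsq)
  refine ⟨IsBaseChange.of_equiv e (fun d' => ?_)⟩
  change LinearMap.liftBaseChange A' (EtMil.glueSnd B' (phi0 B A' A D C' C))
    ((1 : A') ⊗ₜ[B'] (theta (B' := B') (B := B) (A' := A') (A := A) hsq' d')) = _
  rw [LinearMap.liftBaseChange_tmul, one_smul]
  rfl

variable (B' B A' A D' D C' C) in
theorem main (hsq : EtMil.IsFibreSquare B' B A' A) (hsq' : EtMil.IsFibreSquare D' D C' C) :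
    (Algebra.FiniteType B' D' ↔ Algebra.FiniteType B D ∧ Algebra.FiniteType A' C') ∧
    (Module.Flat B' D' ↔ Module.Flat B D ∧ Module.Flat A' C') ∧
    (Module.Flat B' D' ∧ Algebra.FinitePresentation B' D' ↔
      (Module.Flat B D ∧ Algebra.FinitePresentation B D) ∧
        (Module.Flat A' C' ∧ Algebra.FinitePresentation A' C')) ∧
    (Algebra.Smooth B' D' ↔ Algebra.Smooth B D ∧ Algebra.Smooth A' C') ∧
    (Algebra.Etale B' D' ↔ Algebra.Etale B D ∧ Algebra.Etale A' C') := by
  haveI : Algebra.IsPushout B' B D' D := pushoutD B' B A' A D' D C' C hsq hsq'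
  haveI : Algebra.IsPushout B' A' D' C' := pushoutC' B' B A' A D' D C' C hsq hsq'
  let eD : B ⊗[B'] D' ≃ₐ[B] D := Algebra.IsPushout.equiv B' B D' D
  let eC' : A' ⊗[B'] D' ≃ₐ[A'] C' := Algebra.IsPushout.equiv B' A' D' C'
  refine ⟨⟨?_, ?_⟩, ⟨?_, ?_⟩, ⟨?_, ?_⟩, ⟨?_, ?_⟩, ⟨?_, ?_⟩⟩
  · intro h
    exact ⟨Algebra.FiniteType.equiv inferInstance eD, Algebra.FiniteType.equiv inferInstance eC'⟩
  · rintro ⟨h1, h2⟩
    haveI : Algebra.FiniteType B (B ⊗[B'] D') := Algebra.FiniteType.equiv h1 eD.symm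
    haveI : Algebra.FiniteType A' (A' ⊗[B'] D') := Algebra.FiniteType.equiv h2 eC'.symm
    exact Groth.Agent.H87.Mil11.ft_descent hsq D'
  · intro h
    exact ⟨Module.Flat.of_linearEquiv eD.toLinearEquiv.symm,
      Module.Flat.of_linearEquiv eC'.toLinearEquiv.symm⟩
  · rintro ⟨h1, h2⟩
    haveI : Module.Flat B (B ⊗[B'] D') := Module.Flat.of_linearEquiv eD.toLinearEquiv
    haveI : Module.Flat A' (A' ⊗[B'] D') := Module.Flat.of_linearEquiv eC'.toLinearEquiv
    exact Groth.Agent.H87.Mil.flat_descent D' hsq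
  · rintro ⟨h1, h2⟩
    exact ⟨⟨Module.Flat.of_linearEquiv eD.toLinearEquiv.symm, Algebra.FinitePresentation.equiv eD⟩,
      ⟨Module.Flat.of_linearEquiv eC'.toLinearEquiv.symm, Algebra.FinitePresentation.equiv eC'⟩⟩
  · rintro ⟨⟨h1, h2⟩, ⟨h3, h4⟩⟩
    haveI : Module.Flat B (B ⊗[B'] D') := Module.Flat.of_linearEquiv eD.toLinearEquiv
    haveI : Module.Flat A' (A' ⊗[B'] D') := Module.Flat.of_linearEquiv eC'.toLinearEquiv
    haveI : Algebra.FinitePresentation B (B ⊗[B'] D') := Algebra.FinitePresentation.equiv eD.symm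
    haveI : Algebra.FinitePresentation A' (A' ⊗[B'] D') := Algebra.FinitePresentation.equiv eC'.symm
    haveI : Module.Flat B' D' := Groth.Agent.H87.Mil.flat_descent D' hsq
    haveI : Algebra.FiniteType B' D' := Groth.Agent.H87.Mil11.ft_descent hsq D'
    exact ⟨inferInstance, Groth.Agent.H87.Mil11.fp_alg_descent hsq D'⟩
  · intro h
    exact ⟨Algebra.Smooth.of_equiv eD, Algebra.Smooth.of_equiv eC'⟩
  · rintro ⟨h1, h2⟩
    haveI : Algebra.Smooth B (B ⊗[B'] D') := Algebra.Smooth.of_equiv eD.symm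
    haveI : Algebra.Smooth A' (A' ⊗[B'] D') := Algebra.Smooth.of_equiv eC'.symm
    exact Groth.Agent.H87.Mil11.smooth_descent hsq D'
  · intro h
    exact ⟨Algebra.Etale.of_equiv eD, Algebra.Etale.of_equiv eC'⟩
  · rintro ⟨h1, h2⟩
    haveI : Algebra.Etale B (B ⊗[B'] D') := Algebra.Etale.of_equiv eD.symm
    haveI : Algebra.Etale A' (A' ⊗[B'] D') := Algebra.Etale.of_equiv eC'.symm
    exact Groth.Agent.H87.Mil11.etale_descent hsq D'

end Groth.Agent.H87.Mil12
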