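import Mathlib

/-!
# Pushouts in `TopCat` (helper87)

Elementwise facts about a pushout square `IsPushout i j a b` of topological spaces: joint
surjectivity, the fibres when `i` is injective, and the quotient topology.
-/

set_option autoImplicit false
open CategoryTheory Limits TopologicalSpace

namespace Groth.Agent.H87.FerrTop

universe u

variable {Z X Y P : TopCat.{u}} {i : Z ⟶ X} {j : Z ⟶ Y} {a : X ⟶ P} {b : Y ⟶ P}

/-- the pushout square of underlying sets -/
theorem isPushout_types (h : IsPushout i j a b) :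
    IsPushout ((forget TopCat).map i) ((forget TopCat).map j) ((forget TopCat).map a)
      ((forget TopCat).map b) := h.map (forget TopCat)

theorem comm_apply (h : IsPushout i j a b) (z : Z) : a (i z) = b (j z) := by
  have := h.w
  exact ConcreteCategory.congr_hom this z

theorem eq_or_eq (h : IsPushout i j a b) (p : P) : (∃ x, a x = p) ∨ ∃ y, b y = p :=
  Types.eq_or_eq_of_isPushout (isPushout_types h) p

theorem inl_eq_inr_iff (h : IsPushout i j a b) (hi : Function.Injective i) (x : X) (y : Y) :
    a x = b y ↔ ∃ z, i z = x ∧ j z = y :=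
  Types.pushoutCocone_inl_eq_inr_iff_of_isColimit (isPushout_types h).isColimit hi x y

theorem inr_injective (h : IsPushout i j a b) (hi : Function.Injective i) : Function.Injective b :=
  Types.pushoutCocone_inr_injective_of_isColimit (isPushout_types h).isColimit hi

theorem isOpen_iff (h : IsPushout i j a b) (W : Set P) :
    IsOpen W ↔ IsOpen (a ⁻¹' W) ∧ IsOpen (b ⁻¹' W) := by
  have := TopCat.isOpen_iff_of_isColimit _ h.isColimit W
  refine this.trans ?_
  constructor
  · intro H
    exact ⟨H WalkingSpan.left, H WalkingSpan.right⟩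
  · rintro ⟨h1, h2⟩ (_ | _ | _)
    · have : (h.cocone.ι.app WalkingSpan.zero) = i ≫ a := by
        simp; rfl
      rw [this]
      exact h1.preimage i.hom.continuous
    · exact h1
    · exact h2

theorem isClosed_iff (h : IsPushout i j a b) (W : Set P) :
    IsClosed W ↔ IsClosed (a ⁻¹' W) ∧ IsClosed (b ⁻¹' W) := by
  simp only [← isOpen_compl_iff, isOpen_iff h, Set.preimage_compl]

/-- subsets `U ⊆ X`, `V ⊆ Y` with the same preimage in `Z` come from a subset of the pushout -/
theorem exists_set (h : IsPushout i j a b) (U : Set X) (V : Set Y)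
    (hUV : i ⁻¹' U = j ⁻¹' V) : ∃ W : Set P, a ⁻¹' W = U ∧ b ⁻¹' W = V := by
  have hT := isPushout_types h
  let χ : (forget TopCat).obj X ⟶ ULift.{u} Prop :=
    TypeCat.ofHom (fun x => (⟨x ∈ U⟩ : ULift.{u} Prop))
  let ψ : (forget TopCat).obj Y ⟶ ULift.{u} Prop :=
    TypeCat.ofHom (fun y => (⟨y ∈ V⟩ : ULift.{u} Prop))
  have hc : (forget TopCat).map i ≫ χ = (forget TopCat).map j ≫ ψ := by
    refine ConcreteCategory.hom_ext _ _ (fun z => ?_)
    change (⟨i z ∈ U⟩ : ULift Prop) = ⟨j z ∈ V⟩
    have : (i z ∈ U) = (j z ∈ V) := by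
      have := congrArg (fun S => z ∈ S) hUV
      exact this
    rw [this]
  refine ⟨{p | (hT.desc χ ψ hc p).down}, ?_, ?_⟩
  · ext x
    have h2 : hT.desc χ ψ hc (a x) = χ x := ConcreteCategory.congr_hom (hT.inl_desc χ ψ hc) x
    change (hT.desc χ ψ hc (a x)).down ↔ x ∈ U
    rw [h2]
    rfl
  · ext y
    have h2 : hT.desc χ ψ hc (b y) = ψ y := ConcreteCategory.congr_hom (hT.inr_desc χ ψ hc) y
    change (hT.desc χ ψ hc (b y)).down ↔ y ∈ V
    rw [h2]
    rfl

/-- opens `U ⊆ X`, `V ⊆ Y` with the same preimage in `Z` come from an open of the pushout -/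
theorem exists_opens (h : IsPushout i j a b) (U : Opens X) (V : Opens Y)
    (hUV : (Opens.map i).obj U = (Opens.map j).obj V) :
    ∃ W : Opens P, (Opens.map a).obj W = U ∧ (Opens.map b).obj W = V := by
  obtain ⟨W, hW1, hW2⟩ := exists_set h (U : Set X) (V : Set Y)
    (congrArg (fun O : Opens Z => (O : Set Z)) hUV)
  have hWo : IsOpen W := by
    rw [isOpen_iff h, hW1, hW2]
    exact ⟨U.2, V.2⟩
  exact ⟨⟨W, hWo⟩, Opens.ext hW1, Opens.ext hW2⟩

end Groth.Agent.H87.FerrTop
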