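import Mathlib
import Groth.Agent.H89.PSpPushout
import Groth.Agent.H87.FerrAlg
import Groth.Agent.H87.FerrTop

/-!
# Pushouts of schemes in locally ringed spaces: sections (helper87)

For schemes `X ← Z → Y` and a pushout `P` of them in `LocallyRingedSpace` (maps `a`, `b`):
`isFibSq` : `Γ(P, W) = Γ(X, a⁻¹W) ×_{Γ(Z, ·)} Γ(Y, b⁻¹W)` for every open `W`;
`isFrac_isTors` : if `a⁻¹W`, `b⁻¹W` are affine (and `Z → X` is affine) then `Γ(P, D(r)) = Γ(P, W)_r`.
-/

set_option autoImplicit false
open CategoryTheory Limits TopologicalSpace AlgebraicGeometry Opposite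

namespace Groth.Agent.H87.FerrLRS

universe u

open Groth.Agent.H87.FerrAlg

variable {X Y Z : Scheme.{u}} {P : LocallyRingedSpace.{u}} {i : Z ⟶ X} {j : Z ⟶ Y}
  {a : X.toLocallyRingedSpace ⟶ P} {b : Y.toLocallyRingedSpace ⟶ P}

/-- the forgetful functor to presheafed spaces -/
noncomputable abbrev F : LocallyRingedSpace.{u} ⥤ PresheafedSpace.{_, _, u} CommRingCat.{u} :=
  LocallyRingedSpace.forgetToSheafedSpace ⋙ SheafedSpace.forgetToPresheafedSpace

theorem isPushout_psp (h : IsPushout i.toLRSHom j.toLRSHom a b) :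
    IsPushout (F.map i.toLRSHom) (F.map j.toLRSHom) (F.map a) (F.map b) :=
  (h.map LocallyRingedSpace.forgetToSheafedSpace).map SheafedSpace.forgetToPresheafedSpace

theorem isPushout_top (h : IsPushout i.toLRSHom j.toLRSHom a b) :
    IsPushout i.base j.base a.base b.base :=
  (isPushout_psp h).map (PresheafedSpace.forget _)

/-- preimage in `X` of an open of the pushout -/
abbrev aU (a : X.toLocallyRingedSpace ⟶ P) (W : Opens P) : X.Opens := (Opens.map a.base).obj W
/-- preimage in `Y` of an open of the pushout -/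
abbrev bV (b : Y.toLocallyRingedSpace ⟶ P) (W : Opens P) : Y.Opens := (Opens.map b.base).obj W

theorem zW_eq (h : IsPushout i.toLRSHom j.toLRSHom a b) (W : Opens P) :
    i ⁻¹ᵁ (aU a W) = j ⁻¹ᵁ (bV b W) := by
  ext z
  have := FerrTop.comm_apply (isPushout_top h) z
  change a.base (i.base z) ∈ W ↔ b.base (j.base z) ∈ W
  rw [this]

/-- `Γ(P, W) → Γ(X, a⁻¹W)` -/
noncomputable abbrev πA (a : X.toLocallyRingedSpace ⟶ P) (W : Opens P) :
    P.presheaf.obj (op W) →+* Γ(X, aU a W) := (a.c.app (op W)).hom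
/-- `Γ(P, W) → Γ(Y, b⁻¹W)` -/
noncomputable abbrev πB (b : Y.toLocallyRingedSpace ⟶ P) (W : Opens P) :
    P.presheaf.obj (op W) →+* Γ(Y, bV b W) := (b.c.app (op W)).hom
/-- `Γ(X, a⁻¹W) → Γ(Z, i⁻¹a⁻¹W)` -/
noncomputable abbrev fC (i : Z ⟶ X) (a : X.toLocallyRingedSpace ⟶ P) (W : Opens P) :
    Γ(X, aU a W) →+* Γ(Z, i ⁻¹ᵁ (aU a W)) := (i.app (aU a W)).hom
/-- `Γ(Y, b⁻¹W) → Γ(Z, i⁻¹a⁻¹W)` -/
noncomputable abbrev gC (h : IsPushout i.toLRSHom j.toLRSHom a b) (W : Opens P) :
    Γ(Y, bV b W) →+* Γ(Z, i ⁻¹ᵁ (aU a W)) :=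
  (j.appLE (bV b W) (i ⁻¹ᵁ (aU a W)) (zW_eq h W).le).hom

theorem gC_apply (h : IsPushout i.toLRSHom j.toLRSHom a b) (W : Opens P) (y : Γ(Y, bV b W)) :
    gC h W y = (Z.presheaf.map (eqToHom (congrArg op (zW_eq h W).symm))).hom
      ((j.app (bV b W)).hom y) := by
  change (j.app (bV b W) ≫ Z.presheaf.map _).hom y = _
  rw [CommRingCat.hom_comp, RingHom.comp_apply]
  rfl

theorem comm (h : IsPushout i.toLRSHom j.toLRSHom a b) (W : Opens P) (r : P.presheaf.obj (op W)) :
    fC i a W (πA a W r) = gC h W (πB b W r) := by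
  have hw := (isPushout_psp h).w
  have h1 := PresheafedSpace.congr_app hw (op W)
  rw [PresheafedSpace.comp_c_app, PresheafedSpace.comp_c_app] at h1
  have h2 := congrArg (fun φ => φ.hom r) h1
  rw [gC_apply]
  exact h2


/-- sections over a basic open of an affine open are fractions -/
theorem isFrac_res {X : Scheme.{u}} {U : X.Opens} (hU : IsAffineOpen U) (f : Γ(X, U))
    (D : X.Opens) (hD : D = X.basicOpen f) (e : op U ⟶ op D) :
    IsFrac (X.presheaf.map e).hom f := by
  subst hD
  intro s'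
  obtain ⟨n, y, hy⟩ := exists_eq_pow_mul_of_isAffineOpen X U hU f s'
  refine ⟨n, y, ?_⟩
  have he : e = (homOfLE (X.basicOpen_le f)).op := Subsingleton.elim _ _
  rw [he, mul_comm]
  exact hy.symm

/-- the kernel of restriction to a basic open of an affine open is power torsion -/
theorem isTors_res {X : Scheme.{u}} {U : X.Opens} (hU : IsAffineOpen U) (f : Γ(X, U))
    (D : X.Opens) (hD : D = X.basicOpen f) (e : op U ⟶ op D) :
    IsTors (X.presheaf.map e).hom f := by
  subst hD
  intro s hs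
  have he : e = (homOfLE (X.basicOpen_le f)).op := Subsingleton.elim _ _
  rw [he] at hs
  exact exists_pow_mul_eq_zero_of_res_basicOpen_eq_zero_of_isAffineOpen X hU s f hs

theorem πA_res {W D : Opens P} (e : op W ⟶ op D) (r : P.presheaf.obj (op W)) :
    πA a D ((P.presheaf.map e).hom r) =
      (X.presheaf.map ((Opens.map a.base).op.map e)).hom (πA a W r) := by
  have := a.c.naturality e
  exact congrArg (fun φ => φ.hom r) this

theorem πB_res {W D : Opens P} (e : op W ⟶ op D) (r : P.presheaf.obj (op W)) :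
    πB b D ((P.presheaf.map e).hom r) =
      (Y.presheaf.map ((Opens.map b.base).op.map e)).hom (πB b W r) := by
  have := b.c.naturality e
  exact congrArg (fun φ => φ.hom r) this

theorem fC_res {W D : Opens P} (e : op W ⟶ op D) (x : Γ(X, aU a W)) :
    fC i a D ((X.presheaf.map ((Opens.map a.base).op.map e)).hom x) =
      (Z.presheaf.map ((Opens.map i.base).op.map ((Opens.map a.base).op.map e))).hom
        (fC i a W x) := by
  have := i.naturality ((Opens.map a.base).op.map e)
  exact congrArg (fun φ => φ.hom x) this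

theorem gC_res (h : IsPushout i.toLRSHom j.toLRSHom a b) {W D : Opens P} (e : op W ⟶ op D)
    (y : Γ(Y, bV b W)) :
    gC h D ((Y.presheaf.map ((Opens.map b.base).op.map e)).hom y) =
      (Z.presheaf.map ((Opens.map i.base).op.map ((Opens.map a.base).op.map e))).hom
        (gC h W y) := by
  have h1 := Scheme.Hom.map_appLE j (zW_eq h D).le ((Opens.map b.base).op.map e)
  have h2 := Scheme.Hom.appLE_map j (zW_eq h W).le
    ((Opens.map i.base).op.map ((Opens.map a.base).op.map e))
  have h3 : Y.presheaf.map ((Opens.map b.base).op.map e) ≫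
      j.appLE (bV b D) (i ⁻¹ᵁ aU a D) (zW_eq h D).le =
      j.appLE (bV b W) (i ⁻¹ᵁ aU a W) (zW_eq h W).le ≫
        Z.presheaf.map ((Opens.map i.base).op.map ((Opens.map a.base).op.map e)) :=
    h1.trans h2.symm
  exact congrArg (fun φ => φ.hom y) h3

theorem isFibSq (h : IsPushout i.toLRSHom j.toLRSHom a b) (W : Opens P) :
    IsFibSq (πA a W) (πB b W) (fC i a W) (gC h W) := by
  refine ⟨comm h W, ?_, ?_⟩
  · intro r r' h1 h2
    exact H89.PSpColim.pushout_ext (isPushout_psp h) W r r' h1 h2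
  · intro x y hxy
    refine H89.PSpColim.pushout_glue' (isPushout_psp h) W x y (congrArg op (zW_eq h W)) ?_
    rw [gC_apply] at hxy
    change (Z.presheaf.map (eqToHom _)).hom (fC i a W x) = (j.app (bV b W)).hom y
    rw [hxy]
    exact (H89.PSpColim.map_eqToHom_trans_apply _ _ _).trans (by
      rw [eqToHom_refl, Z.presheaf.map_id]; rfl)


/-- sections of the pushout over a basic open `D(r) ⊆ W` are the localization of `Γ(P, W)` at `r`
when the preimages of `W` are affine -/
theorem isFrac_isTors (h : IsPushout i.toLRSHom j.toLRSHom a b) [IsAffineHom i] {W : Opens P}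
    (hU : IsAffineOpen (aU a W)) (hV : IsAffineOpen (bV b W)) (r : P.presheaf.obj (op W))
    (D : Opens P) (hD : D = P.toRingedSpace.basicOpen r) (e : op W ⟶ op D) :
    IsFrac (P.presheaf.map e).hom r ∧ IsTors (P.presheaf.map e).hom r := by
  have hZ : IsAffineOpen (i ⁻¹ᵁ aU a W) := hU.preimage i
  have hDA : aU a D = X.basicOpen (πA a W r) := by
    rw [hD]; exact LocallyRingedSpace.preimage_basicOpen a r
  have hDB : bV b D = Y.basicOpen (πB b W r) := by
    rw [hD]; exact LocallyRingedSpace.preimage_basicOpen b r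
  have hDZ : i ⁻¹ᵁ aU a D = Z.basicOpen (fC i a W (πA a W r)) := by
    rw [hDA]; exact Scheme.preimage_basicOpen i _
  exact (isFibSq h W).away (isFibSq h D) (P.presheaf.map e).hom
    (X.presheaf.map ((Opens.map a.base).op.map e)).hom
    (Y.presheaf.map ((Opens.map b.base).op.map e)).hom
    (Z.presheaf.map ((Opens.map i.base).op.map ((Opens.map a.base).op.map e))).hom
    (πA_res e) (πB_res e) (fC_res e) (gC_res h e) r
    (isFrac_res hU _ _ hDA _) (isTors_res hU _ _ hDA _)
    (isFrac_res hV _ _ hDB _) (isTors_res hV _ _ hDB _) (isTors_res hZ _ _ hDZ _)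

end Groth.Agent.H87.FerrLRS
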