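import Mathlib
import Groth.Agent.H87.FerrAlg
import Groth.Agent.H87.FerrAffine

/-!
# Affine charts of a locally ringed space (helper87)

`exists_iso_Spec`: an open `W` of a locally ringed space `P` is (isomorphic to) an affine scheme as
soon as `W → Spec Γ(P, W)` is a closed bijection and sections on basic opens are localizations.
-/

set_option autoImplicit false
open CategoryTheory Limits TopologicalSpace AlgebraicGeometry Opposite

namespace Groth.Agent.H87.FerrRestrict

universe u
open Groth.Agent.H87.FerrAlg

variable (P : LocallyRingedSpace.{u}) (W : Opens P)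

/-- preimage in the restriction `P|_W` of the basic open of a section over `W` -/
theorem map_basicOpen (r : P.presheaf.obj (op (W.isOpenEmbedding.functor.obj ⊤))) :
    (Opens.map (P.ofRestrict W.isOpenEmbedding).base).obj (P.toRingedSpace.basicOpen r) =
      (P.restrict W.isOpenEmbedding).toRingedSpace.basicOpen
        (U := ⊤) r := by
  rw [LocallyRingedSpace.preimage_basicOpen]
  have hle : (Opens.map (P.ofRestrict W.isOpenEmbedding).base).obj
      (W.isOpenEmbedding.functor.obj ⊤) = ⊤ := Opens.map_functor_eq (U := W) ⊤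
  have h1 : ((P.ofRestrict W.isOpenEmbedding).c.app (op (W.isOpenEmbedding.functor.obj ⊤))).hom r =
      ((P.restrict W.isOpenEmbedding).presheaf.map (eqToHom (congrArg op hle.symm))).hom r := by
    change (P.presheaf.map _).hom r = (P.presheaf.map _).hom r
    congr 2
  rw [h1]
  refine ((P.restrict W.isOpenEmbedding).toRingedSpace.basicOpen_res _ r).trans ?_
  change (Opens.map (P.ofRestrict W.isOpenEmbedding).base).obj
      (W.isOpenEmbedding.functor.obj ⊤) ⊓ _ = _
  rw [hle, top_inf_eq]
  rfl

/-- the prime of `Γ(P, W)` attached to a point of `W` by `toΓSpec` of the restriction -/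
theorem mem_toΓSpecFun_iff (y : P.restrict W.isOpenEmbedding)
    (r : P.presheaf.obj (op (W.isOpenEmbedding.functor.obj ⊤))) :
    r ∈ ((P.restrict W.isOpenEmbedding).toΓSpecFun y).asIdeal ↔
      (P.ofRestrict W.isOpenEmbedding).base y ∉ P.toRingedSpace.basicOpen r := by
  have h1 := LocallyRingedSpace.notMem_prime_iff_unit_in_stalk (P.restrict W.isOpenEmbedding) r y
  have h2 := RingedSpace.mem_top_basicOpen (P.restrict W.isOpenEmbedding).toRingedSpace r y
  have h3 : y ∈ (P.restrict W.isOpenEmbedding).toRingedSpace.basicOpen (U := ⊤) r ↔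
      (P.ofRestrict W.isOpenEmbedding).base y ∈ P.toRingedSpace.basicOpen r := by
    rw [← map_basicOpen]
    rfl
  rw [← h3, h2, ← h1, not_not]
  rfl

/-- **Chart criterion**: an open `W` of a locally ringed space `P` is an affine scheme as soon as
`W → Spec Γ(P, W)` is bijective and closed and sections over basic opens are localizations. -/
theorem exists_iso_Spec
    (hbij : Function.Bijective (P.restrict W.isOpenEmbedding).toΓSpecFun)
    (hclosed : IsClosedMap (P.restrict W.isOpenEmbedding).toΓSpecFun)
    (hloc : ∀ (r : P.presheaf.obj (op (W.isOpenEmbedding.functor.obj ⊤))) (D : Opens P)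
      (_ : D = P.toRingedSpace.basicOpen r) (e : op (W.isOpenEmbedding.functor.obj ⊤) ⟶ op D),
      IsFrac (P.presheaf.map e).hom r ∧ IsTors (P.presheaf.map e).hom r) :
    ∃ R : CommRingCat.{u}, Nonempty (P.restrict W.isOpenEmbedding ≅
      Spec.toLocallyRingedSpace.obj (op R)) := by
  have hbase : IsIso (P.restrict W.isOpenEmbedding).toΓSpecBase :=
    TopCat.isIso_of_bijective_of_isClosedMap _ hbij hclosed
  have hiso : IsIso (P.restrict W.isOpenEmbedding).toΓSpec := by
    refine FerrAffine.isIso_toΓSpec _ hbase (fun r => ?_)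
    have hD : W.isOpenEmbedding.functor.obj ((P.restrict W.isOpenEmbedding).toΓSpecMapBasicOpen r) =
        P.toRingedSpace.basicOpen (U := W.isOpenEmbedding.functor.obj ⊤) r := by
      rw [LocallyRingedSpace.toΓSpecMapBasicOpen_eq]
      have := map_basicOpen P W r
      erw [← this]
      refine (Opens.functor_map_eq_inf W _).trans ?_
      refine inf_eq_left.mpr ?_
      refine (RingedSpace.basicOpen_le _ _).trans (le_of_eq ?_)
      exact Opens.isOpenEmbedding_obj_top W
    obtain ⟨h2, h3⟩ := hloc r _ hD (W.isOpenEmbedding.functor.map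
      ((P.restrict W.isOpenEmbedding).toΓSpecMapBasicOpen r).leTop).op
    exact FerrAffine.isIso_toΓSpecCApp _ r h2 h3
  exact ⟨_, ⟨@asIso _ _ _ _ (P.restrict W.isOpenEmbedding).toΓSpec hiso⟩⟩

end Groth.Agent.H87.FerrRestrict
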