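import Mathlib
import Groth.Agent.H87.FerrLRS
import Groth.Agent.H87.FerrRestrict

/-!
# Affine charts of a pushout of schemes in locally ringed spaces (helper87)

`exists_iso_Spec`: in a pushout `P` (in `LocallyRingedSpace`) of schemes `X ← Z → Y` along a closed
immersion `Z → X`, every open `W` of `P` whose preimages in `X` and `Y` are affine is an affine scheme.
-/

set_option autoImplicit false
open CategoryTheory Limits TopologicalSpace AlgebraicGeometry Opposite

namespace Groth.Agent.H87.FerrChart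

universe u

open Groth.Agent.H87.FerrAlg Groth.Agent.H87.FerrLRS

variable {X Y Z : Scheme.{u}} {P : LocallyRingedSpace.{u}} {i : Z ⟶ X} {j : Z ⟶ Y}
  {a : X.toLocallyRingedSpace ⟶ P} {b : Y.toLocallyRingedSpace ⟶ P}

/-- the open `W`, as the image of `⊤` under the inclusion of `W` -/
abbrev top (W : Opens P) : Opens P := W.isOpenEmbedding.functor.obj ⊤

theorem top_eq (W : Opens P) : top W = W := Opens.isOpenEmbedding_obj_top W

/-- the point of `P|_W` attached to a prime of `Γ(X, a⁻¹W)` -/
noncomputable def ptA (a : X.toLocallyRingedSpace ⟶ P) (W : Opens P)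
    (hU : IsAffineOpen (aU a (top W))) (x : PrimeSpectrum Γ(X, aU a (top W))) :
    P.restrict W.isOpenEmbedding :=
  ⟨a.base (hU.fromSpec.base x), by
    have h1 : hU.fromSpec.base x ∈ aU a (top W) := by
      rw [← SetLike.mem_coe, ← hU.range_fromSpec]
      exact ⟨x, rfl⟩
    have h2 : a.base (hU.fromSpec.base x) ∈ top W := h1
    exact (top_eq W).le h2⟩

/-- the point of `P|_W` attached to a prime of `Γ(Y, b⁻¹W)` -/
noncomputable def ptB (b : Y.toLocallyRingedSpace ⟶ P) (W : Opens P)
    (hV : IsAffineOpen (bV b (top W))) (y : PrimeSpectrum Γ(Y, bV b (top W))) :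
    P.restrict W.isOpenEmbedding :=
  ⟨b.base (hV.fromSpec.base y), by
    have h1 : hV.fromSpec.base y ∈ bV b (top W) := by
      rw [← SetLike.mem_coe, ← hV.range_fromSpec]
      exact ⟨y, rfl⟩
    have h2 : b.base (hV.fromSpec.base y) ∈ top W := h1
    exact (top_eq W).le h2⟩

theorem mem_ptA_iff (W : Opens P) (hU : IsAffineOpen (aU a (top W)))
    (x : PrimeSpectrum Γ(X, aU a (top W))) (r : P.presheaf.obj (op (top W))) :
    r ∈ ((P.restrict W.isOpenEmbedding).toΓSpecFun (ptA a W hU x)).asIdeal ↔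
      πA a (top W) r ∈ x.asIdeal := by
  refine (FerrRestrict.mem_toΓSpecFun_iff P W _ r).trans ?_
  change a.base (hU.fromSpec.base x) ∉ P.toRingedSpace.basicOpen r ↔ πA a (top W) r ∈ x.asIdeal
  have h1 : a.base (hU.fromSpec.base x) ∈ P.toRingedSpace.basicOpen r ↔
      hU.fromSpec.base x ∈ X.basicOpen (πA a (top W) r) := by
    have e := LocallyRingedSpace.preimage_basicOpen a r
    constructor
    · intro hp
      have hp' : hU.fromSpec.base x ∈ (Opens.map a.base).obj (P.toRingedSpace.basicOpen r) := hp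
      rw [e] at hp'
      exact hp'
    · intro hp
      have hp' : hU.fromSpec.base x ∈ (Opens.map a.base).obj (P.toRingedSpace.basicOpen r) := by
        rw [e]
        exact hp
      exact hp'
  have h2 : hU.fromSpec.base x ∈ X.basicOpen (πA a (top W) r) ↔
      x ∈ PrimeSpectrum.basicOpen (πA a (top W) r) := by
    have e := hU.fromSpec_preimage_basicOpen (πA a (top W) r)
    exact (show hU.fromSpec.base x ∈ X.basicOpen (πA a (top W) r) ↔
      x ∈ hU.fromSpec ⁻¹ᵁ X.basicOpen (πA a (top W) r) from Iff.rfl).trans (by rw [e]; rfl)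
  rw [h1, h2, PrimeSpectrum.mem_basicOpen, not_not]

theorem toΓSpecFun_ptA (W : Opens P) (hU : IsAffineOpen (aU a (top W)))
    (x : PrimeSpectrum Γ(X, aU a (top W))) :
    (P.restrict W.isOpenEmbedding).toΓSpecFun (ptA a W hU x) =
      PrimeSpectrum.comap (πA a (top W)) x :=
  PrimeSpectrum.ext (Ideal.ext (mem_ptA_iff W hU x))

theorem mem_ptB_iff (W : Opens P) (hV : IsAffineOpen (bV b (top W)))
    (y : PrimeSpectrum Γ(Y, bV b (top W))) (r : P.presheaf.obj (op (top W))) :
    r ∈ ((P.restrict W.isOpenEmbedding).toΓSpecFun (ptB b W hV y)).asIdeal ↔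
      πB b (top W) r ∈ y.asIdeal := by
  refine (FerrRestrict.mem_toΓSpecFun_iff P W _ r).trans ?_
  change b.base (hV.fromSpec.base y) ∉ P.toRingedSpace.basicOpen r ↔ πB b (top W) r ∈ y.asIdeal
  have h1 : b.base (hV.fromSpec.base y) ∈ P.toRingedSpace.basicOpen r ↔
      hV.fromSpec.base y ∈ Y.basicOpen (πB b (top W) r) := by
    have e := LocallyRingedSpace.preimage_basicOpen b r
    constructor
    · intro hp
      have hp' : hV.fromSpec.base y ∈ (Opens.map b.base).obj (P.toRingedSpace.basicOpen r) := hp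
      rw [e] at hp'
      exact hp'
    · intro hp
      have hp' : hV.fromSpec.base y ∈ (Opens.map b.base).obj (P.toRingedSpace.basicOpen r) := by
        rw [e]
        exact hp
      exact hp'
  have h2 : hV.fromSpec.base y ∈ Y.basicOpen (πB b (top W) r) ↔
      y ∈ PrimeSpectrum.basicOpen (πB b (top W) r) := by
    have e := hV.fromSpec_preimage_basicOpen (πB b (top W) r)
    exact (show hV.fromSpec.base y ∈ Y.basicOpen (πB b (top W) r) ↔
      y ∈ hV.fromSpec ⁻¹ᵁ Y.basicOpen (πB b (top W) r) from Iff.rfl).trans (by rw [e]; rfl)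
  rw [h1, h2, PrimeSpectrum.mem_basicOpen, not_not]

theorem toΓSpecFun_ptB (W : Opens P) (hV : IsAffineOpen (bV b (top W)))
    (y : PrimeSpectrum Γ(Y, bV b (top W))) :
    (P.restrict W.isOpenEmbedding).toΓSpecFun (ptB b W hV y) =
      PrimeSpectrum.comap (πB b (top W)) y :=
  PrimeSpectrum.ext (Ideal.ext (mem_ptB_iff W hV y))


theorem ptA_comap_eq (h : IsPushout i.toLRSHom j.toLRSHom a b) [IsAffineHom i] (W : Opens P)
    (hU : IsAffineOpen (aU a (top W))) (hV : IsAffineOpen (bV b (top W)))
    (z : PrimeSpectrum Γ(Z, i ⁻¹ᵁ aU a (top W))) :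
    ptA a W hU (PrimeSpectrum.comap (fC i a (top W)) z) =
      ptB b W hV (PrimeSpectrum.comap (gC h (top W)) z) := by
  have hZ : IsAffineOpen (i ⁻¹ᵁ aU a (top W)) := hU.preimage i
  apply Subtype.ext
  change a.base (hU.fromSpec.base (PrimeSpectrum.comap (fC i a (top W)) z)) =
    b.base (hV.fromSpec.base (PrimeSpectrum.comap (gC h (top W)) z))
  have e1 := IsAffineOpen.SpecMap_appLE_fromSpec i hU hZ le_rfl
  have e2 := IsAffineOpen.SpecMap_appLE_fromSpec j hV hZ (zW_eq h (top W)).le
  have e1' : hU.fromSpec.base (PrimeSpectrum.comap (fC i a (top W)) z) =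
      i.base (hZ.fromSpec.base z) := by
    have := congrArg (fun φ : Spec Γ(Z, i ⁻¹ᵁ aU a (top W)) ⟶ X => φ.base z) e1
    rw [← Scheme.Hom.app_eq_appLE] at this
    exact this
  have e2' : hV.fromSpec.base (PrimeSpectrum.comap (gC h (top W)) z) =
      j.base (hZ.fromSpec.base z) :=
    congrArg (fun φ : Spec Γ(Z, i ⁻¹ᵁ aU a (top W)) ⟶ Y => φ.base z) e2
  rw [e1', e2']
  exact FerrTop.comm_apply (isPushout_top h) _

theorem exists_pt (h : IsPushout i.toLRSHom j.toLRSHom a b) (W : Opens P)
    (hU : IsAffineOpen (aU a (top W))) (hV : IsAffineOpen (bV b (top W)))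
    (p : P.restrict W.isOpenEmbedding) :
    (∃ x, ptA a W hU x = p) ∨ ∃ y, ptB b W hV y = p := by
  obtain ⟨p, hp⟩ := p
  rcases FerrTop.eq_or_eq (isPushout_top h) p with ⟨x, rfl⟩ | ⟨y, rfl⟩
  · left
    have hx : x ∈ (aU a (top W) : Set X) := (top_eq W).ge hp
    rw [← hU.range_fromSpec] at hx
    obtain ⟨x', rfl⟩ := hx
    exact ⟨x', rfl⟩
  · right
    have hy : y ∈ (bV b (top W) : Set Y) := (top_eq W).ge hp
    rw [← hV.range_fromSpec] at hy
    obtain ⟨y', rfl⟩ := hy
    exact ⟨y', rfl⟩


theorem comap_fC_πA (h : IsPushout i.toLRSHom j.toLRSHom a b) (W : Opens P)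
    (z : PrimeSpectrum Γ(Z, i ⁻¹ᵁ aU a (top W))) :
    PrimeSpectrum.comap (πA a (top W)) (PrimeSpectrum.comap (fC i a (top W)) z) =
      PrimeSpectrum.comap (πB b (top W)) (PrimeSpectrum.comap (gC h (top W)) z) := by
  apply PrimeSpectrum.ext
  ext r
  change fC i a (top W) (πA a (top W) r) ∈ z.asIdeal ↔ gC h (top W) (πB b (top W) r) ∈ z.asIdeal
  rw [comm h (top W) r]

theorem injective_toΓSpecFun (h : IsPushout i.toLRSHom j.toLRSHom a b) [IsClosedImmersion i]
    (W : Opens P) (hU : IsAffineOpen (aU a (top W))) (hV : IsAffineOpen (bV b (top W))) :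
    Function.Injective (P.restrict W.isOpenEmbedding).toΓSpecFun := by
  have sq := isFibSq h (top W)
  have hf : Function.Surjective (fC i a (top W)) := i.app_surjective _ hU
  have hBB : ∀ y y', PrimeSpectrum.comap (πB b (top W)) y = PrimeSpectrum.comap (πB b (top W)) y' →
      y = y' := fun y y' hyy' =>
    PrimeSpectrum.comap_injective_of_surjective _ (sq.surjective_q hf) hyy'
  have hAB : ∀ x y, PrimeSpectrum.comap (πA a (top W)) x = PrimeSpectrum.comap (πB b (top W)) y →
      ptA a W hU x = ptB b W hV y := by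
    intro x y hxy
    obtain ⟨z, hz1, hz2⟩ := sq.spec_pullback hf y x hxy.symm
    rw [← hz1, ← hz2]
    exact ptA_comap_eq h W hU hV z
  have hAA : ∀ x x', x ∈ Set.range (PrimeSpectrum.comap (fC i a (top W))) →
      PrimeSpectrum.comap (πA a (top W)) x = PrimeSpectrum.comap (πA a (top W)) x' →
      ptA a W hU x = ptA a W hU x' := by
    rintro _ x' ⟨z, rfl⟩ hxx'
    rw [ptA_comap_eq h W hU hV z]
    symm
    apply hAB
    rw [← hxx']
    exact comap_fC_πA h W z
  intro p p' hpp'
  rcases exists_pt h W hU hV p with ⟨x, rfl⟩ | ⟨y, rfl⟩ <;>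
    rcases exists_pt h W hU hV p' with ⟨x', rfl⟩ | ⟨y', rfl⟩
  · rw [toΓSpecFun_ptA, toΓSpecFun_ptA] at hpp'
    by_cases hx : x ∈ Set.range (PrimeSpectrum.comap (fC i a (top W)))
    · exact hAA x x' hx hpp'
    · by_cases hx' : x' ∈ Set.range (PrimeSpectrum.comap (fC i a (top W)))
      · exact (hAA x' x hx' hpp'.symm).symm
      · rw [sq.spec_inj_A hf x x' hx hx' hpp']
  · rw [toΓSpecFun_ptA, toΓSpecFun_ptB] at hpp'
    exact hAB x y' hpp'
  · rw [toΓSpecFun_ptB, toΓSpecFun_ptA] at hpp'
    exact (hAB x' y hpp'.symm).symm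
  · rw [toΓSpecFun_ptB, toΓSpecFun_ptB] at hpp'
    rw [hBB y y' hpp']

theorem surjective_toΓSpecFun (h : IsPushout i.toLRSHom j.toLRSHom a b) [IsClosedImmersion i]
    (W : Opens P) (hU : IsAffineOpen (aU a (top W))) (hV : IsAffineOpen (bV b (top W))) :
    Function.Surjective (P.restrict W.isOpenEmbedding).toΓSpecFun := by
  have sq := isFibSq h (top W)
  have hf : Function.Surjective (fC i a (top W)) := i.app_surjective _ hU
  intro q
  rcases sq.spec_cases hf q with ⟨y, rfl⟩ | ⟨x, rfl⟩
  · exact ⟨ptB b W hV y, toΓSpecFun_ptB W hV y⟩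
  · exact ⟨ptA a W hU x, toΓSpecFun_ptA W hU x⟩

theorem continuous_ptA (W : Opens P) (hU : IsAffineOpen (aU a (top W))) :
    Continuous (ptA a W hU) :=
  Continuous.subtype_mk (a.base.hom.continuous.comp hU.fromSpec.base.hom.continuous) _

theorem continuous_ptB (W : Opens P) (hV : IsAffineOpen (bV b (top W))) :
    Continuous (ptB b W hV) :=
  Continuous.subtype_mk (b.base.hom.continuous.comp hV.fromSpec.base.hom.continuous) _

theorem isClosedMap_toΓSpecFun (h : IsPushout i.toLRSHom j.toLRSHom a b) [IsClosedImmersion i]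
    (W : Opens P) (hU : IsAffineOpen (aU a (top W))) (hV : IsAffineOpen (bV b (top W))) :
    IsClosedMap (P.restrict W.isOpenEmbedding).toΓSpecFun := by
  have sq := isFibSq h (top W)
  have hf : Function.Surjective (fC i a (top W)) := i.app_surjective _ hU
  have hinj := injective_toΓSpecFun h W hU hV
  intro F hF
  apply sq.spec_isClosed hf
  · have : PrimeSpectrum.comap (πB b (top W)) ⁻¹'
        ((P.restrict W.isOpenEmbedding).toΓSpecFun '' F) = (ptB b W hV) ⁻¹' F := by
      ext y
      constructor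
      · rintro ⟨p, hpF, hp⟩
        have := hinj (hp.trans (toΓSpecFun_ptB W hV y).symm)
        subst this
        exact hpF
      · intro hy
        exact ⟨ptB b W hV y, hy, toΓSpecFun_ptB W hV y⟩
    exact (congrArg IsClosed this).mpr (hF.preimage (continuous_ptB W hV))
  · have : PrimeSpectrum.comap (πA a (top W)) ⁻¹'
        ((P.restrict W.isOpenEmbedding).toΓSpecFun '' F) = (ptA a W hU) ⁻¹' F := by
      ext x
      constructor
      · rintro ⟨p, hpF, hp⟩
        have := hinj (hp.trans (toΓSpecFun_ptA W hU x).symm)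
        subst this
        exact hpF
      · intro hx
        exact ⟨ptA a W hU x, hx, toΓSpecFun_ptA W hU x⟩
    exact (congrArg IsClosed this).mpr (hF.preimage (continuous_ptA W hU))

/-- **Chart theorem**: in a pushout `P` (in locally ringed spaces) of schemes `X ← Z → Y` with
`Z → X` a closed immersion, an open `W` whose preimages in `X` and `Y` are affine is affine. -/
theorem exists_iso_Spec (h : IsPushout i.toLRSHom j.toLRSHom a b) [IsClosedImmersion i]
    (W : Opens P) (hU : IsAffineOpen (aU a W)) (hV : IsAffineOpen (bV b W)) :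
    ∃ R : CommRingCat.{u}, Nonempty (P.restrict W.isOpenEmbedding ≅
      Spec.toLocallyRingedSpace.obj (op R)) := by
  have hU' : IsAffineOpen (aU a (top W)) := by rw [top_eq]; exact hU
  have hV' : IsAffineOpen (bV b (top W)) := by rw [top_eq]; exact hV
  exact FerrRestrict.exists_iso_Spec P W
    ⟨injective_toΓSpecFun h W hU' hV', surjective_toΓSpecFun h W hU' hV'⟩
    (isClosedMap_toΓSpecFun h W hU' hV')
    (fun r D hD e => isFrac_isTors h hU' hV' r D hD e)

end Groth.Agent.H87.FerrChart
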