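import Mathlib
import Groth.Agent.H87.FerrChart

/-!
# The pushout of schemes along a closed immersion, as a scheme (helper87)

For a closed immersion `i : Z ⟶ X`, a morphism `j : Z ⟶ Y` and a pushout `P` of them in
`LocallyRingedSpace` covered by opens with affine preimages in `X` and `Y` (`Covered`):
`scheme`, `inl`, `inr`, `isPushout` (pushout in schemes), `isAffineOpen`, `isClosedImmersion_inr`,
`isClosedImmersion_inl` (if `j` is a closed immersion), `isPullback` (if `j` is inducing),
`covered_of_pairs` (matched pairs of affine opens give `Covered`).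
-/

set_option autoImplicit false
open CategoryTheory Limits TopologicalSpace AlgebraicGeometry Opposite

namespace Groth.Agent.H87.FerrScheme

universe u

open Groth.Agent.H87.FerrAlg Groth.Agent.H87.FerrLRS

variable {X Y Z : Scheme.{u}} {P : LocallyRingedSpace.{u}} {i : Z ⟶ X} {j : Z ⟶ Y}
  {a : X.toLocallyRingedSpace ⟶ P} {b : Y.toLocallyRingedSpace ⟶ P}

/-- the pushout is covered by opens whose preimages in `X` and `Y` are affine -/
def Covered (a : X.toLocallyRingedSpace ⟶ P) (b : Y.toLocallyRingedSpace ⟶ P) : Prop :=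
  ∀ p : P, ∃ W : Opens P, p ∈ W ∧ IsAffineOpen (aU a W) ∧ IsAffineOpen (bV b W)

/-- the scheme structure on the pushout in locally ringed spaces -/
noncomputable def scheme (h : IsPushout i.toLRSHom j.toLRSHom a b) [IsClosedImmersion i]
    (hcov : Covered a b) : Scheme.{u} where
  toLocallyRingedSpace := P
  local_affine p := by
    obtain ⟨W, hpW, hU, hV⟩ := hcov p
    obtain ⟨R, hR⟩ := FerrChart.exists_iso_Spec h W hU hV
    exact ⟨⟨W, hpW⟩, R, hR⟩

/-- `X ⟶ P` as a morphism of schemes -/
noncomputable def inl (h : IsPushout i.toLRSHom j.toLRSHom a b) [IsClosedImmersion i]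
    (hcov : Covered a b) : X ⟶ scheme h hcov := Scheme.Hom.mk a

/-- `Y ⟶ P` as a morphism of schemes -/
noncomputable def inr (h : IsPushout i.toLRSHom j.toLRSHom a b) [IsClosedImmersion i]
    (hcov : Covered a b) : Y ⟶ scheme h hcov := Scheme.Hom.mk b

theorem isPushout (h : IsPushout i.toLRSHom j.toLRSHom a b) [IsClosedImmersion i]
    (hcov : Covered a b) : IsPushout i j (inl h hcov) (inr h hcov) := by
  refine IsPushout.of_map Scheme.forgetToLocallyRingedSpace ?_ h
  apply Scheme.forgetToLocallyRingedSpace.map_injective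
  exact h.w

/-- opens with affine preimages are affine opens of the pushout scheme -/
theorem isAffineOpen (h : IsPushout i.toLRSHom j.toLRSHom a b) [IsClosedImmersion i]
    (hcov : Covered a b) (W : Opens P) (hU : IsAffineOpen (aU a W))
    (hV : IsAffineOpen (bV b W)) : IsAffineOpen (X := scheme h hcov) W := by
  obtain ⟨R, ⟨e⟩⟩ := FerrChart.exists_iso_Spec h W hU hV
  let e' : (Scheme.Opens.toScheme (X := scheme h hcov) W) ≅ Spec R :=
    Scheme.forgetToLocallyRingedSpace.preimageIso e
  exact IsAffine.of_isIso e'.hom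

/-- matched pairs of affine opens covering `X` and `Y` give the covering hypothesis -/
theorem covered_of_pairs (h : IsPushout i.toLRSHom j.toLRSHom a b)
    (hX : ∀ x : X, ∃ (U : X.Opens) (V : Y.Opens), IsAffineOpen U ∧ IsAffineOpen V ∧
      i ⁻¹ᵁ U = j ⁻¹ᵁ V ∧ x ∈ U)
    (hY : ∀ y : Y, ∃ (U : X.Opens) (V : Y.Opens), IsAffineOpen U ∧ IsAffineOpen V ∧
      i ⁻¹ᵁ U = j ⁻¹ᵁ V ∧ y ∈ V) : Covered a b := by
  intro p
  rcases FerrTop.eq_or_eq (isPushout_top h) p with ⟨x, rfl⟩ | ⟨y, rfl⟩
  · obtain ⟨U, V, hU, hV, hUV, hx⟩ := hX x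
    obtain ⟨W, hW1, hW2⟩ := FerrTop.exists_opens (isPushout_top h) U V hUV
    refine ⟨W, ?_, ?_, ?_⟩
    · change x ∈ (Opens.map a.base).obj W
      rw [hW1]
      exact hx
    · change IsAffineOpen ((Opens.map a.base).obj W)
      rw [hW1]
      exact hU
    · change IsAffineOpen ((Opens.map b.base).obj W)
      rw [hW2]
      exact hV
  · obtain ⟨U, V, hU, hV, hUV, hy⟩ := hY y
    obtain ⟨W, hW1, hW2⟩ := FerrTop.exists_opens (isPushout_top h) U V hUV
    refine ⟨W, ?_, ?_, ?_⟩
    · change y ∈ (Opens.map b.base).obj W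
      rw [hW2]
      exact hy
    · change IsAffineOpen ((Opens.map a.base).obj W)
      rw [hW1]
      exact hU
    · change IsAffineOpen ((Opens.map b.base).obj W)
      rw [hW2]
      exact hV


set_option backward.isDefEq.respectTransparency.types false in
theorem isClosedImmersion_inr (h : IsPushout i.toLRSHom j.toLRSHom a b) [IsClosedImmersion i]
    (hcov : Covered a b) : IsClosedImmersion (inr h hcov) := by
  choose W hpW hU hV using (fun p => hcov p)
  have hWaff : ∀ p, IsAffineOpen (X := scheme h hcov) (W p) := fun p =>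
    isAffineOpen h hcov (W p) (hU p) (hV p)
  rw [HasAffineProperty.iff_of_iSup_eq_top (P := @IsClosedImmersion)
    (fun p : P => (⟨W p, hWaff p⟩ : (scheme h hcov).affineOpens))
    (by
      rw [eq_top_iff]
      intro p _
      exact Opens.mem_iSup.mpr ⟨p, hpW p⟩)]
  intro p
  refine ⟨hV p, ?_⟩
  rw [morphismRestrict_appTop]
  have hU' : IsAffineOpen (aU a (FerrChart.top (W p))) := by
    rw [FerrChart.top_eq]; exact hU p
  have sq := isFibSq h (FerrChart.top (W p))
  have hf : Function.Surjective (fC i a (FerrChart.top (W p))) := i.app_surjective _ hU'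
  have hq := sq.surjective_q hf
  intro y
  have hiso : IsIso (Y.presheaf.map (eqToHom
      (image_morphismRestrict_preimage (inr h hcov) (W p) ⊤)).op) :=
    Functor.map_isIso _ _
  obtain ⟨y', hy'⟩ := (ConcreteCategory.bijective_of_isIso (Y.presheaf.map (eqToHom
      (image_morphismRestrict_preimage (inr h hcov) (W p) ⊤)).op)).2 y
  obtain ⟨r, hr⟩ := hq y'
  refine ⟨r, ?_⟩
  change (Y.presheaf.map _).hom ((πB b (FerrChart.top (W p))) r) = y
  rw [hr]
  exact hy'


theorem Covered.flip (hcov : Covered a b) : Covered b a := fun p => by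
  obtain ⟨W, hp, hU, hV⟩ := hcov p
  exact ⟨W, hp, hV, hU⟩

theorem isClosedImmersion_inl (h : IsPushout i.toLRSHom j.toLRSHom a b) [IsClosedImmersion i]
    [IsClosedImmersion j] (hcov : Covered a b) : IsClosedImmersion (inl h hcov) :=
  isClosedImmersion_inr h.flip hcov.flip


/-- a function on `X` vanishing on `Z` pulls back to zero along any `s : T ⟶ X` that, together
with some `t : T ⟶ Y`, equalizes the pushout maps -/
theorem app_eq_zero (h : IsPushout i.toLRSHom j.toLRSHom a b) [IsClosedImmersion i]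
    (hcov : Covered a b) {T : Scheme.{u}} (s : T ⟶ X) (t : T ⟶ Y)
    (hst : s ≫ inl h hcov = t ≫ inr h hcov) (W : (scheme h hcov).Opens) (x : Γ(X, aU a W))
    (hx : fC i a W x = 0) : (s.app (aU a W)).hom x = 0 := by
  have sq := isFibSq h W
  obtain ⟨r, hr1, hr2⟩ := sq.glue x 0 (by rw [hx, map_zero])
  have e1 := Scheme.Hom.congr_app hst W
  have es := Scheme.Hom.comp_app s (inl h hcov) W
  have et := Scheme.Hom.comp_app t (inr h hcov) W
  rw [es, et] at e1
  have e2 : (s.app (inl h hcov ⁻¹ᵁ W)).hom (((inl h hcov).app W).hom r) =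
      (T.presheaf.map (eqToHom _).op).hom
        ((t.app (inr h hcov ⁻¹ᵁ W)).hom (((inr h hcov).app W).hom r)) :=
    congrArg (fun φ => φ.hom r) e1
  have e3 : ((inl h hcov).app W).hom r = x := hr1
  have e4 : ((inr h hcov).app W).hom r = 0 := hr2
  rw [e3, e4, map_zero, map_zero] at e2
  exact e2


theorem ker_le (h : IsPushout i.toLRSHom j.toLRSHom a b) [IsClosedImmersion i]
    (hcov : Covered a b) (hj : Topology.IsInducing j.base) {T : Scheme.{u}} (s : T ⟶ X)
    (t : T ⟶ Y) (hst : s ≫ inl h hcov = t ≫ inr h hcov) : i.ker ≤ s.ker := by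
  change i.ker ≤ Scheme.IdealSheafData.ofIdeals (fun U => RingHom.ker (s.app U).hom)
  rw [Scheme.IdealSheafData.le_ofIdeals_iff]
  intro U
  rw [Scheme.Hom.ker_apply]
  obtain ⟨U, hUaff⟩ := U
  intro x hx
  have hx0 : (i.app U).hom x = 0 := hx
  obtain ⟨V, hVo, hV⟩ := hj.isOpen_iff.mp (i ⁻¹ᵁ U).2
  obtain ⟨W, hW1, hW2⟩ := FerrTop.exists_opens (isPushout_top h) U ⟨V, hVo⟩ (Opens.ext hV.symm)
  change (Opens.map a.base).obj W = U at hW1
  subst hW1
  exact app_eq_zero h hcov s t hst W x hx0

theorem isPullback (h : IsPushout i.toLRSHom j.toLRSHom a b) [IsClosedImmersion i]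
    (hcov : Covered a b) (hj : Topology.IsInducing j.base) :
    IsPullback i j (inl h hcov) (inr h hcov) := by
  have hinr := isClosedImmersion_inr h hcov
  refine ⟨⟨(isPushout h hcov).w⟩, ⟨PullbackCone.IsLimit.mk _
    (fun c => IsClosedImmersion.lift i c.fst (ker_le h hcov hj c.fst c.snd c.condition))
    (fun c => IsClosedImmersion.lift_fac i c.fst _) (fun c => ?_) (fun c m hm1 _ => ?_)⟩⟩
  · rw [← cancel_mono (inr h hcov), Category.assoc, ← (isPushout h hcov).w,
      IsClosedImmersion.lift_fac_assoc]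
    exact c.condition
  · rw [← cancel_mono i, hm1, IsClosedImmersion.lift_fac]

end Groth.Agent.H87.FerrScheme
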