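import Mathlib
import Groth.Agent.H87.FerrScheme

/-!
# Integrality of `X ⟶ P` for Ferrand pushouts along an integral morphism (helper87)

`IsFibSq.isIntegral_p` (algebra) and `isIntegralHom_inl`.
-/

set_option autoImplicit false
open CategoryTheory Limits TopologicalSpace AlgebraicGeometry Opposite Polynomial

namespace Groth.Agent.H87.FerrAlg

variable {R A B C : Type*} [CommRing R] [CommRing A] [CommRing B] [CommRing C]
  {p : R →+* A} {q : R →+* B} {f : A →+* C} {g : B →+* C}

/-- in a fibre square with `f` surjective and `g` integral, `p` is integral -/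
theorem IsFibSq.isIntegral_p (h : IsFibSq p q f g) (hf : Function.Surjective f)
    (hg : g.IsIntegral) : p.IsIntegral := by
  have hq : Function.Surjective q := by
    intro b
    obtain ⟨a, ha⟩ := hf (g b)
    obtain ⟨r, _, hr⟩ := h.glue a b ha
    exact ⟨r, hr⟩
  intro a
  rcases subsingleton_or_nontrivial B with hB | hB
  · -- then `C` is trivial and `p` is surjective
    have hC : f a = g 0 := by
      have h1 : (1 : C) = 0 := by
        rw [← map_one g, Subsingleton.elim (1 : B) 0, map_zero]
      rw [map_zero, ← mul_one (f a), h1, mul_zero]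
    obtain ⟨r, hr, -⟩ := h.glue a 0 hC
    rw [← hr]
    exact p.isIntegralElem_map
  have hR : Nontrivial R := hq.nontrivial
  obtain ⟨m, hm, hma⟩ := hg (f a)
  obtain ⟨M, hMm, -, hM⟩ := Polynomial.lifts_and_degree_eq_and_monic
    ((Polynomial.map_surjective q hq m).elim fun M hM => (Polynomial.mem_lifts _).mpr ⟨M, hM⟩) hm
  -- `a' = M(a) * a` maps to zero in `C`
  have hfa : f (eval₂ p a (M * X)) = 0 := by
    rw [Polynomial.hom_eval₂, eval₂_mul, eval₂_X]
    have h1 : f.comp p = g.comp q := RingHom.ext h.comm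
    rw [h1, ← Polynomial.eval₂_map, hMm, hma, zero_mul]
  obtain ⟨r₀, hr₀, -⟩ := h.glue (eval₂ p a (M * X)) 0 (by rw [hfa, map_zero])
  have hMX : (M * X).Monic := hM.mul monic_X
  refine ⟨M * X - Polynomial.C r₀, ?_, ?_⟩
  · apply Polynomial.Monic.sub_of_left hMX
    refine lt_of_le_of_lt degree_C_le ?_
    rw [Polynomial.degree_eq_natDegree hMX.ne_zero, hM.natDegree_mul monic_X, natDegree_X]
    exact_mod_cast Nat.succ_pos _
  · rw [eval₂_sub, eval₂_C, hr₀, sub_self]

end Groth.Agent.H87.FerrAlg

namespace Groth.Agent.H87.FerrScheme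

universe u
open Groth.Agent.H87.FerrAlg Groth.Agent.H87.FerrLRS

variable {X Y Z : Scheme.{u}} {P : LocallyRingedSpace.{u}} {i : Z ⟶ X} {j : Z ⟶ Y}
  {a : X.toLocallyRingedSpace ⟶ P} {b : Y.toLocallyRingedSpace ⟶ P}

theorem gC_isIntegral (h : IsPushout i.toLRSHom j.toLRSHom a b) [IsIntegralHom j] (W : Opens P)
    (hV : IsAffineOpen (bV b W)) : (gC h W).IsIntegral := by
  have h1 : (j.app (bV b W)).hom.IsIntegral := j.isIntegral_app _ hV
  have h2 : gC h W = (Z.presheaf.map (eqToHom (congrArg op (zW_eq h W).symm))).hom.comp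
      (j.app (bV b W)).hom := by
    ext y
    exact gC_apply h W y
  rw [h2]
  refine RingHom.IsIntegral.trans _ _ h1 ?_
  apply RingHom.isIntegral_of_surjective
  have : IsIso (Z.presheaf.map (eqToHom (congrArg op (zW_eq h W).symm))) := Functor.map_isIso _ _
  exact (ConcreteCategory.bijective_of_isIso _).2

set_option backward.isDefEq.respectTransparency.types false in
theorem isIntegralHom_inl (h : IsPushout i.toLRSHom j.toLRSHom a b) [IsClosedImmersion i]
    [IsIntegralHom j] (hcov : Covered a b) : IsIntegralHom (inl h hcov) := by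
  choose W hpW hU hV using (fun p => hcov p)
  have hWaff : ∀ p, IsAffineOpen (X := scheme h hcov) (W p) := fun p =>
    isAffineOpen h hcov (W p) (hU p) (hV p)
  rw [HasAffineProperty.iff_of_iSup_eq_top (P := @IsIntegralHom)
    (fun p : P => (⟨W p, hWaff p⟩ : (scheme h hcov).affineOpens))
    (by
      rw [eq_top_iff]
      intro p _
      exact Opens.mem_iSup.mpr ⟨p, hpW p⟩)]
  intro p
  refine ⟨hU p, ?_⟩
  change (Scheme.Hom.appTop (inl h hcov ∣_ W p)).hom.IsIntegral
  rw [morphismRestrict_appTop]
  have hU' : IsAffineOpen (aU a (FerrChart.top (W p))) := by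
    rw [FerrChart.top_eq]; exact hU p
  have hV' : IsAffineOpen (bV b (FerrChart.top (W p))) := by
    rw [FerrChart.top_eq]; exact hV p
  have sq := isFibSq h (FerrChart.top (W p))
  have hf : Function.Surjective (fC i a (FerrChart.top (W p))) := i.app_surjective _ hU'
  have hp := sq.isIntegral_p hf (gC_isIntegral h _ hV')
  change ((X.presheaf.map (eqToHom
      (image_morphismRestrict_preimage (inl h hcov) (W p) ⊤)).op).hom.comp
      (πA a (FerrChart.top (W p)))).IsIntegral
  refine RingHom.IsIntegral.trans _ _ hp ?_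
  apply RingHom.isIntegral_of_surjective
  have hiso : IsIso (X.presheaf.map (eqToHom
      (image_morphismRestrict_preimage (inl h hcov) (W p) ⊤)).op) :=
    Functor.map_isIso _ _
  exact (ConcreteCategory.bijective_of_isIso _).2

end Groth.Agent.H87.FerrScheme
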