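import Mathlib
import Groth.Agent.H87.FerrScheme

/-!
# Ferrand pushouts are cartesian (helper87)

`isPullback'`: for a closed immersion `i : Z ⟶ X`, any `j : Z ⟶ Y` and a covered pushout in locally
ringed spaces, the pushout square of schemes `FerrScheme.isPushout` is also a pullback square.
-/

set_option autoImplicit false
open CategoryTheory Limits TopologicalSpace AlgebraicGeometry Opposite

namespace Groth.Agent.H87.FerrPullback

universe u

open Groth.Agent.H87.FerrAlg Groth.Agent.H87.FerrLRS Groth.Agent.H87.FerrScheme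

variable {X Y Z : Scheme.{u}} {P : LocallyRingedSpace.{u}} {i : Z ⟶ X} {j : Z ⟶ Y}
  {a : X.toLocallyRingedSpace ⟶ P} {b : Y.toLocallyRingedSpace ⟶ P}

/-- restriction of sections of a scheme, commuting with `app` -/
theorem app_res {T X : Scheme.{u}} (s : T ⟶ X) {U D : X.Opens} (hD : D ≤ U) (x : Γ(X, U)) :
    (s.app D).hom ((X.presheaf.map (homOfLE hD).op).hom x) =
      (T.presheaf.map (homOfLE (show s ⁻¹ᵁ D ≤ s ⁻¹ᵁ U from fun _ hx => hD hx)).op).hom
        ((s.app U).hom x) := by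
  have := s.naturality (homOfLE hD).op
  exact congrArg (fun φ => φ.hom x) this

/-- composite of restrictions -/
theorem res_res (X : Scheme.{u}) {U V W : X.Opens} (h₁ : V ≤ U) (h₂ : W ≤ V) (x : Γ(X, U)) :
    (X.presheaf.map (homOfLE h₂).op).hom ((X.presheaf.map (homOfLE h₁).op).hom x) =
      (X.presheaf.map (homOfLE (h₂.trans h₁)).op).hom x := by
  rw [← CommRingCat.comp_apply, ← Functor.map_comp]
  rfl

/-- local vanishing: a function on an affine open `U` of `X` vanishing on `Z` pulls back to a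
function on `T` vanishing near every point -/
theorem exists_res_eq_zero (h : IsPushout i.toLRSHom j.toLRSHom a b) [IsClosedImmersion i]
    (hcov : Covered a b) {T : Scheme.{u}} (s : T ⟶ X) (t : T ⟶ Y)
    (hst : s ≫ inl h hcov = t ≫ inr h hcov) (U : X.Opens) (x : Γ(X, U))
    (hx : (i.app U).hom x = 0) (τ : T) (hτ : s.base τ ∈ U) :
    ∃ (D : X.Opens) (hD : D ≤ U), s.base τ ∈ D ∧
      (s.app D).hom ((X.presheaf.map (homOfLE hD).op).hom x) = 0 := by
  obtain ⟨W, hpW, hUW, hVW⟩ := hcov (a.base (s.base τ))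
  have hτW : s.base τ ∈ aU a W := hpW
  obtain ⟨φ, hφle, hφτ⟩ := hUW.exists_basicOpen_le (V := U ⊓ aU a W) ⟨s.base τ, hτ, hτW⟩ hτW
  have hDU : X.basicOpen φ ≤ U := hφle.trans inf_le_left
  have hDW : X.basicOpen φ ≤ aU a W := X.basicOpen_le φ
  refine ⟨X.basicOpen φ, hDU, hφτ, ?_⟩
  obtain ⟨xD, hxD⟩ : ∃ xD, xD = (X.presheaf.map (homOfLE hDU).op).hom x := ⟨_, rfl⟩
  rw [← hxD]
  obtain ⟨n, x', hx'⟩ := exists_eq_pow_mul_of_isAffineOpen X (aU a W) hUW φ xD
  -- `hx' : x' |_ D = (φ |_ D) ^ n * xD`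
  have hx'' : (X.presheaf.map (homOfLE hDW).op).hom x' =
      ((X.presheaf.map (homOfLE hDW).op).hom φ) ^ n * xD := hx'
  -- `i^♯ xD = 0`
  have hixD : (i.app (X.basicOpen φ)).hom xD = 0 := by
    rw [hxD, app_res i hDU x, hx, map_zero]
  -- `i^♯ x'` vanishes on `i⁻¹ D`
  have hZ : IsAffineOpen (i ⁻¹ᵁ aU a W) := hUW.preimage i
  have hix' : (Z.presheaf.map (homOfLE (show i ⁻¹ᵁ X.basicOpen φ ≤ i ⁻¹ᵁ aU a W from
      fun _ hz => hDW hz)).op).hom ((i.app (aU a W)).hom x') = 0 := by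
    rw [← app_res i hDW x', hx'', map_mul, hixD, mul_zero]
  have hpre : i ⁻¹ᵁ X.basicOpen φ = Z.basicOpen ((i.app (aU a W)).hom φ) :=
    Scheme.preimage_basicOpen i φ
  obtain ⟨m, hm⟩ := isTors_res hZ ((i.app (aU a W)).hom φ) _ hpre _ _ hix'
  -- `x'' = φ ^ m * x'` vanishes on `Z`
  have hx2 : fC i a W (φ ^ m * x') = 0 := by
    change (i.app (aU a W)).hom (φ ^ m * x') = 0
    rw [map_mul, map_pow]
    exact hm
  have hs0 := app_eq_zero h hcov s t hst W (φ ^ m * x') hx2
  -- restrict to `D`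
  have hs1 : (s.app (X.basicOpen φ)).hom ((X.presheaf.map (homOfLE hDW).op).hom (φ ^ m * x')) =
      0 := by
    rw [app_res s hDW, hs0, map_zero]
  rw [map_mul, map_pow, hx'', ← mul_assoc, ← pow_add, map_mul, map_pow] at hs1
  have hunit : IsUnit ((s.app (X.basicOpen φ)).hom ((X.presheaf.map (homOfLE hDW).op).hom φ)) :=
    (RingedSpace.isUnit_res_basicOpen X.toRingedSpace φ).map _
  exact (hunit.pow (m + n)).mul_right_eq_zero.mp hs1


/-- a function on an open `U` of `X` vanishing on `Z` pulls back to zero along any `s : T ⟶ X`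
that, together with some `t : T ⟶ Y`, equalizes the pushout maps (no hypothesis on `j`) -/
theorem app_eq_zero' (h : IsPushout i.toLRSHom j.toLRSHom a b) [IsClosedImmersion i]
    (hcov : Covered a b) {T : Scheme.{u}} (s : T ⟶ X) (t : T ⟶ Y)
    (hst : s ≫ inl h hcov = t ≫ inr h hcov) (U : X.Opens) (x : Γ(X, U))
    (hx : (i.app U).hom x = 0) : (s.app U).hom x = 0 := by
  apply TopCat.Presheaf.section_ext T.sheaf (s ⁻¹ᵁ U)
  intro τ hτ
  obtain ⟨D, hD, hτD, h0⟩ := exists_res_eq_zero h hcov s t hst U x hx τ hτ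
  have hτD' : τ ∈ s ⁻¹ᵁ D := hτD
  have e1 := TopCat.Presheaf.germ_res_apply T.presheaf
    (homOfLE (show s ⁻¹ᵁ D ≤ s ⁻¹ᵁ U from fun _ hx => hD hx)) τ hτD' ((s.app U).hom x)
  change (T.presheaf.germ (s ⁻¹ᵁ U) τ hτ).hom ((s.app U).hom x) =
    (T.presheaf.germ (s ⁻¹ᵁ U) τ hτ).hom 0
  refine e1.symm.trans ?_
  rw [← app_res s hD x, h0, map_zero, map_zero]

theorem ker_le' (h : IsPushout i.toLRSHom j.toLRSHom a b) [IsClosedImmersion i]
    (hcov : Covered a b) {T : Scheme.{u}} (s : T ⟶ X)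
    (t : T ⟶ Y) (hst : s ≫ inl h hcov = t ≫ inr h hcov) : i.ker ≤ s.ker := by
  change i.ker ≤ Scheme.IdealSheafData.ofIdeals (fun U => RingHom.ker (s.app U).hom)
  rw [Scheme.IdealSheafData.le_ofIdeals_iff]
  intro U
  rw [Scheme.Hom.ker_apply]
  intro x hx
  exact app_eq_zero' h hcov s t hst U x hx

/-- **The Ferrand pushout square is cartesian** (for any `j`). -/
theorem isPullback' (h : IsPushout i.toLRSHom j.toLRSHom a b) [IsClosedImmersion i]
    (hcov : Covered a b) : IsPullback i j (inl h hcov) (inr h hcov) := by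
  have hinr := isClosedImmersion_inr h hcov
  refine ⟨⟨(isPushout h hcov).w⟩, ⟨PullbackCone.IsLimit.mk _
    (fun c => IsClosedImmersion.lift i c.fst (ker_le' h hcov c.fst c.snd c.condition))
    (fun c => IsClosedImmersion.lift_fac i c.fst _) (fun c => ?_) (fun c m hm1 _ => ?_)⟩⟩
  · rw [← cancel_mono (inr h hcov), Category.assoc, ← (isPushout h hcov).w,
      IsClosedImmersion.lift_fac_assoc]
    exact c.condition
  · rw [← cancel_mono i, hm1, IsClosedImmersion.lift_fac]

end Groth.Agent.H87.FerrPullback
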