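import Mathlib
import Groth.Agent.H87.FerrIntegralHom
import Groth.Agent.H87.FerrPullback

/-!
# Finiteness of `X ⟶ P` for Ferrand pushouts along a finite morphism, and the bridge to an
arbitrary pushout in schemes (helper87)

`IsFibSq.finite_p` (algebra), `isFinite_inl`, `exists_iso_of_isPushout`.
-/

set_option autoImplicit false
open CategoryTheory Limits TopologicalSpace AlgebraicGeometry Opposite

namespace Groth.Agent.H87.FerrAlg

variable {R A B C : Type*} [CommRing R] [CommRing A] [CommRing B] [CommRing C]
  {p : R →+* A} {q : R →+* B} {f : A →+* C} {g : B →+* C}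

/-- in a fibre square with `f` surjective and `g` finite, `p` is finite -/
theorem IsFibSq.finite_p (h : IsFibSq p q f g) (hf : Function.Surjective f)
    (hg : g.Finite) : p.Finite := by
  classical
  have hq : Function.Surjective q := by
    intro b
    obtain ⟨a, ha⟩ := hf (g b)
    obtain ⟨r, _, hr⟩ := h.glue a b ha
    exact ⟨r, hr⟩
  letI := p.toAlgebra
  letI := g.toAlgebra
  have hgfin : Module.Finite B C := hg
  obtain ⟨s, hs⟩ := hgfin.fg_top
  -- lifts of the generators
  choose lift hlift using hf
  change Module.Finite R A
  refine ⟨⟨insert 1 (s.image lift), ?_⟩⟩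
  rw [eq_top_iff]
  intro x _
  -- write `f x` as a combination of generators
  have hx : f x ∈ Submodule.span B (s : Set C) := by rw [hs]; trivial
  -- induction over the span, generalizing `x`
  have key : ∀ c ∈ Submodule.span B (s : Set C), ∀ x : A, f x = c →
      x ∈ Submodule.span R ((insert 1 (s.image lift) : Finset A) : Set A) := by
    intro c hc
    induction hc using Submodule.span_induction with
    | mem c hc =>
      intro x hx
      -- `x - lift c ∈ ker f`
      have h0 : f (x - lift c) = g 0 := by rw [map_sub, hlift, hx, sub_self, map_zero]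
      obtain ⟨r, hr, -⟩ := h.glue _ _ h0
      have hx' : x = r • (1 : A) + lift c := by
        change x = p r * 1 + lift c
        rw [hr]; ring
      rw [hx']
      apply Submodule.add_mem
      · apply Submodule.smul_mem
        apply Submodule.subset_span
        simp
      · apply Submodule.subset_span
        rw [Finset.coe_insert, Finset.coe_image]
        exact Or.inr ⟨c, hc, rfl⟩
    | zero =>
      intro x hx
      have h0 : f x = g 0 := by rw [hx, map_zero]
      obtain ⟨r, hr, -⟩ := h.glue _ _ h0
      have hx' : x = r • (1 : A) := by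
        change x = p r * 1
        rw [hr]; ring
      rw [hx']
      apply Submodule.smul_mem
      apply Submodule.subset_span
      simp
    | add c d _ _ ihc ihd =>
      intro x hx
      have hx' : x = lift c + (x - lift c) := by ring
      rw [hx']
      apply Submodule.add_mem
      · exact ihc _ (hlift c)
      · apply ihd
        rw [map_sub, hlift, hx]; ring
    | smul β c _ ihc =>
      intro x hx
      obtain ⟨r, hr⟩ := hq β
      -- `x - p r * lift c ∈ ker f`
      have h0 : f (x - p r * lift c) = g 0 := by
        rw [map_sub, map_mul, hlift, hx, h.comm, hr, map_zero]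
        change g β * c - g β * c = 0
        ring
      obtain ⟨r₀, hr₀, -⟩ := h.glue _ _ h0
      have hx' : x = r₀ • (1 : A) + r • lift c := by
        change x = p r₀ * 1 + p r * lift c
        rw [hr₀]; ring
      rw [hx']
      apply Submodule.add_mem
      · apply Submodule.smul_mem
        apply Submodule.subset_span
        simp
      · apply Submodule.smul_mem
        exact ihc _ (hlift c)
  exact key _ hx x rfl

end Groth.Agent.H87.FerrAlg

namespace Groth.Agent.H87.FerrScheme

universe u
open Groth.Agent.H87.FerrAlg Groth.Agent.H87.FerrLRS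

variable {X Y Z : Scheme.{u}} {P : LocallyRingedSpace.{u}} {i : Z ⟶ X} {j : Z ⟶ Y}
  {a : X.toLocallyRingedSpace ⟶ P} {b : Y.toLocallyRingedSpace ⟶ P}

theorem gC_finite (h : IsPushout i.toLRSHom j.toLRSHom a b) [IsFinite j] (W : Opens P)
    (hV : IsAffineOpen (bV b W)) : (gC h W).Finite := by
  have h1 : (j.app (bV b W)).hom.Finite := IsFinite.finite_app j _ hV
  have h2 : gC h W = (Z.presheaf.map (eqToHom (congrArg op (zW_eq h W).symm))).hom.comp
      (j.app (bV b W)).hom := by
    ext y
    exact gC_apply h W y
  rw [h2]
  refine RingHom.Finite.comp ?_ h1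
  apply RingHom.Finite.of_surjective
  have : IsIso (Z.presheaf.map (eqToHom (congrArg op (zW_eq h W).symm))) := Functor.map_isIso _ _
  exact (ConcreteCategory.bijective_of_isIso _).2

set_option backward.isDefEq.respectTransparency.types false in
theorem isFinite_inl (h : IsPushout i.toLRSHom j.toLRSHom a b) [IsClosedImmersion i]
    [IsFinite j] (hcov : Covered a b) : IsFinite (inl h hcov) := by
  choose W hpW hU hV using (fun p => hcov p)
  have hWaff : ∀ p, IsAffineOpen (X := scheme h hcov) (W p) := fun p =>
    isAffineOpen h hcov (W p) (hU p) (hV p)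
  rw [HasAffineProperty.iff_of_iSup_eq_top (P := @IsFinite)
    (fun p : P => (⟨W p, hWaff p⟩ : (scheme h hcov).affineOpens))
    (by
      rw [eq_top_iff]
      intro p _
      exact Opens.mem_iSup.mpr ⟨p, hpW p⟩)]
  intro p
  refine ⟨hU p, ?_⟩
  change (Scheme.Hom.appTop (inl h hcov ∣_ W p)).hom.Finite
  rw [morphismRestrict_appTop]
  have hU' : IsAffineOpen (aU a (FerrChart.top (W p))) := by
    rw [FerrChart.top_eq]; exact hU p
  have hV' : IsAffineOpen (bV b (FerrChart.top (W p))) := by
    rw [FerrChart.top_eq]; exact hV p
  have sq := isFibSq h (FerrChart.top (W p))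
  have hf : Function.Surjective (fC i a (FerrChart.top (W p))) := i.app_surjective _ hU'
  have hp := sq.finite_p hf (gC_finite h _ hV')
  change ((X.presheaf.map (eqToHom
      (image_morphismRestrict_preimage (inl h hcov) (W p) ⊤)).op).hom.comp
      (πA a (FerrChart.top (W p)))).Finite
  refine RingHom.Finite.comp ?_ hp
  apply RingHom.Finite.of_surjective
  have hiso : IsIso (X.presheaf.map (eqToHom
      (image_morphismRestrict_preimage (inl h hcov) (W p) ⊤)).op) :=
    Functor.map_isIso _ _
  exact (ConcreteCategory.bijective_of_isIso _).2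

/-- **Bridge**: any pushout in schemes of `i`, `j` is isomorphic to the Ferrand pushout. -/
theorem exists_iso_of_isPushout (h : IsPushout i.toLRSHom j.toLRSHom a b) [IsClosedImmersion i]
    (hcov : Covered a b) {P' : Scheme.{u}} {a' : X ⟶ P'} {b' : Y ⟶ P'}
    (hP : IsPushout i j a' b') :
    ∃ e : scheme h hcov ≅ P', inl h hcov ≫ e.hom = a' ∧ inr h hcov ≫ e.hom = b' :=
  ⟨(isPushout h hcov).isoIsPushout _ _ hP, (isPushout h hcov).inl_isoIsPushout_hom _ _ hP,
    (isPushout h hcov).inr_isoIsPushout_hom _ _ hP⟩

/-- transfer along the bridge: finiteness, cartesianness and closed immersion for an arbitrary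
pushout in schemes -/
theorem properties_of_isPushout (h : IsPushout i.toLRSHom j.toLRSHom a b) [IsClosedImmersion i]
    [IsFinite j] (hcov : Covered a b) {P' : Scheme.{u}} {a' : X ⟶ P'} {b' : Y ⟶ P'}
    (hP : IsPushout i j a' b') :
    IsFinite a' ∧ IsPullback i j a' b' ∧ IsClosedImmersion b' := by
  obtain ⟨e, he1, he2⟩ := exists_iso_of_isPushout h hcov hP
  have h1 : IsFinite (inl h hcov) := isFinite_inl h hcov
  have h2 : IsClosedImmersion (inr h hcov) := isClosedImmersion_inr h hcov
  have h3 := FerrPullback.isPullback' h hcov
  refine ⟨?_, ?_, ?_⟩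
  · rw [← he1]; infer_instance
  · rw [← he1, ← he2]
    exact IsPullback.of_iso h3 (Iso.refl _) (Iso.refl _) (Iso.refl _) e (by simp) (by simp)
      (by simp) (by simp)
  · rw [← he2]; infer_instance

end Groth.Agent.H87.FerrScheme
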