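import Mathlib
import Groth.Agent.H87.FerrAvoid
import Groth.Agent.H87.FerrLRS

/-!
# Matched affine pairs for a closed immersion and an integral morphism (helper87)

`exists_matched_integral`: for a closed immersion `i : Z ⟶ X`, an integral `j : Z ⟶ Y` and `y : Y`
whose fibre `j⁻¹(y)` lies in `i⁻¹U₀` for an affine open `U₀ ⊆ X`, there are affine opens `U ⊆ X`,
`V ∋ y` of `Y` with `i⁻¹U = j⁻¹V`.
-/

set_option autoImplicit false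
set_option linter.style.haveILetI false
open CategoryTheory Limits TopologicalSpace AlgebraicGeometry Opposite

namespace Groth.Agent.H87.FerrIntegral

universe u
open Groth.Agent.H87.FerrAlg Groth.Agent.H87.FerrLRS

variable {X Y Z : Scheme.{u}}

/-- (copied from helper13's `AssReduced`) membership in a basic open in terms of `primeIdealOf` -/
lemma mem_basicOpen_iff_notMem_primeIdealOf {V : X.Opens} (hV : IsAffineOpen V) (a : Γ(X, V))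
    {z : X} (hzV : z ∈ V) :
    z ∈ X.basicOpen a ↔ a ∉ (hV.primeIdealOf ⟨z, hzV⟩).asIdeal := by
  have h1 : hV.fromSpec (hV.primeIdealOf ⟨z, hzV⟩) = z := hV.fromSpec_primeIdealOf ⟨z, hzV⟩
  have h2 : hV.primeIdealOf ⟨z, hzV⟩ ∈ hV.fromSpec ⁻¹ᵁ X.basicOpen a ↔
      hV.primeIdealOf ⟨z, hzV⟩ ∈ PrimeSpectrum.basicOpen a := by
    rw [hV.fromSpec_preimage_basicOpen]; rfl
  rw [PrimeSpectrum.mem_basicOpen] at h2
  rw [← h2]
  change _ ↔ hV.fromSpec (hV.primeIdealOf ⟨z, hzV⟩) ∈ X.basicOpen a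
  rw [h1]

/-- Step A: shrink `V` so that `j⁻¹V ⊆ O` for an open `O ⊇ j⁻¹{y}` (closedness of `j`). -/
theorem exists_affine_preimage_le (j : Z ⟶ Y) [IsIntegralHom j] (y : Y) (O : Z.Opens)
    (hO : j.base ⁻¹' {y} ⊆ (O : Set Z)) :
    ∃ V : Y.Opens, IsAffineOpen V ∧ y ∈ V ∧ j ⁻¹ᵁ V ≤ O := by
  have hcl : IsClosed (j.base '' (O : Set Z)ᶜ) := j.isClosedMap _ O.2.isClosed_compl
  have hy : y ∈ (j.base '' (O : Set Z)ᶜ)ᶜ := by
    rintro ⟨z, hz, hzy⟩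
    exact hz (hO hzy)
  obtain ⟨_, ⟨V, hV, rfl⟩, hyV, hVS⟩ := Y.isBasis_affineOpens.exists_subset_of_mem_open
    hy hcl.isOpen_compl
  refine ⟨V, hV, hyV, fun z hz => ?_⟩
  by_contra hzO
  exact hVS hz ⟨z, hzO, rfl⟩

/-- Step C: a compact open inside an affine open is a finite union of basic opens. -/
theorem exists_list_basicOpen {Ω Z₀ : Z.Opens} (hΩ : IsAffineOpen Ω) (hle : Z₀ ≤ Ω)
    (hc : IsCompact (Z₀ : Set Z)) :
    ∃ l : List Γ(Z, Ω), (∀ s ∈ l, Z.basicOpen s ≤ Z₀) ∧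
      ∀ z ∈ Z₀, ∃ s ∈ l, z ∈ Z.basicOpen s := by
  choose s hs1 hs2 using fun z : Z₀ => hΩ.exists_basicOpen_le (V := Z₀) z (hle z.2)
  obtain ⟨t, ht⟩ := hc.elim_finite_subcover (fun z : Z₀ => (Z.basicOpen (s z) : Set Z))
    (fun z => (Z.basicOpen (s z)).2) (fun z hz => Set.mem_iUnion.mpr ⟨⟨z, hz⟩, hs2 ⟨z, hz⟩⟩)
  refine ⟨t.toList.map s, ?_, ?_⟩
  · intro c hc
    obtain ⟨z, -, rfl⟩ := List.mem_map.mp hc
    exact hs1 z
  · intro z hz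
    obtain ⟨w, hw, hzw⟩ := Set.mem_iUnion₂.mp (ht hz)
    exact ⟨s w, List.mem_map.mpr ⟨w, Finset.mem_toList.mpr hw, rfl⟩, hzw⟩

/-- composite of restrictions -/
theorem res_res (X : Scheme.{u}) {U V W : X.Opens} (h₁ : V ≤ U) (h₂ : W ≤ V) (x : Γ(X, U)) :
    (X.presheaf.map (homOfLE h₂).op).hom ((X.presheaf.map (homOfLE h₁).op).hom x) =
      (X.presheaf.map (homOfLE (h₂.trans h₁)).op).hom x := by
  rw [← CommRingCat.comp_apply, ← Functor.map_comp]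
  rfl

/-- Steps D–F: a function on `Ω ⊇ j⁻¹V₀` whose nonvanishing locus lies in `j⁻¹V₀` and contains
the fibre of `j` over `y ∈ V₀`. -/
theorem exists_basicOpen_fibre (j : Z ⟶ Y) [IsIntegralHom j] {V₀ : Y.Opens}
    (hV₀ : IsAffineOpen V₀) (y : Y) (hy : y ∈ V₀) {Ω : Z.Opens} (hΩ : IsAffineOpen Ω)
    (hle : j ⁻¹ᵁ V₀ ≤ Ω) :
    ∃ e : Γ(Z, Ω), Z.basicOpen e ≤ j ⁻¹ᵁ V₀ ∧ j.base ⁻¹' {y} ⊆ (Z.basicOpen e : Set Z) := by
  have hZ₀ : IsAffineOpen (j ⁻¹ᵁ V₀) := hV₀.preimage j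
  obtain ⟨l, hl1, hl2⟩ := exists_list_basicOpen hΩ hle hZ₀.isCompact
  let ρ : Γ(Z, Ω) →+* Γ(Z, j ⁻¹ᵁ V₀) := (Z.presheaf.map (homOfLE hle).op).hom
  letI : Algebra Γ(Y, V₀) Γ(Z, j ⁻¹ᵁ V₀) := (j.app V₀).hom.toAlgebra
  haveI : Algebra.IsIntegral Γ(Y, V₀) Γ(Z, j ⁻¹ᵁ V₀) := ⟨j.isIntegral_app V₀ hV₀⟩
  have hbo : ∀ s : Γ(Z, Ω), Z.basicOpen s ≤ j ⁻¹ᵁ V₀ → Z.basicOpen (ρ s) = Z.basicOpen s := by
    intro s hs
    rw [Scheme.basicOpen_res]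
    exact inf_eq_right.mpr hs
  -- (cov)
  have hcov : Ideal.span {c | ∃ s ∈ l, ρ s = c} = ⊤ := by
    rw [← IsAffineOpen.self_le_iSup_basicOpen_iff hZ₀]
    · intro z hz
      obtain ⟨s, hs, hzs⟩ := hl2 z hz
      refine Opens.mem_iSup.mpr ⟨⟨ρ s, s, hs, rfl⟩, ?_⟩
      rw [hbo s (hl1 s hs)]
      exact hzs
  -- (loc)
  have hloc : ∀ s ∈ l, ∀ c : Γ(Z, j ⁻¹ᵁ V₀), ∃ (a₀ : Γ(Z, Ω)) (N M : ℕ),
      ρ s ^ M * ρ a₀ = ρ s ^ (M + N) * c := by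
    intro s hs c
    have hD : Z.basicOpen s ≤ j ⁻¹ᵁ V₀ := hl1 s hs
    obtain ⟨N, a₀, ha₀⟩ := exists_eq_pow_mul_of_isAffineOpen Z Ω hΩ s
      ((Z.presheaf.map (homOfLE hD).op).hom c)
    have ha₀' : (Z.presheaf.map (homOfLE (Z.basicOpen_le s)).op).hom a₀ =
        ((Z.presheaf.map (homOfLE (Z.basicOpen_le s)).op).hom s) ^ N *
          (Z.presheaf.map (homOfLE hD).op).hom c := ha₀
    have hd : (Z.presheaf.map (homOfLE hD).op).hom (ρ a₀ - ρ s ^ N * c) = 0 := by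
      rw [map_sub, map_mul, map_pow, res_res Z hle hD a₀, res_res Z hle hD s, ha₀', sub_self]
    obtain ⟨M, hM⟩ := isTors_res hZ₀ (ρ s) (Z.basicOpen s) (hbo s hD).symm _ _ hd
    refine ⟨a₀, N, M, ?_⟩
    rw [mul_sub, sub_eq_zero] at hM
    rw [hM, pow_add, mul_assoc]
  obtain ⟨e, he, he'⟩ := FerrAvoid.exists_notMem_of_liesOver
    (hV₀.primeIdealOf ⟨y, hy⟩).asIdeal ρ l hcov hloc
  refine ⟨e, ?_, ?_⟩
  · -- `D(e) ⊆ j⁻¹V₀`
    intro z hz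
    have hzΩ : z ∈ Ω := Z.basicOpen_le e hz
    by_contra hzZ₀
    have h1 : Ideal.span {s | s ∈ l} ≤ (hΩ.primeIdealOf ⟨z, hzΩ⟩).asIdeal := by
      rw [Ideal.span_le]
      intro s hs
      by_contra hs'
      exact hzZ₀ (hl1 s hs ((mem_basicOpen_iff_notMem_primeIdealOf hΩ s hzΩ).mpr hs'))
    exact (mem_basicOpen_iff_notMem_primeIdealOf hΩ e hzΩ).mp hz (h1 he)
  · -- the fibre lies in `D(e)`
    intro z hz
    have hzy : j.base z = y := hz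
    have hzZ₀ : z ∈ j ⁻¹ᵁ V₀ := by
      change j.base z ∈ V₀
      rw [hzy]
      exact hy
    have hcomap : (hZ₀.primeIdealOf ⟨z, hzZ₀⟩).asIdeal.comap
        (algebraMap Γ(Y, V₀) Γ(Z, j ⁻¹ᵁ V₀)) = (hV₀.primeIdealOf ⟨y, hy⟩).asIdeal := by
      ext g
      change (j.app V₀).hom g ∈ (hZ₀.primeIdealOf ⟨z, hzZ₀⟩).asIdeal ↔ _
      rw [← not_iff_not, ← mem_basicOpen_iff_notMem_primeIdealOf hZ₀ _ hzZ₀,
        ← mem_basicOpen_iff_notMem_primeIdealOf hV₀ g hy, ← Scheme.preimage_basicOpen]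
      change j.base z ∈ Y.basicOpen g ↔ _
      rw [hzy]
    have h1 := he' _ (hZ₀.primeIdealOf ⟨z, hzZ₀⟩).isPrime hcomap
    have h2 : z ∈ Z.basicOpen (ρ e) :=
      (mem_basicOpen_iff_notMem_primeIdealOf hZ₀ (ρ e) hzZ₀).mpr h1
    rw [Scheme.basicOpen_res] at h2
    exact h2.2

/-- **Matched affine pairs for a closed immersion and an integral morphism.** -/
theorem exists_matched_integral (i : Z ⟶ X) (j : Z ⟶ Y) [IsClosedImmersion i] [IsIntegralHom j]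
    (y : Y) (U₀ : X.Opens) (hU₀ : IsAffineOpen U₀)
    (hfib : j.base ⁻¹' {y} ⊆ (i ⁻¹ᵁ U₀ : Set Z)) :
    ∃ (U : X.Opens) (V : Y.Opens), IsAffineOpen U ∧ IsAffineOpen V ∧
      i ⁻¹ᵁ U = j ⁻¹ᵁ V ∧ y ∈ V := by
  have hΩ : IsAffineOpen (i ⁻¹ᵁ U₀) := hU₀.preimage i
  obtain ⟨V₀, hV₀, hyV₀, hle⟩ := exists_affine_preimage_le j y (i ⁻¹ᵁ U₀) hfib
  obtain ⟨e, he1, he2⟩ := exists_basicOpen_fibre j hV₀ y hyV₀ hΩ hle
  -- Step G: shrink `V₀` to `D(g)` with `j⁻¹ D(g) ⊆ D(e)`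
  have hcl : IsClosed (j.base '' (Z.basicOpen e : Set Z)ᶜ) :=
    j.isClosedMap _ (Z.basicOpen e).2.isClosed_compl
  have hyS : y ∈ (j.base '' (Z.basicOpen e : Set Z)ᶜ)ᶜ := by
    rintro ⟨z, hz, hzy⟩
    exact hz (he2 hzy)
  obtain ⟨g, hg1, hg2⟩ := hV₀.exists_basicOpen_le
    (V := ⟨(j.base '' (Z.basicOpen e : Set Z)ᶜ)ᶜ, hcl.isOpen_compl⟩) ⟨y, hyS⟩ hyV₀
  have hV : IsAffineOpen (Y.basicOpen g) := hV₀.basicOpen g
  have hjg : j ⁻¹ᵁ (Y.basicOpen g) ≤ Z.basicOpen e := by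
    intro z hz
    by_contra hze
    exact hg1 hz ⟨z, hze, rfl⟩
  -- Step H
  have hpre : j ⁻¹ᵁ (Y.basicOpen g) = Z.basicOpen ((j.app V₀).hom g) :=
    Scheme.preimage_basicOpen j g
  have hD'Ω : Z.basicOpen e ≤ i ⁻¹ᵁ U₀ := Z.basicOpen_le e
  obtain ⟨n, hh, hhn⟩ := exists_eq_pow_mul_of_isAffineOpen Z (i ⁻¹ᵁ U₀) hΩ e
    ((Z.presheaf.map (homOfLE he1).op).hom ((j.app V₀).hom g))
  have hhn' : (Z.presheaf.map (homOfLE hD'Ω).op).hom hh =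
      ((Z.presheaf.map (homOfLE hD'Ω).op).hom e) ^ n *
        (Z.presheaf.map (homOfLE he1).op).hom ((j.app V₀).hom g) := hhn
  have hbo : Z.basicOpen (hh * e) = Z.basicOpen ((j.app V₀).hom g) := by
    have h1 := congrArg Z.basicOpen hhn'
    rw [Scheme.basicOpen_res, Scheme.basicOpen_mul, Scheme.basicOpen_res] at h1
    have hunit : IsUnit ((Z.presheaf.map (homOfLE hD'Ω).op).hom e) :=
      RingedSpace.isUnit_res_basicOpen Z.toRingedSpace e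
    rw [Scheme.basicOpen_of_isUnit _ (hunit.pow n)] at h1
    rw [Scheme.basicOpen_mul, inf_comm, h1, ← inf_assoc, inf_idem]
    rw [← hpre]
    exact inf_eq_right.mpr hjg
  -- Step I
  obtain ⟨f, hf⟩ := i.app_surjective U₀ hU₀ (hh * e)
  refine ⟨X.basicOpen f, Y.basicOpen g, hU₀.basicOpen f, hV, ?_, hg2⟩
  rw [Scheme.preimage_basicOpen, hf, hbo, hpre]

end Groth.Agent.H87.FerrIntegral
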