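import Mathlib

/-!
# Matched pairs of affine opens for two closed immersions (helper87)

`exists_matched`: for closed immersions `i : Z ⟶ X`, `j : Z ⟶ Y` and `z : Z` there are affine opens
`U ∋ i z`, `V ∋ j z` (inside given opens) with `i⁻¹U = j⁻¹V`.
-/

set_option autoImplicit false
open CategoryTheory Limits TopologicalSpace AlgebraicGeometry Opposite

namespace Groth.Agent.H87.FerrMatch

universe u

variable {X Y Z : Scheme.{u}}

/-- one shrinking step: an affine open `U ∋ i z` can be shrunk so that `i⁻¹U` lies in a given open -/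
theorem exists_shrink (i : Z ⟶ X) [IsClosedImmersion i] {U : X.Opens} (hU : IsAffineOpen U)
    (O : Z.Opens) (z : Z) (hzU : i.base z ∈ U) (hzO : z ∈ O) :
    ∃ f : Γ(X, U), i ⁻¹ᵁ (X.basicOpen f) ≤ O ∧ z ∈ i ⁻¹ᵁ (X.basicOpen f) := by
  have hZ : IsAffineOpen (i ⁻¹ᵁ U) := hU.preimage i
  obtain ⟨f', hf'O, hzf'⟩ := hZ.exists_basicOpen_le (V := O) ⟨z, hzO⟩ hzU
  obtain ⟨f, rfl⟩ := i.app_surjective U hU f'
  refine ⟨f, ?_, ?_⟩
  · rw [Scheme.preimage_basicOpen]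
    exact hf'O
  · rw [Scheme.preimage_basicOpen]
    exact hzf'

/-- **Matched affine pairs for two closed immersions**: every point of `Z` has affine open
neighbourhoods `U ⊆ X`, `V ⊆ Y` (inside given opens) with the same preimage in `Z`. -/
theorem exists_matched (i : Z ⟶ X) (j : Z ⟶ Y) [IsClosedImmersion i] [IsClosedImmersion j]
    (z : Z) (OX : X.Opens) (OY : Y.Opens) (hOX : i.base z ∈ OX) (hOY : j.base z ∈ OY) :
    ∃ (U : X.Opens) (V : Y.Opens), IsAffineOpen U ∧ IsAffineOpen V ∧ U ≤ OX ∧ V ≤ OY ∧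
      i ⁻¹ᵁ U = j ⁻¹ᵁ V ∧ z ∈ i ⁻¹ᵁ U := by
  obtain ⟨_, ⟨U₀, hU₀, rfl⟩, hzU₀, hU₀O⟩ := X.isBasis_affineOpens.exists_subset_of_mem_open
    hOX OX.2
  obtain ⟨_, ⟨V₀, hV₀, rfl⟩, hzV₀, hV₀O⟩ := Y.isBasis_affineOpens.exists_subset_of_mem_open
    hOY OY.2
  obtain ⟨f, hf1, hf2⟩ := exists_shrink i hU₀ (j ⁻¹ᵁ V₀) z hzU₀ hzV₀
  have hU₁ : IsAffineOpen (X.basicOpen f) := hU₀.basicOpen f
  obtain ⟨g, hg1, hg2⟩ := exists_shrink j hV₀ (i ⁻¹ᵁ (X.basicOpen f)) z hzV₀ hf2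
  have hV₁ : IsAffineOpen (Y.basicOpen g) := hV₀.basicOpen g
  -- restrict `j^♯ g` to `i⁻¹U₁` and lift it to `U₁`
  obtain ⟨g', hg'⟩ : ∃ g' : Γ(Z, i ⁻¹ᵁ (X.basicOpen f)),
      g' = (Z.presheaf.map (homOfLE hf1).op).hom ((j.app V₀).hom g) := ⟨_, rfl⟩
  have hbo : Z.basicOpen g' = j ⁻¹ᵁ (Y.basicOpen g) := by
    have e1 : j ⁻¹ᵁ (Y.basicOpen g) = Z.basicOpen ((j.app V₀).hom g) :=
      Scheme.preimage_basicOpen j g
    rw [hg', Scheme.basicOpen_res, e1]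
    rw [e1] at hg1
    exact inf_eq_right.mpr hg1
  obtain ⟨f', hf'⟩ := i.app_surjective _ hU₁ g'
  have hU₂ : IsAffineOpen (X.basicOpen f') := hU₁.basicOpen f'
  have hpre : i ⁻¹ᵁ (X.basicOpen f') = j ⁻¹ᵁ (Y.basicOpen g) := by
    rw [Scheme.preimage_basicOpen, hf', hbo]
  refine ⟨X.basicOpen f', Y.basicOpen g, hU₂, hV₁, ?_, ?_, hpre, ?_⟩
  · exact ((X.basicOpen_le f').trans (X.basicOpen_le f)).trans hU₀O
  · exact (Y.basicOpen_le g).trans hV₀O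
  · rw [hpre]
    exact hg2

/-- away from `Z`, matched pairs of the form `(U, ⊥)` -/
theorem exists_matched_left (i : Z ⟶ X) (j : Z ⟶ Y) [IsClosedImmersion i]
    (x : X) (hx : x ∉ Set.range i.base) :
    ∃ (U : X.Opens) (V : Y.Opens), IsAffineOpen U ∧ IsAffineOpen V ∧
      i ⁻¹ᵁ U = j ⁻¹ᵁ V ∧ x ∈ U := by
  have hcl : IsClosed (Set.range i.base) := i.isClosedEmbedding.isClosed_range
  obtain ⟨_, ⟨U, hU, rfl⟩, hxU, hUO⟩ := X.isBasis_affineOpens.exists_subset_of_mem_open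
    (show x ∈ (Set.range i.base)ᶜ from hx) hcl.isOpen_compl
  refine ⟨U, ⊥, hU, isAffineOpen_bot Y, ?_, hxU⟩
  ext z
  constructor
  · intro hz
    exact (hUO hz ⟨z, rfl⟩).elim
  · intro hz
    exact hz.elim

end Groth.Agent.H87.FerrMatch
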