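import Mathlib
import Groth.Agent.H87.FerrFinite
import Groth.Agent.H87.FerrMatch
import Groth.Agent.H87.FerrIntegral
import Groth.Agent.H22.AffNhd
import Groth.Agent.H36.DetLength

/-!
# Finite sets of points in Ferrand pushouts of two closed immersions (helper87)

* `covered_of_closedImmersions`
* `exists_matched_finite`: matched affine pair containing given finite sets
* `exists_affine_of_finite`
-/

set_option autoImplicit false
open CategoryTheory Limits TopologicalSpace AlgebraicGeometry Opposite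

namespace Groth.Agent.H87.FerrMatch

universe u

variable {X Y Z : Scheme.{u}}

/-- **Matched affine pairs containing finite sets.** -/
theorem exists_matched_finite (i : Z ⟶ X) (j : Z ⟶ Y) [IsClosedImmersion i] [IsClosedImmersion j]
    (E₁ : Set X) (E₂ : Set Y) (hE₁ : E₁.Finite) (hE₂ : E₂.Finite)
    (hE : i.base ⁻¹' E₁ = j.base ⁻¹' E₂)
    {U₁ : X.Opens} (hU₁ : IsAffineOpen U₁) (h₁ : E₁ ⊆ (U₁ : Set X))
    {U₂ : Y.Opens} (hU₂ : IsAffineOpen U₂) (h₂ : E₂ ⊆ (U₂ : Set Y)) :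
    ∃ (U : X.Opens) (V : Y.Opens), IsAffineOpen U ∧ IsAffineOpen V ∧ i ⁻¹ᵁ U = j ⁻¹ᵁ V ∧
      E₁ ⊆ (U : Set X) ∧ E₂ ⊆ (V : Set Y) := by
  classical
  -- Step 1
  have hcl₁ : IsClosed (i.base '' ((j ⁻¹ᵁ U₂ : Z.Opens) : Set Z)ᶜ) :=
    i.isClosedEmbedding.isClosedMap _ (j ⁻¹ᵁ U₂).isOpen.isClosed_compl
  obtain ⟨O₁, hO₁⟩ : ∃ O₁ : X.Opens, (O₁ : Set X) = (i.base '' ((j ⁻¹ᵁ U₂ : Z.Opens) : Set Z)ᶜ)ᶜ :=
    ⟨⟨_, hcl₁.isOpen_compl⟩, rfl⟩
  have hE₁O : E₁ ⊆ (O₁ : Set X) := by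
    rw [hO₁]
    rintro x hx ⟨z, hz, rfl⟩
    apply hz
    have : z ∈ j.base ⁻¹' E₂ := hE ▸ hx
    exact h₂ this
  obtain ⟨f, hf1, hf2⟩ := Groth.Agent.H22.AffNhd.exists_basicOpen_of_finite hU₁ O₁ E₁ hE₁ h₁ hE₁O
  have hU₁' : IsAffineOpen (X.basicOpen f) := hU₁.basicOpen f
  have hle₁ : i ⁻¹ᵁ (X.basicOpen f) ≤ j ⁻¹ᵁ U₂ := by
    intro z hz
    by_contra hcon
    have h3 : i.base z ∈ (O₁ : Set X) := hf2 hz
    rw [hO₁] at h3
    exact h3 ⟨z, hcon, rfl⟩
  -- Step 2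
  have hcl₂ : IsClosed (j.base '' ((i ⁻¹ᵁ (X.basicOpen f) : Z.Opens) : Set Z)ᶜ) :=
    j.isClosedEmbedding.isClosedMap _ (i ⁻¹ᵁ (X.basicOpen f)).isOpen.isClosed_compl
  obtain ⟨O₂, hO₂⟩ : ∃ O₂ : Y.Opens,
      (O₂ : Set Y) = (j.base '' ((i ⁻¹ᵁ (X.basicOpen f) : Z.Opens) : Set Z)ᶜ)ᶜ :=
    ⟨⟨_, hcl₂.isOpen_compl⟩, rfl⟩
  have hE₂O : E₂ ⊆ (O₂ : Set Y) := by
    rw [hO₂]
    rintro y hy ⟨z, hz, rfl⟩
    apply hz
    have : z ∈ i.base ⁻¹' E₁ := hE.symm ▸ hy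
    exact hf1 this
  obtain ⟨g, hg1, hg2⟩ := Groth.Agent.H22.AffNhd.exists_basicOpen_of_finite hU₂ O₂ E₂ hE₂ h₂ hE₂O
  have hle₂ : j ⁻¹ᵁ (Y.basicOpen g) ≤ i ⁻¹ᵁ (X.basicOpen f) := by
    intro z hz
    by_contra hcon
    have h3 : j.base z ∈ (O₂ : Set Y) := hg2 hz
    rw [hO₂] at h3
    exact h3 ⟨z, hcon, rfl⟩
  -- Step 3
  obtain ⟨g', hg'⟩ : ∃ g' : Γ(Z, i ⁻¹ᵁ (X.basicOpen f)),
      g' = (Z.presheaf.map (homOfLE hle₁).op).hom ((j.app U₂).hom g) := ⟨_, rfl⟩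
  have hbo : Z.basicOpen g' = j ⁻¹ᵁ (Y.basicOpen g) := by
    have e1 : j ⁻¹ᵁ (Y.basicOpen g) = Z.basicOpen ((j.app U₂).hom g) :=
      Scheme.preimage_basicOpen j g
    rw [hg', Scheme.basicOpen_res, e1]
    rw [e1] at hle₂
    exact inf_eq_right.mpr hle₂
  obtain ⟨f₀, hf₀⟩ := i.app_surjective _ hU₁' g'
  have hZaff : IsAffineOpen (i ⁻¹ᵁ (X.basicOpen f)) := hU₁'.preimage i
  -- the primes of the points of `E₁`
  let pr : (x : X) → x ∈ E₁ → Ideal Γ(X, X.basicOpen f) := fun x hx =>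
    (hU₁'.primeIdealOf ⟨x, hf1 hx⟩).asIdeal
  let S : Finset (Ideal Γ(X, X.basicOpen f)) :=
    hE₁.toFinset.attach.image (fun x => pr x.1 (hE₁.mem_toFinset.mp x.2))
  have hS : ∀ p ∈ S, ∃ (x : X) (hx : x ∈ E₁), p = pr x hx := by
    intro p hp
    obtain ⟨x, -, rfl⟩ := Finset.mem_image.mp hp
    exact ⟨x.1, hE₁.mem_toFinset.mp x.2, rfl⟩
  have hSmem : ∀ (x : X) (hx : x ∈ E₁), pr x hx ∈ S := by
    intro x hx
    exact Finset.mem_image.mpr ⟨⟨x, hE₁.mem_toFinset.mpr hx⟩, Finset.mem_attach _ _, rfl⟩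
  have hprime : ∀ p ∈ S, p.IsPrime := by
    intro p hp
    obtain ⟨x, hx, rfl⟩ := hS p hp
    exact (hU₁'.primeIdealOf ⟨x, hf1 hx⟩).isPrime
  have havoid : ∀ p ∈ S, ¬ (Ideal.span {f₀} ⊔ RingHom.ker (i.app (X.basicOpen f)).hom ≤ p) := by
    intro p hp hle
    obtain ⟨x, hx, rfl⟩ := hS p hp
    by_cases hxi : x ∈ Set.range i.base
    · obtain ⟨z, rfl⟩ := hxi
      have hz1 : z ∈ j.base ⁻¹' E₂ := hE ▸ hx
      have hz2 : z ∈ j ⁻¹ᵁ (Y.basicOpen g) := hg1 hz1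
      rw [← hbo, ← hf₀, ← Scheme.preimage_basicOpen] at hz2
      have hz3 : i.base z ∈ X.basicOpen f₀ := hz2
      have := (FerrIntegral.mem_basicOpen_iff_notMem_primeIdealOf hU₁' f₀ (hf1 hx)).mp hz3
      apply this
      apply hle
      exact Ideal.mem_sup_left (Ideal.subset_span rfl)
    · have hcl : IsClosed (Set.range i.base) := i.isClosedEmbedding.isClosed_range
      obtain ⟨O₃, hO₃⟩ : ∃ O₃ : X.Opens, (O₃ : Set X) = (Set.range i.base)ᶜ :=
        ⟨⟨_, hcl.isOpen_compl⟩, rfl⟩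
      have hxO₃ : x ∈ O₃ := by
        change x ∈ (O₃ : Set X)
        rw [hO₃]; exact hxi
      obtain ⟨h₀, hh1, hh2⟩ := hU₁'.exists_basicOpen_le (V := O₃) ⟨x, hxO₃⟩ (hf1 hx)
      have hbot : Z.basicOpen ((i.app (X.basicOpen f)).hom h₀) = ⊥ := by
        rw [← Scheme.preimage_basicOpen]
        ext z
        constructor
        · intro hz
          have h3 : i.base z ∈ (O₃ : Set X) := hh1 hz
          rw [hO₃] at h3
          exact (h3 ⟨z, rfl⟩).elim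
        · intro hz
          exact hz.elim
      obtain ⟨n, hn⟩ := (Scheme.isNilpotent_iff_basicOpen_eq_bot_of_isCompact hZaff.isCompact _).mpr
        hbot
      have hker : h₀ ^ n ∈ RingHom.ker (i.app (X.basicOpen f)).hom := by
        rw [RingHom.mem_ker, map_pow, hn]
      have hmem : h₀ ^ n ∈ pr x hx := hle (Ideal.mem_sup_right hker)
      have hprime' : (pr x hx).IsPrime := (hU₁'.primeIdealOf ⟨x, hf1 hx⟩).isPrime
      have hmem' : h₀ ∈ pr x hx := hprime'.mem_of_pow_mem n hmem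
      exact (FerrIntegral.mem_basicOpen_iff_notMem_primeIdealOf hU₁' h₀ (hf1 hx)).mp hh2 hmem'
  obtain ⟨y, hyJ, hy⟩ := Groth.Agent.H36.DetLength.exists_add_notMem_primes S.card S rfl hprime f₀
    (RingHom.ker (i.app (X.basicOpen f)).hom) havoid
  have hf' : (i.app (X.basicOpen f)).hom (f₀ + y) = g' := by
    rw [map_add, hf₀, (RingHom.mem_ker).mp hyJ, add_zero]
  refine ⟨X.basicOpen (f₀ + y), Y.basicOpen g, hU₁'.basicOpen _, hU₂.basicOpen g, ?_, ?_, hg1⟩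
  · rw [Scheme.preimage_basicOpen, hf', hbo]
  · intro x hx
    exact (FerrIntegral.mem_basicOpen_iff_notMem_primeIdealOf hU₁' (f₀ + y) (hf1 hx)).mpr
      (hy _ (hSmem x hx))

end Groth.Agent.H87.FerrMatch

namespace Groth.Agent.H87.FerrScheme

universe u
open Groth.Agent.H87.FerrAlg Groth.Agent.H87.FerrLRS

variable {X Y Z : Scheme.{u}} {P : LocallyRingedSpace.{u}} {i : Z ⟶ X} {j : Z ⟶ Y}
  {a : X.toLocallyRingedSpace ⟶ P} {b : Y.toLocallyRingedSpace ⟶ P}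

/-- the covering hypothesis holds for two closed immersions -/
theorem covered_of_closedImmersions (h : IsPushout i.toLRSHom j.toLRSHom a b)
    [IsClosedImmersion i] [IsClosedImmersion j] : Covered a b := by
  apply covered_of_pairs h
  · intro x
    by_cases hx : x ∈ Set.range i.base
    · obtain ⟨z, rfl⟩ := hx
      obtain ⟨U, V, hU, hV, -, -, hUV, hz⟩ :=
        FerrMatch.exists_matched i j z ⊤ ⊤ trivial trivial
      exact ⟨U, V, hU, hV, hUV, hz⟩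
    · exact FerrMatch.exists_matched_left i j x hx
  · intro y
    by_cases hy : y ∈ Set.range j.base
    · obtain ⟨z, rfl⟩ := hy
      obtain ⟨U, V, hU, hV, -, -, hUV, hz⟩ :=
        FerrMatch.exists_matched i j z ⊤ ⊤ trivial trivial
      refine ⟨U, V, hU, hV, hUV, ?_⟩
      have hz' : z ∈ j ⁻¹ᵁ V := hUV ▸ hz
      exact hz'
    · obtain ⟨V, U, hV, hU, hVU, hy'⟩ := FerrMatch.exists_matched_left j i y hy
      exact ⟨U, V, hU, hV, hVU.symm, hy'⟩

/-- a finite set of points of the pushout of two closed immersions whose preimages lie in affine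
opens lies in an affine open -/
theorem exists_affine_of_finite (h : IsPushout i.toLRSHom j.toLRSHom a b)
    [IsClosedImmersion i] [IsClosedImmersion j] (hcov : Covered a b)
    (E : Set (scheme h hcov)) (hE : E.Finite)
    {U₁ : X.Opens} (hU₁ : IsAffineOpen U₁) (h₁ : (inl h hcov).base ⁻¹' E ⊆ (U₁ : Set X))
    {U₂ : Y.Opens} (hU₂ : IsAffineOpen U₂) (h₂ : (inr h hcov).base ⁻¹' E ⊆ (U₂ : Set Y)) :
    ∃ W : (scheme h hcov).Opens, IsAffineOpen W ∧ E ⊆ (W : Set (scheme h hcov)) := by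
  have hinl : IsClosedImmersion (inl h hcov) := isClosedImmersion_inl h hcov
  have hinr : IsClosedImmersion (inr h hcov) := isClosedImmersion_inr h hcov
  have hfin₁ : ((inl h hcov).base ⁻¹' E).Finite :=
    hE.preimage (inl h hcov).isClosedEmbedding.injective.injOn
  have hfin₂ : ((inr h hcov).base ⁻¹' E).Finite :=
    hE.preimage (inr h hcov).isClosedEmbedding.injective.injOn
  have hpre : i.base ⁻¹' ((inl h hcov).base ⁻¹' E) = j.base ⁻¹' ((inr h hcov).base ⁻¹' E) := by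
    ext z
    have := FerrTop.comm_apply (isPushout_top h) z
    change a.base (i.base z) ∈ E ↔ b.base (j.base z) ∈ E
    rw [this]
  obtain ⟨U, V, hU, hV, hUV, hEU, hEV⟩ := FerrMatch.exists_matched_finite i j _ _ hfin₁ hfin₂ hpre
    hU₁ h₁ hU₂ h₂
  obtain ⟨W, hW1, hW2⟩ := FerrTop.exists_opens (isPushout_top h) U V hUV
  have hWU : IsAffineOpen (aU a W) := by
    change IsAffineOpen ((Opens.map a.base).obj W)
    rw [hW1]
    exact hU
  have hWV : IsAffineOpen (bV b W) := by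
    change IsAffineOpen ((Opens.map b.base).obj W)
    rw [hW2]
    exact hV
  refine ⟨W, isAffineOpen h hcov W hWU hWV, ?_⟩
  intro p hp
  rcases FerrTop.eq_or_eq (isPushout_top h) p with ⟨x, rfl⟩ | ⟨y, rfl⟩
  · have hx : x ∈ (Opens.map a.base).obj W := by rw [hW1]; exact hEU hp
    exact hx
  · have hy : y ∈ (Opens.map b.base).obj W := by rw [hW2]; exact hEV hp
    exact hy

/-- the same for an arbitrary pushout in schemes of two closed immersions -/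
theorem exists_affine_of_finite_of_isPushout {X₀ : Scheme.{u}} [IsClosedImmersion i]
    [IsClosedImmersion j] {φ₁ : X ⟶ X₀} {φ₂ : Y ⟶ X₀} (hX : IsPushout i j φ₁ φ₂)
    (E : Set X₀) (hE : E.Finite)
    {U₁ : X.Opens} (hU₁ : IsAffineOpen U₁) (h₁ : φ₁.base ⁻¹' E ⊆ (U₁ : Set X))
    {U₂ : Y.Opens} (hU₂ : IsAffineOpen U₂) (h₂ : φ₂.base ⁻¹' E ⊆ (U₂ : Set Y)) :
    ∃ W : X₀.Opens, IsAffineOpen W ∧ E ⊆ (W : Set X₀) := by
  have h : IsPushout i.toLRSHom j.toLRSHom (pushout.inl i.toLRSHom j.toLRSHom)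
      (pushout.inr i.toLRSHom j.toLRSHom) := IsPushout.of_hasPushout _ _
  have hcov := covered_of_closedImmersions h
  obtain ⟨e, he1, he2⟩ := exists_iso_of_isPushout h hcov hX
  have hfin : (e.hom.base ⁻¹' E).Finite :=
    hE.preimage (e.hom.homeomorph.injective).injOn
  obtain ⟨W, hW, hEW⟩ := exists_affine_of_finite h hcov (e.hom.base ⁻¹' E) hfin hU₁
    (by
      intro x hx
      apply h₁
      change φ₁.base x ∈ E
      rw [← he1]
      exact hx) hU₂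
    (by
      intro y hy
      apply h₂
      change φ₂.base y ∈ E
      rw [← he2]
      exact hy)
  refine ⟨e.inv ⁻¹ᵁ W, hW.preimage_of_isIso e.inv, ?_⟩
  intro p hp
  apply hEW
  change e.hom.base (e.inv.base p) ∈ E
  have : e.hom.base (e.inv.base p) = p := by
    rw [← Scheme.Hom.comp_apply, e.inv_hom_id]; rfl
  rw [this]
  exact hp

end Groth.Agent.H87.FerrScheme
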