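import Mathlib

/-!
# Properties of `p : P ⟶ Y` from a jointly surjective pair `a : X ⟶ P`, `b : T ⟶ P` (helper87)

* `quasiCompact_of_joint`
* `universallyClosed_of_joint`
* `isSeparated_of_joint` (with `a`, `b` universally closed)
* `locallyOfFiniteType_of_joint` (Artin–Tate: `a`, `b` finite, jointly injective on sections,
  `Y` locally Noetherian)
-/

set_option autoImplicit false
open CategoryTheory Limits TopologicalSpace AlgebraicGeometry Opposite

namespace Groth.Agent.H87.JointCover

universe u

variable {X T P Y : Scheme.{u}} (a : X ⟶ P) (b : T ⟶ P) (p : P ⟶ Y)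

theorem quasiCompact_of_joint
    (hsurj : ∀ x : P, x ∈ Set.range a.base ∨ x ∈ Set.range b.base)
    [QuasiCompact (a ≫ p)] [QuasiCompact (b ≫ p)] : QuasiCompact p := by
  constructor
  intro U hU hUc
  have h1 : IsCompact ((a ≫ p).base ⁻¹' U) := QuasiCompact.isCompact_preimage U hU hUc
  have h2 : IsCompact ((b ≫ p).base ⁻¹' U) := QuasiCompact.isCompact_preimage U hU hUc
  have h3 : p.base ⁻¹' U = a.base '' ((a ≫ p).base ⁻¹' U) ∪ b.base '' ((b ≫ p).base ⁻¹' U) := by
    ext x
    constructor
    · intro hx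
      rcases hsurj x with ⟨x', rfl⟩ | ⟨x', rfl⟩
      · exact Or.inl ⟨x', hx, rfl⟩
      · exact Or.inr ⟨x', hx, rfl⟩
    · rintro (⟨x', hx', rfl⟩ | ⟨x', hx', rfl⟩)
      · exact hx'
      · exact hx'
  change IsCompact (p.base ⁻¹' U)
  rw [h3]
  exact (h1.image a.continuous).union (h2.image b.continuous)

set_option backward.isDefEq.respectTransparency.types false in
theorem universallyClosed_of_joint
    (hsurj : ∀ x : P, x ∈ Set.range a.base ∨ x ∈ Set.range b.base)
    [UniversallyClosed (a ≫ p)] [UniversallyClosed (b ≫ p)] : UniversallyClosed p := by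
  constructor
  intro X' Y' i₁ i₂ f' H
  have hA := UniversallyClosed.universally_isClosedMap _ _ _
    ((IsPullback.of_hasPullback i₁ a).paste_horiz H)
  have hB := UniversallyClosed.universally_isClosedMap _ _ _
    ((IsPullback.of_hasPullback i₁ b).paste_horiz H)
  intro C hC
  have hcov : ∀ x' : X', x' ∈ Set.range (pullback.fst i₁ a).base ∨
      x' ∈ Set.range (pullback.fst i₁ b).base := by
    intro x'
    rcases hsurj (i₁.base x') with ⟨x, hx⟩ | ⟨x, hx⟩
    · obtain ⟨z, hz, -⟩ := Scheme.Pullback.exists_preimage_pullback x' x hx.symm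
      exact Or.inl ⟨z, hz⟩
    · obtain ⟨z, hz, -⟩ := Scheme.Pullback.exists_preimage_pullback x' x hx.symm
      exact Or.inr ⟨z, hz⟩
  have h3 : f'.base '' C = (pullback.fst i₁ a ≫ f').base '' ((pullback.fst i₁ a).base ⁻¹' C) ∪
      (pullback.fst i₁ b ≫ f').base '' ((pullback.fst i₁ b).base ⁻¹' C) := by
    ext y
    constructor
    · rintro ⟨x', hx', rfl⟩
      rcases hcov x' with ⟨z, rfl⟩ | ⟨z, rfl⟩
      · exact Or.inl ⟨z, hx', rfl⟩
      · exact Or.inr ⟨z, hx', rfl⟩
    · rintro (⟨z, hz, rfl⟩ | ⟨z, hz, rfl⟩)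
      · exact ⟨_, hz, rfl⟩
      · exact ⟨_, hz, rfl⟩
  change IsClosed (f'.base '' C)
  rw [h3]
  exact (hA _ (hC.preimage (pullback.fst i₁ a).continuous)).union
    (hB _ (hC.preimage (pullback.fst i₁ b).continuous))


set_option backward.isDefEq.respectTransparency.types false in
theorem isSeparated_of_joint
    (hsurj : ∀ x : P, x ∈ Set.range a.base ∨ x ∈ Set.range b.base)
    [UniversallyClosed a] [UniversallyClosed b] [IsSeparated (a ≫ p)] [IsSeparated (b ≫ p)] :
    IsSeparated p := by
  have key : ∀ {X' : Scheme.{u}} (c : X' ⟶ P) [UniversallyClosed c] [IsSeparated (c ≫ p)],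
      IsClosed ((pullback.diagonal p).base '' Set.range c.base) := by
    intro X' c _ _
    have hm : UniversallyClosed (pullback.map (c ≫ p) (c ≫ p) p p c c (𝟙 Y)
        ((Category.comp_id _).trans rfl) ((Category.comp_id _).trans rfl)) :=
      MorphismProperty.pullbackMap (P := @UniversallyClosed) ‹_› ‹_› rfl rfl
    have hA : c ≫ pullback.diagonal p = pullback.diagonal (c ≫ p) ≫
        pullback.map (c ≫ p) (c ≫ p) p p c c (𝟙 Y)
          ((Category.comp_id _).trans rfl) ((Category.comp_id _).trans rfl) := by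
      apply pullback.hom_ext
      · simp only [Category.assoc, pullback.diagonal_fst, pullback.lift_fst, pullback.map]
        rw [← Category.assoc, pullback.diagonal_fst, Category.id_comp, Category.comp_id]
      · simp only [Category.assoc, pullback.diagonal_snd, pullback.lift_snd, pullback.map]
        rw [← Category.assoc, pullback.diagonal_snd, Category.id_comp, Category.comp_id]
    have h1 : (pullback.diagonal p).base '' Set.range c.base =
        Set.range (c ≫ pullback.diagonal p).base := by
      rw [Scheme.Hom.comp_base, TopCat.coe_comp, Set.range_comp]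
    rw [h1, hA, Scheme.Hom.comp_base, TopCat.coe_comp, Set.range_comp]
    apply Scheme.Hom.isClosedMap
    exact (pullback.diagonal (c ≫ p)).isClosedEmbedding.isClosed_range
  constructor
  apply IsClosedImmersion.of_isPreimmersion
  have h2 : Set.range (pullback.diagonal p).base =
      (pullback.diagonal p).base '' Set.range a.base ∪
        (pullback.diagonal p).base '' Set.range b.base := by
    rw [← Set.image_union, ← Set.image_univ]
    congr 1
    ext x
    simp only [Set.mem_univ, Set.mem_union, true_iff]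
    exact hsurj x
  change IsClosed (Set.range (pullback.diagonal p).base)
  rw [h2]
  exact (key a).union (key b)

/-- Artin–Tate for a jointly injective pair of finite maps. -/
theorem _root_.Groth.Agent.H87.JointCover.finiteType_of_jointly_injective
    {S R A B : Type*} [CommRing S] [CommRing R]
    [CommRing A] [CommRing B] [IsNoetherianRing S] (φ : S →+* R) (α : R →+* A) (β : R →+* B)
    (hinj : ∀ r, α r = 0 → β r = 0 → r = 0) (hα : α.Finite) (hβ : β.Finite)
    (hαφ : (α.comp φ).FiniteType) (hβφ : (β.comp φ).FiniteType) : φ.FiniteType := by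
  letI := φ.toAlgebra
  letI := α.toAlgebra
  letI := β.toAlgebra
  letI : Algebra S A := (α.comp φ).toAlgebra
  letI : Algebra S B := (β.comp φ).toAlgebra
  haveI : IsScalarTower S R (A × B) := IsScalarTower.of_algebraMap_eq (fun _ => rfl)
  haveI : Module.Finite R A := hα
  haveI : Module.Finite R B := hβ
  haveI : Algebra.FiniteType S A := hαφ
  haveI : Algebra.FiniteType S B := hβφ
  have h1 : (⊤ : Subalgebra S (A × B)).FG := (inferInstance : Algebra.FiniteType S (A × B)).out
  have h2 : (⊤ : Submodule R (A × B)).FG := (inferInstance : Module.Finite R (A × B)).fg_top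
  have h3 : Function.Injective (algebraMap R (A × B)) := by
    rw [injective_iff_map_eq_zero]
    intro r hr
    have hr' : (α r, β r) = (0 : A × B) := hr
    exact hinj r (congrArg Prod.fst hr') (congrArg Prod.snd hr')
  exact ⟨fg_of_fg_of_fg S R (A × B) h1 h2 h3⟩

set_option backward.isDefEq.respectTransparency.types false in
theorem locallyOfFiniteType_of_joint
    (hinj : ∀ (W : P.Opens) (r : Γ(P, W)), (a.app W).hom r = 0 → (b.app W).hom r = 0 → r = 0)
    [IsFinite a] [IsFinite b] [IsLocallyNoetherian Y]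
    [LocallyOfFiniteType (a ≫ p)] [LocallyOfFiniteType (b ≫ p)] : LocallyOfFiniteType p := by
  rw [HasRingHomProperty.iff_exists_appLE (P := @LocallyOfFiniteType)
    (RingHom.finiteType_stableUnderComposition.stableUnderCompositionWithLocalizationAway
      RingHom.finiteType_holdsForLocalizationAway).left]
  intro x
  obtain ⟨U, hU, hxU, -⟩ := Opens.isBasis_iff_nbhd.mp Y.isBasis_affineOpens
    (Opens.mem_top (p.base x))
  obtain ⟨W, hW, hxW, e⟩ := Opens.isBasis_iff_nbhd.mp P.isBasis_affineOpens
    (show x ∈ p ⁻¹ᵁ U from hxU)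
  refine ⟨⟨U, hU⟩, ⟨W, hW⟩, hxW, e, ?_⟩
  have hAaff : IsAffineOpen (a ⁻¹ᵁ W) := hW.preimage a
  have hBaff : IsAffineOpen (b ⁻¹ᵁ W) := hW.preimage b
  have hα : (a.app W).hom.Finite := IsFinite.finite_app a W hW
  have hβ : (b.app W).hom.Finite := IsFinite.finite_app b W hW
  have eA : a ⁻¹ᵁ W ≤ (a ≫ p) ⁻¹ᵁ U := fun z hz => e hz
  have eB : b ⁻¹ᵁ W ≤ (b ≫ p) ⁻¹ᵁ U := fun z hz => e hz
  have hαφ : ((a.app W).hom.comp (p.appLE U W e).hom).FiniteType := by
    have h1 : (a ≫ p).appLE U (a ⁻¹ᵁ W) eA = p.appLE U W e ≫ a.app W := by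
      simp only [Scheme.Hom.appLE, Scheme.Hom.comp_app, Category.assoc]
      rw [Scheme.Hom.naturality]
      rfl
    have h2 := HasRingHomProperty.appLE (P := @LocallyOfFiniteType) (a ≫ p) inferInstance
      ⟨U, hU⟩ ⟨_, hAaff⟩ eA
    rw [h1] at h2
    exact h2
  have hβφ : ((b.app W).hom.comp (p.appLE U W e).hom).FiniteType := by
    have h1 : (b ≫ p).appLE U (b ⁻¹ᵁ W) eB = p.appLE U W e ≫ b.app W := by
      simp only [Scheme.Hom.appLE, Scheme.Hom.comp_app, Category.assoc]
      rw [Scheme.Hom.naturality]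
      rfl
    have h2 := HasRingHomProperty.appLE (P := @LocallyOfFiniteType) (b ≫ p) inferInstance
      ⟨U, hU⟩ ⟨_, hBaff⟩ eB
    rw [h1] at h2
    exact h2
  have : IsNoetherianRing Γ(Y, U) := IsLocallyNoetherian.component_noetherian ⟨U, hU⟩
  exact finiteType_of_jointly_injective (p.appLE U W e).hom (a.app W).hom (b.app W).hom
    (hinj W) hα hβ hαφ hβφ

end Groth.Agent.H87.JointCover
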