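import Mathlib
import Groth.Agent.H87.FerrFinite
import Groth.Agent.H87.JointCover

/-!
# Finite type and properness of a Ferrand pushout over a locally Noetherian base (helper87)
-/

set_option autoImplicit false
open CategoryTheory Limits TopologicalSpace AlgebraicGeometry Opposite

namespace Groth.Agent.H87.FerrScheme

universe u
open Groth.Agent.H87.FerrAlg Groth.Agent.H87.FerrLRS

variable {X Y Z : Scheme.{u}} {P : LocallyRingedSpace.{u}} {i : Z ⟶ X} {j : Z ⟶ Y}
  {a : X.toLocallyRingedSpace ⟶ P} {b : Y.toLocallyRingedSpace ⟶ P}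

theorem joint_surjective (h : IsPushout i.toLRSHom j.toLRSHom a b) [IsClosedImmersion i]
    (hcov : Covered a b) (x : scheme h hcov) :
    x ∈ Set.range (inl h hcov).base ∨ x ∈ Set.range (inr h hcov).base := by
  rcases FerrTop.eq_or_eq (FerrLRS.isPushout_top h) x with ⟨x', hx'⟩ | ⟨y', hy'⟩
  · exact Or.inl ⟨x', hx'⟩
  · exact Or.inr ⟨y', hy'⟩

theorem joint_injective (h : IsPushout i.toLRSHom j.toLRSHom a b) [IsClosedImmersion i]
    (hcov : Covered a b) (W : (scheme h hcov).Opens) (r : Γ(scheme h hcov, W))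
    (h1 : ((inl h hcov).app W).hom r = 0) (h2 : ((inr h hcov).app W).hom r = 0) : r = 0 :=
  (FerrLRS.isFibSq h W).ext r 0 (by rw [map_zero]; exact h1) (by rw [map_zero]; exact h2)

/-- finite type and properness of any pushout in schemes of a closed immersion `i` and a finite
morphism `j` (under the covering hypothesis) over a locally Noetherian base -/
theorem finiteType_proper_of_isPushout (h : IsPushout i.toLRSHom j.toLRSHom a b)
    [IsClosedImmersion i] [IsFinite j] (hcov : Covered a b) {P' : Scheme.{u}} {a' : X ⟶ P'}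
    {b' : Y ⟶ P'} (hP : IsPushout i j a' b') {S : Scheme.{u}} [IsLocallyNoetherian S]
    (p : P' ⟶ S) [LocallyOfFiniteType (a' ≫ p)] [QuasiCompact (a' ≫ p)]
    [LocallyOfFiniteType (b' ≫ p)] [QuasiCompact (b' ≫ p)] :
    (LocallyOfFiniteType p ∧ QuasiCompact p) ∧
      (IsProper (a' ≫ p) → IsProper (b' ≫ p) → IsProper p) := by
  obtain ⟨e, he1, he2⟩ := exists_iso_of_isPushout h hcov hP
  have hfin_a : IsFinite (inl h hcov) := isFinite_inl h hcov
  have hci_b : IsClosedImmersion (inr h hcov) := isClosedImmersion_inr h hcov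
  have hsurj := joint_surjective h hcov
  have hinj := joint_injective h hcov
  have hap' : inl h hcov ≫ e.hom ≫ p = a' ≫ p := by rw [← he1, Category.assoc]
  have hbp' : inr h hcov ≫ e.hom ≫ p = b' ≫ p := by rw [← he2, Category.assoc]
  have : LocallyOfFiniteType (inl h hcov ≫ e.hom ≫ p) := by rw [hap']; infer_instance
  have : LocallyOfFiniteType (inr h hcov ≫ e.hom ≫ p) := by rw [hbp']; infer_instance
  have : QuasiCompact (inl h hcov ≫ e.hom ≫ p) := by rw [hap']; infer_instance
  have : QuasiCompact (inr h hcov ≫ e.hom ≫ p) := by rw [hbp']; infer_instance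
  have hlft' : LocallyOfFiniteType (e.hom ≫ p) :=
    JointCover.locallyOfFiniteType_of_joint _ _ _ hinj
  have hqc' : QuasiCompact (e.hom ≫ p) := JointCover.quasiCompact_of_joint _ _ _ hsurj
  have hp : p = e.inv ≫ e.hom ≫ p := by simp
  refine ⟨⟨?_, ?_⟩, ?_⟩
  · rw [hp]; infer_instance
  · rw [hp]; infer_instance
  · intro hf ht
    have : IsProper (inl h hcov ≫ e.hom ≫ p) := by rw [hap']; exact hf
    have : IsProper (inr h hcov ≫ e.hom ≫ p) := by rw [hbp']; exact ht
    have hsep' : IsSeparated (e.hom ≫ p) := JointCover.isSeparated_of_joint _ _ _ hsurj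
    have huc' : UniversallyClosed (e.hom ≫ p) :=
      JointCover.universallyClosed_of_joint _ _ _ hsurj
    have : IsProper (e.hom ≫ p) := { }
    rw [hp]; infer_instance

end Groth.Agent.H87.FerrScheme
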