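import Mathlib
import Groth.Agent.H87.FerrFinset
import Groth.Agent.H87.FerrProper

/-!
# Facts about an arbitrary pushout in schemes of two closed immersions (helper87)

* `isFibSq_of_isPushout`: sections over any open form a fibre square
* `closedImmersions_of_isPushout`
-/

set_option autoImplicit false
open CategoryTheory Limits TopologicalSpace AlgebraicGeometry Opposite

namespace Groth.Agent.H87.FerrScheme

universe u
open Groth.Agent.H87.FerrAlg Groth.Agent.H87.FerrLRS

variable {X Y Z : Scheme.{u}} {i : Z ⟶ X} {j : Z ⟶ Y}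

theorem preimage_le_of_isPushout {P : Scheme.{u}} {a : X ⟶ P} {b : Y ⟶ P} (hP : IsPushout i j a b)
    (W : P.Opens) : i ⁻¹ᵁ a ⁻¹ᵁ W ≤ j ⁻¹ᵁ b ⁻¹ᵁ W := by
  rw [← Scheme.Hom.comp_preimage, ← Scheme.Hom.comp_preimage, hP.w]

/-- sections of an arbitrary pushout (of a closed immersion `i` and `j`, under the covering
hypothesis) over any open form a fibre square -/
theorem isFibSq_of_isPushout' [IsClosedImmersion i] {P₀ : LocallyRingedSpace.{u}}
    {a₀ : X.toLocallyRingedSpace ⟶ P₀} {b₀ : Y.toLocallyRingedSpace ⟶ P₀}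
    (h : IsPushout i.toLRSHom j.toLRSHom a₀ b₀) (hcov : Covered a₀ b₀)
    {P : Scheme.{u}} {a : X ⟶ P} {b : Y ⟶ P} (hP : IsPushout i j a b) (W : P.Opens) :
    IsFibSq (a.app W).hom (b.app W).hom (i.app (a ⁻¹ᵁ W)).hom
      (j.appLE (b ⁻¹ᵁ W) (i ⁻¹ᵁ a ⁻¹ᵁ W) (preimage_le_of_isPushout hP W)).hom := by
  obtain ⟨e, rfl, rfl⟩ := exists_iso_of_isPushout h hcov hP
  have sq := isFibSq h ((Opens.map e.hom.base).obj W)
  have hε : Function.Bijective (e.hom.app W).hom := ConcreteCategory.bijective_of_isIso _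
  refine ⟨?_, ?_, ?_⟩
  · intro r
    exact sq.comm ((e.hom.app W).hom r)
  · intro r r' h1 h2
    exact hε.1 (sq.ext _ _ h1 h2)
  · intro x y hxy
    obtain ⟨r₀, hr1, hr2⟩ := sq.glue x y hxy
    obtain ⟨r, rfl⟩ := hε.2 r₀
    exact ⟨r, hr1, hr2⟩

/-- the same for two closed immersions (no covering hypothesis needed) -/
theorem isFibSq_of_isPushout [IsClosedImmersion i] [IsClosedImmersion j]
    {P : Scheme.{u}} {a : X ⟶ P} {b : Y ⟶ P} (hP : IsPushout i j a b) (W : P.Opens) :
    IsFibSq (a.app W).hom (b.app W).hom (i.app (a ⁻¹ᵁ W)).hom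
      (j.appLE (b ⁻¹ᵁ W) (i ⁻¹ᵁ a ⁻¹ᵁ W) (preimage_le_of_isPushout hP W)).hom := by
  have h : IsPushout i.toLRSHom j.toLRSHom (pushout.inl i.toLRSHom j.toLRSHom)
      (pushout.inr i.toLRSHom j.toLRSHom) := IsPushout.of_hasPushout _ _
  exact isFibSq_of_isPushout' h (covered_of_closedImmersions h) hP W

theorem closedImmersions_of_isPushout [IsClosedImmersion i] [IsClosedImmersion j]
    {P : Scheme.{u}} {a : X ⟶ P} {b : Y ⟶ P} (hP : IsPushout i j a b) :
    IsClosedImmersion a ∧ IsClosedImmersion b := by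
  have h : IsPushout i.toLRSHom j.toLRSHom (pushout.inl i.toLRSHom j.toLRSHom)
      (pushout.inr i.toLRSHom j.toLRSHom) := IsPushout.of_hasPushout _ _
  have hcov := covered_of_closedImmersions h
  obtain ⟨e, rfl, rfl⟩ := exists_iso_of_isPushout h hcov hP
  have h1 : IsClosedImmersion (inl h hcov) := isClosedImmersion_inl h hcov
  have h2 : IsClosedImmersion (inr h hcov) := isClosedImmersion_inr h hcov
  exact ⟨inferInstance, inferInstance⟩

theorem joint_surjective_of_isPushout [IsClosedImmersion i] [IsClosedImmersion j]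
    {P : Scheme.{u}} {a : X ⟶ P} {b : Y ⟶ P} (hP : IsPushout i j a b) (x : P) :
    x ∈ Set.range a.base ∨ x ∈ Set.range b.base := by
  have h : IsPushout i.toLRSHom j.toLRSHom (pushout.inl i.toLRSHom j.toLRSHom)
      (pushout.inr i.toLRSHom j.toLRSHom) := IsPushout.of_hasPushout _ _
  have hcov := covered_of_closedImmersions h
  obtain ⟨e, rfl, rfl⟩ := exists_iso_of_isPushout h hcov hP
  have hx : e.hom.base (e.inv.base x) = x := by
    rw [← Scheme.Hom.comp_apply, e.inv_hom_id]; rfl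
  rcases joint_surjective h hcov (e.inv.base x) with ⟨x', hx'⟩ | ⟨y', hy'⟩
  · refine Or.inl ⟨x', ?_⟩
    rw [Scheme.Hom.comp_base, TopCat.comp_app, hx', hx]
  · refine Or.inr ⟨y', ?_⟩
    rw [Scheme.Hom.comp_base, TopCat.comp_app, hy', hx]

end Groth.Agent.H87.FerrScheme
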