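import Mathlib
import Groth.Agent.H87.FerrGeneral
import Groth.Agent.H87.FerrFive

/-!
# Morphisms between pushouts of closed immersions: the five local equivalences (helper87)
-/

set_option autoImplicit false
open CategoryTheory Limits TopologicalSpace AlgebraicGeometry Opposite

namespace Groth.Agent.H87.FerrMorph

universe u
open Groth.Agent.H87.FerrAlg Groth.Agent.H87.FerrScheme

theorem appLE_congr_hom {X Y : Scheme.{u}} {f g : X ⟶ Y} (hfg : f = g) (U : Y.Opens) (V : X.Opens)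
    (e : V ≤ f ⁻¹ᵁ U) : f.appLE U V e = g.appLE U V (hfg ▸ e) := by
  subst hfg; rfl

/-- `appLE` of a closed immersion between affine opens is surjective -/
theorem appLE_surjective_of_eq {Z Y : Scheme.{u}} (j : Z ⟶ Y) [IsClosedImmersion j] {U : Y.Opens}
    (hU : IsAffineOpen U) (V : Z.Opens) (hV : V = j ⁻¹ᵁ U) :
    Function.Surjective (j.appLE U V hV.le).hom := by
  subst hV
  rw [Scheme.Hom.appLE_eq_app]
  exact j.app_surjective U hU

variable {X Y Z P X' Y' Z' P' : Scheme.{u}}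
  {i : Z ⟶ X} {j : Z ⟶ Y} {a : X ⟶ P} {b : Y ⟶ P}
  {f : X' ⟶ X} {g : Y' ⟶ Y} {i' : Z' ⟶ X'} {j' : Z' ⟶ Y'} {c : Z' ⟶ Z}
  {a' : X' ⟶ P'} {b' : Y' ⟶ P'} {h : P' ⟶ P}

theorem leX (ha : a' ≫ h = f ≫ a) {W : P.Opens} {W' : P'.Opens} (e : W' ≤ h ⁻¹ᵁ W) :
    a' ⁻¹ᵁ W' ≤ f ⁻¹ᵁ a ⁻¹ᵁ W := by
  intro z hz
  have h1 : (a' ≫ h).base z ∈ W := e hz
  rw [ha] at h1
  exact h1

theorem leZ (hX : IsPullback i' c f i) (ha : a' ≫ h = f ≫ a) {W : P.Opens} {W' : P'.Opens}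
    (e : W' ≤ h ⁻¹ᵁ W) : i' ⁻¹ᵁ a' ⁻¹ᵁ W' ≤ c ⁻¹ᵁ i ⁻¹ᵁ a ⁻¹ᵁ W := by
  intro z hz
  have h1 : (i' ≫ f).base z ∈ a ⁻¹ᵁ W := leX ha e hz
  rw [hX.w] at h1
  exact h1

set_option backward.isDefEq.respectTransparency.types false in
set_option maxHeartbeats 1600000 in
/-- the five local equivalences -/
theorem local_five [IsClosedImmersion i] [IsClosedImmersion j] (hP : IsPushout i j a b)
    (hX : IsPullback i' c f i) (hY : IsPullback j' c g j) (hP' : IsPushout i' j' a' b')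
    (ha : a' ≫ h = f ≫ a) (hb : b' ≫ h = g ≫ b)
    {W : P.Opens} (hW : IsAffineOpen W) {W' : P'.Opens} (hW' : IsAffineOpen W')
    (e : W' ≤ h ⁻¹ᵁ W) :
    ((h.appLE W W' e).hom.FiniteType ↔ (f.appLE (a ⁻¹ᵁ W) (a' ⁻¹ᵁ W') (leX ha e)).hom.FiniteType ∧
      (g.appLE (b ⁻¹ᵁ W) (b' ⁻¹ᵁ W') (leX hb e)).hom.FiniteType) ∧
    ((h.appLE W W' e).hom.Flat ↔ (f.appLE (a ⁻¹ᵁ W) (a' ⁻¹ᵁ W') (leX ha e)).hom.Flat ∧
      (g.appLE (b ⁻¹ᵁ W) (b' ⁻¹ᵁ W') (leX hb e)).hom.Flat) ∧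
    ((h.appLE W W' e).hom.Flat ∧ (h.appLE W W' e).hom.FinitePresentation ↔
      ((f.appLE (a ⁻¹ᵁ W) (a' ⁻¹ᵁ W') (leX ha e)).hom.Flat ∧
        (f.appLE (a ⁻¹ᵁ W) (a' ⁻¹ᵁ W') (leX ha e)).hom.FinitePresentation) ∧
      ((g.appLE (b ⁻¹ᵁ W) (b' ⁻¹ᵁ W') (leX hb e)).hom.Flat ∧
        (g.appLE (b ⁻¹ᵁ W) (b' ⁻¹ᵁ W') (leX hb e)).hom.FinitePresentation)) ∧
    ((h.appLE W W' e).hom.Smooth ↔ (f.appLE (a ⁻¹ᵁ W) (a' ⁻¹ᵁ W') (leX ha e)).hom.Smooth ∧
      (g.appLE (b ⁻¹ᵁ W) (b' ⁻¹ᵁ W') (leX hb e)).hom.Smooth) ∧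
    ((h.appLE W W' e).hom.Etale ↔ (f.appLE (a ⁻¹ᵁ W) (a' ⁻¹ᵁ W') (leX ha e)).hom.Etale ∧
      (g.appLE (b ⁻¹ᵁ W) (b' ⁻¹ᵁ W') (leX hb e)).hom.Etale) := by
  have hi' : IsClosedImmersion i' :=
    MorphismProperty.of_isPullback (P := @IsClosedImmersion) hX.flip inferInstance
  have hj' : IsClosedImmersion j' :=
    MorphismProperty.of_isPullback (P := @IsClosedImmersion) hY.flip inferInstance
  obtain ⟨hca, hcb⟩ := closedImmersions_of_isPushout hP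
  obtain ⟨hca', hcb'⟩ := closedImmersions_of_isPushout hP'
  have hUa : IsAffineOpen (a ⁻¹ᵁ W) := hW.preimage a
  have hUb : IsAffineOpen (b ⁻¹ᵁ W) := hW.preimage b
  have hUz : IsAffineOpen (i ⁻¹ᵁ a ⁻¹ᵁ W) := hUa.preimage i
  have hUa' : IsAffineOpen (a' ⁻¹ᵁ W') := hW'.preimage a'
  have hUb' : IsAffineOpen (b' ⁻¹ᵁ W') := hW'.preimage b'
  have hzeq : i ⁻¹ᵁ a ⁻¹ᵁ W = j ⁻¹ᵁ b ⁻¹ᵁ W := by
    rw [← Scheme.Hom.comp_preimage, ← Scheme.Hom.comp_preimage, hP.w]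
  have hzeq' : i' ⁻¹ᵁ a' ⁻¹ᵁ W' = j' ⁻¹ᵁ b' ⁻¹ᵁ W' := by
    rw [← Scheme.Hom.comp_preimage, ← Scheme.Hom.comp_preimage, hP'.w]
  have sq := isFibSq_of_isPushout hP W
  have sq' := isFibSq_of_isPushout hP' W'
  have hg : Function.Surjective (j.appLE (b ⁻¹ᵁ W) (i ⁻¹ᵁ a ⁻¹ᵁ W)
      (preimage_le_of_isPushout hP W)).hom := appLE_surjective_of_eq j hUb _ hzeq
  have hg' : Function.Surjective (j'.appLE (b' ⁻¹ᵁ W') (i' ⁻¹ᵁ a' ⁻¹ᵁ W')
      (preimage_le_of_isPushout hP' W')).hom := appLE_surjective_of_eq j' hUb' _ hzeq'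
  -- the pushout squares of sections
  have hUY1 : i' ⁻¹ᵁ a' ⁻¹ᵁ W' = i' ⁻¹ᵁ (a' ⁻¹ᵁ W') ⊓ c ⁻¹ᵁ (i ⁻¹ᵁ a ⁻¹ᵁ W) :=
    (inf_eq_left.mpr (leZ hX ha e)).symm
  have hA := (isIso_pushoutSection_iff hX (le_refl (i ⁻¹ᵁ a ⁻¹ᵁ W)) (leX ha e) hUY1).mp
    (isIso_pushoutSection_of_isAffineOpen hX (le_refl _) (leX ha e) hUY1 hUa hUz hUa')
  have hUY2 : i' ⁻¹ᵁ a' ⁻¹ᵁ W' = j' ⁻¹ᵁ (b' ⁻¹ᵁ W') ⊓ c ⁻¹ᵁ (i ⁻¹ᵁ a ⁻¹ᵁ W) := by
    rw [← hzeq']
    exact hUY1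
  have hB := (isIso_pushoutSection_iff hY (preimage_le_of_isPushout hP W) (leX hb e) hUY2).mp
    (isIso_pushoutSection_of_isAffineOpen hY (preimage_le_of_isPushout hP W) (leX hb e) hUY2
      hUb hUz hUb')
  rw [Scheme.Hom.appLE_eq_app (f := i), Scheme.Hom.appLE_eq_app (f := i')] at hA
  refine five_iffs sq hg sq' hg' (h.appLE W W' e).hom
    (f.appLE (a ⁻¹ᵁ W) (a' ⁻¹ᵁ W') (leX ha e)).hom
    (g.appLE (b ⁻¹ᵁ W) (b' ⁻¹ᵁ W') (leX hb e)).hom
    (c.appLE (i ⁻¹ᵁ a ⁻¹ᵁ W) (i' ⁻¹ᵁ a' ⁻¹ᵁ W') (leZ hX ha e)).hom ?_ ?_ ?_ ?_ ?_ ?_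
  · intro r
    have h1 : h.appLE W W' e ≫ a'.app W' = a.app W ≫ f.appLE (a ⁻¹ᵁ W) (a' ⁻¹ᵁ W') (leX ha e) := by
      rw [Scheme.Hom.app_eq_appLE, Scheme.Hom.app_eq_appLE, Scheme.Hom.appLE_comp_appLE,
        Scheme.Hom.appLE_comp_appLE]
      exact appLE_congr_hom ha _ _ _
    exact ConcreteCategory.congr_hom h1 r
  · intro r
    have h1 : h.appLE W W' e ≫ b'.app W' = b.app W ≫ g.appLE (b ⁻¹ᵁ W) (b' ⁻¹ᵁ W') (leX hb e) := by
      rw [Scheme.Hom.app_eq_appLE, Scheme.Hom.app_eq_appLE, Scheme.Hom.appLE_comp_appLE,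
        Scheme.Hom.appLE_comp_appLE]
      exact appLE_congr_hom hb _ _ _
    exact ConcreteCategory.congr_hom h1 r
  · intro x
    have h1 : f.appLE (a ⁻¹ᵁ W) (a' ⁻¹ᵁ W') (leX ha e) ≫ i'.app (a' ⁻¹ᵁ W') =
        i.app (a ⁻¹ᵁ W) ≫ c.appLE (i ⁻¹ᵁ a ⁻¹ᵁ W) (i' ⁻¹ᵁ a' ⁻¹ᵁ W') (leZ hX ha e) := by
      rw [Scheme.Hom.app_eq_appLE, Scheme.Hom.app_eq_appLE, Scheme.Hom.appLE_comp_appLE,
        Scheme.Hom.appLE_comp_appLE]
      exact appLE_congr_hom hX.w _ _ _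
    exact ConcreteCategory.congr_hom h1 x
  · intro y
    have h1 : g.appLE (b ⁻¹ᵁ W) (b' ⁻¹ᵁ W') (leX hb e) ≫
        j'.appLE (b' ⁻¹ᵁ W') (i' ⁻¹ᵁ a' ⁻¹ᵁ W') (preimage_le_of_isPushout hP' W') =
        j.appLE (b ⁻¹ᵁ W) (i ⁻¹ᵁ a ⁻¹ᵁ W) (preimage_le_of_isPushout hP W) ≫
          c.appLE (i ⁻¹ᵁ a ⁻¹ᵁ W) (i' ⁻¹ᵁ a' ⁻¹ᵁ W') (leZ hX ha e) := by
      rw [Scheme.Hom.appLE_comp_appLE, Scheme.Hom.appLE_comp_appLE]
      exact appLE_congr_hom hY.w _ _ _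
    exact ConcreteCategory.congr_hom h1 y
  · exact hA
  · exact hB


/-- globalization of a local equivalence -/
theorem iff_of_local [IsClosedImmersion i] [IsClosedImmersion j] (hP : IsPushout i j a b)
    (hX : IsPullback i' c f i) (hY : IsPullback j' c g j) (hP' : IsPushout i' j' a' b')
    (ha : a' ≫ h = f ≫ a) (hb : b' ≫ h = g ≫ b)
    (Pr : MorphismProperty Scheme.{u})
    (Q : ∀ {R S : Type u} [CommRing R] [CommRing S], (R →+* S) → Prop)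
    (H1 : ∀ {X Y : Scheme.{u}} (f : X ⟶ Y), Pr f → ∀ (U : Y.Opens) (V : X.Opens), IsAffineOpen U →
      IsAffineOpen V → ∀ e : V ≤ f ⁻¹ᵁ U, Q (f.appLE U V e).hom)
    (H2 : ∀ {X Y : Scheme.{u}} (f : X ⟶ Y), (∀ x : X, ∃ (U : Y.Opens) (V : X.Opens),
      IsAffineOpen U ∧ IsAffineOpen V ∧ x ∈ V ∧ ∃ e : V ≤ f ⁻¹ᵁ U, Q (f.appLE U V e).hom) → Pr f)
    (hloc : ∀ (W : P.Opens) (W' : P'.Opens), IsAffineOpen W → IsAffineOpen W' →
      ∀ e : W' ≤ h ⁻¹ᵁ W, (Q (h.appLE W W' e).hom ↔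
        Q (f.appLE (a ⁻¹ᵁ W) (a' ⁻¹ᵁ W') (leX ha e)).hom ∧
        Q (g.appLE (b ⁻¹ᵁ W) (b' ⁻¹ᵁ W') (leX hb e)).hom)) :
    Pr h ↔ Pr f ∧ Pr g := by
  have hi' : IsClosedImmersion i' :=
    MorphismProperty.of_isPullback (P := @IsClosedImmersion) hX.flip inferInstance
  have hj' : IsClosedImmersion j' :=
    MorphismProperty.of_isPullback (P := @IsClosedImmersion) hY.flip inferInstance
  obtain ⟨hca, hcb⟩ := closedImmersions_of_isPushout hP
  obtain ⟨hca', hcb'⟩ := closedImmersions_of_isPushout hP'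
  constructor
  · intro hh
    constructor
    · apply H2
      intro x'
      obtain ⟨W, hW, hxW, -⟩ := Opens.isBasis_iff_nbhd.mp P.isBasis_affineOpens
        (Opens.mem_top (a.base (f.base x')))
      have hx1 : a'.base x' ∈ h ⁻¹ᵁ W := by
        change (a' ≫ h).base x' ∈ W
        rw [ha]
        exact hxW
      obtain ⟨W', hW', hxW', e⟩ := Opens.isBasis_iff_nbhd.mp P'.isBasis_affineOpens hx1
      exact ⟨a ⁻¹ᵁ W, a' ⁻¹ᵁ W', hW.preimage a, hW'.preimage a', hxW', leX ha e,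
        ((hloc W W' hW hW' e).mp (H1 h hh W W' hW hW' e)).1⟩
    · apply H2
      intro y'
      obtain ⟨W, hW, hxW, -⟩ := Opens.isBasis_iff_nbhd.mp P.isBasis_affineOpens
        (Opens.mem_top (b.base (g.base y')))
      have hx1 : b'.base y' ∈ h ⁻¹ᵁ W := by
        change (b' ≫ h).base y' ∈ W
        rw [hb]
        exact hxW
      obtain ⟨W', hW', hxW', e⟩ := Opens.isBasis_iff_nbhd.mp P'.isBasis_affineOpens hx1
      exact ⟨b ⁻¹ᵁ W, b' ⁻¹ᵁ W', hW.preimage b, hW'.preimage b', hxW', leX hb e,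
        ((hloc W W' hW hW' e).mp (H1 h hh W W' hW hW' e)).2⟩
  · rintro ⟨hf, hg⟩
    apply H2
    intro y'
    obtain ⟨W, hW, hxW, -⟩ := Opens.isBasis_iff_nbhd.mp P.isBasis_affineOpens
      (Opens.mem_top (h.base y'))
    obtain ⟨W', hW', hxW', e⟩ := Opens.isBasis_iff_nbhd.mp P'.isBasis_affineOpens
      (show y' ∈ h ⁻¹ᵁ W from hxW)
    refine ⟨W, W', hW, hW', hxW', e, (hloc W W' hW hW' e).mpr ⟨?_, ?_⟩⟩
    · exact H1 f hf _ _ (hW.preimage a) (hW'.preimage a') _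
    · exact H1 g hg _ _ (hW.preimage b) (hW'.preimage b') _

theorem H1_of_hasRingHomProperty (Pr : MorphismProperty Scheme.{u})
    (Q : ∀ {R S : Type u} [CommRing R] [CommRing S], (R →+* S) → Prop)
    [HasRingHomProperty Pr Q] {X Y : Scheme.{u}} (f : X ⟶ Y) (hf : Pr f) (U : Y.Opens)
    (V : X.Opens) (hU : IsAffineOpen U) (hV : IsAffineOpen V) (e : V ≤ f ⁻¹ᵁ U) :
    Q (f.appLE U V e).hom :=
  HasRingHomProperty.appLE (P := Pr) f hf ⟨U, hU⟩ ⟨V, hV⟩ e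

theorem H2_of_hasRingHomProperty (Pr : MorphismProperty Scheme.{u})
    (Q : ∀ {R S : Type u} [CommRing R] [CommRing S], (R →+* S) → Prop)
    [HasRingHomProperty Pr Q] (hQ : RingHom.StableUnderCompositionWithLocalizationAwaySource Q)
    {X Y : Scheme.{u}} (f : X ⟶ Y)
    (H : ∀ x : X, ∃ (U : Y.Opens) (V : X.Opens),
      IsAffineOpen U ∧ IsAffineOpen V ∧ x ∈ V ∧ ∃ e : V ≤ f ⁻¹ᵁ U, Q (f.appLE U V e).hom) :
    Pr f := by
  rw [HasRingHomProperty.iff_exists_appLE (P := Pr) hQ]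
  intro x
  obtain ⟨U, V, hU, hV, hxV, e, hq⟩ := H x
  exact ⟨⟨U, hU⟩, ⟨V, hV⟩, hxV, e, hq⟩

theorem etale_holdsForLocalizationAway : RingHom.HoldsForLocalizationAway RingHom.Etale := by
  intro R S _ _ _ r _
  rw [RingHom.etale_algebraMap]
  exact Algebra.Etale.of_isLocalizationAway r

/-- **The five equivalences for a morphism between pushouts of closed immersions.** -/
theorem five [IsClosedImmersion i] [IsClosedImmersion j] (hP : IsPushout i j a b)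
    (hX : IsPullback i' c f i) (hY : IsPullback j' c g j) (hP' : IsPushout i' j' a' b')
    (ha : a' ≫ h = f ≫ a) (hb : b' ≫ h = g ≫ b) :
    (LocallyOfFiniteType h ↔ LocallyOfFiniteType f ∧ LocallyOfFiniteType g) ∧
    (Flat h ↔ Flat f ∧ Flat g) ∧
    ((Flat h ∧ LocallyOfFinitePresentation h) ↔ (Flat f ∧ LocallyOfFinitePresentation f) ∧
      (Flat g ∧ LocallyOfFinitePresentation g)) ∧
    (Smooth h ↔ Smooth f ∧ Smooth g) ∧
    (Etale h ↔ Etale f ∧ Etale g) := by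
  have hft := (RingHom.finiteType_stableUnderComposition.stableUnderCompositionWithLocalizationAway
      RingHom.finiteType_holdsForLocalizationAway).left
  have hfl := (RingHom.Flat.stableUnderComposition.stableUnderCompositionWithLocalizationAway
      RingHom.Flat.holdsForLocalizationAway).left
  have hfp := (RingHom.finitePresentation_stableUnderComposition.stableUnderCompositionWithLocalizationAway
      RingHom.finitePresentation_holdsForLocalizationAway).left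
  have hsm := (RingHom.Smooth.stableUnderComposition.stableUnderCompositionWithLocalizationAway
      RingHom.Smooth.holdsForLocalizationAway).left
  have het := (RingHom.Etale.stableUnderComposition.stableUnderCompositionWithLocalizationAway
      etale_holdsForLocalizationAway).left
  refine ⟨?_, ?_, ?_, ?_, ?_⟩
  · exact iff_of_local hP hX hY hP' ha hb @LocallyOfFiniteType @RingHom.FiniteType
      (fun f hf U V hU hV e => H1_of_hasRingHomProperty @LocallyOfFiniteType @RingHom.FiniteType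
        f hf U V hU hV e)
      (fun f H => H2_of_hasRingHomProperty @LocallyOfFiniteType @RingHom.FiniteType hft f H)
      (fun W W' hW hW' e => (local_five hP hX hY hP' ha hb hW hW' e).1)
  · exact iff_of_local hP hX hY hP' ha hb @Flat @RingHom.Flat
      (fun f hf U V hU hV e => H1_of_hasRingHomProperty @Flat @RingHom.Flat f hf U V hU hV e)
      (fun f H => H2_of_hasRingHomProperty @Flat @RingHom.Flat hfl f H)
      (fun W W' hW hW' e => (local_five hP hX hY hP' ha hb hW hW' e).2.1)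
  · exact iff_of_local hP hX hY hP' ha hb
      (fun _ _ f => Flat f ∧ LocallyOfFinitePresentation f)
      (fun φ => φ.Flat ∧ φ.FinitePresentation)
      (fun f hf U V hU hV e => ⟨H1_of_hasRingHomProperty @Flat @RingHom.Flat f hf.1 U V hU hV e,
        H1_of_hasRingHomProperty @LocallyOfFinitePresentation @RingHom.FinitePresentation f hf.2
          U V hU hV e⟩)
      (fun f H => ⟨H2_of_hasRingHomProperty @Flat @RingHom.Flat hfl f (fun x => by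
          obtain ⟨U, V, hU, hV, hxV, e, hq⟩ := H x
          exact ⟨U, V, hU, hV, hxV, e, hq.1⟩),
        H2_of_hasRingHomProperty @LocallyOfFinitePresentation @RingHom.FinitePresentation hfp f
          (fun x => by
            obtain ⟨U, V, hU, hV, hxV, e, hq⟩ := H x
            exact ⟨U, V, hU, hV, hxV, e, hq.2⟩)⟩)
      (fun W W' hW hW' e => (local_five hP hX hY hP' ha hb hW hW' e).2.2.1)
  · exact iff_of_local hP hX hY hP' ha hb @Smooth @RingHom.Smooth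
      (fun f hf U V hU hV e => H1_of_hasRingHomProperty @Smooth @RingHom.Smooth f hf U V hU hV e)
      (fun f H => H2_of_hasRingHomProperty @Smooth @RingHom.Smooth hsm f H)
      (fun W W' hW hW' e => (local_five hP hX hY hP' ha hb hW hW' e).2.2.2.1)
  · exact iff_of_local hP hX hY hP' ha hb @Etale @RingHom.Etale
      (fun f hf U V hU hV e => H1_of_hasRingHomProperty @Etale @RingHom.Etale f hf U V hU hV e)
      (fun f H => H2_of_hasRingHomProperty @Etale @RingHom.Etale het f H)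
      (fun W W' hW hW' e => (local_five hP hX hY hP' ha hb hW hW' e).2.2.2.2)

end Groth.Agent.H87.FerrMorph
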