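import Mathlib
import Groth.Agent.H87.FerrGeneral

/-!
# Recognition of pushouts along a closed immersion (helper87)

`isPushout_of_cover`: a commutative square `i ≫ a' = j ≫ b'` of schemes with `i` a closed
immersion is a pushout square as soon as the target is covered by affine opens `W` with affine
preimages over which the sections form a fibre square of rings.
-/

set_option autoImplicit false
open CategoryTheory Limits TopologicalSpace AlgebraicGeometry Opposite

namespace Groth.Agent.H87.FerrAlg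

theorem bijective_of_isFibSq {R₁ R₂ A B C : Type*} [CommRing R₁] [CommRing R₂] [CommRing A]
    [CommRing B] [CommRing C] (ε : R₁ →+* R₂) {p : R₂ →+* A} {q : R₂ →+* B} {f : A →+* C}
    {g : B →+* C} (sq1 : IsFibSq (p.comp ε) (q.comp ε) f g) (sq2 : IsFibSq p q f g) :
    Function.Bijective ε := by
  constructor
  · intro r r' hrr'
    apply sq1.ext
    · change p (ε r) = p (ε r'); rw [hrr']
    · change q (ε r) = q (ε r'); rw [hrr']
  · intro s
    obtain ⟨r, hr1, hr2⟩ := sq1.glue (p s) (q s) (sq2.comm s)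
    exact ⟨r, sq2.ext _ _ hr1 hr2⟩

end Groth.Agent.H87.FerrAlg

namespace Groth.Agent.H87.FerrScheme

universe u
open Groth.Agent.H87.FerrAlg Groth.Agent.H87.FerrLRS

variable {X Y Z : Scheme.{u}} {P : LocallyRingedSpace.{u}} {i : Z ⟶ X} {j : Z ⟶ Y}
  {a : X.toLocallyRingedSpace ⟶ P} {b : Y.toLocallyRingedSpace ⟶ P}

set_option backward.isDefEq.respectTransparency.types false in
/-- a morphism out of the Ferrand pushout is an isomorphism if the target is covered by affine
opens over which the sections form a fibre square -/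
theorem isIso_of_cover (h : IsPushout i.toLRSHom j.toLRSHom a b) [IsClosedImmersion i]
    (hcov : Covered a b) {P' : Scheme.{u}} (c : scheme h hcov ⟶ P')
    (H : ∀ x : P', ∃ W : P'.Opens, x ∈ W ∧ IsAffineOpen W ∧
      IsAffineOpen ((inl h hcov ≫ c) ⁻¹ᵁ W) ∧ IsAffineOpen ((inr h hcov ≫ c) ⁻¹ᵁ W) ∧
      ∃ hle : i ⁻¹ᵁ (inl h hcov ≫ c) ⁻¹ᵁ W ≤ j ⁻¹ᵁ (inr h hcov ≫ c) ⁻¹ᵁ W,
        IsFibSq ((inl h hcov ≫ c).app W).hom ((inr h hcov ≫ c).app W).hom
          (i.app ((inl h hcov ≫ c) ⁻¹ᵁ W)).hom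
          (j.appLE ((inr h hcov ≫ c) ⁻¹ᵁ W) (i ⁻¹ᵁ (inl h hcov ≫ c) ⁻¹ᵁ W) hle).hom) :
    IsIso c := by
  choose W hxW hW hWa hWb hle hsq using H
  have hsup : (⨆ x : P', ((⟨W x, hW x⟩ : P'.affineOpens) : P'.Opens)) = ⊤ := by
    rw [eq_top_iff]
    intro x _
    exact Opens.mem_iSup.mpr ⟨x, hxW x⟩
  have key : MorphismProperty.isomorphisms Scheme c := by
    rw [HasAffineProperty.iff_of_iSup_eq_top (P := MorphismProperty.isomorphisms Scheme)
      (fun x : P' => (⟨W x, hW x⟩ : P'.affineOpens)) hsup]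
    intro x
    have hWaff : IsAffineOpen (c ⁻¹ᵁ W x) :=
      isAffineOpen h hcov ((Opens.map c.base).obj (W x)) (hWa x) (hWb x)
    refine ⟨hWaff, ?_⟩
    change IsIso (Scheme.Hom.appTop (c ∣_ W x))
    rw [morphismRestrict_appTop]
    have hbij : ∀ W₁ : P'.Opens, W₁ = W x → Function.Bijective (c.app W₁).hom := by
      rintro _ rfl
      have sq2 := isFibSq h ((Opens.map c.base).obj (W x))
      have sq1 : IsFibSq ((πA a ((Opens.map c.base).obj (W x))).comp (c.app (W x)).hom)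
          ((πB b ((Opens.map c.base).obj (W x))).comp (c.app (W x)).hom)
          (fC i a ((Opens.map c.base).obj (W x))) (gC h ((Opens.map c.base).obj (W x))) := hsq x
      exact bijective_of_isFibSq _ sq1 sq2
    have h1 : IsIso (c.app ((W x).ι ''ᵁ ⊤)) :=
      (ConcreteCategory.isIso_iff_bijective _).mpr (hbij _ (by simp))
    refine @IsIso.comp_isIso _ _ _ _ _ _ _ h1 ?_
    exact Functor.map_isIso _ _
  exact key

/-- **Recognition of pushouts along a closed immersion.** -/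
theorem isPushout_of_cover [IsClosedImmersion i] {P' : Scheme.{u}} (a' : X ⟶ P') (b' : Y ⟶ P')
    (w : i ≫ a' = j ≫ b')
    (H : ∀ x : P', ∃ W : P'.Opens, x ∈ W ∧ IsAffineOpen W ∧
      IsAffineOpen (a' ⁻¹ᵁ W) ∧ IsAffineOpen (b' ⁻¹ᵁ W) ∧
      ∃ hle : i ⁻¹ᵁ a' ⁻¹ᵁ W ≤ j ⁻¹ᵁ b' ⁻¹ᵁ W,
        IsFibSq (a'.app W).hom (b'.app W).hom (i.app (a' ⁻¹ᵁ W)).hom
          (j.appLE (b' ⁻¹ᵁ W) (i ⁻¹ᵁ a' ⁻¹ᵁ W) hle).hom) :
    IsPushout i j a' b' := by
  have h : IsPushout i.toLRSHom j.toLRSHom (pushout.inl i.toLRSHom j.toLRSHom)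
      (pushout.inr i.toLRSHom j.toLRSHom) := IsPushout.of_hasPushout _ _
  have w' : i.toLRSHom ≫ a'.toLRSHom = j.toLRSHom ≫ b'.toLRSHom :=
    congrArg Scheme.Hom.toLRSHom w
  have hcov : Covered (pushout.inl i.toLRSHom j.toLRSHom) (pushout.inr i.toLRSHom j.toLRSHom) := by
    intro p
    obtain ⟨W, hx, hW, hWa, hWb, -⟩ := H ((h.desc a'.toLRSHom b'.toLRSHom w').base p)
    refine ⟨(Opens.map (h.desc a'.toLRSHom b'.toLRSHom w').base).obj W, hx, ?_, ?_⟩
    · have : aU (pushout.inl i.toLRSHom j.toLRSHom)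
          ((Opens.map (h.desc a'.toLRSHom b'.toLRSHom w').base).obj W) = a' ⁻¹ᵁ W := by
        change (Opens.map (pushout.inl i.toLRSHom j.toLRSHom ≫
          h.desc a'.toLRSHom b'.toLRSHom w').base).obj W = _
        rw [h.inl_desc]
      rw [this]
      exact hWa
    · have : bV (pushout.inr i.toLRSHom j.toLRSHom)
          ((Opens.map (h.desc a'.toLRSHom b'.toLRSHom w').base).obj W) = b' ⁻¹ᵁ W := by
        change (Opens.map (pushout.inr i.toLRSHom j.toLRSHom ≫
          h.desc a'.toLRSHom b'.toLRSHom w').base).obj W = _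
        rw [h.inr_desc]
      rw [this]
      exact hWb
  obtain ⟨c, ha, hb⟩ : ∃ c : scheme h hcov ⟶ P', inl h hcov ≫ c = a' ∧ inr h hcov ≫ c = b' :=
    ⟨(isPushout h hcov).desc a' b' w, (isPushout h hcov).inl_desc _ _ _,
      (isPushout h hcov).inr_desc _ _ _⟩
  subst ha hb
  have hiso : IsIso c := isIso_of_cover h hcov c H
  exact IsPushout.of_iso (isPushout h hcov) (Iso.refl _) (Iso.refl _) (Iso.refl _) (asIso c)
    (by simp) (by simp) (by simp) (by simp)

end Groth.Agent.H87.FerrScheme
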