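import Mathlib
import Groth.Agent.H87.FerrRecog
import Groth.Agent.H87.FerrFlatAlg
import Groth.Agent.H87.FerrMorph

/-!
# Flat base change of pushouts of closed immersions (helper87)
-/

set_option autoImplicit false
open CategoryTheory Limits TopologicalSpace AlgebraicGeometry Opposite

namespace Groth.Agent.H87.FerrScheme

universe u
open Groth.Agent.H87.FerrAlg Groth.Agent.H87.FerrMorph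

theorem le_of_comm {A B C D : Scheme.{u}} {t : A ⟶ B} {l : A ⟶ C} {r : B ⟶ D} {b : C ⟶ D}
    (w : t ≫ r = l ≫ b) {W : D.Opens} {W' : B.Opens} (e : W' ≤ r ⁻¹ᵁ W) :
    t ⁻¹ᵁ W' ≤ l ⁻¹ᵁ b ⁻¹ᵁ W := by
  intro z hz
  have h1 : (t ≫ r).base z ∈ W := e hz
  rw [w] at h1
  exact h1

theorem appLE_comm {A B C D : Scheme.{u}} {t : A ⟶ B} {l : A ⟶ C} {r : B ⟶ D} {b : C ⟶ D}
    (w : t ≫ r = l ≫ b) {W : D.Opens} {W' : B.Opens} (e : W' ≤ r ⁻¹ᵁ W)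
    {V : C.Opens} (hV : V ≤ b ⁻¹ᵁ W) {V' : A.Opens} (hV't : V' ≤ t ⁻¹ᵁ W') (hV'l : V' ≤ l ⁻¹ᵁ V) :
    r.appLE W W' e ≫ t.appLE W' V' hV't = b.appLE W V hV ≫ l.appLE V V' hV'l := by
  rw [Scheme.Hom.appLE_comp_appLE, Scheme.Hom.appLE_comp_appLE]
  exact appLE_congr_hom w _ _ _

set_option backward.isDefEq.respectTransparency.types false in
set_option maxHeartbeats 1600000 in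
/-- **Flat base change of a pushout of two closed immersions.** -/
theorem isPushout_of_flat_baseChange {Y X₁ X₂ X Y' X₁' X₂' X' : Scheme.{u}}
    {θ₁ : Y ⟶ X₁} {θ₂ : Y ⟶ X₂} [IsClosedImmersion θ₁] [IsClosedImmersion θ₂]
    {φ₁ : X₁ ⟶ X} {φ₂ : X₂ ⟶ X} (hX : IsPushout θ₁ θ₂ φ₁ φ₂)
    {π : X' ⟶ X} [Flat π]
    {φ₁' : X₁' ⟶ X'} {p₁ : X₁' ⟶ X₁} (H₁ : IsPullback φ₁' p₁ π φ₁)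
    {φ₂' : X₂' ⟶ X'} {p₂ : X₂' ⟶ X₂} (H₂ : IsPullback φ₂' p₂ π φ₂)
    {θ₁' : Y' ⟶ X₁'} {θ₂' : Y' ⟶ X₂'} {pY : Y' ⟶ Y}
    (HY₁ : IsPullback θ₁' pY p₁ θ₁) (HY₂ : IsPullback θ₂' pY p₂ θ₂)
    (w' : θ₁' ≫ φ₁' = θ₂' ≫ φ₂') : IsPushout θ₁' θ₂' φ₁' φ₂' := by
  have hθ₁' : IsClosedImmersion θ₁' :=
    MorphismProperty.of_isPullback (P := @IsClosedImmersion) HY₁.flip inferInstance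
  obtain ⟨hφ₁, hφ₂⟩ := closedImmersions_of_isPushout hX
  have hφ₁' : IsClosedImmersion φ₁' :=
    MorphismProperty.of_isPullback (P := @IsClosedImmersion) H₁.flip inferInstance
  have hφ₂' : IsClosedImmersion φ₂' :=
    MorphismProperty.of_isPullback (P := @IsClosedImmersion) H₂.flip inferInstance
  apply isPushout_of_cover φ₁' φ₂' w'
  intro x'
  obtain ⟨W, hW, hxW, -⟩ := Opens.isBasis_iff_nbhd.mp X.isBasis_affineOpens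
    (Opens.mem_top (π.base x'))
  obtain ⟨W', hW', hxW', e⟩ := Opens.isBasis_iff_nbhd.mp X'.isBasis_affineOpens
    (show x' ∈ π ⁻¹ᵁ W from hxW)
  have hle' : θ₁' ⁻¹ᵁ φ₁' ⁻¹ᵁ W' ≤ θ₂' ⁻¹ᵁ φ₂' ⁻¹ᵁ W' := by
    rw [← Scheme.Hom.comp_preimage, ← Scheme.Hom.comp_preimage, w']
  refine ⟨W', hxW', hW', hW'.preimage φ₁', hW'.preimage φ₂', hle', ?_⟩
  have sq := isFibSq_of_isPushout hX W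
  have hUa : IsAffineOpen (φ₁ ⁻¹ᵁ W) := hW.preimage φ₁
  have hUb : IsAffineOpen (φ₂ ⁻¹ᵁ W) := hW.preimage φ₂
  have hUz : IsAffineOpen (θ₁ ⁻¹ᵁ φ₁ ⁻¹ᵁ W) := hUa.preimage θ₁
  -- inequalities
  have e1 : φ₁' ⁻¹ᵁ W' ≤ p₁ ⁻¹ᵁ φ₁ ⁻¹ᵁ W := le_of_comm H₁.w e
  have e2 : φ₂' ⁻¹ᵁ W' ≤ p₂ ⁻¹ᵁ φ₂ ⁻¹ᵁ W := le_of_comm H₂.w e
  have eY : θ₁' ⁻¹ᵁ φ₁' ⁻¹ᵁ W' ≤ pY ⁻¹ᵁ θ₁ ⁻¹ᵁ φ₁ ⁻¹ᵁ W := le_of_comm HY₁.w e1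
  -- the pushout squares of sections
  have hUY1 : φ₁' ⁻¹ᵁ W' = φ₁' ⁻¹ᵁ W' ⊓ p₁ ⁻¹ᵁ (φ₁ ⁻¹ᵁ W) := (inf_eq_left.mpr e1).symm
  have hA := (isIso_pushoutSection_iff H₁ (le_refl (φ₁ ⁻¹ᵁ W)) e hUY1).mp
    (isIso_pushoutSection_of_isAffineOpen H₁ (le_refl _) e hUY1 hW hUa hW')
  have hUY2 : φ₂' ⁻¹ᵁ W' = φ₂' ⁻¹ᵁ W' ⊓ p₂ ⁻¹ᵁ (φ₂ ⁻¹ᵁ W) := (inf_eq_left.mpr e2).symm
  have hB := (isIso_pushoutSection_iff H₂ (le_refl (φ₂ ⁻¹ᵁ W)) e hUY2).mp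
    (isIso_pushoutSection_of_isAffineOpen H₂ (le_refl _) e hUY2 hW hUb hW')
  have HC := HY₁.paste_horiz H₁
  have hUY3 : θ₁' ⁻¹ᵁ φ₁' ⁻¹ᵁ W' = (θ₁' ≫ φ₁') ⁻¹ᵁ W' ⊓ pY ⁻¹ᵁ (θ₁ ⁻¹ᵁ φ₁ ⁻¹ᵁ W) :=
    (inf_eq_left.mpr eY).symm
  have hC := (isIso_pushoutSection_iff HC (le_refl (θ₁ ⁻¹ᵁ φ₁ ⁻¹ᵁ W)) e hUY3).mp
    (isIso_pushoutSection_of_isAffineOpen HC (le_refl _) e hUY3 hW hUz hW')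
  rw [Scheme.Hom.appLE_eq_app (f := φ₁), Scheme.Hom.appLE_eq_app (f := φ₁')] at hA
  rw [Scheme.Hom.appLE_eq_app (f := φ₂), Scheme.Hom.appLE_eq_app (f := φ₂')] at hB
  have hc1 : (θ₁ ≫ φ₁).appLE W (θ₁ ⁻¹ᵁ φ₁ ⁻¹ᵁ W) (le_refl _) = φ₁.app W ≫ θ₁.app (φ₁ ⁻¹ᵁ W) := by
    rw [Scheme.Hom.app_eq_appLE, Scheme.Hom.app_eq_appLE, Scheme.Hom.appLE_comp_appLE]
  have hc2 : (θ₁' ≫ φ₁').appLE W' (θ₁' ⁻¹ᵁ φ₁' ⁻¹ᵁ W') (le_refl _) =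
      φ₁'.app W' ≫ θ₁'.app (φ₁' ⁻¹ᵁ W') := by
    rw [Scheme.Hom.app_eq_appLE, Scheme.Hom.app_eq_appLE, Scheme.Hom.appLE_comp_appLE]
  rw [hc1, hc2] at hC
  refine IsFibSq.flat_baseChange sq ?_ (π.appLE W W' e).hom
    (HasRingHomProperty.appLE (P := @Flat) π inferInstance ⟨W, hW⟩ ⟨W', hW'⟩ e)
    (p₁.appLE (φ₁ ⁻¹ᵁ W) (φ₁' ⁻¹ᵁ W') e1).hom (p₂.appLE (φ₂ ⁻¹ᵁ W) (φ₂' ⁻¹ᵁ W') e2).hom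
    (pY.appLE (θ₁ ⁻¹ᵁ φ₁ ⁻¹ᵁ W) (θ₁' ⁻¹ᵁ φ₁' ⁻¹ᵁ W') eY).hom ?_ ?_ ?_ ?_ hA hB hC
  · intro s
    have h1 : φ₁'.app W' ≫ θ₁'.app (φ₁' ⁻¹ᵁ W') =
        φ₂'.app W' ≫ θ₂'.appLE (φ₂' ⁻¹ᵁ W') (θ₁' ⁻¹ᵁ φ₁' ⁻¹ᵁ W') hle' := by
      rw [Scheme.Hom.app_eq_appLE (f := φ₁'), Scheme.Hom.app_eq_appLE (f := θ₁'),
        Scheme.Hom.app_eq_appLE (f := φ₂'), Scheme.Hom.appLE_comp_appLE,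
        Scheme.Hom.appLE_comp_appLE]
      exact appLE_congr_hom w' _ _ _
    exact ConcreteCategory.congr_hom h1 s
  · intro r
    have h1 : π.appLE W W' e ≫ φ₁'.app W' = φ₁.app W ≫ p₁.appLE (φ₁ ⁻¹ᵁ W) (φ₁' ⁻¹ᵁ W') e1 := by
      rw [Scheme.Hom.app_eq_appLE, Scheme.Hom.app_eq_appLE]
      exact appLE_comm H₁.w e _ _ _
    exact ConcreteCategory.congr_hom h1 r
  · intro r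
    have h1 : π.appLE W W' e ≫ φ₂'.app W' = φ₂.app W ≫ p₂.appLE (φ₂ ⁻¹ᵁ W) (φ₂' ⁻¹ᵁ W') e2 := by
      rw [Scheme.Hom.app_eq_appLE, Scheme.Hom.app_eq_appLE]
      exact appLE_comm H₂.w e _ _ _
    exact ConcreteCategory.congr_hom h1 r
  · intro x
    have h1 : p₁.appLE (φ₁ ⁻¹ᵁ W) (φ₁' ⁻¹ᵁ W') e1 ≫ θ₁'.app (φ₁' ⁻¹ᵁ W') =
        θ₁.app (φ₁ ⁻¹ᵁ W) ≫ pY.appLE (θ₁ ⁻¹ᵁ φ₁ ⁻¹ᵁ W) (θ₁' ⁻¹ᵁ φ₁' ⁻¹ᵁ W') eY := by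
      rw [Scheme.Hom.app_eq_appLE, Scheme.Hom.app_eq_appLE]
      exact appLE_comm HY₁.w e1 _ _ _
    exact ConcreteCategory.congr_hom h1 x
  · intro y
    have h1 : p₂.appLE (φ₂ ⁻¹ᵁ W) (φ₂' ⁻¹ᵁ W') e2 ≫
        θ₂'.appLE (φ₂' ⁻¹ᵁ W') (θ₁' ⁻¹ᵁ φ₁' ⁻¹ᵁ W') hle' =
        θ₂.appLE (φ₂ ⁻¹ᵁ W) (θ₁ ⁻¹ᵁ φ₁ ⁻¹ᵁ W) (preimage_le_of_isPushout hX W) ≫
          pY.appLE (θ₁ ⁻¹ᵁ φ₁ ⁻¹ᵁ W) (θ₁' ⁻¹ᵁ φ₁' ⁻¹ᵁ W') eY :=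
      appLE_comm HY₂.w e2 _ _ _
    exact ConcreteCategory.congr_hom h1 y

end Groth.Agent.H87.FerrScheme
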