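import Mathlib
import Groth.Agent.H87.FerrBC

/-!
# Helpers for base change of Ferrand pushouts (helper87)
-/

set_option autoImplicit false
open CategoryTheory Limits TopologicalSpace AlgebraicGeometry Opposite

namespace Groth.Agent.H87.FerrScheme

universe u
open Groth.Agent.H87.FerrAlg Groth.Agent.H87.FerrMorph Groth.Agent.H87.FerrLRS

/-- a pushout in schemes with affine legs satisfies the covering hypothesis -/
theorem covered_of_isPushout_affine {Y X₁ X₂ X : Scheme.{u}} {θ₁ : Y ⟶ X₁} {θ₂ : Y ⟶ X₂}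
    {φ₁ : X₁ ⟶ X} {φ₂ : X₂ ⟶ X} [IsAffineHom φ₁] [IsAffineHom φ₂] (w : θ₁ ≫ φ₁ = θ₂ ≫ φ₂)
    {P₀ : LocallyRingedSpace.{u}} {a₀ : X₁.toLocallyRingedSpace ⟶ P₀}
    {b₀ : X₂.toLocallyRingedSpace ⟶ P₀} (h : IsPushout θ₁.toLRSHom θ₂.toLRSHom a₀ b₀) :
    Covered a₀ b₀ := by
  have w' : θ₁.toLRSHom ≫ φ₁.toLRSHom = θ₂.toLRSHom ≫ φ₂.toLRSHom :=
    congrArg Scheme.Hom.toLRSHom w
  intro p
  obtain ⟨W, hW, hx, -⟩ := Opens.isBasis_iff_nbhd.mp X.isBasis_affineOpens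
    (Opens.mem_top ((h.desc φ₁.toLRSHom φ₂.toLRSHom w').base p))
  refine ⟨(Opens.map (h.desc φ₁.toLRSHom φ₂.toLRSHom w').base).obj W, hx, ?_, ?_⟩
  · have : aU a₀ ((Opens.map (h.desc φ₁.toLRSHom φ₂.toLRSHom w').base).obj W) = φ₁ ⁻¹ᵁ W := by
      change (Opens.map (a₀ ≫ h.desc φ₁.toLRSHom φ₂.toLRSHom w').base).obj W = _
      rw [h.inl_desc]
    rw [this]
    exact hW.preimage φ₁
  · have : bV b₀ ((Opens.map (h.desc φ₁.toLRSHom φ₂.toLRSHom w').base).obj W) = φ₂ ⁻¹ᵁ W := by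
      change (Opens.map (b₀ ≫ h.desc φ₁.toLRSHom φ₂.toLRSHom w').base).obj W = _
      rw [h.inr_desc]
    rw [this]
    exact hW.preimage φ₂

theorem isPullback_pullbackMap {A B S S' : Scheme.{u}} (u : A ⟶ S) (t : B ⟶ S) (g : S' ⟶ S)
    (k : A ⟶ B) (e₁ : u ≫ 𝟙 S = k ≫ t) (e₂ : g ≫ 𝟙 S = 𝟙 S' ≫ g) :
    IsPullback (pullback.map u g t g k (𝟙 S') (𝟙 S) e₁ e₂) (pullback.fst u g) (pullback.fst t g)
      k := by
  have hu : k ≫ t = u := by rw [← e₁, Category.comp_id]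
  have hout : IsPullback (pullback.map u g t g k (𝟙 S') (𝟙 S) e₁ e₂ ≫ pullback.snd t g)
      (pullback.fst u g) g (k ≫ t) := by
    rw [hu]
    have : pullback.map u g t g k (𝟙 S') (𝟙 S) e₁ e₂ ≫ pullback.snd t g = pullback.snd u g := by
      rw [pullback.lift_snd, Category.comp_id]
    rw [this]
    exact (IsPullback.of_hasPullback u g).flip
  refine IsPullback.of_right hout ?_ (IsPullback.of_hasPullback t g).flip
  exact pullback.lift_fst _ _ _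

end Groth.Agent.H87.FerrScheme
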