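import Mathlib
import Groth.Agent.H87.FerrBCAlg
import Groth.Prelude.Def_W4c3jacimperfPinch

/-!
# Base change of fibre squares of rings admitting a linear retraction (helper87)

* `exact_of_isBaseChange_of_injective`: base change preserves a short exact sequence whose first
  map stays injective after base change.
* `IsFibSq.baseChange_of_retraction`: a fibre square `R = A ×_C B` (with `A → C` surjective) over a
  base ring `L` such that `R → A` has an `L`-linear retraction stays a fibre square after any base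
  change `L → L'`.
* `IsFibSq.exists_retraction`: such a retraction exists when `B → C` is injective with projective
  cokernel over `L`.
-/

set_option autoImplicit false
set_option linter.style.haveILetI false
universe u
open CategoryTheory TensorProduct

namespace Groth.Agent.H87.FerrAlg

/-- base change preserves short exact sequences whose first map is universally injective
(in `IsBaseChange` form) -/
theorem exact_of_isBaseChange_of_injective {R : Type*} [CommRing R] (S : Type*) [CommRing S]
    [Algebra R S]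
    {M₁ M₂ M₃ N₁ N₂ N₃ : Type*} [AddCommGroup M₁] [AddCommGroup M₂] [AddCommGroup M₃]
    [AddCommGroup N₁] [AddCommGroup N₂] [AddCommGroup N₃] [Module R M₁] [Module R M₂] [Module R M₃]
    [Module R N₁] [Module R N₂] [Module R N₃] [Module S N₁] [Module S N₂] [Module S N₃]
    [IsScalarTower R S N₁] [IsScalarTower R S N₂] [IsScalarTower R S N₃]
    (h₁ : M₁ →ₗ[R] N₁) (h₂ : M₂ →ₗ[R] N₂) (h₃ : M₃ →ₗ[R] N₃)
    {f : M₁ →ₗ[R] M₂} {g : M₂ →ₗ[R] M₃} {f' : N₁ →ₗ[S] N₂} {g' : N₂ →ₗ[S] N₃}
    (comm₁ : ∀ m, h₂ (f m) = f' (h₁ m)) (comm₂ : ∀ m, h₃ (g m) = g' (h₂ m))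
    (isb₁ : IsBaseChange S h₁) (isb₂ : IsBaseChange S h₂) (isb₃ : IsBaseChange S h₃)
    (exact₁ : Function.Exact f g) (surj₁ : Function.Surjective g)
    (hinj : Function.Injective (f.baseChange S)) :
    Function.Exact f' g' ∧ Function.Injective f' := by
  have c₁ : f' ∘ₗ isb₁.equiv.toLinearMap = isb₂.equiv.toLinearMap ∘ₗ (f.baseChange S) := by
    ext m
    simp [IsBaseChange.equiv_tmul, comm₁]
  have c₂ : g' ∘ₗ isb₂.equiv.toLinearMap = isb₃.equiv.toLinearMap ∘ₗ (g.baseChange S) := by
    ext m
    simp [IsBaseChange.equiv_tmul, comm₂]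
  have hex : Function.Exact (f.baseChange S) (g.baseChange S) := by
    have := _root_.lTensor_exact S exact₁ surj₁
    intro y
    have h1 := this y
    rw [← LinearMap.baseChange_eq_ltensor (A := S), ← LinearMap.baseChange_eq_ltensor (A := S)]
      at h1
    exact h1
  refine ⟨Function.Exact.of_ladder_linearEquiv_of_exact c₁ c₂ hex, ?_⟩
  have h2 : (f' : N₁ → N₂) = isb₂.equiv ∘ (f.baseChange S) ∘ isb₁.equiv.symm := by
    ext n
    have := congrArg (fun φ => φ (isb₁.equiv.symm n)) c₁
    simpa using this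
  rw [h2]
  exact isb₂.equiv.injective.comp (hinj.comp isb₁.equiv.symm.injective)

set_option maxHeartbeats 3200000 in
/-- **Base change of a fibre square of rings with an `L`-linear retraction of `R → A`.** -/
theorem IsFibSq.baseChange_of_retraction {L L' R A B C R' A' B' C' : Type u} [CommRing L]
    [CommRing L'] [CommRing R] [CommRing A]
    [CommRing B] [CommRing C] [CommRing R'] [CommRing A'] [CommRing B'] [CommRing C']
    {p : R →+* A} {q : R →+* B} {f : A →+* C} {g : B →+* C}
    {p' : R' →+* A'} {q' : R' →+* B'} {f' : A' →+* C'} {g' : B' →+* C'}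
    (sq : IsFibSq p q f g) (hf : Function.Surjective f) (hcomm' : ∀ s, f' (p' s) = g' (q' s))
    (lR : L →+* R) (μ : L →+* L') (lR' : L' →+* R')
    (ρ₀ : A →+ R) (hρ₀l : ∀ l a, ρ₀ (p (lR l) * a) = lR l * ρ₀ a) (hρ₀ : ∀ r, ρ₀ (p r) = r)
    (ρ : R →+* R') (α : A →+* A') (β : B →+* B') (γ : C →+* C')
    (hρ : ∀ l, ρ (lR l) = lR' (μ l))
    (hpα : ∀ r, p' (ρ r) = α (p r)) (hqβ : ∀ r, q' (ρ r) = β (q r))
    (hfγ : ∀ a, f' (α a) = γ (f a)) (hgγ : ∀ b, g' (β b) = γ (g b))
    (hR : IsPushout (CommRingCat.ofHom μ) (CommRingCat.ofHom lR) (CommRingCat.ofHom lR')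
      (CommRingCat.ofHom ρ))
    (hA : IsPushout (CommRingCat.ofHom μ) (CommRingCat.ofHom (p.comp lR))
      (CommRingCat.ofHom (p'.comp lR')) (CommRingCat.ofHom α))
    (hB : IsPushout (CommRingCat.ofHom μ) (CommRingCat.ofHom (q.comp lR))
      (CommRingCat.ofHom (q'.comp lR')) (CommRingCat.ofHom β))
    (hC : IsPushout (CommRingCat.ofHom μ) (CommRingCat.ofHom (f.comp (p.comp lR)))
      (CommRingCat.ofHom (f'.comp (p'.comp lR'))) (CommRingCat.ofHom γ)) :
    IsFibSq p' q' f' g' := by
  letI : Algebra L L' := μ.toAlgebra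
  letI : Algebra L R := lR.toAlgebra
  letI : Algebra L A := (p.comp lR).toAlgebra
  letI : Algebra L B := (q.comp lR).toAlgebra
  letI : Algebra L C := (f.comp (p.comp lR)).toAlgebra
  letI : Algebra R A := p.toAlgebra
  letI : Algebra R B := q.toAlgebra
  letI : Algebra A C := f.toAlgebra
  letI : Algebra B C := g.toAlgebra
  haveI : IsScalarTower L R A := IsScalarTower.of_algebraMap_eq (fun _ => rfl)
  haveI : IsScalarTower L R B := IsScalarTower.of_algebraMap_eq (fun _ => rfl)
  haveI : IsScalarTower L A C := IsScalarTower.of_algebraMap_eq (fun _ => rfl)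
  haveI : IsScalarTower L B C := IsScalarTower.of_algebraMap_eq (fun l => sq.comm (lR l))
  letI : Algebra L' R' := lR'.toAlgebra
  letI : Algebra L' A' := (p'.comp lR').toAlgebra
  letI : Algebra L' B' := (q'.comp lR').toAlgebra
  letI : Algebra L' C' := (f'.comp (p'.comp lR')).toAlgebra
  letI : Algebra R' A' := p'.toAlgebra
  letI : Algebra R' B' := q'.toAlgebra
  letI : Algebra A' C' := f'.toAlgebra
  letI : Algebra B' C' := g'.toAlgebra
  haveI : IsScalarTower L' R' A' := IsScalarTower.of_algebraMap_eq (fun _ => rfl)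
  haveI : IsScalarTower L' R' B' := IsScalarTower.of_algebraMap_eq (fun _ => rfl)
  haveI : IsScalarTower L' A' C' := IsScalarTower.of_algebraMap_eq (fun _ => rfl)
  haveI : IsScalarTower L' B' C' := IsScalarTower.of_algebraMap_eq (fun l => hcomm' (lR' l))
  letI : Algebra R R' := ρ.toAlgebra
  letI : Algebra A A' := α.toAlgebra
  letI : Algebra B B' := β.toAlgebra
  letI : Algebra C C' := γ.toAlgebra
  letI : Algebra L R' := (ρ.comp lR).toAlgebra
  haveI : IsScalarTower L R R' := IsScalarTower.of_algebraMap_eq (fun _ => rfl)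
  haveI : IsScalarTower L L' R' := IsScalarTower.of_algebraMap_eq (fun l => hρ l)
  letI : Algebra L A' := (α.comp (p.comp lR)).toAlgebra
  haveI : IsScalarTower L A A' := IsScalarTower.of_algebraMap_eq (fun _ => rfl)
  haveI : IsScalarTower L L' A' := IsScalarTower.of_algebraMap_eq (fun l => by
    change α (p (lR l)) = p' (lR' (μ l))
    rw [← hρ, hpα])
  letI : Algebra L B' := (β.comp (q.comp lR)).toAlgebra
  haveI : IsScalarTower L B B' := IsScalarTower.of_algebraMap_eq (fun _ => rfl)
  haveI : IsScalarTower L L' B' := IsScalarTower.of_algebraMap_eq (fun l => by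
    change β (q (lR l)) = q' (lR' (μ l))
    rw [← hρ, hqβ])
  letI : Algebra L C' := (γ.comp (f.comp (p.comp lR))).toAlgebra
  haveI : IsScalarTower L C C' := IsScalarTower.of_algebraMap_eq (fun _ => rfl)
  haveI : IsScalarTower L L' C' := IsScalarTower.of_algebraMap_eq (fun l => by
    change γ (f (p (lR l))) = f' (p' (lR' (μ l)))
    rw [← hρ, hpα, hfγ])
  have pR : Algebra.IsPushout L L' R R' := CommRingCat.isPushout_iff_isPushout.mp hR
  have pA : Algebra.IsPushout L L' A A' := CommRingCat.isPushout_iff_isPushout.mp hA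
  have pB : Algebra.IsPushout L L' B B' := CommRingCat.isPushout_iff_isPushout.mp hB
  have pC : Algebra.IsPushout L L' C C' := CommRingCat.isPushout_iff_isPushout.mp hC
  -- the linear maps
  let fl : R →ₗ[L] A × B := LinearMap.prod (IsScalarTower.toAlgHom L R A).toLinearMap
    (IsScalarTower.toAlgHom L R B).toLinearMap
  let gl : A × B →ₗ[L] C :=
    (IsScalarTower.toAlgHom L A C).toLinearMap.comp (LinearMap.fst L A B) -
      (IsScalarTower.toAlgHom L B C).toLinearMap.comp (LinearMap.snd L A B)
  let fl' : R' →ₗ[L'] A' × B' := LinearMap.prod (IsScalarTower.toAlgHom L' R' A').toLinearMap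
    (IsScalarTower.toAlgHom L' R' B').toLinearMap
  let gl' : A' × B' →ₗ[L'] C' :=
    (IsScalarTower.toAlgHom L' A' C').toLinearMap.comp (LinearMap.fst L' A' B') -
      (IsScalarTower.toAlgHom L' B' C').toLinearMap.comp (LinearMap.snd L' A' B')
  have hfl : ∀ r, fl r = (p r, q r) := fun _ => rfl
  have hgl : ∀ x, gl x = f x.1 - g x.2 := fun _ => rfl
  have hfl' : ∀ s, fl' s = (p' s, q' s) := fun _ => rfl
  have hgl' : ∀ x, gl' x = f' x.1 - g' x.2 := fun _ => rfl
  -- the retraction as a linear map
  let ρl : A →ₗ[L] R :=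
    { toFun := ρ₀
      map_add' := ρ₀.map_add
      map_smul' := fun l a => by
        change ρ₀ (l • a) = l • ρ₀ a
        rw [Algebra.smul_def, Algebra.smul_def]
        exact hρ₀l l a }
  have hρl : (ρl ∘ₗ LinearMap.fst L A B) ∘ₗ fl = LinearMap.id := by
    ext r
    exact hρ₀ r
  have hinjbc : Function.Injective (fl.baseChange L') := by
    have h1 : ((ρl ∘ₗ LinearMap.fst L A B).baseChange L') ∘ₗ (fl.baseChange L') =
        LinearMap.id := by
      rw [← LinearMap.baseChange_comp, hρl, LinearMap.baseChange_id]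
    intro x y hxy
    have := congrArg ((ρl ∘ₗ LinearMap.fst L A B).baseChange L') hxy
    rw [← LinearMap.comp_apply, ← LinearMap.comp_apply, h1] at this
    exact this
  have isb₁ : IsBaseChange L' (IsScalarTower.toAlgHom L R R').toLinearMap := pR.out
  have isb₂ : IsBaseChange L' ((IsScalarTower.toAlgHom L A A').toLinearMap.prodMap
      (IsScalarTower.toAlgHom L B B').toLinearMap) := IsBaseChange.prodMap _ _ pA.out pB.out
  have isb₃ : IsBaseChange L' (IsScalarTower.toAlgHom L C C').toLinearMap := pC.out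
  have exact₁ : Function.Exact fl gl := by
    intro x
    rw [hgl, sub_eq_zero]
    constructor
    · intro hx
      obtain ⟨r, hr1, hr2⟩ := sq.glue x.1 x.2 hx
      exact ⟨r, by rw [hfl, hr1, hr2]⟩
    · rintro ⟨r, rfl⟩
      rw [hfl]
      exact sq.comm r
  have surj₁ : Function.Surjective gl := by
    intro c
    obtain ⟨a, rfl⟩ := hf c
    refine ⟨(a, 0), ?_⟩
    rw [hgl]
    simp
  obtain ⟨hex, hinj⟩ := exact_of_isBaseChange_of_injective L' _ _ _ (f := fl) (g := gl) (f' := fl')
    (g' := gl')
    (fun r => by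
      change (α (p r), β (q r)) = (p' (ρ r), q' (ρ r))
      rw [hpα, hqβ])
    (fun x => by
      change γ (f x.1 - g x.2) = f' (α x.1) - g' (β x.2)
      rw [map_sub, hfγ, hgγ])
    isb₁ isb₂ isb₃ exact₁ surj₁ hinjbc
  refine ⟨hcomm', ?_, ?_⟩
  · intro s s' h1 h2
    apply hinj
    rw [hfl', hfl', h1, h2]
  · intro x y hxy
    have h0 : gl' (x, y) = 0 := by rw [hgl', sub_eq_zero]; exact hxy
    obtain ⟨s, hs⟩ := (hex (x, y)).mp h0
    rw [hfl'] at hs
    exact ⟨s, congrArg Prod.fst hs, congrArg Prod.snd hs⟩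

end Groth.Agent.H87.FerrAlg
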