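import Mathlib
import Groth.Agent.H87.FerrBC
import Groth.Agent.H87.FerrBCAlg2

/-!
# Base change of a Ferrand pushout under a local retraction hypothesis (helper87)

`isPushout_of_baseChange_local`: same conclusion as `isPushout_of_baseChange_flat_corner`, but the
flatness of the corner is replaced by: the pushout `X` is covered by affine opens `W` (lying over
affine opens `U` of the base) such that `Γ(X, W) → Γ(X₁, φ₁⁻¹W)` has a `Γ(S, U)`-linear retraction.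
-/

set_option autoImplicit false
open CategoryTheory Limits TopologicalSpace AlgebraicGeometry Opposite

namespace Groth.Agent.H87.FerrScheme

universe u
open Groth.Agent.H87.FerrAlg Groth.Agent.H87.FerrMorph Groth.Agent.H87.FerrLRS

set_option backward.isDefEq.respectTransparency.types false in
set_option maxHeartbeats 3200000 in
/-- **Base change of a Ferrand pushout under a local linear retraction hypothesis.** -/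
theorem isPushout_of_baseChange_local {Y X₁ X₂ X Y' X₁' X₂' X' S S' : Scheme.{u}}
    {θ₁ : Y ⟶ X₁} {θ₂ : Y ⟶ X₂} [IsClosedImmersion θ₁]
    {P₀ : LocallyRingedSpace.{u}} {a₀ : X₁.toLocallyRingedSpace ⟶ P₀}
    {b₀ : X₂.toLocallyRingedSpace ⟶ P₀} (h : IsPushout θ₁.toLRSHom θ₂.toLRSHom a₀ b₀)
    (hcov : Covered a₀ b₀)
    {φ₁ : X₁ ⟶ X} {φ₂ : X₂ ⟶ X} [IsAffineHom φ₁] [IsAffineHom φ₂] (hX : IsPushout θ₁ θ₂ φ₁ φ₂)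
    (s : X ⟶ S) (g : S' ⟶ S)
    (Hloc : ∀ x : X, ∃ (U : S.Opens) (W : X.Opens) (eW : W ≤ s ⁻¹ᵁ U), IsAffineOpen U ∧
      IsAffineOpen W ∧ x ∈ W ∧ ∃ ρ₀ : Γ(X₁, φ₁ ⁻¹ᵁ W) →+ Γ(X, W),
        (∀ l a, ρ₀ ((φ₁.app W).hom ((s.appLE U W eW).hom l) * a) =
          (s.appLE U W eW).hom l * ρ₀ a) ∧ ∀ r, ρ₀ ((φ₁.app W).hom r) = r)
    {π : X' ⟶ X} {s' : X' ⟶ S'} (HX : IsPullback π s' s g)
    {φ₁' : X₁' ⟶ X'} {p₁ : X₁' ⟶ X₁} (H₁ : IsPullback φ₁' p₁ π φ₁)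
    {φ₂' : X₂' ⟶ X'} {p₂ : X₂' ⟶ X₂} (H₂ : IsPullback φ₂' p₂ π φ₂)
    {θ₁' : Y' ⟶ X₁'} {θ₂' : Y' ⟶ X₂'} {pY : Y' ⟶ Y}
    (HY₁ : IsPullback θ₁' pY p₁ θ₁) (HY₂ : IsPullback θ₂' pY p₂ θ₂)
    (w' : θ₁' ≫ φ₁' = θ₂' ≫ φ₂') : IsPushout θ₁' θ₂' φ₁' φ₂' := by
  have hθ₁' : IsClosedImmersion θ₁' :=
    MorphismProperty.of_isPullback (P := @IsClosedImmersion) HY₁.flip inferInstance
  have hφ₁' : IsAffineHom φ₁' :=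
    MorphismProperty.of_isPullback (P := @IsAffineHom) H₁.flip inferInstance
  have hφ₂' : IsAffineHom φ₂' :=
    MorphismProperty.of_isPullback (P := @IsAffineHom) H₂.flip inferInstance
  apply isPushout_of_cover φ₁' φ₂' w'
  intro x'
  obtain ⟨U, W, eW, hU, hW, hxW, ρ₀, hρ₀l, hρ₀⟩ := Hloc (π.base x')
  have hxU : s.base (π.base x') ∈ U := eW hxW
  have hxU' : s'.base x' ∈ g ⁻¹ᵁ U := by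
    change (s' ≫ g).base x' ∈ U
    rw [← HX.w]
    exact hxU
  obtain ⟨U', hU', hxU'', eU'⟩ := Opens.isBasis_iff_nbhd.mp S'.isBasis_affineOpens hxU'
  obtain ⟨W', hW'def⟩ : ∃ W' : X'.Opens, W' = π ⁻¹ᵁ W ⊓ s' ⁻¹ᵁ U' := ⟨_, rfl⟩
  have hW' : IsAffineOpen W' := isAffineOpen_of_isPullback HX eU' eW hW'def hU hU' hW
  have hxW' : x' ∈ W' := by
    rw [hW'def]
    exact ⟨hxW, hxU''⟩
  have e : W' ≤ π ⁻¹ᵁ W := by rw [hW'def]; exact inf_le_left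
  have es' : W' ≤ s' ⁻¹ᵁ U' := by rw [hW'def]; exact inf_le_right
  have hle' : θ₁' ⁻¹ᵁ φ₁' ⁻¹ᵁ W' ≤ θ₂' ⁻¹ᵁ φ₂' ⁻¹ᵁ W' := by
    rw [← Scheme.Hom.comp_preimage, ← Scheme.Hom.comp_preimage, w']
  refine ⟨W', hxW', hW', hW'.preimage φ₁', hW'.preimage φ₂', hle', ?_⟩
  have sq := isFibSq_of_isPushout' h hcov hX W
  have hUa : IsAffineOpen (φ₁ ⁻¹ᵁ W) := hW.preimage φ₁
  have hUb : IsAffineOpen (φ₂ ⁻¹ᵁ W) := hW.preimage φ₂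
  have hUz : IsAffineOpen (θ₁ ⁻¹ᵁ φ₁ ⁻¹ᵁ W) := hUa.preimage θ₁
  have hf : Function.Surjective (θ₁.app (φ₁ ⁻¹ᵁ W)).hom := θ₁.app_surjective _ hUa
  -- inequalities
  have e1 : φ₁' ⁻¹ᵁ W' ≤ p₁ ⁻¹ᵁ φ₁ ⁻¹ᵁ W := le_of_comm H₁.w e
  have e2 : φ₂' ⁻¹ᵁ W' ≤ p₂ ⁻¹ᵁ φ₂ ⁻¹ᵁ W := le_of_comm H₂.w e
  have eY : θ₁' ⁻¹ᵁ φ₁' ⁻¹ᵁ W' ≤ pY ⁻¹ᵁ θ₁ ⁻¹ᵁ φ₁ ⁻¹ᵁ W := le_of_comm HY₁.w e1
  have eA : φ₁ ⁻¹ᵁ W ≤ (φ₁ ≫ s) ⁻¹ᵁ U := fun z hz => eW hz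
  have eB : φ₂ ⁻¹ᵁ W ≤ (φ₂ ≫ s) ⁻¹ᵁ U := fun z hz => eW hz
  have eC : θ₁ ⁻¹ᵁ φ₁ ⁻¹ᵁ W ≤ (θ₁ ≫ φ₁ ≫ s) ⁻¹ᵁ U := fun z hz => eW hz
  have eA' : φ₁' ⁻¹ᵁ W' ≤ (φ₁' ≫ s') ⁻¹ᵁ U' := fun z hz => es' hz
  have eB' : φ₂' ⁻¹ᵁ W' ≤ (φ₂' ≫ s') ⁻¹ᵁ U' := fun z hz => es' hz
  have eC' : θ₁' ⁻¹ᵁ φ₁' ⁻¹ᵁ W' ≤ (θ₁' ≫ φ₁' ≫ s') ⁻¹ᵁ U' := fun z hz => es' hz
  -- pasted squares
  have H₁S : IsPullback p₁ (φ₁' ≫ s') (φ₁ ≫ s) g := H₁.flip.paste_vert HX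
  have H₂S : IsPullback p₂ (φ₂' ≫ s') (φ₂ ≫ s) g := H₂.flip.paste_vert HX
  have HYS : IsPullback pY (θ₁' ≫ φ₁' ≫ s') (θ₁ ≫ φ₁ ≫ s) g := HY₁.flip.paste_vert H₁S
  -- the pushout squares of sections
  have hR := ((isIso_pushoutSection_iff HX eU' eW hW'def).mp
    (isIso_pushoutSection_of_isAffineOpen HX eU' eW hW'def hU hU' hW)).flip
  have hUY1 : φ₁' ⁻¹ᵁ W' = p₁ ⁻¹ᵁ (φ₁ ⁻¹ᵁ W) ⊓ (φ₁' ≫ s') ⁻¹ᵁ U' := by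
    apply le_antisymm
    · exact le_inf e1 eA'
    · intro z hz
      rw [hW'def]
      refine ⟨?_, hz.2⟩
      have h1 : (p₁ ≫ φ₁).base z ∈ W := hz.1
      rw [← H₁.w] at h1
      exact h1
  have hA := ((isIso_pushoutSection_iff H₁S eU' eA hUY1).mp
    (isIso_pushoutSection_of_isAffineOpen H₁S eU' eA hUY1 hU hU' hUa)).flip
  have hUY2 : φ₂' ⁻¹ᵁ W' = p₂ ⁻¹ᵁ (φ₂ ⁻¹ᵁ W) ⊓ (φ₂' ≫ s') ⁻¹ᵁ U' := by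
    apply le_antisymm
    · exact le_inf e2 eB'
    · intro z hz
      rw [hW'def]
      refine ⟨?_, hz.2⟩
      have h1 : (p₂ ≫ φ₂).base z ∈ W := hz.1
      rw [← H₂.w] at h1
      exact h1
  have hB := ((isIso_pushoutSection_iff H₂S eU' eB hUY2).mp
    (isIso_pushoutSection_of_isAffineOpen H₂S eU' eB hUY2 hU hU' hUb)).flip
  have hUY3 : θ₁' ⁻¹ᵁ φ₁' ⁻¹ᵁ W' = pY ⁻¹ᵁ (θ₁ ⁻¹ᵁ φ₁ ⁻¹ᵁ W) ⊓ (θ₁' ≫ φ₁' ≫ s') ⁻¹ᵁ U' := by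
    apply le_antisymm
    · exact le_inf eY eC'
    · intro z hz
      have h0 : φ₁'.base (θ₁'.base z) ∈ W' := by
        rw [hW'def]
        refine ⟨?_, hz.2⟩
        have h1 : (pY ≫ θ₁ ≫ φ₁).base z ∈ W := hz.1
        rw [← reassoc_of% HY₁.w, ← H₁.w] at h1
        exact h1
      exact h0
  have hC := ((isIso_pushoutSection_iff HYS eU' eC hUY3).mp
    (isIso_pushoutSection_of_isAffineOpen HYS eU' eC hUY3 hU hU' hUz)).flip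
  -- rewrite composites
  have hcA : (φ₁ ≫ s).appLE U (φ₁ ⁻¹ᵁ W) eA = s.appLE U W eW ≫ φ₁.app W := by
    rw [Scheme.Hom.app_eq_appLE, Scheme.Hom.appLE_comp_appLE]
  have hcB : (φ₂ ≫ s).appLE U (φ₂ ⁻¹ᵁ W) eB = s.appLE U W eW ≫ φ₂.app W := by
    rw [Scheme.Hom.app_eq_appLE, Scheme.Hom.appLE_comp_appLE]
  have hcC : (θ₁ ≫ φ₁ ≫ s).appLE U (θ₁ ⁻¹ᵁ φ₁ ⁻¹ᵁ W) eC =
      s.appLE U W eW ≫ φ₁.app W ≫ θ₁.app (φ₁ ⁻¹ᵁ W) := by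
    rw [Scheme.Hom.app_eq_appLE (f := φ₁), Scheme.Hom.app_eq_appLE (f := θ₁),
      Scheme.Hom.appLE_comp_appLE, Scheme.Hom.appLE_comp_appLE]
    rfl
  have hcA' : (φ₁' ≫ s').appLE U' (φ₁' ⁻¹ᵁ W') eA' = s'.appLE U' W' es' ≫ φ₁'.app W' := by
    rw [Scheme.Hom.app_eq_appLE, Scheme.Hom.appLE_comp_appLE]
  have hcB' : (φ₂' ≫ s').appLE U' (φ₂' ⁻¹ᵁ W') eB' = s'.appLE U' W' es' ≫ φ₂'.app W' := by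
    rw [Scheme.Hom.app_eq_appLE, Scheme.Hom.appLE_comp_appLE]
  have hcC' : (θ₁' ≫ φ₁' ≫ s').appLE U' (θ₁' ⁻¹ᵁ φ₁' ⁻¹ᵁ W') eC' =
      s'.appLE U' W' es' ≫ φ₁'.app W' ≫ θ₁'.app (φ₁' ⁻¹ᵁ W') := by
    rw [Scheme.Hom.app_eq_appLE (f := φ₁'), Scheme.Hom.app_eq_appLE (f := θ₁'),
      Scheme.Hom.appLE_comp_appLE, Scheme.Hom.appLE_comp_appLE]
    rfl
  rw [hcA, hcA'] at hA
  rw [hcB, hcB'] at hB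
  rw [hcC, hcC'] at hC
  refine IsFibSq.baseChange_of_retraction sq hf ?_ (s.appLE U W eW).hom (g.appLE U U' eU').hom
    (s'.appLE U' W' es').hom ρ₀ hρ₀l hρ₀ (π.appLE W W' e).hom
    (p₁.appLE (φ₁ ⁻¹ᵁ W) (φ₁' ⁻¹ᵁ W') e1).hom (p₂.appLE (φ₂ ⁻¹ᵁ W) (φ₂' ⁻¹ᵁ W') e2).hom
    (pY.appLE (θ₁ ⁻¹ᵁ φ₁ ⁻¹ᵁ W) (θ₁' ⁻¹ᵁ φ₁' ⁻¹ᵁ W') eY).hom ?_ ?_ ?_ ?_ ?_ hR hA hB hC
  · intro t
    have h1 : φ₁'.app W' ≫ θ₁'.app (φ₁' ⁻¹ᵁ W') =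
        φ₂'.app W' ≫ θ₂'.appLE (φ₂' ⁻¹ᵁ W') (θ₁' ⁻¹ᵁ φ₁' ⁻¹ᵁ W') hle' := by
      rw [Scheme.Hom.app_eq_appLE (f := φ₁'), Scheme.Hom.app_eq_appLE (f := θ₁'),
        Scheme.Hom.app_eq_appLE (f := φ₂'), Scheme.Hom.appLE_comp_appLE,
        Scheme.Hom.appLE_comp_appLE]
      exact appLE_congr_hom w' _ _ _
    exact ConcreteCategory.congr_hom h1 t
  · intro l
    have h1 : s.appLE U W eW ≫ π.appLE W W' e = g.appLE U U' eU' ≫ s'.appLE U' W' es' :=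
      appLE_comm HX.w eW _ _ _
    exact ConcreteCategory.congr_hom h1 l
  · intro r
    have h1 : π.appLE W W' e ≫ φ₁'.app W' = φ₁.app W ≫ p₁.appLE (φ₁ ⁻¹ᵁ W) (φ₁' ⁻¹ᵁ W') e1 := by
      rw [Scheme.Hom.app_eq_appLE, Scheme.Hom.app_eq_appLE]
      exact appLE_comm H₁.w e _ _ _
    exact ConcreteCategory.congr_hom h1 r
  · intro r
    have h1 : π.appLE W W' e ≫ φ₂'.app W' = φ₂.app W ≫ p₂.appLE (φ₂ ⁻¹ᵁ W) (φ₂' ⁻¹ᵁ W') e2 := by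
      rw [Scheme.Hom.app_eq_appLE, Scheme.Hom.app_eq_appLE]
      exact appLE_comm H₂.w e _ _ _
    exact ConcreteCategory.congr_hom h1 r
  · intro x
    have h1 : p₁.appLE (φ₁ ⁻¹ᵁ W) (φ₁' ⁻¹ᵁ W') e1 ≫ θ₁'.app (φ₁' ⁻¹ᵁ W') =
        θ₁.app (φ₁ ⁻¹ᵁ W) ≫ pY.appLE (θ₁ ⁻¹ᵁ φ₁ ⁻¹ᵁ W) (θ₁' ⁻¹ᵁ φ₁' ⁻¹ᵁ W') eY := by
      rw [Scheme.Hom.app_eq_appLE, Scheme.Hom.app_eq_appLE]
      exact appLE_comm HY₁.w e1 _ _ _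
    exact ConcreteCategory.congr_hom h1 x
  · intro y
    have h1 : p₂.appLE (φ₂ ⁻¹ᵁ W) (φ₂' ⁻¹ᵁ W') e2 ≫
        θ₂'.appLE (φ₂' ⁻¹ᵁ W') (θ₁' ⁻¹ᵁ φ₁' ⁻¹ᵁ W') hle' =
        θ₂.appLE (φ₂ ⁻¹ᵁ W) (θ₁ ⁻¹ᵁ φ₁ ⁻¹ᵁ W) (preimage_le_of_isPushout hX W) ≫
          pY.appLE (θ₁ ⁻¹ᵁ φ₁ ⁻¹ᵁ W) (θ₁' ⁻¹ᵁ φ₁' ⁻¹ᵁ W') eY :=
      appLE_comm HY₂.w e2 _ _ _
    exact ConcreteCategory.congr_hom h1 y

end Groth.Agent.H87.FerrScheme
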