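import Mathlib
import Groth.Agent.H87.FerrGeneral
import Groth.Agent.H87.FerrProper

/-!
# Opens of an arbitrary Ferrand pushout in schemes (helper87)

For a pushout `P` in schemes of a closed immersion `i : Z ⟶ X` and `j : Z ⟶ Y` (under the covering
hypothesis for the pushout of locally ringed spaces):
* `joint_surjective_of_isPushout'`: `X ⊔ Y → P` is surjective;
* `exists_opens_of_isPushout`: opens `U ⊆ X`, `V ⊆ Y` with the same preimage in `Z` come from an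
  open `W` of `P`, affine when `U`, `V` are;
* `le_preimage_of_isPushout`: an inclusion `W ≤ p⁻¹ U` can be tested on `X` and `Y`.
-/

set_option autoImplicit false
open CategoryTheory Limits TopologicalSpace AlgebraicGeometry Opposite

namespace Groth.Agent.H87.FerrScheme

universe u
open Groth.Agent.H87.FerrAlg Groth.Agent.H87.FerrLRS

variable {X Y Z : Scheme.{u}} {i : Z ⟶ X} {j : Z ⟶ Y}

theorem joint_surjective_of_isPushout' [IsClosedImmersion i] {P₀ : LocallyRingedSpace.{u}}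
    {a₀ : X.toLocallyRingedSpace ⟶ P₀} {b₀ : Y.toLocallyRingedSpace ⟶ P₀}
    (h : IsPushout i.toLRSHom j.toLRSHom a₀ b₀) (hcov : Covered a₀ b₀)
    {P : Scheme.{u}} {a : X ⟶ P} {b : Y ⟶ P} (hP : IsPushout i j a b) (x : P) :
    x ∈ Set.range a.base ∨ x ∈ Set.range b.base := by
  obtain ⟨e, rfl, rfl⟩ := exists_iso_of_isPushout h hcov hP
  have hx : e.hom.base (e.inv.base x) = x := by
    rw [← Scheme.Hom.comp_apply, e.inv_hom_id]; rfl
  rcases joint_surjective h hcov (e.inv.base x) with ⟨x', hx'⟩ | ⟨y', hy'⟩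
  · refine Or.inl ⟨x', ?_⟩
    rw [Scheme.Hom.comp_base, TopCat.comp_app, hx', hx]
  · refine Or.inr ⟨y', ?_⟩
    rw [Scheme.Hom.comp_base, TopCat.comp_app, hy', hx]

theorem exists_opens_of_isPushout [IsClosedImmersion i] {P₀ : LocallyRingedSpace.{u}}
    {a₀ : X.toLocallyRingedSpace ⟶ P₀} {b₀ : Y.toLocallyRingedSpace ⟶ P₀}
    (h : IsPushout i.toLRSHom j.toLRSHom a₀ b₀) (hcov : Covered a₀ b₀)
    {P : Scheme.{u}} {a : X ⟶ P} {b : Y ⟶ P} (hP : IsPushout i j a b)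
    (U : X.Opens) (V : Y.Opens) (hUV : i ⁻¹ᵁ U = j ⁻¹ᵁ V) :
    ∃ W : P.Opens, a ⁻¹ᵁ W = U ∧ b ⁻¹ᵁ W = V ∧
      (IsAffineOpen U → IsAffineOpen V → IsAffineOpen W) := by
  obtain ⟨e, rfl, rfl⟩ := exists_iso_of_isPushout h hcov hP
  obtain ⟨W₀, hW1, hW2⟩ := FerrTop.exists_opens (isPushout_top h) U V hUV
  have hid : ∀ O : (scheme h hcov).Opens, e.hom ⁻¹ᵁ (e.inv ⁻¹ᵁ O) = O := by
    intro O
    rw [← Scheme.Hom.comp_preimage, e.hom_inv_id]
    rfl
  refine ⟨e.inv ⁻¹ᵁ (show (scheme h hcov).Opens from W₀), ?_, ?_, ?_⟩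
  · rw [Scheme.Hom.comp_preimage, hid]
    exact hW1
  · rw [Scheme.Hom.comp_preimage, hid]
    exact hW2
  · intro hU hV
    have h1 : IsAffineOpen (X := scheme h hcov) W₀ :=
      isAffineOpen h hcov W₀ (by rw [← hW1] at hU; exact hU) (by rw [← hW2] at hV; exact hV)
    exact h1.preimage_of_isIso e.inv

theorem le_preimage_of_isPushout [IsClosedImmersion i] {P₀ : LocallyRingedSpace.{u}}
    {a₀ : X.toLocallyRingedSpace ⟶ P₀} {b₀ : Y.toLocallyRingedSpace ⟶ P₀}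
    (h : IsPushout i.toLRSHom j.toLRSHom a₀ b₀) (hcov : Covered a₀ b₀)
    {P : Scheme.{u}} {a : X ⟶ P} {b : Y ⟶ P} (hP : IsPushout i j a b)
    {S : Scheme.{u}} (p : P ⟶ S) (W : P.Opens) (U : S.Opens)
    (h1 : a ⁻¹ᵁ W ≤ (a ≫ p) ⁻¹ᵁ U) (h2 : b ⁻¹ᵁ W ≤ (b ≫ p) ⁻¹ᵁ U) : W ≤ p ⁻¹ᵁ U := by
  intro w hw
  rcases joint_surjective_of_isPushout' h hcov hP w with ⟨x, rfl⟩ | ⟨y, rfl⟩
  · exact h1 hw
  · exact h2 hw

end Groth.Agent.H87.FerrScheme
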