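import Mathlib
import Groth.Agent.H87.FerrFive
import Groth.Agent.H74.MilnorFin

/-!
# Finiteness and cartesianness along a morphism of fibre squares, in ring-hom form (helper87)
-/

set_option autoImplicit false
universe u
open CategoryTheory TensorProduct

namespace Groth.Agent.H87.FerrAlg

set_option maxHeartbeats 800000 in
theorem finite_and_pushouts {R A B C R' A' B' C' : Type u} [CommRing R] [CommRing A] [CommRing B]
    [CommRing C] [CommRing R'] [CommRing A'] [CommRing B'] [CommRing C']
    {p : R →+* A} {q : R →+* B} {f : A →+* C} {g : B →+* C}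
    {p' : R' →+* A'} {q' : R' →+* B'} {f' : A' →+* C'} {g' : B' →+* C'}
    (sq : IsFibSq p q f g) (hg : Function.Surjective g)
    (sq' : IsFibSq p' q' f' g') (hg' : Function.Surjective g')
    (ρ : R →+* R') (α : A →+* A') (β : B →+* B') (γ : C →+* C')
    (hpα : ∀ r, p' (ρ r) = α (p r)) (hqβ : ∀ r, q' (ρ r) = β (q r))
    (hfγ : ∀ a, f' (α a) = γ (f a)) (hgγ : ∀ b, g' (β b) = γ (g b))
    (hA : IsPushout (CommRingCat.ofHom α) (CommRingCat.ofHom f) (CommRingCat.ofHom f')
      (CommRingCat.ofHom γ))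
    (hB : IsPushout (CommRingCat.ofHom β) (CommRingCat.ofHom g) (CommRingCat.ofHom g')
      (CommRingCat.ofHom γ)) :
    (α.Finite ∧ β.Finite → ρ.Finite) ∧
    IsPushout (CommRingCat.ofHom p) (CommRingCat.ofHom ρ) (CommRingCat.ofHom α)
      (CommRingCat.ofHom p') ∧
    IsPushout (CommRingCat.ofHom q) (CommRingCat.ofHom ρ) (CommRingCat.ofHom β)
      (CommRingCat.ofHom q') := by
  letI : Algebra R A := p.toAlgebra
  letI : Algebra R B := q.toAlgebra
  letI : Algebra A C := f.toAlgebra
  letI : Algebra B C := g.toAlgebra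
  letI : Algebra R C := (f.comp p).toAlgebra
  haveI : IsScalarTower R A C := IsScalarTower.of_algebraMap_eq (fun _ => rfl)
  haveI : IsScalarTower R B C := IsScalarTower.of_algebraMap_eq (fun r => sq.comm r)
  letI : Algebra R' A' := p'.toAlgebra
  letI : Algebra R' B' := q'.toAlgebra
  letI : Algebra A' C' := f'.toAlgebra
  letI : Algebra B' C' := g'.toAlgebra
  letI : Algebra R' C' := (f'.comp p').toAlgebra
  haveI : IsScalarTower R' A' C' := IsScalarTower.of_algebraMap_eq (fun _ => rfl)
  haveI : IsScalarTower R' B' C' := IsScalarTower.of_algebraMap_eq (fun r => sq'.comm r)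
  letI : Algebra R R' := ρ.toAlgebra
  letI : Algebra A A' := α.toAlgebra
  letI : Algebra B B' := β.toAlgebra
  letI : Algebra C C' := γ.toAlgebra
  letI : Algebra R A' := (α.comp p).toAlgebra
  haveI : IsScalarTower R A A' := IsScalarTower.of_algebraMap_eq (fun _ => rfl)
  haveI : IsScalarTower R R' A' := IsScalarTower.of_algebraMap_eq (fun r => (hpα r).symm)
  letI : Algebra R B' := (β.comp q).toAlgebra
  haveI : IsScalarTower R B B' := IsScalarTower.of_algebraMap_eq (fun _ => rfl)
  haveI : IsScalarTower R R' B' := IsScalarTower.of_algebraMap_eq (fun r => (hqβ r).symm)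
  letI : Algebra A C' := (γ.comp f).toAlgebra
  haveI : IsScalarTower A C C' := IsScalarTower.of_algebraMap_eq (fun _ => rfl)
  haveI : IsScalarTower A A' C' := IsScalarTower.of_algebraMap_eq (fun a => (hfγ a).symm)
  letI : Algebra B C' := (γ.comp g).toAlgebra
  haveI : IsScalarTower B C C' := IsScalarTower.of_algebraMap_eq (fun _ => rfl)
  haveI : IsScalarTower B B' C' := IsScalarTower.of_algebraMap_eq (fun b => (hgγ b).symm)
  have hsq : EtMil.IsFibreSquare R A B C := by
    refine ⟨hg, fun a b hab => ?_⟩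
    obtain ⟨r, hr1, hr2⟩ := sq.glue a b hab
    refine ⟨r, ⟨hr1, hr2⟩, fun r' hr' => ?_⟩
    exact sq.ext _ _ (hr'.1.trans hr1.symm) (hr'.2.trans hr2.symm)
  have hsq' : EtMil.IsFibreSquare R' A' B' C' := by
    refine ⟨hg', fun a b hab => ?_⟩
    obtain ⟨r, hr1, hr2⟩ := sq'.glue a b hab
    refine ⟨r, ⟨hr1, hr2⟩, fun r' hr' => ?_⟩
    exact sq'.ext _ _ (hr'.1.trans hr1.symm) (hr'.2.trans hr2.symm)
  haveI : Algebra.IsPushout A A' C C' := CommRingCat.isPushout_iff_isPushout.mp hA
  haveI : Algebra.IsPushout B B' C C' := CommRingCat.isPushout_iff_isPushout.mp hB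
  haveI hD : Algebra.IsPushout R A R' A' :=
    Groth.Agent.H87.Mil12.pushoutD R A B C R' A' B' C' hsq hsq'
  haveI hC : Algebra.IsPushout R B R' B' :=
    Groth.Agent.H87.Mil12.pushoutC' R A B C R' A' B' C' hsq hsq'
  refine ⟨?_, ?_, ?_⟩
  · rintro ⟨hα, hβ⟩
    haveI : Module.Finite A A' := hα
    haveI : Module.Finite B B' := hβ
    haveI : Module.Finite A (A ⊗[R] R') :=
      Module.Finite.equiv (Algebra.IsPushout.equiv R A R' A').symm.toLinearEquiv
    haveI : Module.Finite B (B ⊗[R] R') :=
      Module.Finite.equiv (Algebra.IsPushout.equiv R B R' B').symm.toLinearEquiv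
    exact Groth.Agent.H74.Milnor.finite_of_finite_tensor hsq R'
  · exact CommRingCat.isPushout_iff_isPushout.mpr hD
  · exact CommRingCat.isPushout_iff_isPushout.mpr hC

end Groth.Agent.H87.FerrAlg
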