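import Mathlib
import Groth.Agent.H87.FerrSix
import Groth.Agent.H87.FerrOpens
import Groth.Agent.H87.FerrMorph
import Groth.Agent.H87.FerrBC

/-!
# Morphisms of Ferrand push-outs with cartesian sides (helper87)

`i : Z ⟶ X` a closed immersion, `j : Z ⟶ Y` arbitrary (under the covering hypothesis), `W` their
push-out; `f : X' ⟶ X`, `g : Y' ⟶ Y` affine with `X' ×_X Z ≅ Z' ≅ Y' ×_Y Z`; `W'` the push-out of
`X' ← Z' → Y'` and `r : W' ⟶ W` the induced morphism.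
-/

set_option autoImplicit false
open CategoryTheory Limits TopologicalSpace AlgebraicGeometry Opposite

namespace Groth.Agent.H87.FerrAlg

theorem IsFibSq.swap {R A B C : Type*} [CommRing R] [CommRing A] [CommRing B] [CommRing C]
    {p : R →+* A} {q : R →+* B} {f : A →+* C} {g : B →+* C} (h : IsFibSq p q f g) :
    IsFibSq q p g f :=
  ⟨fun r => (h.comm r).symm, fun r r' h1 h2 => h.ext r r' h2 h1, fun b a hab => by
    obtain ⟨r, hr1, hr2⟩ := h.glue a b hab.symm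
    exact ⟨r, hr2, hr1⟩⟩

end Groth.Agent.H87.FerrAlg

namespace Groth.Agent.H87.FerrCov

universe u
open Groth.Agent.H87.FerrAlg Groth.Agent.H87.FerrLRS Groth.Agent.H87.FerrScheme
  Groth.Agent.H87.FerrMorph

variable {X Y Z W X' Y' Z' W' : Scheme.{u}}
  {i : Z ⟶ X} {j : Z ⟶ Y} {a : X ⟶ W} {b : Y ⟶ W}
  {f : X' ⟶ X} {g : Y' ⟶ Y} {i' : Z' ⟶ X'} {j' : Z' ⟶ Y'} {c : Z' ⟶ Z}
  {a' : X' ⟶ W'} {b' : Y' ⟶ W'} {r : W' ⟶ W}
  {P₀ P₀' : LocallyRingedSpace.{u}}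
  {a₀ : X.toLocallyRingedSpace ⟶ P₀} {b₀ : Y.toLocallyRingedSpace ⟶ P₀}
  {a₀' : X'.toLocallyRingedSpace ⟶ P₀'} {b₀' : Y'.toLocallyRingedSpace ⟶ P₀'}

/-- good opens of an arbitrary Ferrand push-out -/
theorem exists_good [IsClosedImmersion i] (h : IsPushout i.toLRSHom j.toLRSHom a₀ b₀)
    (hcov : Covered a₀ b₀) (hpo : IsPushout i j a b) (w : W) :
    ∃ W₀ : W.Opens, w ∈ W₀ ∧ IsAffineOpen W₀ ∧ IsAffineOpen (a ⁻¹ᵁ W₀) ∧
      IsAffineOpen (b ⁻¹ᵁ W₀) := by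
  obtain ⟨e, rfl, rfl⟩ := exists_iso_of_isPushout h hcov hpo
  obtain ⟨W₁, hp, hU, hV⟩ := hcov (e.inv.base w)
  have hid : ∀ O : (scheme h hcov).Opens, e.hom ⁻¹ᵁ (e.inv ⁻¹ᵁ O) = O := by
    intro O
    rw [← Scheme.Hom.comp_preimage, e.hom_inv_id]
    rfl
  refine ⟨e.inv ⁻¹ᵁ (show (scheme h hcov).Opens from W₁), hp, ?_, ?_, ?_⟩
  · exact (isAffineOpen h hcov W₁ hU hV).preimage_of_isIso e.inv
  · rw [Scheme.Hom.comp_preimage, hid]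
    exact hU
  · rw [Scheme.Hom.comp_preimage, hid]
    exact hV

/-- the covering hypothesis is inherited by affine base changes of the two sides -/
theorem covered_pullback (h : IsPushout i.toLRSHom j.toLRSHom a₀ b₀)
    (hcov : Covered a₀ b₀) (hX : IsPullback i' c f i) (hY : IsPullback j' c g j)
    [IsAffineHom f] [IsAffineHom g]
    (h' : IsPushout i'.toLRSHom j'.toLRSHom a₀' b₀') : Covered a₀' b₀' := by
  have key : ∀ W₁ : Opens P₀, i' ⁻¹ᵁ f ⁻¹ᵁ (aU a₀ W₁) = j' ⁻¹ᵁ g ⁻¹ᵁ (bV b₀ W₁) := by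
    intro W₁
    rw [← Scheme.Hom.comp_preimage, ← Scheme.Hom.comp_preimage, hX.w, hY.w,
      Scheme.Hom.comp_preimage, Scheme.Hom.comp_preimage, zW_eq h W₁]
  apply covered_of_pairs h'
  · intro x'
    obtain ⟨W₁, hp, hU, hV⟩ := hcov (a₀.base (f.base x'))
    exact ⟨f ⁻¹ᵁ (aU a₀ W₁), g ⁻¹ᵁ (bV b₀ W₁), hU.preimage f, hV.preimage g, key W₁, hp⟩
  · intro y'
    obtain ⟨W₁, hp, hU, hV⟩ := hcov (b₀.base (g.base y'))
    exact ⟨f ⁻¹ᵁ (aU a₀ W₁), g ⁻¹ᵁ (bV b₀ W₁), hU.preimage f, hV.preimage g, key W₁, hp⟩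

set_option backward.isDefEq.respectTransparency.types false in
set_option maxHeartbeats 1600000 in
/-- the local algebra of a morphism of Ferrand push-outs over a good open -/
theorem local_six [IsClosedImmersion i] (h : IsPushout i.toLRSHom j.toLRSHom a₀ b₀)
    (hcov : Covered a₀ b₀) (hpo : IsPushout i j a b)
    (hX : IsPullback i' c f i) (hY : IsPullback j' c g j)
    (h' : IsPushout i'.toLRSHom j'.toLRSHom a₀' b₀') (hcov' : Covered a₀' b₀')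
    (hpo' : IsPushout i' j' a' b')
    (ha : a' ≫ r = f ≫ a) (hb : b' ≫ r = g ≫ b)
    {W₀ : W.Opens} (hWa : IsAffineOpen (a ⁻¹ᵁ W₀)) (hWb : IsAffineOpen (b ⁻¹ᵁ W₀))
    {W₀' : W'.Opens} (hWa' : IsAffineOpen (a' ⁻¹ᵁ W₀')) (hWb' : IsAffineOpen (b' ⁻¹ᵁ W₀'))
    (e : W₀' ≤ r ⁻¹ᵁ W₀) :
    ((r.appLE W₀ W₀' e).hom.Etale ↔ (g.appLE (b ⁻¹ᵁ W₀) (b' ⁻¹ᵁ W₀') (leX hb e)).hom.Etale ∧
      (f.appLE (a ⁻¹ᵁ W₀) (a' ⁻¹ᵁ W₀') (leX ha e)).hom.Etale) ∧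
    ((g.appLE (b ⁻¹ᵁ W₀) (b' ⁻¹ᵁ W₀') (leX hb e)).hom.Finite ∧
      (f.appLE (a ⁻¹ᵁ W₀) (a' ⁻¹ᵁ W₀') (leX ha e)).hom.Finite →
        (r.appLE W₀ W₀' e).hom.Finite) ∧
    IsPushout (a.app W₀) (r.appLE W₀ W₀' e) (f.appLE (a ⁻¹ᵁ W₀) (a' ⁻¹ᵁ W₀') (leX ha e))
      (a'.app W₀') ∧
    IsPushout (b.app W₀) (r.appLE W₀ W₀' e) (g.appLE (b ⁻¹ᵁ W₀) (b' ⁻¹ᵁ W₀') (leX hb e))
      (b'.app W₀') := by
  have hi' : IsClosedImmersion i' :=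
    MorphismProperty.of_isPullback (P := @IsClosedImmersion) hX.flip inferInstance
  have hUz : IsAffineOpen (i ⁻¹ᵁ a ⁻¹ᵁ W₀) := hWa.preimage i
  have hzeq : i ⁻¹ᵁ a ⁻¹ᵁ W₀ = j ⁻¹ᵁ b ⁻¹ᵁ W₀ := by
    rw [← Scheme.Hom.comp_preimage, ← Scheme.Hom.comp_preimage, hpo.w]
  have hzeq' : i' ⁻¹ᵁ a' ⁻¹ᵁ W₀' = j' ⁻¹ᵁ b' ⁻¹ᵁ W₀' := by
    rw [← Scheme.Hom.comp_preimage, ← Scheme.Hom.comp_preimage, hpo'.w]
  have sq := (isFibSq_of_isPushout' h hcov hpo W₀).swap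
  have sq' := (isFibSq_of_isPushout' h' hcov' hpo' W₀').swap
  have hg : Function.Surjective (i.app (a ⁻¹ᵁ W₀)).hom := i.app_surjective _ hWa
  have hg' : Function.Surjective (i'.app (a' ⁻¹ᵁ W₀')).hom := i'.app_surjective _ hWa'
  -- the pushout squares of sections
  have hUY1 : i' ⁻¹ᵁ a' ⁻¹ᵁ W₀' = i' ⁻¹ᵁ (a' ⁻¹ᵁ W₀') ⊓ c ⁻¹ᵁ (i ⁻¹ᵁ a ⁻¹ᵁ W₀) :=
    (inf_eq_left.mpr (leZ hX ha e)).symm
  have hA := (isIso_pushoutSection_iff hX (le_refl (i ⁻¹ᵁ a ⁻¹ᵁ W₀)) (leX ha e) hUY1).mp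
    (isIso_pushoutSection_of_isAffineOpen hX (le_refl _) (leX ha e) hUY1 hWa hUz hWa')
  have hUY2 : i' ⁻¹ᵁ a' ⁻¹ᵁ W₀' = j' ⁻¹ᵁ (b' ⁻¹ᵁ W₀') ⊓ c ⁻¹ᵁ (i ⁻¹ᵁ a ⁻¹ᵁ W₀) := by
    rw [← hzeq']
    exact hUY1
  have hB := (isIso_pushoutSection_iff hY (preimage_le_of_isPushout hpo W₀) (leX hb e) hUY2).mp
    (isIso_pushoutSection_of_isAffineOpen hY (preimage_le_of_isPushout hpo W₀) (leX hb e) hUY2
      hWb hUz hWb')
  rw [Scheme.Hom.appLE_eq_app (f := i), Scheme.Hom.appLE_eq_app (f := i')] at hA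
  have e1 : ∀ x, (b'.app W₀').hom ((r.appLE W₀ W₀' e).hom x) =
      (g.appLE (b ⁻¹ᵁ W₀) (b' ⁻¹ᵁ W₀') (leX hb e)).hom ((b.app W₀).hom x) := by
    intro x
    have h1 : r.appLE W₀ W₀' e ≫ b'.app W₀' =
        b.app W₀ ≫ g.appLE (b ⁻¹ᵁ W₀) (b' ⁻¹ᵁ W₀') (leX hb e) := by
      rw [Scheme.Hom.app_eq_appLE, Scheme.Hom.app_eq_appLE, Scheme.Hom.appLE_comp_appLE,
        Scheme.Hom.appLE_comp_appLE]
      exact appLE_congr_hom hb _ _ _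
    exact ConcreteCategory.congr_hom h1 x
  have e2 : ∀ x, (a'.app W₀').hom ((r.appLE W₀ W₀' e).hom x) =
      (f.appLE (a ⁻¹ᵁ W₀) (a' ⁻¹ᵁ W₀') (leX ha e)).hom ((a.app W₀).hom x) := by
    intro x
    have h1 : r.appLE W₀ W₀' e ≫ a'.app W₀' =
        a.app W₀ ≫ f.appLE (a ⁻¹ᵁ W₀) (a' ⁻¹ᵁ W₀') (leX ha e) := by
      rw [Scheme.Hom.app_eq_appLE, Scheme.Hom.app_eq_appLE, Scheme.Hom.appLE_comp_appLE,
        Scheme.Hom.appLE_comp_appLE]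
      exact appLE_congr_hom ha _ _ _
    exact ConcreteCategory.congr_hom h1 x
  have e3 : ∀ y, (j'.appLE (b' ⁻¹ᵁ W₀') (i' ⁻¹ᵁ a' ⁻¹ᵁ W₀')
      (preimage_le_of_isPushout hpo' W₀')).hom
        ((g.appLE (b ⁻¹ᵁ W₀) (b' ⁻¹ᵁ W₀') (leX hb e)).hom y) =
      (c.appLE (i ⁻¹ᵁ a ⁻¹ᵁ W₀) (i' ⁻¹ᵁ a' ⁻¹ᵁ W₀') (leZ hX ha e)).hom
        ((j.appLE (b ⁻¹ᵁ W₀) (i ⁻¹ᵁ a ⁻¹ᵁ W₀) (preimage_le_of_isPushout hpo W₀)).hom y) := by
    intro y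
    have h1 : g.appLE (b ⁻¹ᵁ W₀) (b' ⁻¹ᵁ W₀') (leX hb e) ≫
        j'.appLE (b' ⁻¹ᵁ W₀') (i' ⁻¹ᵁ a' ⁻¹ᵁ W₀') (preimage_le_of_isPushout hpo' W₀') =
        j.appLE (b ⁻¹ᵁ W₀) (i ⁻¹ᵁ a ⁻¹ᵁ W₀) (preimage_le_of_isPushout hpo W₀) ≫
          c.appLE (i ⁻¹ᵁ a ⁻¹ᵁ W₀) (i' ⁻¹ᵁ a' ⁻¹ᵁ W₀') (leZ hX ha e) := by
      rw [Scheme.Hom.appLE_comp_appLE, Scheme.Hom.appLE_comp_appLE]
      exact appLE_congr_hom hY.w _ _ _
    exact ConcreteCategory.congr_hom h1 y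
  have e4 : ∀ x, (i'.app (a' ⁻¹ᵁ W₀')).hom
      ((f.appLE (a ⁻¹ᵁ W₀) (a' ⁻¹ᵁ W₀') (leX ha e)).hom x) =
      (c.appLE (i ⁻¹ᵁ a ⁻¹ᵁ W₀) (i' ⁻¹ᵁ a' ⁻¹ᵁ W₀') (leZ hX ha e)).hom
        ((i.app (a ⁻¹ᵁ W₀)).hom x) := by
    intro x
    have h1 : f.appLE (a ⁻¹ᵁ W₀) (a' ⁻¹ᵁ W₀') (leX ha e) ≫ i'.app (a' ⁻¹ᵁ W₀') =
        i.app (a ⁻¹ᵁ W₀) ≫ c.appLE (i ⁻¹ᵁ a ⁻¹ᵁ W₀) (i' ⁻¹ᵁ a' ⁻¹ᵁ W₀') (leZ hX ha e) := by
      rw [Scheme.Hom.app_eq_appLE, Scheme.Hom.app_eq_appLE, Scheme.Hom.appLE_comp_appLE,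
        Scheme.Hom.appLE_comp_appLE]
      exact appLE_congr_hom hX.w _ _ _
    exact ConcreteCategory.congr_hom h1 x
  have five := five_iffs sq hg sq' hg' (r.appLE W₀ W₀' e).hom
    (g.appLE (b ⁻¹ᵁ W₀) (b' ⁻¹ᵁ W₀') (leX hb e)).hom
    (f.appLE (a ⁻¹ᵁ W₀) (a' ⁻¹ᵁ W₀') (leX ha e)).hom
    (c.appLE (i ⁻¹ᵁ a ⁻¹ᵁ W₀) (i' ⁻¹ᵁ a' ⁻¹ᵁ W₀') (leZ hX ha e)).hom e1 e2 e3 e4 hB hA
  have six := finite_and_pushouts sq hg sq' hg' (r.appLE W₀ W₀' e).hom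
    (g.appLE (b ⁻¹ᵁ W₀) (b' ⁻¹ᵁ W₀') (leX hb e)).hom
    (f.appLE (a ⁻¹ᵁ W₀) (a' ⁻¹ᵁ W₀') (leX ha e)).hom
    (c.appLE (i ⁻¹ᵁ a ⁻¹ᵁ W₀) (i' ⁻¹ᵁ a' ⁻¹ᵁ W₀') (leZ hX ha e)).hom e1 e2 e3 e4 hB hA
  exact ⟨five.2.2.2.2, six.1, six.2.2, six.2.1⟩

/-- an open of a Ferrand push-out with affine preimages is affine -/
theorem isAffineOpen_of_preimages [IsClosedImmersion i]
    (h : IsPushout i.toLRSHom j.toLRSHom a₀ b₀) (hcov : Covered a₀ b₀)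
    (hpo : IsPushout i j a b) (W₁ : W.Opens) (hU : IsAffineOpen (a ⁻¹ᵁ W₁))
    (hV : IsAffineOpen (b ⁻¹ᵁ W₁)) : IsAffineOpen W₁ := by
  have hUV : i ⁻¹ᵁ a ⁻¹ᵁ W₁ = j ⁻¹ᵁ b ⁻¹ᵁ W₁ := by
    rw [← Scheme.Hom.comp_preimage, ← Scheme.Hom.comp_preimage, hpo.w]
  obtain ⟨W₂, h1, h2, haff⟩ := exists_opens_of_isPushout h hcov hpo _ _ hUV
  have heq : W₂ = W₁ := by
    ext w
    rcases joint_surjective_of_isPushout' h hcov hpo w with ⟨x, rfl⟩ | ⟨y, rfl⟩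
    · change x ∈ a ⁻¹ᵁ W₂ ↔ x ∈ a ⁻¹ᵁ W₁
      rw [h1]
    · change y ∈ b ⁻¹ᵁ W₂ ↔ y ∈ b ⁻¹ᵁ W₁
      rw [h2]
  rw [← heq]
  exact haff hU hV

theorem isIso_appLE_congr {A B : Scheme.{u}} (k : A ⟶ B) {U : B.Opens} {V V' : A.Opens}
    (hV : V = V') (e : V ≤ k ⁻¹ᵁ U) (hk : IsIso (k.appLE U V e)) :
    IsIso (k.appLE U V' (hV ▸ e)) := by
  subst hV
  exact hk

set_option backward.isDefEq.respectTransparency.types false in
set_option maxHeartbeats 1600000 in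
/-- a commutative square is cartesian if it is so on sections over enough affine opens -/
theorem isPullback_of_local_pushout {X' X W' W : Scheme.{u}} {a' : X' ⟶ W'} {f : X' ⟶ X}
    {r : W' ⟶ W} {a : X ⟶ W} (ha : a' ≫ r = f ≫ a)
    (H : ∀ x : X, ∃ W₀ : W.Opens, a.base x ∈ W₀ ∧ IsAffineOpen W₀ ∧ IsAffineOpen (a ⁻¹ᵁ W₀) ∧
      IsAffineOpen (r ⁻¹ᵁ W₀) ∧ IsAffineOpen (a' ⁻¹ᵁ r ⁻¹ᵁ W₀) ∧
      IsPushout (a.app W₀) (r.appLE W₀ (r ⁻¹ᵁ W₀) le_rfl)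
        (f.appLE (a ⁻¹ᵁ W₀) (a' ⁻¹ᵁ r ⁻¹ᵁ W₀) (leX ha le_rfl)) (a'.app (r ⁻¹ᵁ W₀))) :
    IsPullback a' f r a := by
  have HQ : IsPullback (pullback.fst r a) (pullback.snd r a) r a := IsPullback.of_hasPullback r a
  have hk1 : pullback.lift a' f ha ≫ pullback.fst r a = a' := pullback.lift_fst _ _ _
  have hk2 : pullback.lift a' f ha ≫ pullback.snd r a = f := pullback.lift_snd _ _ _
  suffices hiso : IsIso (pullback.lift a' f ha) by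
    exact IsPullback.of_iso_pullback ⟨ha⟩ (asIso (pullback.lift a' f ha)) hk1 hk2
  choose W₀ hxW hW hWa hWr hWa' hpo using H
  -- the affine opens of `Q`
  have hQ₀ : ∀ q : ↑(pullback r a), IsAffineOpen
      (pullback.fst r a ⁻¹ᵁ (r ⁻¹ᵁ W₀ ((pullback.snd r a).base q)) ⊓
        pullback.snd r a ⁻¹ᵁ (a ⁻¹ᵁ W₀ ((pullback.snd r a).base q))) := fun q =>
    isAffineOpen_of_isPullback HQ le_rfl le_rfl rfl (hW _) (hWa _) (hWr _)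
  have hsup : (⨆ q : ↑(pullback r a), ((⟨_, hQ₀ q⟩ : (pullback r a).affineOpens) :
      (pullback r a).Opens)) = ⊤ := by
    rw [eq_top_iff]
    intro q _
    refine Opens.mem_iSup.mpr ⟨q, ?_, hxW _⟩
    change (pullback.fst r a ≫ r).base q ∈ W₀ _
    rw [HQ.w]
    exact hxW _
  have key : MorphismProperty.isomorphisms Scheme (pullback.lift a' f ha) := by
    rw [HasAffineProperty.iff_of_iSup_eq_top (P := MorphismProperty.isomorphisms Scheme)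
      (fun q : ↑(pullback r a) => (⟨_, hQ₀ q⟩ : (pullback r a).affineOpens)) hsup]
    intro q
    -- abbreviations
    have hpre : pullback.lift a' f ha ⁻¹ᵁ
        (pullback.fst r a ⁻¹ᵁ (r ⁻¹ᵁ W₀ ((pullback.snd r a).base q)) ⊓
          pullback.snd r a ⁻¹ᵁ (a ⁻¹ᵁ W₀ ((pullback.snd r a).base q))) =
        a' ⁻¹ᵁ r ⁻¹ᵁ W₀ ((pullback.snd r a).base q) := by
      have e1 : pullback.lift a' f ha ⁻¹ᵁ
          (pullback.fst r a ⁻¹ᵁ (r ⁻¹ᵁ W₀ ((pullback.snd r a).base q))) =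
          a' ⁻¹ᵁ (r ⁻¹ᵁ W₀ ((pullback.snd r a).base q)) := by
        rw [← Scheme.Hom.comp_preimage, hk1]
      have e2 : pullback.lift a' f ha ⁻¹ᵁ
          (pullback.snd r a ⁻¹ᵁ (a ⁻¹ᵁ W₀ ((pullback.snd r a).base q))) =
          f ⁻¹ᵁ (a ⁻¹ᵁ W₀ ((pullback.snd r a).base q)) := by
        rw [← Scheme.Hom.comp_preimage, hk2]
      have e3 : a' ⁻¹ᵁ (r ⁻¹ᵁ W₀ ((pullback.snd r a).base q)) =
          f ⁻¹ᵁ (a ⁻¹ᵁ W₀ ((pullback.snd r a).base q)) := by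
        rw [← Scheme.Hom.comp_preimage, ← Scheme.Hom.comp_preimage, ha]
      rw [Scheme.Hom.preimage_inf, e1, e2, ← e3, inf_idem]
    have haff : IsAffineOpen (pullback.lift a' f ha ⁻¹ᵁ
        (pullback.fst r a ⁻¹ᵁ (r ⁻¹ᵁ W₀ ((pullback.snd r a).base q)) ⊓
          pullback.snd r a ⁻¹ᵁ (a ⁻¹ᵁ W₀ ((pullback.snd r a).base q)))) := by
      rw [hpre]
      exact hWa' _
    refine ⟨haff, ?_⟩
    rw [morphismRestrict_appTop]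
    have hmain : ∀ Q₁ : (pullback r a).Opens,
        Q₁ = pullback.fst r a ⁻¹ᵁ (r ⁻¹ᵁ W₀ ((pullback.snd r a).base q)) ⊓
          pullback.snd r a ⁻¹ᵁ (a ⁻¹ᵁ W₀ ((pullback.snd r a).base q)) →
        IsIso ((pullback.lift a' f ha).app Q₁) := by
      rintro _ rfl
      -- Mathlib's pushout of sections of the fibre product
      have hQpo := (isIso_pushoutSection_iff HQ (US := W₀ ((pullback.snd r a).base q))
        (UT := a ⁻¹ᵁ W₀ ((pullback.snd r a).base q))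
        (UX := r ⁻¹ᵁ W₀ ((pullback.snd r a).base q)) le_rfl le_rfl rfl).mp
        (isIso_pushoutSection_of_isAffineOpen HQ le_rfl le_rfl rfl (hW _) (hWa _) (hWr _))
      have hours := (hpo ((pullback.snd r a).base q)).flip
      rw [Scheme.Hom.app_eq_appLE (f := a), Scheme.Hom.app_eq_appLE (f := a')] at hours
      have hle : a' ⁻¹ᵁ r ⁻¹ᵁ W₀ ((pullback.snd r a).base q) ≤
          pullback.lift a' f ha ⁻¹ᵁ
            (pullback.fst r a ⁻¹ᵁ (r ⁻¹ᵁ W₀ ((pullback.snd r a).base q)) ⊓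
              pullback.snd r a ⁻¹ᵁ (a ⁻¹ᵁ W₀ ((pullback.snd r a).base q))) := hpre.ge
      have hiso : IsIso ((pullback.lift a' f ha).appLE _ _ hle) := by
        have heq : (pullback.lift a' f ha).appLE _ _ hle =
            (hQpo.isoIsPushout _ _ hours).hom := by
          apply hQpo.hom_ext
          · rw [hQpo.inl_isoIsPushout_hom, Scheme.Hom.appLE_comp_appLE]
            exact appLE_congr_hom hk1 _ _ _
          · rw [hQpo.inr_isoIsPushout_hom, Scheme.Hom.appLE_comp_appLE]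
            exact appLE_congr_hom hk2 _ _ _
        rw [heq]
        infer_instance
      rw [Scheme.Hom.app_eq_appLE]
      exact isIso_appLE_congr _ hpre.symm hle hiso
    have h1 : IsIso ((pullback.lift a' f ha).app
        ((pullback.fst r a ⁻¹ᵁ (r ⁻¹ᵁ W₀ ((pullback.snd r a).base q)) ⊓
          pullback.snd r a ⁻¹ᵁ (a ⁻¹ᵁ W₀ ((pullback.snd r a).base q))).ι ''ᵁ ⊤)) :=
      hmain _ (by simp)
    refine @IsIso.comp_isIso _ _ _ _ _ _ _ h1 ?_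
    exact Functor.map_isIso _ _
  exact key

set_option backward.isDefEq.respectTransparency.types false in
/-- finiteness from an affine cover of the target -/
theorem isFinite_of_cover {A B : Scheme.{u}} (r : A ⟶ B)
    (H : ∀ x : B, ∃ U : B.Opens, x ∈ U ∧ IsAffineOpen U ∧ IsAffineOpen (r ⁻¹ᵁ U) ∧
      (r.appLE U (r ⁻¹ᵁ U) le_rfl).hom.Finite) : IsFinite r := by
  choose U hxU hU hrU hfin using H
  rw [HasAffineProperty.iff_of_iSup_eq_top (P := @IsFinite)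
    (fun x : B => (⟨U x, hU x⟩ : B.affineOpens))
    (by
      rw [eq_top_iff]
      intro x _
      exact Opens.mem_iSup.mpr ⟨x, hxU x⟩)]
  intro x
  refine ⟨hrU x, ?_⟩
  change (Scheme.Hom.appTop (r ∣_ U x)).hom.Finite
  rw [morphismRestrict_appTop]
  have hmain : ∀ U₁ : B.Opens, U₁ = U x → (r.app U₁).hom.Finite := by
    rintro _ rfl
    rw [Scheme.Hom.app_eq_appLE]
    exact hfin x
  have h1 : (r.app ((U x).ι ''ᵁ ⊤)).hom.Finite := hmain _ (by simp)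
  change ((A.presheaf.map (eqToHom
      (image_morphismRestrict_preimage r (U x) ⊤)).op).hom.comp
      (r.app ((U x).ι ''ᵁ ⊤)).hom).Finite
  refine RingHom.Finite.comp ?_ h1
  apply RingHom.Finite.of_surjective
  have hiso : IsIso (A.presheaf.map (eqToHom
      (image_morphismRestrict_preimage r (U x) ⊤)).op) :=
    Functor.map_isIso _ _
  exact (ConcreteCategory.bijective_of_isIso _).2

theorem finite_appLE_of_eq {A B : Scheme.{u}} (g : A ⟶ B) [IsFinite g] {V : B.Opens}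
    (hV : IsAffineOpen V) {V' : A.Opens} (hV' : V' = g ⁻¹ᵁ V) :
    (g.appLE V V' hV'.le).hom.Finite := by
  subst hV'
  rw [Scheme.Hom.appLE_eq_app]
  exact IsFinite.finite_app g V hV

set_option backward.isDefEq.respectTransparency.types false in
/-- **Morphisms of Ferrand push-outs with cartesian affine sides.** -/
theorem main [IsClosedImmersion i] (h : IsPushout i.toLRSHom j.toLRSHom a₀ b₀)
    (hcov : Covered a₀ b₀) (hpo : IsPushout i j a b)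
    (hX : IsPullback i' c f i) (hY : IsPullback j' c g j) [IsAffineHom f] [IsAffineHom g]
    (hpo' : IsPushout i' j' a' b') (ha : a' ≫ r = f ≫ a) (hb : b' ≫ r = g ≫ b) :
    IsAffineHom r ∧ IsPullback a' f r a ∧ IsPullback b' g r b ∧
      (IsFinite f → IsFinite g → IsFinite r) ∧ (Etale f → Etale g → Etale r) := by
  have hi' : IsClosedImmersion i' :=
    MorphismProperty.of_isPullback (P := @IsClosedImmersion) hX.flip inferInstance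
  have h' := IsPushout.of_hasPushout i'.toLRSHom j'.toLRSHom
  have hcov' := covered_pullback h hcov hX hY h'
  -- good opens and their preimages
  have hpa : ∀ W₀ : W.Opens, a' ⁻¹ᵁ r ⁻¹ᵁ W₀ = f ⁻¹ᵁ a ⁻¹ᵁ W₀ := fun W₀ => by
    rw [← Scheme.Hom.comp_preimage, ← Scheme.Hom.comp_preimage, ha]
  have hpb : ∀ W₀ : W.Opens, b' ⁻¹ᵁ r ⁻¹ᵁ W₀ = g ⁻¹ᵁ b ⁻¹ᵁ W₀ := fun W₀ => by
    rw [← Scheme.Hom.comp_preimage, ← Scheme.Hom.comp_preimage, hb]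
  have hgood : ∀ w : W, ∃ W₀ : W.Opens, w ∈ W₀ ∧ IsAffineOpen W₀ ∧ IsAffineOpen (a ⁻¹ᵁ W₀) ∧
      IsAffineOpen (b ⁻¹ᵁ W₀) ∧ IsAffineOpen (a' ⁻¹ᵁ r ⁻¹ᵁ W₀) ∧
      IsAffineOpen (b' ⁻¹ᵁ r ⁻¹ᵁ W₀) ∧ IsAffineOpen (r ⁻¹ᵁ W₀) := by
    intro w
    obtain ⟨W₀, hw, hW₀, hWa, hWb⟩ := exists_good h hcov hpo w
    have hWa' : IsAffineOpen (a' ⁻¹ᵁ r ⁻¹ᵁ W₀) := by rw [hpa]; exact hWa.preimage f
    have hWb' : IsAffineOpen (b' ⁻¹ᵁ r ⁻¹ᵁ W₀) := by rw [hpb]; exact hWb.preimage g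
    exact ⟨W₀, hw, hW₀, hWa, hWb, hWa', hWb',
      isAffineOpen_of_preimages h' hcov' hpo' _ hWa' hWb'⟩
  have haff : IsAffineHom r := by
    apply isAffineHom_of_forall_exists_isAffineOpen
    intro w
    obtain ⟨W₀, hw, hW₀, -, -, -, -, hW₀'⟩ := hgood w
    exact ⟨W₀, hw, hW₀, hW₀'⟩
  refine ⟨haff, ?_, ?_, ?_, ?_⟩
  · apply isPullback_of_local_pushout ha
    intro x
    obtain ⟨W₀, hw, hW₀, hWa, hWb, hWa', hWb', hW₀'⟩ := hgood (a.base x)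
    exact ⟨W₀, hw, hW₀, hWa, hW₀', hWa',
      (local_six h hcov hpo hX hY h' hcov' hpo' ha hb hWa hWb hWa' hWb' le_rfl).2.2.1⟩
  · apply isPullback_of_local_pushout hb
    intro y
    obtain ⟨W₀, hw, hW₀, hWa, hWb, hWa', hWb', hW₀'⟩ := hgood (b.base y)
    exact ⟨W₀, hw, hW₀, hWb, hW₀', hWb',
      (local_six h hcov hpo hX hY h' hcov' hpo' ha hb hWa hWb hWa' hWb' le_rfl).2.2.2⟩
  · intro hf hg
    apply isFinite_of_cover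
    intro w
    obtain ⟨W₀, hw, hW₀, hWa, hWb, hWa', hWb', hW₀'⟩ := hgood w
    refine ⟨W₀, hw, hW₀, hW₀', ?_⟩
    refine (local_six h hcov hpo hX hY h' hcov' hpo' ha hb hWa hWb hWa' hWb' le_rfl).2.1 ⟨?_, ?_⟩
    · exact finite_appLE_of_eq g hWb (hpb W₀)
    · exact finite_appLE_of_eq f hWa (hpa W₀)
  · intro hf hg
    have het := (RingHom.Etale.stableUnderComposition.stableUnderCompositionWithLocalizationAway
      etale_holdsForLocalizationAway).left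
    apply H2_of_hasRingHomProperty @Etale @RingHom.Etale het
    intro x
    obtain ⟨W₀, hw, hW₀, hWa, hWb, hWa', hWb', hW₀'⟩ := hgood (r.base x)
    refine ⟨W₀, r ⁻¹ᵁ W₀, hW₀, hW₀', hw, le_rfl, ?_⟩
    refine (local_six h hcov hpo hX hY h' hcov' hpo' ha hb hWa hWb hWa' hWb' le_rfl).1.mpr
      ⟨?_, ?_⟩
    · exact H1_of_hasRingHomProperty @Etale @RingHom.Etale g hg _ _ hWb hWb' _
    · exact H1_of_hasRingHomProperty @Etale @RingHom.Etale f hf _ _ hWa hWa' _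

end Groth.Agent.H87.FerrCov
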