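import Mathlib
import Groth.Agent.H87.FerrProper
import Groth.Agent.H87.FerrIntegral
import Groth.Agent.H87.FerrIntegralHom
import Groth.Agent.H87.FerrMatch

/-!
# Ferrand pushouts along an integral morphism over a base (helper87)

* `JointCover.quasiSeparated_of_joint`
* `FerrScheme.covered_of_integral`
* `FerrScheme.separated_of_isPushout`, `FerrScheme.locallyOfFiniteType_of_isPushout`
-/

set_option autoImplicit false
open CategoryTheory Limits TopologicalSpace AlgebraicGeometry Opposite

namespace Groth.Agent.H87.JointCover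

universe u

variable {X T P Y : Scheme.{u}} (a : X ⟶ P) (b : T ⟶ P) (p : P ⟶ Y)

set_option backward.isDefEq.respectTransparency.types false in
theorem quasiSeparated_of_joint
    (hsurj : ∀ x : P, x ∈ Set.range a.base ∨ x ∈ Set.range b.base)
    [QuasiCompact a] [QuasiCompact b] [QuasiSeparated (a ≫ p)] [QuasiSeparated (b ≫ p)] :
    QuasiSeparated p := by
  have key : ∀ {X' : Scheme.{u}} (c : X' ⟶ P) [QuasiCompact c] [QuasiSeparated (c ≫ p)],
      QuasiCompact (c ≫ pullback.diagonal p) := by
    intro X' c _ _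
    have hm : QuasiCompact (pullback.map (c ≫ p) (c ≫ p) p p c c (𝟙 Y)
        ((Category.comp_id _).trans rfl) ((Category.comp_id _).trans rfl)) :=
      MorphismProperty.pullbackMap (P := @QuasiCompact) ‹_› ‹_› rfl rfl
    have hA : c ≫ pullback.diagonal p = pullback.diagonal (c ≫ p) ≫
        pullback.map (c ≫ p) (c ≫ p) p p c c (𝟙 Y)
          ((Category.comp_id _).trans rfl) ((Category.comp_id _).trans rfl) := by
      apply pullback.hom_ext
      · simp only [Category.assoc, pullback.diagonal_fst, pullback.lift_fst, pullback.map]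
        rw [← Category.assoc, pullback.diagonal_fst, Category.id_comp, Category.comp_id]
      · simp only [Category.assoc, pullback.diagonal_snd, pullback.lift_snd, pullback.map]
        rw [← Category.assoc, pullback.diagonal_snd, Category.id_comp, Category.comp_id]
    rw [hA]
    infer_instance
  have h1 := key a
  have h2 := key b
  constructor
  exact quasiCompact_of_joint a b (pullback.diagonal p) hsurj

end Groth.Agent.H87.JointCover

namespace Groth.Agent.H87.FerrScheme

universe u
open Groth.Agent.H87.FerrAlg Groth.Agent.H87.FerrLRS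

variable {X Y Z : Scheme.{u}} {P : LocallyRingedSpace.{u}} {i : Z ⟶ X} {j : Z ⟶ Y}
  {a : X.toLocallyRingedSpace ⟶ P} {b : Y.toLocallyRingedSpace ⟶ P}

/-- the covering hypothesis for a closed immersion and an integral morphism whose fibres lie in
preimages of affine opens -/
theorem covered_of_integral (h : IsPushout i.toLRSHom j.toLRSHom a b)
    [IsClosedImmersion i] [IsIntegralHom j]
    (haff : ∀ y : Y, ∃ U : X.Opens, IsAffineOpen U ∧ j.base ⁻¹' {y} ⊆ (i ⁻¹ᵁ U : Set Z)) :
    Covered a b := by
  have hY : ∀ y : Y, ∃ (U : X.Opens) (V : Y.Opens), IsAffineOpen U ∧ IsAffineOpen V ∧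
      i ⁻¹ᵁ U = j ⁻¹ᵁ V ∧ y ∈ V := by
    intro y
    obtain ⟨U₀, hU₀, hfib⟩ := haff y
    exact FerrIntegral.exists_matched_integral i j y U₀ hU₀ hfib
  apply covered_of_pairs h
  · intro x
    by_cases hx : x ∈ Set.range i.base
    · obtain ⟨z, rfl⟩ := hx
      obtain ⟨U, V, hU, hV, hUV, hy⟩ := hY (j.base z)
      refine ⟨U, V, hU, hV, hUV, ?_⟩
      have hz : z ∈ i ⁻¹ᵁ U := by
        rw [hUV]
        exact hy
      exact hz
    · exact FerrMatch.exists_matched_left i j x hx
  · exact hY

/-- separatedness and quasi-separatedness of a pushout over a base -/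
theorem separated_of_isPushout (h : IsPushout i.toLRSHom j.toLRSHom a b)
    [IsClosedImmersion i] [IsIntegralHom j] (hcov : Covered a b) {P' : Scheme.{u}} {a' : X ⟶ P'}
    {b' : Y ⟶ P'} (hP : IsPushout i j a' b') {S : Scheme.{u}} (r : P' ⟶ S) :
    ((IsSeparated (a' ≫ r) ∧ IsSeparated (b' ≫ r)) → IsSeparated r) ∧
      ((QuasiSeparated (a' ≫ r) ∧ QuasiSeparated (b' ≫ r)) → QuasiSeparated r) := by
  obtain ⟨e, he1, he2⟩ := exists_iso_of_isPushout h hcov hP
  have hint_a : IsIntegralHom (inl h hcov) := isIntegralHom_inl h hcov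
  have hci_b : IsClosedImmersion (inr h hcov) := isClosedImmersion_inr h hcov
  have hsurj := joint_surjective h hcov
  have hap' : inl h hcov ≫ e.hom ≫ r = a' ≫ r := by rw [← he1, Category.assoc]
  have hbp' : inr h hcov ≫ e.hom ≫ r = b' ≫ r := by rw [← he2, Category.assoc]
  have hr : r = e.inv ≫ e.hom ≫ r := by simp
  constructor
  · rintro ⟨h1, h2⟩
    have : IsSeparated (inl h hcov ≫ e.hom ≫ r) := by rw [hap']; exact h1
    have : IsSeparated (inr h hcov ≫ e.hom ≫ r) := by rw [hbp']; exact h2
    have : IsSeparated (e.hom ≫ r) := JointCover.isSeparated_of_joint _ _ _ hsurj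
    rw [hr]; infer_instance
  · rintro ⟨h1, h2⟩
    have : QuasiSeparated (inl h hcov ≫ e.hom ≫ r) := by rw [hap']; exact h1
    have : QuasiSeparated (inr h hcov ≫ e.hom ≫ r) := by rw [hbp']; exact h2
    have : QuasiSeparated (e.hom ≫ r) := JointCover.quasiSeparated_of_joint _ _ _ hsurj
    rw [hr]; infer_instance

/-- local finite type of a pushout along a finite morphism over a locally Noetherian base -/
theorem locallyOfFiniteType_of_isPushout (h : IsPushout i.toLRSHom j.toLRSHom a b)
    [IsClosedImmersion i] [IsFinite j] (hcov : Covered a b) {P' : Scheme.{u}} {a' : X ⟶ P'}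
    {b' : Y ⟶ P'} (hP : IsPushout i j a' b') {S : Scheme.{u}} [IsLocallyNoetherian S]
    (r : P' ⟶ S) [LocallyOfFiniteType (a' ≫ r)] [LocallyOfFiniteType (b' ≫ r)] :
    LocallyOfFiniteType r := by
  obtain ⟨e, he1, he2⟩ := exists_iso_of_isPushout h hcov hP
  have hfin_a : IsFinite (inl h hcov) := isFinite_inl h hcov
  have hci_b : IsClosedImmersion (inr h hcov) := isClosedImmersion_inr h hcov
  have hinj := joint_injective h hcov
  have hap' : inl h hcov ≫ e.hom ≫ r = a' ≫ r := by rw [← he1, Category.assoc]
  have hbp' : inr h hcov ≫ e.hom ≫ r = b' ≫ r := by rw [← he2, Category.assoc]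
  have : LocallyOfFiniteType (inl h hcov ≫ e.hom ≫ r) := by rw [hap']; infer_instance
  have : LocallyOfFiniteType (inr h hcov ≫ e.hom ≫ r) := by rw [hbp']; infer_instance
  have hlft' : LocallyOfFiniteType (e.hom ≫ r) :=
    JointCover.locallyOfFiniteType_of_joint _ _ _ hinj
  have hr : r = e.inv ≫ e.hom ≫ r := by simp
  rw [hr]; infer_instance

end Groth.Agent.H87.FerrScheme
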