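import Mathlib
import Groth.Agent.H87.FerrCov
import Groth.Agent.H87.FerrIntegralBase
import Groth.Prelude.Def_FEt

/-!
# Gluing finite étale covers over a Ferrand push-out (helper87)
-/

set_option autoImplicit false
open CategoryTheory Limits TopologicalSpace AlgebraicGeometry Opposite

namespace Groth.Agent.H87.FerrFEt

universe u
open Groth.Agent.H87.FerrScheme

set_option backward.isDefEq.respectTransparency.types false in
theorem glue {Z X Y W : Scheme.{u}} (i : Z ⟶ X) [IsClosedImmersion i] (j : Z ⟶ Y)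
    [IsIntegralHom j]
    (h3 : ∀ y : Y, ∃ U : X.Opens, IsAffineOpen U ∧ ∀ z : Z, j.base z = y → i.base z ∈ U)
    (a : X ⟶ W) (b : Y ⟶ W) (hpo : IsPushout i j a b)
    (U : FEt.Cat X) (V : FEt.Cat Y) (e : (FEt.restrict i).obj U ≅ (FEt.restrict j).obj V) :
    ∃ T : FEt.Cat W, Nonempty ((FEt.restrict a).obj T ≅ U) ∧
      Nonempty ((FEt.restrict b).obj T ≅ V) := by
  have h := IsPushout.of_hasPushout i.toLRSHom j.toLRSHom
  have hcov : Covered (pushout.inl i.toLRSHom j.toLRSHom) (pushout.inr i.toLRSHom j.toLRSHom) :=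
    covered_of_integral h (fun y => by
      obtain ⟨U₀, hU₀, hz⟩ := h3 y
      exact ⟨U₀, hU₀, fun z hz' => hz z hz'⟩)
  have hUfin : IsFinite U.hom := U.prop.1
  have hUet : Etale U.hom := U.prop.2
  have hVfin : IsFinite V.hom := V.prop.1
  have hVet : Etale V.hom := V.prop.2
  -- the iso over `Z`
  obtain ⟨ε, ε', hε1, hε2, hεw⟩ : ∃ (ε : pullback U.hom i ⟶ pullback V.hom j)
      (ε' : pullback V.hom j ⟶ pullback U.hom i), ε ≫ ε' = 𝟙 _ ∧ ε' ≫ ε = 𝟙 _ ∧
      ε ≫ pullback.snd V.hom j = pullback.snd U.hom i := by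
    refine ⟨e.hom.left, e.inv.left, ?_, ?_, MorphismProperty.Over.w e.hom⟩
    · have h1 := congrArg (fun φ => φ.left) e.hom_inv_id
      exact h1
    · have h1 := congrArg (fun φ => φ.left) e.inv_hom_id
      exact h1
  have hX : IsPullback (pullback.fst U.hom i) (pullback.snd U.hom i) U.hom i :=
    IsPullback.of_hasPullback _ _
  have hY : IsPullback (ε ≫ pullback.fst V.hom j) (pullback.snd U.hom i) V.hom j := by
    refine IsPullback.of_iso (IsPullback.of_hasPullback V.hom j)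
      (⟨ε', ε, hε2, hε1⟩ : pullback V.hom j ≅ pullback U.hom i)
      (Iso.refl _) (Iso.refl _) (Iso.refl _) ?_ ?_ ?_ ?_
    · simp only [Iso.refl_hom, Category.comp_id]
      rw [← Category.assoc, hε2, Category.id_comp]
    · simp only [Iso.refl_hom, Category.comp_id]
      rw [← hεw, ← Category.assoc, hε2, Category.id_comp]
    · simp
    · simp
  have h' := IsPushout.of_hasPushout (pullback.fst U.hom i).toLRSHom
    (ε ≫ pullback.fst V.hom j).toLRSHom
  have hcov' := FerrCov.covered_pullback h hcov hX hY h'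
  have hpo' := isPushout h' hcov'
  have w : pullback.fst U.hom i ≫ U.hom ≫ a =
      (ε ≫ pullback.fst V.hom j) ≫ V.hom ≫ b := by
    rw [← Category.assoc, hX.w, ← Category.assoc (ε ≫ pullback.fst V.hom j), hY.w,
      Category.assoc, Category.assoc, hpo.w]
  have ha : inl h' hcov' ≫ hpo'.desc (U.hom ≫ a) (V.hom ≫ b) w = U.hom ≫ a :=
    hpo'.inl_desc _ _ _
  have hb : inr h' hcov' ≫ hpo'.desc (U.hom ≫ a) (V.hom ≫ b) w = V.hom ≫ b :=
    hpo'.inr_desc _ _ _
  obtain ⟨-, hPa, hPb, hfin, het⟩ := FerrCov.main h hcov hpo hX hY hpo' ha hb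
  refine ⟨MorphismProperty.Over.mk ⊤ (hpo'.desc (U.hom ≫ a) (V.hom ≫ b) w)
    ⟨hfin hUfin hVfin, het hUet hVet⟩, ⟨?_⟩, ⟨?_⟩⟩
  · exact MorphismProperty.Over.isoMk hPa.isoPullback.symm (hPa.isoPullback_inv_snd)
  · exact MorphismProperty.Over.isoMk hPb.isoPullback.symm (hPb.isoPullback_inv_snd)

end Groth.Agent.H87.FerrFEt
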