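import Mathlib
import Groth.Agent.H87.FerrBC2
import Groth.Agent.H87.FerrIntegralBase
import Groth.Agent.H12.FlatExact

/-!
# Flatness of a Ferrand pushout over a base (helper87)
-/

set_option autoImplicit false
open CategoryTheory Limits TopologicalSpace AlgebraicGeometry Opposite

namespace Groth.Agent.H87.FerrAlg

universe u

set_option maxHeartbeats 1600000 in
/-- in a fibre square over `L` with `f` surjective and `A`, `B`, `C` flat over `L`, the vertex `R`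
is flat over `L` -/
theorem IsFibSq.flat_of_flat {L R A B C : Type u} [CommRing L] [CommRing R] [CommRing A]
    [CommRing B] [CommRing C] {p : R →+* A} {q : R →+* B} {f : A →+* C} {g : B →+* C}
    (sq : IsFibSq p q f g) (hf : Function.Surjective f) (lR : L →+* R)
    (hA : (p.comp lR).Flat) (hB : (q.comp lR).Flat) (hC : (f.comp (p.comp lR)).Flat) :
    lR.Flat := by
  letI : Algebra L R := lR.toAlgebra
  letI : Algebra L A := (p.comp lR).toAlgebra
  letI : Algebra L B := (q.comp lR).toAlgebra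
  letI : Algebra L C := (f.comp (p.comp lR)).toAlgebra
  haveI : Module.Flat L A := hA
  haveI : Module.Flat L B := hB
  haveI : Module.Flat L C := hC
  letI : Algebra R A := p.toAlgebra
  letI : Algebra R B := q.toAlgebra
  letI : Algebra A C := f.toAlgebra
  letI : Algebra B C := g.toAlgebra
  haveI : IsScalarTower L R A := IsScalarTower.of_algebraMap_eq (fun _ => rfl)
  haveI : IsScalarTower L R B := IsScalarTower.of_algebraMap_eq (fun _ => rfl)
  haveI : IsScalarTower L A C := IsScalarTower.of_algebraMap_eq (fun _ => rfl)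
  haveI : IsScalarTower L B C := IsScalarTower.of_algebraMap_eq (fun l => sq.comm (lR l))
  let fl : R →ₗ[L] A × B := LinearMap.prod (IsScalarTower.toAlgHom L R A).toLinearMap
    (IsScalarTower.toAlgHom L R B).toLinearMap
  let gl : A × B →ₗ[L] C :=
    (IsScalarTower.toAlgHom L A C).toLinearMap.comp (LinearMap.fst L A B) -
      (IsScalarTower.toAlgHom L B C).toLinearMap.comp (LinearMap.snd L A B)
  have hfl : ∀ r, fl r = (p r, q r) := fun _ => rfl
  have hgl : ∀ x, gl x = f x.1 - g x.2 := fun _ => rfl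
  have exact₁ : Function.Exact fl gl := by
    intro x
    rw [hgl, sub_eq_zero]
    constructor
    · intro hx
      obtain ⟨r, hr1, hr2⟩ := sq.glue x.1 x.2 hx
      exact ⟨r, by rw [hfl, hr1, hr2]⟩
    · rintro ⟨r, rfl⟩
      rw [hfl]
      exact sq.comm r
  have inj₁ : Function.Injective fl := by
    intro r r' hrr'
    rw [hfl, hfl] at hrr'
    exact sq.ext r r' (congrArg Prod.fst hrr') (congrArg Prod.snd hrr')
  have surj₁ : Function.Surjective gl := by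
    intro c
    obtain ⟨a, rfl⟩ := hf c
    refine ⟨(a, 0), ?_⟩
    rw [hgl]
    simp
  haveI : Module.Flat L (A × B) := by
    refine Groth.Agent.H12.flat_of_exact_middle (LinearMap.inl L A B) (LinearMap.snd L A B)
      LinearMap.inl_injective LinearMap.snd_surjective ?_
    intro x
    constructor
    · intro hx
      exact ⟨x.1, Prod.ext rfl hx.symm⟩
    · rintro ⟨a, rfl⟩
      rfl
  exact Groth.Agent.H12.flat_of_exact_left fl gl inj₁ surj₁ exact₁

end Groth.Agent.H87.FerrAlg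

namespace Groth.Agent.H87.FerrScheme

universe u
open Groth.Agent.H87.FerrAlg Groth.Agent.H87.FerrMorph Groth.Agent.H87.FerrLRS

set_option backward.isDefEq.respectTransparency.types false in
/-- flatness of a Ferrand pushout over a base, from flatness of the three other corners -/
theorem flat_of_isPushout {Y X₁ X₂ X S : Scheme.{u}}
    {θ₁ : Y ⟶ X₁} {θ₂ : Y ⟶ X₂} [IsClosedImmersion θ₁]
    {P₀ : LocallyRingedSpace.{u}} {a₀ : X₁.toLocallyRingedSpace ⟶ P₀}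
    {b₀ : X₂.toLocallyRingedSpace ⟶ P₀} (h : IsPushout θ₁.toLRSHom θ₂.toLRSHom a₀ b₀)
    (hcov : Covered a₀ b₀)
    {φ₁ : X₁ ⟶ X} {φ₂ : X₂ ⟶ X} [IsAffineHom φ₁] [IsAffineHom φ₂] (hX : IsPushout θ₁ θ₂ φ₁ φ₂)
    (s : X ⟶ S) [Flat (φ₁ ≫ s)] [Flat (φ₂ ≫ s)] [Flat (θ₁ ≫ φ₁ ≫ s)] : Flat s := by
  apply H2_of_hasRingHomProperty @Flat @RingHom.Flat
    (RingHom.Flat.stableUnderComposition.stableUnderCompositionWithLocalizationAway
      RingHom.Flat.holdsForLocalizationAway).left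
  intro x
  obtain ⟨U, hU, hxU, -⟩ := Opens.isBasis_iff_nbhd.mp S.isBasis_affineOpens
    (Opens.mem_top (s.base x))
  obtain ⟨W, hW, hxW, eW⟩ := Opens.isBasis_iff_nbhd.mp X.isBasis_affineOpens
    (show x ∈ s ⁻¹ᵁ U from hxU)
  refine ⟨U, W, hU, hW, hxW, eW, ?_⟩
  have sq := isFibSq_of_isPushout' h hcov hX W
  have hUa : IsAffineOpen (φ₁ ⁻¹ᵁ W) := hW.preimage φ₁
  have hUb : IsAffineOpen (φ₂ ⁻¹ᵁ W) := hW.preimage φ₂
  have hUz : IsAffineOpen (θ₁ ⁻¹ᵁ φ₁ ⁻¹ᵁ W) := hUa.preimage θ₁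
  have hf : Function.Surjective (θ₁.app (φ₁ ⁻¹ᵁ W)).hom := θ₁.app_surjective _ hUa
  have eA : φ₁ ⁻¹ᵁ W ≤ (φ₁ ≫ s) ⁻¹ᵁ U := fun z hz => eW hz
  have eB : φ₂ ⁻¹ᵁ W ≤ (φ₂ ≫ s) ⁻¹ᵁ U := fun z hz => eW hz
  have eC : θ₁ ⁻¹ᵁ φ₁ ⁻¹ᵁ W ≤ (θ₁ ≫ φ₁ ≫ s) ⁻¹ᵁ U := fun z hz => eW hz
  have hcA : (φ₁ ≫ s).appLE U (φ₁ ⁻¹ᵁ W) eA = s.appLE U W eW ≫ φ₁.app W := by
    rw [Scheme.Hom.app_eq_appLE, Scheme.Hom.appLE_comp_appLE]
  have hcB : (φ₂ ≫ s).appLE U (φ₂ ⁻¹ᵁ W) eB = s.appLE U W eW ≫ φ₂.app W := by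
    rw [Scheme.Hom.app_eq_appLE, Scheme.Hom.appLE_comp_appLE]
  have hcC : (θ₁ ≫ φ₁ ≫ s).appLE U (θ₁ ⁻¹ᵁ φ₁ ⁻¹ᵁ W) eC =
      s.appLE U W eW ≫ φ₁.app W ≫ θ₁.app (φ₁ ⁻¹ᵁ W) := by
    rw [Scheme.Hom.app_eq_appLE (f := φ₁), Scheme.Hom.app_eq_appLE (f := θ₁),
      Scheme.Hom.appLE_comp_appLE, Scheme.Hom.appLE_comp_appLE]
    rfl
  have hA : ((φ₁.app W).hom.comp (s.appLE U W eW).hom).Flat := by
    have h1 := HasRingHomProperty.appLE (P := @Flat) (φ₁ ≫ s) inferInstance ⟨U, hU⟩ ⟨_, hUa⟩ eA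
    rw [hcA] at h1
    exact h1
  have hB : ((φ₂.app W).hom.comp (s.appLE U W eW).hom).Flat := by
    have h1 := HasRingHomProperty.appLE (P := @Flat) (φ₂ ≫ s) inferInstance ⟨U, hU⟩ ⟨_, hUb⟩ eB
    rw [hcB] at h1
    exact h1
  have hC : ((θ₁.app (φ₁ ⁻¹ᵁ W)).hom.comp ((φ₁.app W).hom.comp (s.appLE U W eW).hom)).Flat := by
    have h1 := HasRingHomProperty.appLE (P := @Flat) (θ₁ ≫ φ₁ ≫ s) inferInstance ⟨U, hU⟩
      ⟨_, hUz⟩ eC
    rw [hcC] at h1
    exact h1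
  exact sq.flat_of_flat hf (s.appLE U W eW).hom hA hB hC

end Groth.Agent.H87.FerrScheme
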