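import Mathlib
import Groth.Agent.H87.FerrFlatBC

/-!
# Flat base change of pushouts of closed immersions, in `Over S` form (helper87)
-/

set_option autoImplicit false
open CategoryTheory Limits TopologicalSpace AlgebraicGeometry Opposite

namespace Groth.Agent.H87.FerrOver

universe u

theorem isPullback_map_left {S S' : Scheme.{u}} (g : S' ⟶ S) {A B : Over S} (k : A ⟶ B) :
    IsPullback ((Over.pullback g).map k).left (pullback.fst A.hom g) (pullback.fst B.hom g)
      k.left := by
  have hout : IsPullback (((Over.pullback g).map k).left ≫ pullback.snd B.hom g)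
      (pullback.fst A.hom g) g (k.left ≫ B.hom) := by
    rw [Over.w k]
    have : ((Over.pullback g).map k).left ≫ pullback.snd B.hom g = pullback.snd A.hom g := by
      exact pullback.lift_snd _ _ _
    rw [this]
    exact (IsPullback.of_hasPullback A.hom g).flip
  refine IsPullback.of_right hout ?_ (IsPullback.of_hasPullback B.hom g).flip
  exact pullback.lift_fst _ _ _

theorem isPushout_pullback_of_flat {S S' : Scheme.{u}} (g : S' ⟶ S) [Flat g]
    {Y X₁ X₂ X : Over S} (θ₁ : Y ⟶ X₁) (θ₂ : Y ⟶ X₂) [IsClosedImmersion θ₁.left]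
    [IsClosedImmersion θ₂.left] (φ₁ : X₁ ⟶ X) (φ₂ : X₂ ⟶ X) (hX : IsPushout θ₁ θ₂ φ₁ φ₂) :
    IsPushout ((Over.pullback g).map θ₁) ((Over.pullback g).map θ₂)
      ((Over.pullback g).map φ₁) ((Over.pullback g).map φ₂) := by
  have : PreservesColimitsOfSize.{0, 0} (Over.forget S) :=
    (Over.forgetAdjStar S).leftAdjoint_preservesColimits
  have hX' : IsPushout θ₁.left θ₂.left φ₁.left φ₂.left := hX.map (Over.forget S)
  have w : (Over.pullback g).map θ₁ ≫ (Over.pullback g).map φ₁ =
      (Over.pullback g).map θ₂ ≫ (Over.pullback g).map φ₂ := by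
    rw [← Functor.map_comp, ← Functor.map_comp, hX.w]
  refine IsPushout.of_map (Over.forget S') w ?_
  have hflat : Flat (pullback.fst X.hom g) := inferInstance
  exact FerrScheme.isPushout_of_flat_baseChange hX' (isPullback_map_left g φ₁)
    (isPullback_map_left g φ₂) (isPullback_map_left g θ₁) (isPullback_map_left g θ₂)
    (congrArg Over.Hom.left w)

end Groth.Agent.H87.FerrOver
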