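import Mathlib
import Groth.Agent.H87.FerrAlg
import Groth.Prelude.Def_W4c3jacimperfPinch

/-!
# A linear retraction of `R → A` for a fibre square with projective cokernel (helper87)

For a fibre square `R = A ×_C B` over a base ring `L` with `A → C` surjective, `B → C` injective
and `C / B` a projective `L`-module, the map `R → A` admits an `L`-linear retraction.
-/

set_option autoImplicit false
set_option linter.style.haveILetI false
universe u

namespace Groth.Agent.H87.FerrAlg

theorem IsFibSq.exists_retraction {L R A B C : Type u} [CommRing L] [CommRing R] [CommRing A]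
    [CommRing B] [CommRing C] {p : R →+* A} {q : R →+* B} {f : A →+* C} {g : B →+* C}
    (sq : IsFibSq p q f g) (hf : Function.Surjective f) (hg : Function.Injective g)
    (lR : L →+* R) (lC : L →+* C) (hlC : ∀ l, lC l = f (p (lR l)))
    (hproj : @Pinch.CokerProjective L C B _ _ _ lC.toAlgebra g) :
    ∃ ρ₀ : A →+ R, (∀ l a, ρ₀ (p (lR l) * a) = lR l * ρ₀ a) ∧ ∀ r, ρ₀ (p r) = r := by
  letI : Algebra L C := lC.toAlgebra
  letI : Algebra L A := (p.comp lR).toAlgebra
  have hpinj : Function.Injective p := by
    intro r r' hrr'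
    refine sq.ext r r' hrr' (hg ?_)
    rw [← sq.comm, ← sq.comm, hrr']
  -- the range of `g` is an `L`-submodule
  let N : Submodule L C :=
    { carrier := Set.range g
      add_mem' := by
        rintro _ _ ⟨b, rfl⟩ ⟨b', rfl⟩
        exact ⟨b + b', map_add g b b'⟩
      zero_mem' := ⟨0, map_zero g⟩
      smul_mem' := by
        rintro l _ ⟨b, rfl⟩
        refine ⟨q (lR l) * b, ?_⟩
        rw [map_mul, ← sq.comm, ← hlC, Algebra.smul_def]
        rfl }
  have hN : Submodule.span L (Set.range g) = N := by
    apply le_antisymm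
    · exact Submodule.span_le.mpr (fun c hc => hc)
    · exact fun c hc => Submodule.subset_span hc
  have hproj' : Module.Projective L (C ⧸ N) := by
    have h1 : Module.Projective L (C ⧸ Submodule.span L (Set.range g)) := hproj
    rw [hN] at h1
    exact h1
  let flin : A →ₗ[L] C :=
    { toFun := f
      map_add' := map_add f
      map_smul' := fun l a => by
        change f (l • a) = l • f a
        rw [Algebra.smul_def, Algebra.smul_def, map_mul]
        congr 1
        exact (hlC l).symm }
  let πQ : A →ₗ[L] C ⧸ N := N.mkQ ∘ₗ flin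
  have hπQ : Function.Surjective πQ := (Submodule.mkQ_surjective N).comp hf
  obtain ⟨s, hs⟩ := Module.projective_lifting_property πQ LinearMap.id hπQ
  have hs' : ∀ x, πQ (s x) = x := fun x => congrArg (fun φ => φ x) hs
  have hex : ∀ a : A, ∃ r : R, p r = a - s (πQ a) := by
    intro a
    have h0 : πQ (a - s (πQ a)) = 0 := by rw [map_sub, hs', sub_self]
    have h1 : f (a - s (πQ a)) ∈ N := (Submodule.Quotient.mk_eq_zero N).mp h0
    obtain ⟨b, hb⟩ := h1
    obtain ⟨r, hr, -⟩ := sq.glue (a - s (πQ a)) b hb.symm
    exact ⟨r, hr⟩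
  choose ρf hρf using hex
  have hπQp : ∀ r, πQ (p r) = 0 := by
    intro r
    refine (Submodule.Quotient.mk_eq_zero N).mpr ?_
    exact ⟨q r, (sq.comm r).symm⟩
  refine ⟨AddMonoidHom.mk' ρf ?_, ?_, ?_⟩
  · intro a a'
    apply hpinj
    rw [map_add, hρf, hρf, hρf, map_add, map_add]
    abel
  · intro l a
    apply hpinj
    change p (ρf (p (lR l) * a)) = p (lR l * ρf a)
    rw [map_mul, hρf, hρf]
    have h1 : p (lR l) * a = l • a := (Algebra.smul_def l a).symm
    rw [h1, map_smul, map_smul, Algebra.smul_def l (s (πQ a))]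
    change l • a - p (lR l) * s (πQ a) = p (lR l) * (a - s (πQ a))
    rw [← h1]
    ring
  · intro r
    apply hpinj
    change p (ρf (p r)) = p r
    rw [hρf, hπQp, map_zero, sub_zero]

end Groth.Agent.H87.FerrAlg
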