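import Mathlib

/-!
# A flat surjective morphism is injective on sections over every open (helper87)
-/

set_option autoImplicit false
universe u
open CategoryTheory Limits TopologicalSpace AlgebraicGeometry Opposite

namespace Groth.Agent.H87.FerrRS

set_option backward.isDefEq.respectTransparency.types false in
theorem stalkMap_injective_of_flat {X Y : Scheme.{u}} (f : X ⟶ Y) [Flat f] (x : X) :
    Function.Injective (f.stalkMap x).hom := by
  algebraize [(f.stalkMap x).hom]
  have : Module.FaithfullyFlat (Y.presheaf.stalk (f x)) (X.presheaf.stalk x) :=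
    @Module.FaithfullyFlat.of_flat_of_isLocalHom _ _ _ _ _ _ _
      (Flat.stalkMap f x) (f.toLRSHom.prop x)
  exact ‹RingHom.FaithfullyFlat _›.injective

set_option backward.isDefEq.respectTransparency.types false in
theorem injective_app_of_flat_of_surjective {X Y : Scheme.{u}} (f : X ⟶ Y) [Flat f]
    [Surjective f] (U : Y.Opens) : Function.Injective (f.app U).hom := by
  intro s t hst
  apply TopCat.Presheaf.section_ext Y.sheaf U s t
  intro y hy
  obtain ⟨x, rfl⟩ := f.surjective y
  apply stalkMap_injective_of_flat f x
  have h1 := f.germ_stalkMap U x hy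
  have h2 := congrArg (fun φ => φ.hom s) h1
  have h3 := congrArg (fun φ => φ.hom t) h1
  simp only [CommRingCat.hom_comp, RingHom.comp_apply] at h2 h3
  exact h2.trans ((congrArg _ hst).trans h3.symm)



theorem injective_appLE_of_eq {X Y : Scheme.{u}} (f : X ⟶ Y) (U : Y.Opens) (V : X.Opens)
    (e : V = f ⁻¹ᵁ U) (hle : V ≤ f ⁻¹ᵁ U) (hinj : Function.Injective (f.app U).hom) :
    Function.Injective (f.appLE U V hle).hom := by
  subst e
  rw [← Scheme.Hom.app_eq_appLE]
  exact hinj

end Groth.Agent.H87.FerrRS
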