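import Mathlib
import Groth.Agent.H87.FerrScheme
import Groth.Agent.H87.FerrMatch

/-!
# The covering hypothesis from the "standard" local hypothesis over a base (helper87)

`covered_of_std`: with `t : T ⟶ Y` affine, `ι : Z ⟶ X` a closed immersion, `ι ≫ f = ξ ≫ t`, and
every point of `Y` having an affine open neighbourhood `U` and an affine open `V ⊆ f⁻¹U` of `X`
containing `ι (Z|_U)`, the LRS pushout of `ι`, `ξ` is covered by opens with affine preimages.
-/

set_option autoImplicit false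
open CategoryTheory Limits TopologicalSpace AlgebraicGeometry Opposite

namespace Groth.Agent.H87.FerrStd

universe u

theorem covered_of_std {X Y T Z : Scheme.{u}} (f : X ⟶ Y) (t : T ⟶ Y) (ξ : Z ⟶ T) (ι : Z ⟶ X)
    [IsAffineHom t] [IsClosedImmersion ι] (hsq : ι ≫ f = ξ ≫ t)
    (hstd : ∀ y : Y, ∃ U : Y.Opens, IsAffineOpen U ∧ y ∈ U ∧ ∃ V : X.Opens, IsAffineOpen V ∧
      V ≤ f ⁻¹ᵁ U ∧ ∀ z : Z, (ξ ≫ t).base z ∈ U → ι.base z ∈ V)
    {P : LocallyRingedSpace.{u}} {a : X.toLocallyRingedSpace ⟶ P}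
    {b : T.toLocallyRingedSpace ⟶ P} (h : IsPushout ι.toLRSHom ξ.toLRSHom a b) :
    FerrScheme.Covered a b := by
  have hpair : ∀ y : Y, ∃ (V : X.Opens) (W : T.Opens), IsAffineOpen V ∧ IsAffineOpen W ∧
      ι ⁻¹ᵁ V = ξ ⁻¹ᵁ W ∧ (∀ τ : T, t.base τ = y → τ ∈ W) ∧
      (∀ z : Z, (ξ ≫ t).base z = y → ι.base z ∈ V) := by
    intro y
    obtain ⟨U, hU, hyU, V, hV, hVU, hZV⟩ := hstd y
    refine ⟨V, t ⁻¹ᵁ U, hV, hU.preimage t, ?_, ?_, ?_⟩
    · ext z
      constructor
      · intro hz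
        have h1 : ι.base z ∈ f ⁻¹ᵁ U := hVU hz
        have h2 : (ι ≫ f).base z ∈ U := h1
        rw [hsq] at h2
        exact h2
      · intro hz
        exact hZV z hz
    · intro τ hτ
      change t.base τ ∈ U
      rw [hτ]
      exact hyU
    · intro z hz
      apply hZV z
      rw [hz]
      exact hyU
  apply FerrScheme.covered_of_pairs h
  · intro x
    by_cases hx : x ∈ Set.range ι.base
    · obtain ⟨z, rfl⟩ := hx
      obtain ⟨V, W, hV, hW, hVW, -, hz⟩ := hpair ((ξ ≫ t).base z)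
      exact ⟨V, W, hV, hW, hVW, hz z rfl⟩
    · exact FerrMatch.exists_matched_left ι ξ x hx
  · intro τ
    obtain ⟨V, W, hV, hW, hVW, hτ, -⟩ := hpair (t.base τ)
    exact ⟨V, W, hV, hW, hVW, hτ τ rfl⟩

end Groth.Agent.H87.FerrStd
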