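import Mathlib
import Groth.Agent.H87.FerrOpens
import Groth.Agent.H87.FerrStd
import Groth.Agent.H87.FerrPinchProj
import Groth.Agent.H87.FerrRS2
import Groth.Agent.H87.FerrMorph

/-!
# The local retraction hypothesis from a projective cokernel (helper87)

In the situation of a Ferrand pushout `P` of `ι : Z ⟶ X` (closed immersion) and `ξ : Z ⟶ T`
(faithfully flat) over a base `Y` (with `T` affine over `Y` and the standard local hypothesis),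
if the cokernel of `t_* O_T → (ξ t)_* O_Z` is projective over every affine open of `Y`, then `P`
is covered by affine opens `W` over which `Γ(P, W) → Γ(X, a⁻¹W)` has a linear retraction.
-/

set_option autoImplicit false
open CategoryTheory Limits TopologicalSpace AlgebraicGeometry Opposite

namespace Groth.Agent.H87.FerrPinchBC

universe u
open Groth.Agent.H87.FerrAlg Groth.Agent.H87.FerrMorph Groth.Agent.H87.FerrLRS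
  Groth.Agent.H87.FerrScheme

set_option backward.isDefEq.respectTransparency.types false in
set_option maxHeartbeats 1600000 in
theorem hloc_of_cokerProjective {X Y T Z : Scheme.{u}} (f : X ⟶ Y) (t : T ⟶ Y) (ξ : Z ⟶ T)
    (ι : Z ⟶ X) [IsAffineHom t] [IsClosedImmersion ι] (hsq : ι ≫ f = ξ ≫ t)
    (hstd : ∀ y : Y, ∃ U : Y.Opens, IsAffineOpen U ∧ y ∈ U ∧ ∃ V : X.Opens, IsAffineOpen V ∧
      V ≤ f ⁻¹ᵁ U ∧ ∀ z : Z, (ξ ≫ t).base z ∈ U → ι.base z ∈ V)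
    {P : Scheme.{u}} (a : X ⟶ P) (b : T ⟶ P) (hP : IsPushout ι ξ a b)
    [Flat ξ] [Surjective ξ]
    (hv : ∀ U : Y.affineOpens, @Pinch.CokerProjective Γ(Y, U) Γ(Z, (ξ ≫ t) ⁻¹ᵁ U) Γ(T, t ⁻¹ᵁ U)
      _ _ _ ((ξ ≫ t).app U).hom.toAlgebra (ξ.app (t ⁻¹ᵁ U)).hom)
    (p : P ⟶ Y) (hap : a ≫ p = f) (hbp : b ≫ p = t) :
    ∀ x : P, ∃ (U : Y.Opens) (W : P.Opens) (eW : W ≤ p ⁻¹ᵁ U), IsAffineOpen U ∧
      IsAffineOpen W ∧ x ∈ W ∧ ∃ ρ₀ : Γ(X, a ⁻¹ᵁ W) →+ Γ(P, W),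
        (∀ l a', ρ₀ ((a.app W).hom ((p.appLE U W eW).hom l) * a') =
          (p.appLE U W eW).hom l * ρ₀ a') ∧ ∀ r, ρ₀ ((a.app W).hom r) = r := by
  subst hap hbp
  have h : IsPushout ι.toLRSHom ξ.toLRSHom (pushout.inl ι.toLRSHom ξ.toLRSHom)
      (pushout.inr ι.toLRSHom ξ.toLRSHom) := IsPushout.of_hasPushout _ _
  have hcov := FerrStd.covered_of_std (a ≫ p) (b ≫ p) ξ ι hsq hstd h
  have core : ∀ (U : Y.Opens) (W : P.Opens) (eW : W ≤ p ⁻¹ᵁ U) (_ : IsAffineOpen (a ⁻¹ᵁ W))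
      (_ : Function.Injective
        (ξ.appLE (b ⁻¹ᵁ W) (ι ⁻¹ᵁ a ⁻¹ᵁ W) (preimage_le_of_isPushout hP W)).hom)
      (lC : Γ(Y, U) →+* Γ(Z, ι ⁻¹ᵁ a ⁻¹ᵁ W))
      (_ : ∀ l, lC l = (ι.app (a ⁻¹ᵁ W)).hom ((a.app W).hom ((p.appLE U W eW).hom l)))
      (_ : @Pinch.CokerProjective Γ(Y, U) Γ(Z, ι ⁻¹ᵁ a ⁻¹ᵁ W) Γ(T, b ⁻¹ᵁ W) _ _ _ lC.toAlgebra
        (ξ.appLE (b ⁻¹ᵁ W) (ι ⁻¹ᵁ a ⁻¹ᵁ W) (preimage_le_of_isPushout hP W)).hom),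
      ∃ ρ₀ : Γ(X, a ⁻¹ᵁ W) →+ Γ(P, W),
        (∀ l a', ρ₀ ((a.app W).hom ((p.appLE U W eW).hom l) * a') =
          (p.appLE U W eW).hom l * ρ₀ a') ∧ ∀ r, ρ₀ ((a.app W).hom r) = r := by
    intro U W eW hWa hg lC hlC hproj
    have sq := isFibSq_of_isPushout' h hcov hP W
    exact sq.exists_retraction (ι.app_surjective _ hWa) hg (p.appLE U W eW).hom lC hlC hproj
  have caseB : ∀ τ : T, ∃ (U : Y.Opens) (W : P.Opens) (eW : W ≤ p ⁻¹ᵁ U), IsAffineOpen U ∧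
      IsAffineOpen W ∧ b.base τ ∈ W ∧ ∃ ρ₀ : Γ(X, a ⁻¹ᵁ W) →+ Γ(P, W),
        (∀ l a', ρ₀ ((a.app W).hom ((p.appLE U W eW).hom l) * a') =
          (p.appLE U W eW).hom l * ρ₀ a') ∧ ∀ r, ρ₀ ((a.app W).hom r) = r := by
    intro τ
    obtain ⟨U, hU, hyU, V, hV, hVU, hZV⟩ := hstd ((b ≫ p).base τ)
    have hUV : ι ⁻¹ᵁ V = ξ ⁻¹ᵁ ((b ≫ p) ⁻¹ᵁ U) := by
      ext z
      constructor
      · intro hz
        have h1 : ι.base z ∈ (a ≫ p) ⁻¹ᵁ U := hVU hz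
        have h2 : (ι ≫ a ≫ p).base z ∈ U := h1
        rw [hsq] at h2
        exact h2
      · intro hz
        exact hZV z hz
    obtain ⟨W, hW1, hW2, hWaff⟩ := exists_opens_of_isPushout h hcov hP V ((b ≫ p) ⁻¹ᵁ U) hUV
    have eW : W ≤ p ⁻¹ᵁ U := by
      apply le_preimage_of_isPushout h hcov hP p W U
      · rw [hW1]; exact hVU
      · rw [hW2]
    have hWa : IsAffineOpen (a ⁻¹ᵁ W) := by rw [hW1]; exact hV
    have hτ : b.base τ ∈ W := by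
      have : τ ∈ b ⁻¹ᵁ W := by rw [hW2]; exact hyU
      exact this
    refine ⟨U, W, eW, hU, hWaff hV (hU.preimage (b ≫ p)), hτ, ?_⟩
    have hOZ : ι ⁻¹ᵁ a ⁻¹ᵁ W = ξ ⁻¹ᵁ b ⁻¹ᵁ W := by
      rw [← Scheme.Hom.comp_preimage, ← Scheme.Hom.comp_preimage, hP.w]
    have hg : Function.Injective
        (ξ.appLE (b ⁻¹ᵁ W) (ι ⁻¹ᵁ a ⁻¹ᵁ W) (preimage_le_of_isPushout hP W)).hom :=
      FerrRS.injective_appLE_of_eq ξ _ _ hOZ _ (FerrRS.injective_app_of_flat_of_surjective ξ _)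
    have le' : ι ⁻¹ᵁ a ⁻¹ᵁ W ≤ (ξ ≫ b ≫ p) ⁻¹ᵁ U := by
      rw [← hsq]
      exact fun z hz => eW hz
    -- transport of the projectivity hypothesis
    have hv' : ∀ (O : T.Opens) (OZ : Z.Opens) (_ : O = (b ≫ p) ⁻¹ᵁ U) (_ : OZ = ξ ⁻¹ᵁ O)
        (le : OZ ≤ ξ ⁻¹ᵁ O) (le' : OZ ≤ (ξ ≫ b ≫ p) ⁻¹ᵁ U),
        @Pinch.CokerProjective Γ(Y, U) Γ(Z, OZ) Γ(T, O) _ _ _
          ((ξ ≫ b ≫ p).appLE U OZ le').hom.toAlgebra (ξ.appLE O OZ le).hom := by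
      rintro O OZ rfl rfl le le'
      have e1 : (ξ ≫ b ≫ p).appLE U (ξ ⁻¹ᵁ (b ≫ p) ⁻¹ᵁ U) le' = (ξ ≫ b ≫ p).app U :=
        (Scheme.Hom.app_eq_appLE (f := ξ ≫ b ≫ p) (U := U)).symm
      have e2 : ξ.appLE ((b ≫ p) ⁻¹ᵁ U) (ξ ⁻¹ᵁ (b ≫ p) ⁻¹ᵁ U) le = ξ.app ((b ≫ p) ⁻¹ᵁ U) :=
        (Scheme.Hom.app_eq_appLE (f := ξ)).symm
      rw [e1, e2]
      exact hv ⟨U, hU⟩
    refine core U W eW hWa hg ((ξ ≫ b ≫ p).appLE U (ι ⁻¹ᵁ a ⁻¹ᵁ W) le').hom ?_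
      (hv' (b ⁻¹ᵁ W) (ι ⁻¹ᵁ a ⁻¹ᵁ W) hW2 hOZ _ le')
    intro l
    have h1 : (ξ ≫ b ≫ p).appLE U (ι ⁻¹ᵁ a ⁻¹ᵁ W) le' =
        p.appLE U W eW ≫ a.app W ≫ ι.app (a ⁻¹ᵁ W) := by
      rw [Scheme.Hom.app_eq_appLE (f := a), Scheme.Hom.app_eq_appLE (f := ι),
        Scheme.Hom.appLE_comp_appLE, Scheme.Hom.appLE_comp_appLE]
      exact appLE_congr_hom hsq.symm _ _ _
    exact ConcreteCategory.congr_hom h1 l
  intro x
  rcases joint_surjective_of_isPushout' h hcov hP x with ⟨x₀, rfl⟩ | ⟨τ, rfl⟩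
  swap
  · exact caseB τ
  by_cases hx₀ : x₀ ∈ Set.range ι.base
  · obtain ⟨z, rfl⟩ := hx₀
    have : a.base (ι.base z) = b.base (ξ.base z) := by
      rw [← Scheme.Hom.comp_apply, ← Scheme.Hom.comp_apply, hP.w]
    rw [this]
    exact caseB (ξ.base z)
  · -- away from `Z`
    obtain ⟨U, hU, hyU, -⟩ := Opens.isBasis_iff_nbhd.mp Y.isBasis_affineOpens
      (Opens.mem_top ((a ≫ p).base x₀))
    have hcl : IsClosed (Set.range ι.base) := ι.isClosedEmbedding.isClosed_range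
    have hopen : IsOpen (((a ≫ p) ⁻¹ᵁ U : X.Opens) ∩ (Set.range ι.base)ᶜ : Set X) :=
      ((a ≫ p) ⁻¹ᵁ U).2.inter hcl.isOpen_compl
    obtain ⟨_, ⟨V, hV, rfl⟩, hxV, hVO⟩ := X.isBasis_affineOpens.exists_subset_of_mem_open
      (show x₀ ∈ (((a ≫ p) ⁻¹ᵁ U : X.Opens) ∩ (Set.range ι.base)ᶜ : Set X) from ⟨hyU, hx₀⟩) hopen
    have hUV : ι ⁻¹ᵁ V = ξ ⁻¹ᵁ (⊥ : T.Opens) := by
      ext z
      constructor
      · intro hz
        exact ((hVO hz).2 ⟨z, rfl⟩).elim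
      · intro hz
        exact hz.elim
    obtain ⟨W, hW1, hW2, hWaff⟩ := exists_opens_of_isPushout h hcov hP V ⊥ hUV
    have eW : W ≤ p ⁻¹ᵁ U := by
      apply le_preimage_of_isPushout h hcov hP p W U
      · rw [hW1]; exact fun z hz => (hVO hz).1
      · rw [hW2]; exact bot_le
    have hWa : IsAffineOpen (a ⁻¹ᵁ W) := by rw [hW1]; exact hV
    have hx : a.base x₀ ∈ W := by
      have : x₀ ∈ a ⁻¹ᵁ W := by rw [hW1]; exact hxV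
      exact this
    refine ⟨U, W, eW, hU, hWaff hV (isAffineOpen_bot T), hx, ?_⟩
    have hsubT : ∀ O : T.Opens, O = ⊥ → Subsingleton Γ(T, O) := by
      rintro _ rfl; infer_instance
    have hsubZ : ∀ O : Z.Opens, O = ⊥ → Subsingleton Γ(Z, O) := by
      rintro _ rfl; infer_instance
    have hB : Subsingleton Γ(T, b ⁻¹ᵁ W) := hsubT _ hW2
    have hC : Subsingleton Γ(Z, ι ⁻¹ᵁ a ⁻¹ᵁ W) := hsubZ _ (by rw [hW1, hUV]; rfl)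
    refine core U W eW hWa (Function.injective_of_subsingleton _)
      ((ι.app (a ⁻¹ᵁ W)).hom.comp ((a.app W).hom.comp (p.appLE U W eW).hom)) (fun _ => rfl) ?_
    letI : Algebra Γ(Y, U) Γ(Z, ι ⁻¹ᵁ a ⁻¹ᵁ W) :=
      ((ι.app (a ⁻¹ᵁ W)).hom.comp ((a.app W).hom.comp (p.appLE U W eW).hom)).toAlgebra
    change Module.Projective Γ(Y, U) (Γ(Z, ι ⁻¹ᵁ a ⁻¹ᵁ W) ⧸ _)
    have : Subsingleton (Γ(Z, ι ⁻¹ᵁ a ⁻¹ᵁ W) ⧸ Submodule.span Γ(Y, U) (Set.range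
        (ξ.appLE (b ⁻¹ᵁ W) (ι ⁻¹ᵁ a ⁻¹ᵁ W) (preimage_le_of_isPushout hP W)).hom)) :=
      Function.Surjective.subsingleton (Submodule.mkQ_surjective _)
    infer_instance

end Groth.Agent.H87.FerrPinchBC
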