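import Mathlib
import Groth.Agent.H89.SchPushout
import Groth.Agent.H87.FerrBC
import Groth.Agent.H87.FerrBC2
import Groth.Agent.H87.FerrOver
import Groth.Agent.H87.FerrFinite
import Groth.Agent.H87.FerrGeneral

/-!
# Ringed-space pushouts of schemes versus scheme pushouts; base change over a base (helper87)

* `isFibSq_of_rsPushout`: sections of a scheme square that is a pushout of ringed spaces form a
  fibre square of rings.
* `isPushout_of_rsPushout`: such a square (closed immersion `ι`, affine `π`, `ι'`) is a pushout of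
  schemes.
* `rsPushout_of_isPushout`: conversely a scheme pushout of this shape is a pushout of ringed spaces.
* `isPushout_overPullback`: base change of such a pushout over `S` along any `T ⟶ S`, when the
  corner `Z` is flat over `S`.
-/

set_option autoImplicit false
universe u
open CategoryTheory Limits TopologicalSpace AlgebraicGeometry Opposite

namespace Groth.Agent.H87.FerrRS

open Groth.Agent.H87.FerrAlg Groth.Agent.H87.FerrLRS Groth.Agent.H87.FerrScheme

/-- the forgetful functor from schemes to ringed spaces -/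
noncomputable abbrev G : Scheme.{u} ⥤ SheafedSpace.{_, _, u} CommRingCat.{u} :=
  Scheme.forgetToLocallyRingedSpace ⋙ LocallyRingedSpace.forgetToSheafedSpace

section RS

variable {X Z Z' X' : Scheme.{u}} {ι : Z ⟶ X} {q : Z ⟶ Z'} {π : X ⟶ X'} {ι' : Z' ⟶ X'}

theorem isFibSq_of_rsPushout (hpo : IsPushout (G.map ι) (G.map q) (G.map π) (G.map ι'))
    (W : X'.Opens) (hle : ι ⁻¹ᵁ π ⁻¹ᵁ W ≤ q ⁻¹ᵁ ι' ⁻¹ᵁ W) :
    IsFibSq (π.app W).hom (ι'.app W).hom (ι.app (π ⁻¹ᵁ W)).hom
      (q.appLE (ι' ⁻¹ᵁ W) (ι ⁻¹ᵁ π ⁻¹ᵁ W) hle).hom := by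
  have hcomm : ι ≫ π = q ≫ ι' := Groth.Agent.H89.SchPushout.comm hpo
  have hop : ι ⁻¹ᵁ π ⁻¹ᵁ W = q ⁻¹ᵁ ι' ⁻¹ᵁ W := by
    rw [← Scheme.Hom.comp_preimage, ← Scheme.Hom.comp_preimage, hcomm]
  have hq : q.appLE (ι' ⁻¹ᵁ W) (ι ⁻¹ᵁ π ⁻¹ᵁ W) hle =
      q.app (ι' ⁻¹ᵁ W) ≫ Z.presheaf.map (eqToHom hop).op := by
    rw [Scheme.Hom.appLE]
    congr 1
  have hK : π.app W ≫ ι.app (π ⁻¹ᵁ W) =
      ι'.app W ≫ q.appLE (ι' ⁻¹ᵁ W) (ι ⁻¹ᵁ π ⁻¹ᵁ W) hle := by
    rw [hq, ← Scheme.Hom.comp_app, Scheme.Hom.congr_app hcomm W, Scheme.Hom.comp_app]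
    exact Category.assoc _ _ _
  refine ⟨?_, ?_, ?_⟩
  · intro r
    have := congrArg (fun φ => φ.hom r) hK
    simpa using this
  · intro s t h1 h2
    exact Groth.Agent.H89.SchPushout.sections_ext hpo W s t h1 h2
  · intro x y hxy
    refine Groth.Agent.H89.SchPushout.sections_glue hpo W x y hop ?_
    have hid : (eqToHom hop).op ≫ eqToHom (congrArg Opposite.op hop) = 𝟙 _ := Subsingleton.elim _ _
    have h1 := congrArg (fun z => (Z.presheaf.map (eqToHom (congrArg Opposite.op hop))).hom z) hxy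
    refine h1.trans ?_
    rw [hq]
    change ((q.app (ι' ⁻¹ᵁ W) ≫ Z.presheaf.map (eqToHom hop).op) ≫
      Z.presheaf.map (eqToHom (congrArg Opposite.op hop))).hom y = _
    rw [Category.assoc, ← Functor.map_comp, hid, CategoryTheory.Functor.map_id, Category.comp_id]

theorem isPushout_of_rsPushout [IsClosedImmersion ι] [IsAffineHom π] [IsAffineHom ι']
    (hpo : IsPushout (G.map ι) (G.map q) (G.map π) (G.map ι')) : IsPushout ι q π ι' := by
  have hcomm : ι ≫ π = q ≫ ι' := Groth.Agent.H89.SchPushout.comm hpo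
  apply isPushout_of_cover π ι' hcomm
  intro x
  obtain ⟨W, hW, hx, -⟩ := Opens.isBasis_iff_nbhd.mp X'.isBasis_affineOpens (Opens.mem_top x)
  have hle : ι ⁻¹ᵁ π ⁻¹ᵁ W ≤ q ⁻¹ᵁ ι' ⁻¹ᵁ W := by
    rw [← Scheme.Hom.comp_preimage, ← Scheme.Hom.comp_preimage, hcomm]
  exact ⟨W, hx, hW, hW.preimage π, hW.preimage ι', hle, isFibSq_of_rsPushout hpo W hle⟩

theorem rsPushout_of_isPushout [IsClosedImmersion ι] [IsAffineHom π] [IsAffineHom ι']
    (hX : IsPushout ι q π ι') : IsPushout (G.map ι) (G.map q) (G.map π) (G.map ι') := by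
  have h : IsPushout ι.toLRSHom q.toLRSHom (pushout.inl ι.toLRSHom q.toLRSHom)
      (pushout.inr ι.toLRSHom q.toLRSHom) := IsPushout.of_hasPushout _ _
  have hcov := covered_of_isPushout_affine hX.w h
  obtain ⟨e, he1, he2⟩ := exists_iso_of_isPushout h hcov hX
  have h2 : IsPushout ι.toLRSHom q.toLRSHom π.toLRSHom ι'.toLRSHom := by
    refine IsPushout.of_iso h (Iso.refl _) (Iso.refl _) (Iso.refl _)
      (Scheme.forgetToLocallyRingedSpace.mapIso e) (by simp) (by simp) ?_ ?_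
    · rw [Iso.refl_hom, Category.id_comp]
      exact congrArg Scheme.Hom.toLRSHom he1
    · rw [Iso.refl_hom, Category.id_comp]
      exact congrArg Scheme.Hom.toLRSHom he2
  exact h2.map LocallyRingedSpace.forgetToSheafedSpace

end RS

section BC

variable {S X Z Z' X' : Scheme.{u}}

theorem isPushout_overPullback (fX : X ⟶ S) (fZ' : Z' ⟶ S) (fX' : X' ⟶ S) (ι : Z ⟶ X)
    (q : Z ⟶ Z') (π : X ⟶ X') (ι' : Z' ⟶ X')
    [IsClosedImmersion ι] [IsAffineHom π] [IsAffineHom ι']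
    (hq : q ≫ fZ' = ι ≫ fX) (hπ : π ≫ fX' = fX) (hι' : ι' ≫ fX' = fZ')
    (hX : IsPushout ι q π ι') [Flat (ι ≫ fX)] {T : Scheme.{u}} (g : T ⟶ S) :
    IsPushout
      ((Over.pullback g).map (Over.homMk ι rfl : Over.mk (ι ≫ fX) ⟶ Over.mk fX)).left
      ((Over.pullback g).map (Over.homMk q hq : Over.mk (ι ≫ fX) ⟶ Over.mk fZ')).left
      ((Over.pullback g).map (Over.homMk π hπ : Over.mk fX ⟶ Over.mk fX')).left
      ((Over.pullback g).map (Over.homMk ι' hι' : Over.mk fZ' ⟶ Over.mk fX')).left := by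
  have h : IsPushout ι.toLRSHom q.toLRSHom (pushout.inl ι.toLRSHom q.toLRSHom)
      (pushout.inr ι.toLRSHom q.toLRSHom) := IsPushout.of_hasPushout _ _
  have hcov := covered_of_isPushout_affine hX.w h
  have hfl : Flat (ι ≫ π ≫ fX') := by rw [hπ]; infer_instance
  have w' : ((Over.pullback g).map (Over.homMk ι rfl : Over.mk (ι ≫ fX) ⟶ Over.mk fX)).left ≫
      ((Over.pullback g).map (Over.homMk π hπ : Over.mk fX ⟶ Over.mk fX')).left =
      ((Over.pullback g).map (Over.homMk q hq : Over.mk (ι ≫ fX) ⟶ Over.mk fZ')).left ≫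
      ((Over.pullback g).map (Over.homMk ι' hι' : Over.mk fZ' ⟶ Over.mk fX')).left := by
    rw [← Over.comp_left, ← Over.comp_left, ← Functor.map_comp, ← Functor.map_comp]
    congr 2
    ext
    exact hX.w
  exact isPushout_of_baseChange_flat_corner h hcov hX fX' g
    (IsPullback.of_hasPullback fX' g)
    (FerrOver.isPullback_map_left g (Over.homMk π hπ : Over.mk fX ⟶ Over.mk fX'))
    (FerrOver.isPullback_map_left g (Over.homMk ι' hι' : Over.mk fZ' ⟶ Over.mk fX'))
    (FerrOver.isPullback_map_left g (Over.homMk ι rfl : Over.mk (ι ≫ fX) ⟶ Over.mk fX))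
    (FerrOver.isPullback_map_left g (Over.homMk q hq : Over.mk (ι ≫ fX) ⟶ Over.mk fZ'))
    w'

end BC

end Groth.Agent.H87.FerrRS
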