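import Mathlib

open CategoryTheory Limits

universe v u

namespace Groth.Agent.H87.FinGen

variable (I : Type u) [Category.{v} I] [Finite I]

noncomputable def eI : I ≃ Fin (Nat.card I) := Finite.equivFin I

variable {I}
variable (gen : Finset (Σ x y : I, x ⟶ y))

noncomputable def eG : gen ≃ Fin gen.card := gen.equivFin

noncomputable def gsrc (r : Fin gen.card) : I := ((eG gen).symm r).1.1
noncomputable def gtgt (r : Fin gen.card) : I := ((eG gen).symm r).1.2.1
noncomputable def ghom (r : Fin gen.card) : gsrc gen r ⟶ gtgt gen r := ((eG gen).symm r).1.2.2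

noncomputable abbrev shape : MulticospanShape.{0, 0} where
  L := Fin (Nat.card I)
  R := Fin gen.card
  fst r := eI I (gsrc gen r)
  snd r := eI I (gtgt gen r)

noncomputable def index : MulticospanIndex (shape gen) I where
  left i := (eI I).symm i
  right r := gtgt gen r
  fst r := eqToHom (by simp) ≫ ghom gen r
  snd r := eqToHom (by simp)

noncomputable def F : WalkingMulticospan (shape gen) ⥤ I := (index gen).multicospan

noncomputable instance : Fintype (shape gen).L := inferInstanceAs (Fintype (Fin _))
noncomputable instance : Fintype (shape gen).R := inferInstanceAs (Fintype (Fin _))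
noncomputable instance : DecidableEq (shape gen).L := inferInstanceAs (DecidableEq (Fin _))
noncomputable instance : DecidableEq (shape gen).R := inferInstanceAs (DecidableEq (Fin _))

noncomputable instance finCat : FinCategory (WalkingMulticospan (shape gen)) := inferInstance

/-- the left object attached to `x` -/
noncomputable abbrev Lo (x : I) : WalkingMulticospan (shape gen) := WalkingMulticospan.left (eI I x)

theorem F_Lo (x : I) : (F gen).obj (Lo gen x) = x := by
  show (eI I).symm (eI I x) = x
  simp

theorem F_right (r : Fin gen.card) : (F gen).obj (WalkingMulticospan.right r) = gtgt gen r := rfl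

theorem F_left (i : Fin (Nat.card I)) :
    (F gen).obj (WalkingMulticospan.left (J := shape gen) i) = (eI I).symm i := rfl

/-- the first leg, from `Lo (gsrc r)` to `right r` -/
noncomputable def legFst (r : Fin gen.card) :
    Lo gen (gsrc gen r) ⟶ (WalkingMulticospan.right r : WalkingMulticospan (shape gen)) :=
  WalkingMulticospan.Hom.fst (J := shape gen) r

noncomputable def legSnd (r : Fin gen.card) :
    Lo gen (gtgt gen r) ⟶ (WalkingMulticospan.right r : WalkingMulticospan (shape gen)) :=
  WalkingMulticospan.Hom.snd (J := shape gen) r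

theorem F_legFst (r : Fin gen.card) :
    (F gen).map (legFst gen r) = eqToHom (F_Lo gen _) ≫ ghom gen r := by
  exact (MulticospanIndex.multicospan_map_fst (index gen) r).trans rfl

theorem F_legSnd (r : Fin gen.card) :
    (F gen).map (legSnd gen r) = eqToHom (F_Lo gen _) := by
  exact (MulticospanIndex.multicospan_map_snd (index gen) r).trans rfl


variable {gen}

/-! ### Finality -/

/-- the base object of the structured arrow category -/
noncomputable def base (d x : I) (f : d ⟶ x) : StructuredArrow d (F gen) :=
  StructuredArrow.mk (Y := Lo gen x) (f ≫ eqToHom (F_Lo gen x).symm)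

theorem zig_gen (d : I) (r : Fin gen.card) (f : d ⟶ gsrc gen r) :
    Zigzag (base (gen := gen) d _ f) (base d _ (f ≫ ghom gen r)) := by
  let m : StructuredArrow d (F gen) :=
    StructuredArrow.mk (Y := (WalkingMulticospan.right r : WalkingMulticospan (shape gen)))
      (f ≫ ghom gen r)
  refine Zigzag.of_hom_inv (j₂ := m) (StructuredArrow.homMk (legFst gen r) ?_)
    (StructuredArrow.homMk (legSnd gen r) ?_)
  · change (f ≫ eqToHom (F_Lo gen _).symm) ≫ (eqToHom (F_Lo gen _) ≫ ghom gen r) = f ≫ ghom gen r
    simp
  · change ((f ≫ ghom gen r) ≫ eqToHom (F_Lo gen _).symm) ≫ eqToHom (F_Lo gen _) = f ≫ ghom gen r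
    simp

/-- the multiplicative property used for finality -/
def PF (gen : Finset (Σ x y : I, x ⟶ y)) (d : I) : MorphismProperty I :=
  fun x y m => ∀ f : d ⟶ x, Zigzag (base (gen := gen) d x f) (base d y (f ≫ m))

instance (d : I) : (PF gen d).IsMultiplicative where
  id_mem X := fun f => by simp only [Category.comp_id]; exact Relation.ReflTransGen.refl
  comp_mem m n hm hn := fun f => by
    have h1 := hm f
    have h2 := hn (f ≫ m)
    rw [Category.assoc] at h2
    exact h1.trans h2

theorem PF_gen (d : I) (a) (ha : a ∈ gen) : PF gen d a.2.2 := by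
  obtain ⟨r, hr⟩ := (eG gen).symm.surjective ⟨a, ha⟩
  have : a = ((eG gen).symm r).1 := by rw [hr]
  subst this
  intro f
  exact zig_gen d r f

theorem zig_all
    (hgen : ∀ P : MorphismProperty I, P.IsMultiplicative → (∀ a ∈ gen, P a.2.2) → P = ⊤)
    (d : I) (Y : WalkingMulticospan (shape gen)) (f : d ⟶ (F gen).obj Y) :
    Zigzag (base (gen := gen) d d (𝟙 d)) (StructuredArrow.mk f) := by
  have hP : PF gen d = ⊤ := hgen _ inferInstance (PF_gen d)
  have key : ∀ (x : I) (f : d ⟶ x), Zigzag (base (gen := gen) d d (𝟙 d)) (base d x f) := by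
    intro x f
    have : PF gen d f := by rw [hP]; trivial
    simpa using this (𝟙 d)
  cases Y with
  | left i =>
    obtain ⟨x, rfl⟩ := (eI I).surjective i
    have h := key _ (f ≫ eqToHom (F_Lo gen x))
    convert h using 1
    change StructuredArrow.mk f =
      StructuredArrow.mk ((f ≫ eqToHom (F_Lo gen x)) ≫ eqToHom (F_Lo gen x).symm)
    congr 1
    simp
  | right r =>
    have h := key _ (f ≫ eqToHom (F_right gen r))
    refine h.trans (Zigzag.of_hom (StructuredArrow.homMk (legSnd gen r) ?_))
    change ((f ≫ eqToHom (F_right gen r)) ≫ eqToHom (F_Lo gen (gtgt gen r)).symm) ≫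
      eqToHom ((F_Lo gen (gtgt gen r)).trans (F_right gen r).symm) = f
    simp

theorem final_F
    (hgen : ∀ P : MorphismProperty I, P.IsMultiplicative → (∀ a ∈ gen, P a.2.2) → P = ⊤) :
    (F gen).Final := by
  refine ⟨fun d => ?_⟩
  have key2 : ∀ j : StructuredArrow d (F gen), Zigzag (base (gen := gen) d d (𝟙 d)) j := by
    intro j
    rw [StructuredArrow.eq_mk j]
    exact zig_all hgen d _ _
  have : Nonempty (StructuredArrow d (F gen)) := ⟨base d d (𝟙 d)⟩
  exact zigzag_isConnected fun j₁ j₂ => (key2 j₁).symm.trans (key2 j₂)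


/-! ### Initiality -/

/-- the base object of the costructured arrow category -/
noncomputable def cobase (d x : I) (f : x ⟶ d) : CostructuredArrow (F gen) d :=
  CostructuredArrow.mk (Y := Lo gen x) (eqToHom (F_Lo gen x) ≫ f)

theorem cozig_gen (d : I) (r : Fin gen.card) (f : gtgt gen r ⟶ d) :
    Zigzag (cobase (gen := gen) d _ (ghom gen r ≫ f)) (cobase d _ f) := by
  let m : CostructuredArrow (F gen) d :=
    CostructuredArrow.mk (Y := (WalkingMulticospan.right r : WalkingMulticospan (shape gen))) f
  refine Zigzag.of_hom_inv (j₂ := m) (CostructuredArrow.homMk (legFst gen r) ?_)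
    (CostructuredArrow.homMk (legSnd gen r) ?_)
  · change (eqToHom (F_Lo gen _) ≫ ghom gen r) ≫ f = eqToHom (F_Lo gen _) ≫ (ghom gen r ≫ f)
    simp
  · change eqToHom (F_Lo gen _) ≫ f = eqToHom (F_Lo gen _) ≫ f
    rfl

/-- the multiplicative property used for initiality -/
def PI (gen : Finset (Σ x y : I, x ⟶ y)) (d : I) : MorphismProperty I :=
  fun x y m => ∀ f : y ⟶ d, Zigzag (cobase (gen := gen) d x (m ≫ f)) (cobase d y f)

instance (d : I) : (PI gen d).IsMultiplicative where
  id_mem X := fun f => by simp only [Category.id_comp]; exact Relation.ReflTransGen.refl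
  comp_mem m n hm hn := fun f => by
    have h1 := hn f
    have h2 := hm (n ≫ f)
    rw [← Category.assoc] at h2
    exact h2.trans h1

theorem PI_gen (d : I) (a) (ha : a ∈ gen) : PI gen d a.2.2 := by
  obtain ⟨r, hr⟩ := (eG gen).symm.surjective ⟨a, ha⟩
  have : a = ((eG gen).symm r).1 := by rw [hr]
  subst this
  intro f
  exact cozig_gen d r f

theorem cozig_all
    (hgen : ∀ P : MorphismProperty I, P.IsMultiplicative → (∀ a ∈ gen, P a.2.2) → P = ⊤)
    (d : I) (Y : WalkingMulticospan (shape gen)) (f : (F gen).obj Y ⟶ d) :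
    Zigzag (CostructuredArrow.mk f) (cobase (gen := gen) d d (𝟙 d)) := by
  have hP : PI gen d = ⊤ := hgen _ inferInstance (PI_gen d)
  have key : ∀ (x : I) (f : x ⟶ d), Zigzag (cobase (gen := gen) d x f) (cobase d d (𝟙 d)) := by
    intro x f
    have : PI gen d f := by rw [hP]; trivial
    simpa using this (𝟙 d)
  cases Y with
  | left i =>
    obtain ⟨x, rfl⟩ := (eI I).surjective i
    have h := key _ (eqToHom (F_Lo gen x).symm ≫ f)
    convert h using 1
    change CostructuredArrow.mk f =
      CostructuredArrow.mk (eqToHom (F_Lo gen x) ≫ (eqToHom (F_Lo gen x).symm ≫ f))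
    congr 1
    simp
  | right r =>
    have h := key _ (eqToHom (F_right gen r).symm ≫ f)
    refine Relation.ReflTransGen.trans ?_ h
    refine Zigzag.of_inv (CostructuredArrow.homMk (legSnd gen r) ?_)
    change eqToHom ((F_Lo gen (gtgt gen r)).trans (F_right gen r).symm) ≫ f =
      eqToHom (F_Lo gen (gtgt gen r)) ≫ (eqToHom (F_right gen r).symm ≫ f)
    simp

theorem initial_F
    (hgen : ∀ P : MorphismProperty I, P.IsMultiplicative → (∀ a ∈ gen, P a.2.2) → P = ⊤) :
    (F gen).Initial := by
  refine ⟨fun d => ?_⟩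
  have key2 : ∀ j : CostructuredArrow (F gen) d, Zigzag j (cobase (gen := gen) d d (𝟙 d)) := by
    intro j
    rw [CostructuredArrow.eq_mk j]
    exact cozig_all hgen d _ _
  have : Nonempty (CostructuredArrow (F gen) d) := ⟨cobase d d (𝟙 d)⟩
  exact zigzag_isConnected fun j₁ j₂ => (key2 j₁).trans (key2 j₂).symm

theorem main {I : Type u} [Category.{v} I] [Finite I]
    (gen : Finset (Σ x y : I, x ⟶ y))
    (hgen : ∀ P : MorphismProperty I, P.IsMultiplicative → (∀ a ∈ gen, P a.2.2) → P = ⊤) :
    ∃ (J : Type) (_ : SmallCategory J) (_ : FinCategory J) (F : J ⥤ I),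
      F.Final ∧ F.Initial ∧ (IsConnected J ↔ IsConnected I) ∧ (Nonempty J ↔ Nonempty I) := by
  refine ⟨WalkingMulticospan (shape gen), inferInstance, finCat gen, F gen, final_F hgen,
    initial_F hgen, ?_, ?_⟩
  · haveI := final_F hgen
    exact Functor.isConnected_iff_of_final (F gen)
  · exact ⟨fun ⟨j⟩ => ⟨(F gen).obj j⟩, fun ⟨x⟩ => ⟨Lo gen x⟩⟩

end Groth.Agent.H87.FinGen
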