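import Mathlib.RingTheory.Henselian
import Mathlib.AlgebraicGeometry.Morphisms.QuasiFinite
import Mathlib.AlgebraicGeometry.Morphisms.Finite
import Mathlib.AlgebraicGeometry.Morphisms.Separated
import Mathlib.AlgebraicGeometry.Morphisms.FiniteType
import Mathlib.AlgebraicGeometry.Morphisms.UniversallyClosed
import Mathlib.AlgebraicGeometry.PullbackCarrier

set_option autoImplicit false
universe u

open CategoryTheory CategoryTheory.Limits AlgebraicGeometry

namespace Groth.Agent.H87

/-- A scheme `P` with a closed map to the spectrum of a local ring maps into every clopen subset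
of `Y` (over the same base) which contains the closed fibre. -/
theorem mem_of_isClosedMap (R : Type u) [CommRing R] [IsLocalRing R] {P Y : Scheme.{u}}
    (p : P ⟶ Spec (CommRingCat.of R)) (hp : IsClosedMap p.base)
    (f' : Y ⟶ Spec (CommRingCat.of R)) (h : P ⟶ Y) (hh : h ≫ f' = p)
    (WY : Y.Opens)
    (hWY : ∀ y : ↥Y, f'.base y = IsLocalRing.closedPoint R → y ∈ WY) (v : ↥P) :
    h.base v ∈ WY := by
  by_contra hv
  let V' : Set ↥P := h.base ⁻¹' (WY : Set ↥Y)ᶜ
  have hV' : IsClosed V' := (WY.isOpen.isClosed_compl).preimage h.base.hom.continuous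
  have hC : IsClosed (p.base '' V') := hp _ hV'
  have hvV : v ∈ V' := hv
  have hmem : IsLocalRing.closedPoint R ∈ p.base '' V' := by
    by_contra hcon
    let U : TopologicalSpace.Opens (PrimeSpectrum R) := ⟨(p.base '' V')ᶜ, hC.isOpen_compl⟩
    have hU : IsLocalRing.closedPoint R ∈ U := hcon
    rw [IsLocalRing.closedPoint_mem_iff] at hU
    have : p.base v ∈ U := by rw [hU]; trivial
    exact this ⟨v, hvV, rfl⟩
  obtain ⟨w, hwV, hw⟩ := hmem
  apply hwV
  apply hWY
  rw [← hw, ← hh]
  rfl

end Groth.Agent.H87
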