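import Mathlib

set_option autoImplicit false
universe u

open AlgebraicGeometry CategoryTheory TopologicalSpace

namespace Groth.Agent.H87.FinStalk

variable {Z X : Scheme.{u}} (g : Z ⟶ X)

/-- The comparison map `(g_* O_Z)_x ⟶ O_{Z,z}` for `z` over `x`. -/
noncomputable def Θ {x : X} (z : Z) (hz : g.base z = x) :
    (g.base _* Z.presheaf).stalk x ⟶ Z.presheaf.stalk z :=
  ((g.base _* Z.presheaf).stalkCongr (Inseparable.of_eq hz)).inv ≫
    TopCat.Presheaf.stalkPushforward CommRingCat g.base Z.presheaf z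

lemma germ_Θ {x : X} (z : Z) (hz : g.base z = x) (U : X.Opens) (hx : x ∈ U) :
    (g.base _* Z.presheaf).germ U x hx ≫ Θ g z hz =
      Z.presheaf.germ (g ⁻¹ᵁ U) z (by subst hz; exact hx) := by
  subst hz
  unfold Θ
  have h1 : ((g.base _* Z.presheaf).stalkCongr (Inseparable.of_eq (rfl : g.base z = g.base z))).inv =
      (g.base _* Z.presheaf).stalkSpecializes (specializes_refl _) := rfl
  rw [h1, TopCat.Presheaf.stalkSpecializes_refl, Category.id_comp]
  exact TopCat.Presheaf.stalkPushforward_germ CommRingCat g.base Z.presheaf U z hx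

/-- The structure map `O_{X,x} ⟶ (g_* O_Z)_x`. -/
noncomputable def ψ (x : X) : X.presheaf.stalk x ⟶ (g.base _* Z.presheaf).stalk x :=
  (TopCat.Presheaf.stalkFunctor CommRingCat x).map g.c

lemma germ_ψ (x : X) (U : X.Opens) (hx : x ∈ U) :
    X.presheaf.germ U x hx ≫ ψ g x = g.app U ≫ (g.base _* Z.presheaf).germ U x hx :=
  TopCat.Presheaf.stalkFunctor_map_germ U x hx g.c

lemma ψ_isIntegral [IsFinite g] (x : X) : (ψ g x).hom.IsIntegral := by
  intro t
  obtain ⟨U, hx, s, rfl⟩ := TopCat.Presheaf.exists_germ_eq (g.base _* Z.presheaf) t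
  obtain ⟨_, ⟨W0, hW0, rfl⟩, hxW, hWU⟩ :=
    X.isBasis_affineOpens.exists_subset_of_mem_open hx U.isOpen
  obtain ⟨W, rfl⟩ : ∃ W : X.affineOpens, W.1 = W0 := ⟨⟨W0, hW0⟩, rfl⟩
  replace hWU : W.1 ≤ U := SetLike.coe_subset_coe.mp hWU
  have h1 : (g.base _* Z.presheaf).germ U x hx s =
      (g.base _* Z.presheaf).germ W.1 x hxW ((g.base _* Z.presheaf).map (homOfLE hWU).op s) :=
    (TopCat.Presheaf.germ_res_apply _ (homOfLE hWU) x hxW s).symm
  rw [h1]
  obtain ⟨p, hp, hps⟩ := (IsFinite.finite_app g W.1 W.2).to_isIntegral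
    ((g.base _* Z.presheaf).map (homOfLE hWU).op s)
  refine ⟨p.map (X.presheaf.germ W.1 x hxW).hom, hp.map _, ?_⟩
  rw [Polynomial.eval₂_map]
  have h2 : (ψ g x).hom.comp (X.presheaf.germ W.1 x hxW).hom =
      ((g.base _* Z.presheaf).germ W.1 x hxW).hom.comp (g.app W.1).hom :=
    congr($(germ_ψ g x W.1 hxW).hom)
  rw [h2, ← Polynomial.hom_eval₂, hps, map_zero]

lemma ψ_Θ_eq (z : Z) : ψ g (g.base z) ≫ Θ g z rfl = g.stalkMap z := by
  unfold ψ Θ
  have h1 : ((g.base _* Z.presheaf).stalkCongr (Inseparable.of_eq (rfl : g.base z = g.base z))).inv =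
      (g.base _* Z.presheaf).stalkSpecializes (specializes_refl _) := rfl
  rw [h1, TopCat.Presheaf.stalkSpecializes_refl, Category.id_comp]
  rfl

lemma comap_ψ_Θ {x : X} (z : Z) (hz : g.base z = x) :
    Ideal.comap (ψ g x ≫ Θ g z hz).hom (IsLocalRing.maximalIdeal (Z.presheaf.stalk z)) =
      IsLocalRing.maximalIdeal (X.presheaf.stalk x) := by
  subst hz
  rw [ψ_Θ_eq]
  exact IsLocalRing.maximalIdeal_comap (g.stalkMap z).hom

end Groth.Agent.H87.FinStalk
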