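import Groth.Agent.H87.FinStalkBasic

set_option autoImplicit false
universe u

open AlgebraicGeometry CategoryTheory TopologicalSpace

namespace Groth.Agent.H87.FinStalk

variable {Z X : Scheme.{u}} (g : Z ⟶ X)

lemma germ_restrict {x : X} {U W : X.Opens} (hWU : W ≤ U) (hxW : x ∈ W) {D : Z.Opens}
    (h1 : D ≤ g ⁻¹ᵁ U) (h2 : g ⁻¹ᵁ W ≤ D) (s : Γ(Z, g ⁻¹ᵁ U)) :
    (g.base _* Z.presheaf).germ W x hxW
      (Z.presheaf.map (homOfLE h2).op (Z.presheaf.map (homOfLE h1).op s)) =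
    (g.base _* Z.presheaf).germ U x (hWU hxW) s := by
  rw [← TopCat.Presheaf.germ_res_apply (g.base _* Z.presheaf) (homOfLE hWU) x hxW s]
  congr 1
  rw [← ConcreteCategory.comp_apply, ← Functor.map_comp]
  rfl

lemma exists_mul_pow_eq [IsAffineHom g] {x : X} {U : X.Opens} (hU : IsAffineOpen U) (hxU : x ∈ U)
    (t : (g.base _* Z.presheaf).stalk x) :
    ∃ (a : Γ(X, U)) (c : Γ(Z, g ⁻¹ᵁ U)) (n : ℕ), x ∈ X.basicOpen a ∧
      t * ((g.base _* Z.presheaf).germ U x hxU (g.app U a)) ^ n =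
        (g.base _* Z.presheaf).germ U x hxU c := by
  obtain ⟨U', hx', s, rfl⟩ := TopCat.Presheaf.exists_germ_eq (g.base _* Z.presheaf) t
  obtain ⟨a, ha_le, hxa⟩ := hU.exists_basicOpen_le (V := U' ⊓ U) ⟨x, ⟨hx', hxU⟩⟩ hxU
  have hV : IsAffineOpen (g ⁻¹ᵁ U) := hU.preimage g
  have hloc : IsLocalization.Away (g.app U a) Γ(Z, Z.basicOpen (g.app U a)) :=
    hV.isLocalization_basicOpen (g.app U a)
  have hD : Z.basicOpen (g.app U a) ≤ g ⁻¹ᵁ U' := by
    rw [← g.preimage_basicOpen a]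
    exact g.preimage_mono (ha_le.trans inf_le_left)
  have hDU : Z.basicOpen (g.app U a) ≤ g ⁻¹ᵁ U := Z.basicOpen_le _
  have e1 : g ⁻¹ᵁ X.basicOpen a ≤ Z.basicOpen (g.app U a) := (g.preimage_basicOpen a).le
  obtain ⟨⟨c, ⟨_, n, rfl⟩⟩, hc⟩ := IsLocalization.surj (Submonoid.powers (g.app U a))
    (Z.presheaf.map (homOfLE hD).op s)
  refine ⟨a, c, n, hxa, ?_⟩
  have hc' : Z.presheaf.map (homOfLE hD).op s *
      (Z.presheaf.map (homOfLE hDU).op (g.app U a)) ^ n = Z.presheaf.map (homOfLE hDU).op c := by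
    rw [← map_pow]
    exact hc
  have hc'' := congrArg (fun r => (g.base _* Z.presheaf).germ (X.basicOpen a) x hxa
    (Z.presheaf.map (homOfLE e1).op r)) hc'
  simp only [map_mul, map_pow] at hc''
  rw [germ_restrict g (ha_le.trans inf_le_left) hxa hD e1 s,
    germ_restrict g (ha_le.trans inf_le_right) hxa hDU e1 (g.app U a),
    germ_restrict g (ha_le.trans inf_le_right) hxa hDU e1 c] at hc''
  exact hc''

end Groth.Agent.H87.FinStalk
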