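import Groth.Agent.H87.FinStalkKey

set_option autoImplicit false
universe u

open AlgebraicGeometry CategoryTheory TopologicalSpace

namespace Groth.Agent.H87.FinStalk

variable {Z X : Scheme.{u}} (g : Z ⟶ X)

/-- The ideal of `(g_* O_Z)_x` attached to a point `z` over `x`. -/
noncomputable def I {x : X} (z : Z) (hz : g.base z = x) : Ideal ((g.base _* Z.presheaf).stalk x) :=
  Ideal.comap (Θ g z hz).hom (IsLocalRing.maximalIdeal (Z.presheaf.stalk z))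

instance {x : X} (z : Z) (hz : g.base z = x) : (I g z hz).IsPrime := by
  unfold I
  exact Ideal.comap_isPrime _ _

lemma germ_mem_I_iff {x : X} (z : Z) (hz : g.base z = x) (U : X.Opens) (hx : x ∈ U)
    (c : Γ(Z, g ⁻¹ᵁ U)) :
    (g.base _* Z.presheaf).germ U x hx c ∈ I g z hz ↔ z ∉ Z.basicOpen c := by
  have hzU : z ∈ g ⁻¹ᵁ U := by subst hz; exact hx
  unfold I
  rw [Ideal.mem_comap, IsLocalRing.mem_maximalIdeal, mem_nonunits_iff,
    Z.mem_basicOpen c z hzU]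
  have h1 : (Θ g z hz).hom ((g.base _* Z.presheaf).germ U x hx c) =
      Z.presheaf.germ (g ⁻¹ᵁ U) z hzU c := congr($(germ_Θ g z hz U hx).hom c)
  rw [h1]

lemma comap_ψ_I {x : X} (z : Z) (hz : g.base z = x) :
    Ideal.comap (ψ g x).hom (I g z hz) = IsLocalRing.maximalIdeal (X.presheaf.stalk x) := by
  unfold I
  rw [Ideal.comap_comap, ← CommRingCat.hom_comp]
  exact comap_ψ_Θ g z hz

lemma I_isMaximal [IsFinite g] {x : X} (z : Z) (hz : g.base z = x) : (I g z hz).IsMaximal := by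
  apply Ideal.isMaximal_of_isIntegral_of_isMaximal_comap' (ψ g x).hom (ψ_isIntegral g x)
  rw [comap_ψ_I]
  infer_instance

lemma eq_of_forall_basicOpen {Y : Scheme.{u}} {V : Y.Opens} (hV : IsAffineOpen V) {z₁ z₂ : Y}
    (h₁ : z₁ ∈ V) (h₂ : z₂ ∈ V)
    (h : ∀ c : Γ(Y, V), z₁ ∈ Y.basicOpen c ↔ z₂ ∈ Y.basicOpen c) : z₁ = z₂ := by
  by_contra hne
  obtain ⟨O, hO, hxor⟩ := exists_isOpen_xor_mem hne
  rcases hxor with ⟨ha, hb⟩ | ⟨ha, hb⟩
  · obtain ⟨c, hc1, hc2⟩ := hV.exists_basicOpen_le (V := ⟨O, hO⟩) ⟨z₁, ha⟩ h₁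
    exact hb (hc1 ((h c).mp hc2))
  · obtain ⟨c, hc1, hc2⟩ := hV.exists_basicOpen_le (V := ⟨O, hO⟩) ⟨z₂, ha⟩ h₂
    exact hb (hc1 ((h c).mpr hc2))

lemma I_injective [IsAffineHom g] {x : X} (z₁ z₂ : Z) (h₁ : g.base z₁ = x) (h₂ : g.base z₂ = x)
    (h : I g z₁ h₁ = I g z₂ h₂) : z₁ = z₂ := by
  obtain ⟨_, ⟨U0, hU0, rfl⟩, hxU, -⟩ :=
    X.isBasis_affineOpens.exists_subset_of_mem_open (Set.mem_univ x) isOpen_univ
  have hV : IsAffineOpen (g ⁻¹ᵁ U0) := IsAffineOpen.preimage hU0 g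
  have hz₁ : z₁ ∈ g ⁻¹ᵁ U0 := by subst h₁; exact hxU
  have hz₂ : z₂ ∈ g ⁻¹ᵁ U0 := by
    change g.base z₂ ∈ U0
    rw [h₂]; exact hxU
  refine eq_of_forall_basicOpen hV hz₁ hz₂ fun c => ?_
  rw [← not_iff_not, ← germ_mem_I_iff g z₁ h₁ U0 hxU c, ← germ_mem_I_iff g z₂ h₂ U0 hxU c, h]

lemma I_surjective [IsFinite g] {x : X} (I₀ : Ideal ((g.base _* Z.presheaf).stalk x))
    (hI₀ : I₀.IsMaximal) : ∃ (z : Z) (hz : g.base z = x), I g z hz = I₀ := by
  obtain ⟨_, ⟨U0, hU0, rfl⟩, hxU, -⟩ :=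
    X.isBasis_affineOpens.exists_subset_of_mem_open (Set.mem_univ x) isOpen_univ
  have hV : IsAffineOpen (g ⁻¹ᵁ U0) := IsAffineOpen.preimage hU0 g
  have hm : Ideal.comap (ψ g x).hom I₀ = IsLocalRing.maximalIdeal (X.presheaf.stalk x) :=
    IsLocalRing.eq_maximalIdeal
      (Ideal.isMaximal_comap_of_isIntegral_of_isMaximal' (ψ g x).hom (ψ_isIntegral g x) I₀)
  -- the prime of `Γ(Z, g⁻¹U)`
  have hq : (Ideal.comap ((g.base _* Z.presheaf).germ U0 x hxU).hom I₀).IsPrime :=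
    Ideal.comap_isPrime _ _
  obtain ⟨z, hz⟩ : ∃ z : Z, z = hV.fromSpec
      ⟨Ideal.comap ((g.base _* Z.presheaf).germ U0 x hxU).hom I₀, hq⟩ := ⟨_, rfl⟩
  have hzV : z ∈ g ⁻¹ᵁ U0 := by
    rw [hz, ← SetLike.mem_coe, ← hV.range_fromSpec]
    exact Set.mem_range_self _
  have hzc : ∀ c : Γ(Z, g ⁻¹ᵁ U0), z ∈ Z.basicOpen c ↔
      (g.base _* Z.presheaf).germ U0 x hxU c ∉ I₀ := by
    intro c
    have h1 := hV.fromSpec_preimage_basicOpen c
    have h2 : z ∈ Z.basicOpen c ↔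
        (⟨Ideal.comap ((g.base _* Z.presheaf).germ U0 x hxU).hom I₀, hq⟩ :
          PrimeSpectrum Γ(Z, g ⁻¹ᵁ U0)) ∈ hV.fromSpec ⁻¹ᵁ Z.basicOpen c := by
      rw [hz]; rfl
    rw [h2, h1]
    rfl
  -- `g z = x`
  have hgz : g.base z = x := by
    refine eq_of_forall_basicOpen hU0 hzV hxU fun a => ?_
    have e1 : g.base z ∈ X.basicOpen a ↔ z ∈ Z.basicOpen (g.app U0 a) := by
      rw [← g.preimage_basicOpen a]; rfl
    rw [e1, hzc, X.mem_basicOpen a x hxU]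
    have e2 : (g.base _* Z.presheaf).germ U0 x hxU (g.app U0 a) =
        (ψ g x).hom (X.presheaf.germ U0 x hxU a) := congr($(germ_ψ g x U0 hxU).hom a).symm
    rw [e2, ← Ideal.mem_comap, hm, IsLocalRing.mem_maximalIdeal, mem_nonunits_iff, not_not]
  refine ⟨z, hgz, ?_⟩
  refine (hI₀.eq_of_le (Ideal.IsPrime.ne_top inferInstance) ?_).symm
  intro t ht
  obtain ⟨a, c, n, hxa, hac⟩ := exists_mul_pow_eq g hU0 hxU t
  have hc : (g.base _* Z.presheaf).germ U0 x hxU c ∈ I g z hgz := by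
    rw [germ_mem_I_iff, hzc, not_not, ← hac]
    exact I₀.mul_mem_right _ ht
  have ha : (g.base _* Z.presheaf).germ U0 x hxU (g.app U0 a) ∉ I g z hgz := by
    rw [germ_mem_I_iff, not_not, ← g.preimage_basicOpen a]
    change g.base z ∈ X.basicOpen a
    rw [hgz]; exact hxa
  rw [← hac] at hc
  rcases Ideal.IsPrime.mem_or_mem inferInstance hc with h | h
  · exact h
  · exact absurd (Ideal.IsPrime.mem_of_pow_mem inferInstance n h) ha

theorem main [IsFinite g] (x : X) :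
    Set.BijOn (fun z : {z : Z // g.base z = x} =>
        Ideal.comap (((g.base _* Z.presheaf).stalkCongr (Inseparable.of_eq z.2)).inv ≫
            TopCat.Presheaf.stalkPushforward CommRingCat g.base Z.presheaf z.1).hom
          (IsLocalRing.maximalIdeal (Z.presheaf.stalk z.1)))
      Set.univ {I : Ideal ((g.base _* Z.presheaf).stalk x) | I.IsMaximal} := by
  refine ⟨?_, ?_, ?_⟩
  · intro z _
    exact I_isMaximal g z.1 z.2
  · intro z₁ _ z₂ _ h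
    exact Subtype.ext (I_injective g z₁.1 z₂.1 z₁.2 z₂.2 h)
  · intro I₀ hI₀
    obtain ⟨z, hz, h⟩ := I_surjective g I₀ hI₀
    exact ⟨⟨z, hz⟩, Set.mem_univ _, h⟩

end Groth.Agent.H87.FinStalk
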