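import Mathlib

/-!
# Flatness over an unramified flat algebra (helper87)

`flat_of_flat_of_formallyUnramified`: if `B` is an essentially finite type, formally unramified
`A`-algebra and `M` is a `B`-module which is flat over `A`, then `M` is flat over `B`: `M` is a
`B`-linear retract of `B ⊗[A] M` (cut out by the diagonal idempotent).
`flat_iff_of_flat_of_formallyUnramified`: if moreover `B` is flat over `A`, flatness of `M` over `A`
and over `B` are equivalent.
-/

set_option autoImplicit false

namespace Groth.Agent.H87.FlatUnram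

open TensorProduct

variable {A B : Type*} [CommRing A] [CommRing B] [Algebra A B]
  {M : Type*} [AddCommGroup M] [Module B M] [Module A M] [IsScalarTower A B M]

/-- `Ψ m : B ⊗[A] B →ₗ[B] B ⊗[A] M`, `b ⊗ b' ↦ b ⊗ b' • m`. -/
noncomputable def Ψ (m : M) : B ⊗[A] B →ₗ[B] B ⊗[A] M :=
  TensorProduct.AlgebraTensorModule.lTensor B B
    ((LinearMap.toSpanSingleton B M m).restrictScalars A)

@[simp]
theorem Ψ_tmul (m : M) (b b' : B) : Ψ (A := A) m (b ⊗ₜ b') = b ⊗ₜ[A] (b' • m) := by
  simp [Ψ]

theorem Ψ_add (m m' : M) (x : B ⊗[A] B) : Ψ (m + m') x = Ψ m x + Ψ m' x := by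
  induction x with
  | zero => simp
  | tmul b b' => simp [tmul_add]
  | add x y hx hy => simp only [map_add, hx, hy]; abel

theorem Ψ_smul (b : B) (m : M) (x : B ⊗[A] B) : Ψ (b • m) x = Ψ m ((1 ⊗ₜ b) * x) := by
  induction x with
  | zero => simp
  | tmul c c' => simp [smul_smul, mul_comm]
  | add x y hx hy => simp only [map_add, mul_add, hx, hy]

theorem smul_Ψ (b : B) (m : M) (x : B ⊗[A] B) : b • Ψ m x = Ψ m ((b ⊗ₜ 1) * x) := by
  induction x with
  | zero => simp
  | tmul c c' => simp [smul_tmul']
  | add x y hx hy => simp only [map_add, mul_add, smul_add, hx, hy]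

/-- The multiplication map `B ⊗[A] M → M`. -/
noncomputable def μ : B ⊗[A] M →ₗ[B] M :=
  TensorProduct.AlgebraTensorModule.lift
    ((LinearMap.lsmul B M).restrictScalars₁₂ B A)

@[simp]
theorem μ_tmul (b : B) (m : M) : μ (A := A) (b ⊗ₜ m) = b • m := by
  simp [μ]

theorem μ_Ψ (m : M) (x : B ⊗[A] B) : μ (Ψ m x) = (Algebra.TensorProduct.lmul' A x : B) • m := by
  induction x with
  | zero => simp
  | tmul b b' => simp [smul_smul]
  | add x y hx hy => simp only [map_add, hx, hy, add_smul]

variable (A B M) in
/-- A module over an essentially finite type formally unramified `A`-algebra `B` which is flat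
over `A` is flat over `B`. -/
theorem flat_of_flat_of_formallyUnramified [Algebra.EssFiniteType A B]
    [Algebra.FormallyUnramified A B] [Module.Flat A M] : Module.Flat B M := by
  obtain ⟨e, he, hsp⟩ : ∃ e, IsIdempotentElem e ∧
      KaehlerDifferential.ideal A B = Ideal.span {e} :=
    (Ideal.isIdempotentElem_iff_of_fg _ (KaehlerDifferential.ideal_fg A B)).mp <|
      (Ideal.cotangent_subsingleton_iff _).mp <| inferInstanceAs <| Subsingleton Ω[B⁄A]
  have hker : ∀ x ∈ KaehlerDifferential.ideal A B, x * (1 - e) = 0 := by
    intro x hx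
    rw [hsp, Ideal.mem_span_singleton'] at hx
    obtain ⟨y, rfl⟩ := hx
    have : e * e = e := he
    calc y * e * (1 - e) = y * (e - e * e) := by ring
      _ = 0 := by rw [this, sub_self, mul_zero]
  have he1 : Algebra.TensorProduct.lmul' A (1 - e) = (1 : B) := by
    have : e ∈ KaehlerDifferential.ideal A B := by
      rw [hsp]; exact Ideal.mem_span_singleton_self e
    rw [map_sub, map_one, RingHom.mem_ker.mp this, sub_zero]
  -- the section
  let s : M →ₗ[B] B ⊗[A] M :=
    { toFun := fun m => Ψ m (1 - e)
      map_add' := fun m m' => Ψ_add m m' _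
      map_smul' := fun b m => by
        simp only [RingHom.id_apply]
        rw [Ψ_smul, smul_Ψ]
        congr 1
        have h := hker _ (KaehlerDifferential.one_smul_sub_smul_one_mem_ideal A b)
        rw [sub_mul, sub_eq_zero] at h
        exact h }
  have hs : (μ (A := A)).comp s = LinearMap.id := by
    ext m
    simp only [LinearMap.comp_apply, LinearMap.id_apply]
    show μ (Ψ m (1 - e)) = m
    rw [μ_Ψ, he1, one_smul]
  have : Module.Flat B (B ⊗[A] M) := inferInstance
  exact Module.Flat.of_retract s μ hs

variable (A B M) in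
/-- For a flat, essentially finite type, formally unramified `A`-algebra `B` and a `B`-module `M`,
flatness over `A` is equivalent to flatness over `B`. -/
theorem flat_iff_of_flat_of_formallyUnramified [Algebra.EssFiniteType A B]
    [Algebra.FormallyUnramified A B] [Module.Flat A B] : Module.Flat A M ↔ Module.Flat B M :=
  ⟨fun _ => flat_of_flat_of_formallyUnramified A B M, fun _ => Module.Flat.trans A B M⟩

end Groth.Agent.H87.FlatUnram
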