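import Groth.Prelude.Def_FrobAlg
import Mathlib.RingTheory.AdicCompletion.AsTensorProduct
import Mathlib.RingTheory.AdicCompletion.Algebra
import Mathlib.RingTheory.Ideal.Operations
import Mathlib.RingTheory.Finiteness.Ideal

set_option autoImplicit false
universe u

open TensorProduct

namespace Groth.Agent.H87.FrobCompl

open FrobAlg

variable (p : ℕ) [Fact p.Prime] (A : Type u) [CommRing A] [CharP A p]

lemma smul_twist (a : A) (t : Twist p A) : a • t = toTwist p A (a ^ p) * t := by
  rw [Algebra.smul_def, algebraMap_twist]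

/-- `I^n • T` is an ideal of the ring `T` -/
lemma mul_mem_smul_top (I : Ideal A) (t' : Twist p A) (y : Twist p A)
    (hy : y ∈ (I • ⊤ : Submodule A (Twist p A))) : t' * y ∈ (I • ⊤ : Submodule A (Twist p A)) := by
  refine Submodule.smul_induction_on hy (fun a ha t _ => ?_) (fun x y hx hy => ?_)
  · have : t' * a • t = a • (t' * t) := by rw [smul_twist, smul_twist]; ring
    rw [this]
    exact Submodule.smul_mem_smul ha Submodule.mem_top
  · rw [mul_add]; exact Submodule.add_mem _ hx hy

/-- elements of `I • T` lie in `I` -/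
lemma mem_of_mem_smul_top (I : Ideal A) (y : Twist p A)
    (hy : y ∈ (I • ⊤ : Submodule A (Twist p A))) : (toTwist p A).symm y ∈ I := by
  refine Submodule.smul_induction_on hy (fun a ha t _ => ?_) (fun x y hx hy => ?_)
  · rw [smul_twist, map_mul, RingEquiv.symm_apply_apply]
    have hp : p ≠ 0 := (Fact.out : p.Prime).ne_zero
    exact I.mul_mem_right _ (I.pow_mem_of_mem ha p (Nat.pos_of_ne_zero hp))
  · rw [map_add]; exact I.add_mem hx hy

/-- cofinality: a high power of a finitely generated ideal lies in `I^n • T` -/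
theorem exists_pow_le_smul_top (I : Ideal A) (hI : I.FG) :
    ∀ n : ℕ, ∃ N : ℕ, ∀ x ∈ I ^ N, toTwist p A x ∈ (I ^ n • ⊤ : Submodule A (Twist p A)) := by
  induction I, hI using Submodule.fg_induction with
  | singleton a =>
    intro n
    refine ⟨n * p, fun x hx => ?_⟩
    rw [Ideal.submodule_span_eq, Ideal.span_singleton_pow, Ideal.mem_span_singleton] at hx
    obtain ⟨r, rfl⟩ := hx
    have h1 : toTwist p A (a ^ (n * p) * r) = (a ^ n) • toTwist p A r := by
      rw [smul_twist, map_mul, pow_mul]
    rw [h1]
    refine Submodule.smul_mem_smul ?_ Submodule.mem_top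
    rw [Ideal.submodule_span_eq, Ideal.span_singleton_pow]
    exact Ideal.mem_span_singleton_self _
  | sup I₁ I₂ _ _ h₁ h₂ =>
    intro n
    obtain ⟨N₁, hN₁⟩ := h₁ n
    obtain ⟨N₂, hN₂⟩ := h₂ n
    refine ⟨N₁ + N₂, fun x hx => ?_⟩
    have hx' := Ideal.sup_pow_add_le_pow_sup_pow hx
    obtain ⟨x₁, hx₁, x₂, hx₂, rfl⟩ := Submodule.mem_sup.mp hx'
    rw [map_add]
    refine Submodule.add_mem _ ?_ ?_
    · exact Submodule.smul_mono (Ideal.pow_right_mono le_sup_left n) le_rfl (hN₁ x₁ hx₁)
    · exact Submodule.smul_mono (Ideal.pow_right_mono le_sup_right n) le_rfl (hN₂ x₂ hx₂)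

variable (I : Ideal A)

/-- the Frobenius-semilinear map `T → A/I^n` which is the identity on underlying rings -/
noncomputable def fn (n : ℕ) : Twist p A →ₛₗ[frobenius A p] (A ⧸ I ^ n) where
  toFun t := Ideal.Quotient.mk (I ^ n) ((toTwist p A).symm t)
  map_add' x y := by rw [map_add, map_add]
  map_smul' a t := by
    rw [smul_twist, map_mul, RingEquiv.symm_apply_apply, map_mul, frobenius_def, Algebra.smul_def]
    rfl

lemma smul_top_le_ker_fn (n : ℕ) :
    (I ^ n • ⊤ : Submodule A (Twist p A)) ≤ LinearMap.ker (fn p A I n) := by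
  intro y hy
  rw [LinearMap.mem_ker]
  change Ideal.Quotient.mk (I ^ n) ((toTwist p A).symm y) = 0
  rw [Ideal.Quotient.eq_zero_iff_mem]
  exact mem_of_mem_smul_top p A (I ^ n) y hy

/-- the induced map on quotients -/
noncomputable def qn (n : ℕ) :
    (Twist p A ⧸ (I ^ n • ⊤ : Submodule A (Twist p A))) →ₛₗ[frobenius A p] (A ⧸ I ^ n) :=
  Submodule.liftQ _ (fn p A I n) (smul_top_le_ker_fn p A I n)

lemma qn_mk (n : ℕ) (t : Twist p A) :
    qn p A I n (Submodule.Quotient.mk t) = Ideal.Quotient.mk (I ^ n) ((toTwist p A).symm t) := rfl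

variable [CharP (AdicCompletion I A) p]

lemma relFrob_tmul (b : AdicCompletion I A) (t : Twist p A) :
    relFrob p A (AdicCompletion I A) (b ⊗ₜ[A] t) =
      b ^ p * algebraMap A (AdicCompletion I A) ((toTwist p A).symm t) := by
  simp only [relFrob, RingHom.coe_comp, Function.comp_apply, AlgHom.toRingHom_eq_coe,
    RingHom.coe_coe, Algebra.TensorProduct.lift_tmul]
  rfl

/-- key compatibility between the relative Frobenius and `ofTensorProduct` -/
theorem evalₐ_relFrob (n : ℕ) (x : AdicCompletion I A ⊗[A] Twist p A) :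
    AdicCompletion.evalₐ I n (relFrob p A (AdicCompletion I A) x) =
      qn p A I n ((AdicCompletion.ofTensorProduct I (Twist p A) x).val n) := by
  induction x using TensorProduct.induction_on with
  | zero => simp
  | add x y hx hy =>
    rw [map_add, map_add, hx, hy, map_add, AdicCompletion.val_add]
    exact (map_add (qn p A I n) _ _).symm
  | tmul b t =>
    rw [relFrob_tmul, AdicCompletion.ofTensorProduct_tmul, AdicCompletion.smul_eval]
    induction b using AdicCompletion.induction_on with
    | h a =>
    rw [map_mul, map_pow, AdicCompletion.evalₐ_mk, AlgHom.commutes]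
    rw [AdicCompletion.mk_apply_coe]
    change _ = qn p A I n (Ideal.Quotient.mk (I ^ n • ⊤ : Ideal A) (a n) •
      Submodule.Quotient.mk (p := (I ^ n • ⊤ : Submodule A (Twist p A))) t)
    rw [AdicCompletion.mk_smul_mk, ← Submodule.Quotient.mk_smul, qn_mk, smul_twist, map_mul,
      RingEquiv.symm_apply_apply, map_mul, map_pow]
    rfl

/-- the relative Frobenius of an adic completion is bijective for `F`-finite Noetherian rings -/
theorem relFrob_bijective [IsNoetherianRing A] [Module.Finite A (Twist p A)] :
    Function.Bijective (relFrob p A (AdicCompletion I A)) := by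
  have hφ := AdicCompletion.ofTensorProduct_bijective_of_finite_of_isNoetherian I (Twist p A)
  have hcof := exists_pow_le_smul_top p A I (IsNoetherian.noetherian I)
  constructor
  · rw [injective_iff_map_eq_zero]
    intro x hx
    apply hφ.1
    rw [map_zero]
    ext n
    obtain ⟨N', hN'⟩ := hcof n
    obtain ⟨t, ht⟩ := Submodule.Quotient.mk_surjective _
      ((AdicCompletion.ofTensorProduct I (Twist p A) x).val (max N' n))
    have h1 := evalₐ_relFrob p A I (max N' n) x
    rw [hx, map_zero, ← ht, qn_mk, eq_comm, Ideal.Quotient.eq_zero_iff_mem] at h1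
    have h2 : (toTwist p A).symm t ∈ I ^ N' := Ideal.pow_le_pow_right (le_max_left _ _) h1
    have h3 := hN' _ h2
    rw [RingEquiv.apply_symm_apply] at h3
    have h4 := (AdicCompletion.ofTensorProduct I (Twist p A) x).property (le_max_right N' n)
    rw [AdicCompletion.val_zero, ← h4, ← ht]
    change Submodule.Quotient.mk t = 0
    exact (Submodule.Quotient.mk_eq_zero _).mpr h3
  · intro b
    induction b using AdicCompletion.induction_on with
    | h a =>
    choose N' hN' using hcof
    let N : ℕ → ℕ := fun n => n + ∑ i ∈ Finset.range (n + 1), N' i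
    have hNn : ∀ n, n ≤ N n := fun n => Nat.le_add_right _ _
    have hNN' : ∀ n, N' n ≤ N n := fun n =>
      le_trans (Finset.single_le_sum (f := N') (fun _ _ => Nat.zero_le _)
        (Finset.mem_range.mpr (Nat.lt_succ_self n))) (Nat.le_add_left _ _)
    have hNmono : ∀ n, N n ≤ N (n + 1) := by
      intro n
      simp only [N]
      rw [Finset.sum_range_succ _ (n + 1)]
      omega
    let s : AdicCompletion.AdicCauchySequence I (Twist p A) :=
      AdicCompletion.AdicCauchySequence.mk I (Twist p A) (fun n => toTwist p A (a (N n))) (by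
        intro n
        rw [SModEq.sub_mem, ← map_sub]
        apply hN' n
        apply Ideal.pow_le_pow_right (hNN' n)
        have := a.property (hNmono n)
        rw [SModEq.sub_mem] at this
        simpa using this)
    obtain ⟨x, hx⟩ := hφ.2 (AdicCompletion.mk I (Twist p A) s)
    refine ⟨x, ?_⟩
    apply AdicCompletion.ext_evalₐ
    intro n
    rw [evalₐ_relFrob, hx, AdicCompletion.mk_apply_coe, Submodule.mkQ_apply, qn_mk,
      AdicCompletion.evalₐ_mk]
    change Ideal.Quotient.mk (I ^ n) ((toTwist p A).symm (toTwist p A (a (N n)))) = _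
    rw [RingEquiv.symm_apply_apply, Ideal.Quotient.eq]
    have := a.property (hNn n)
    rw [SModEq.sub_mem] at this
    have h5 : a n - a (N n) ∈ I ^ n := by simpa using this
    have h6 : a (N n) - a n = -(a n - a (N n)) := by ring
    rw [h6]
    exact (I ^ n).neg_mem h5

end Groth.Agent.H87.FrobCompl
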