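import Mathlib.RingTheory.GradedAlgebra.HomogeneousLocalization

set_option autoImplicit false
universe u v

open HomogeneousLocalization

namespace Groth.Agent.H87.GrAway

variable {R : Type u} {A : Type v} [CommRing R] [CommRing A] [Algebra R A]

/-- `mk a τ^n = ι a * θ^n` -/
theorem mk_eq (τ : A) (a : A) (n : ℕ) (h : τ ^ n ∈ Submonoid.powers τ) :
    (Localization.mk a ⟨τ ^ n, h⟩ : Localization (Submonoid.powers τ))
      = algebraMap A _ a * (Localization.mk 1 ⟨τ, Submonoid.mem_powers τ⟩) ^ n := by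
  rw [Localization.mk_pow, ← Localization.mk_one_eq_algebraMap, Localization.mk_mul, one_pow,
    mul_one, one_mul]
  rfl

theorem ι_mul_θ (τ : A) :
    algebraMap A (Localization (Submonoid.powers τ)) τ
      * (Localization.mk 1 ⟨τ, Submonoid.mem_powers τ⟩) = 1 := by
  rw [← Localization.mk_one_eq_algebraMap, Localization.mk_mul, mul_one, one_mul]
  exact Localization.mk_self (⟨τ, Submonoid.mem_powers τ⟩ : Submonoid.powers τ)

theorem adjoin_eq_top
    (𝒜 : ℕ → Submodule R A) [GradedAlgebra 𝒜]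
    {n : ℕ} (σ : Fin n → A) (hσ : ∀ i, σ i ∈ 𝒜 1) {s : ℕ} (hs : 0 < s)
    (hgen : ∀ i, Algebra.adjoin (𝒜 0)
      {z : HomogeneousLocalization.Away 𝒜 (σ i) |
        ∃ f ∈ 𝒜 s, z.val = Localization.mk f ⟨σ i ^ s, Submonoid.pow_mem _ (Submonoid.mem_powers (σ i)) s⟩} = ⊤)
    (K : Fin n → ℕ) (hK : ∑ i, K i = s) :
    Algebra.adjoin (𝒜 0)
      {z : HomogeneousLocalization.Away 𝒜 (∏ i, σ i ^ K i) |
        ∃ f ∈ 𝒜 s, z.val = Localization.mk f ⟨∏ i, σ i ^ K i, Submonoid.mem_powers _⟩} = ⊤ := by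
  classical
  set τ := ∏ i, σ i ^ K i with hτdef
  set T := Algebra.adjoin (𝒜 0) {z : Away 𝒜 τ |
    ∃ f ∈ 𝒜 s, z.val = Localization.mk f ⟨τ, Submonoid.mem_powers _⟩} with hT
  have hτ : τ ∈ 𝒜 s := by
    have := SetLike.prod_pow_mem_graded 𝒜 (fun _ => 1) σ K (F := Finset.univ) (fun i _ => hσ i)
    simpa [hK] using this
  set θ : Localization (Submonoid.powers τ) := Localization.mk 1 ⟨τ, Submonoid.mem_powers τ⟩ with hθ
  set ι := algebraMap A (Localization (Submonoid.powers τ)) with hι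
  have hιθ : ι τ * θ = 1 := ι_mul_θ τ
  have hmem1 : ∀ f, f ∈ 𝒜 s → f ∈ 𝒜 (1 • s) := fun f hf => by simpa using hf
  have hgenT : ∀ f (hf : f ∈ 𝒜 s), Away.mk 𝒜 hτ 1 f (hmem1 f hf) ∈ T := by
    intro f hf
    refine Algebra.subset_adjoin ⟨f, hf, ?_⟩
    rw [Away.val_mk]
    congr 1
    ext
    simp
  have hvalgen : ∀ f (hf : f ∈ 𝒜 s), (Away.mk 𝒜 hτ 1 f (hmem1 f hf)).val = ι f * θ := by
    intro f hf
    rw [Away.val_mk, mk_eq, pow_one]
  have hσs : ∀ i, σ i ^ s ∈ 𝒜 s := fun i => by simpa using SetLike.pow_mem_graded s (hσ i)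
  let w : Fin n → Away 𝒜 τ := fun i => Away.mk 𝒜 hτ 1 (σ i ^ s) (hmem1 _ (hσs i))
  have hw : ∀ i, w i ∈ T := fun i => hgenT _ (hσs i)
  have hwval : ∀ i, (w i).val = ι (σ i) ^ s * θ := fun i => by
    rw [hvalgen _ (hσs i), map_pow]
  have hprod : ∏ i, w i ^ K i = 1 := by
    apply val_injective
    rw [val_one, ← algebraMap_apply, map_prod]
    simp_rw [map_pow, algebraMap_apply, hwval, mul_pow, ← pow_mul]
    rw [Finset.prod_mul_distrib, Finset.prod_pow_eq_pow_sum, hK]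
    have : ∏ i, ι (σ i) ^ (s * K i) = ι τ ^ s := by
      have hιτ : ι τ = ∏ i, ι (σ i) ^ K i :=
        (congrArg ι hτdef).trans (by rw [map_prod]; simp only [map_pow])
      rw [hιτ, ← Finset.prod_pow]
      refine Finset.prod_congr rfl (fun i _ => ?_)
      rw [← pow_mul, mul_comm]
    rw [this, ← mul_pow, hιθ, one_pow]
  obtain ⟨i₀, hi₀⟩ : ∃ i, 0 < K i := by
    by_contra hcon
    push Not at hcon
    have : ∑ i, K i = 0 := Finset.sum_eq_zero (fun i _ => Nat.le_zero.mp (hcon i))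
    omega
  set v : Away 𝒜 τ := w i₀ ^ (K i₀ - 1) * ∏ i ∈ Finset.univ.erase i₀, w i ^ K i with hvdef
  have hv : v ∈ T :=
    T.mul_mem (T.pow_mem (hw i₀) _) (T.prod_mem (fun i _ => T.pow_mem (hw i) _))
  have hwv : w i₀ * v = 1 := by
    rw [hvdef, ← mul_assoc, ← pow_succ', Nat.sub_add_cancel hi₀,
      Finset.mul_prod_erase _ (fun i => w i ^ K i) (Finset.mem_univ i₀), hprod]
  set τ' : A := σ i₀ ^ (K i₀ - 1) * ∏ i ∈ Finset.univ.erase i₀, σ i ^ K i with hτ'def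
  have hx : τ = σ i₀ * τ' := by
    rw [hτ'def, ← mul_assoc, ← pow_succ', Nat.sub_add_cancel hi₀,
      Finset.mul_prod_erase _ (fun i => σ i ^ K i) (Finset.mem_univ i₀)]
  have hτ' : τ' ∈ 𝒜 ((K i₀ - 1) • 1 + ∑ i ∈ Finset.univ.erase i₀, K i • 1) :=
    SetLike.mul_mem_graded (SetLike.pow_mem_graded _ (hσ i₀))
      (SetLike.prod_pow_mem_graded 𝒜 (fun _ => 1) σ K (fun i _ => hσ i))
  let φ : Away 𝒜 (σ i₀) →ₐ[𝒜 0] Away 𝒜 τ := awayMapₐ 𝒜 hτ' hx
  have hφval : ∀ (m : ℕ) (a : A) (ha : a ∈ 𝒜 (m • 1)),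
      (φ (Away.mk 𝒜 (hσ i₀) m a ha)).val = ι a * ι τ' ^ m * θ ^ m := by
    intro m a ha
    rw [awayMapₐ_apply, awayMap_mk, Away.val_mk, mk_eq, map_mul, map_pow]
  have e1 : ι (σ i₀) * ι τ' * θ = 1 := by
    rw [← map_mul, ← hx]; exact hιθ
  have hφT : ∀ z, φ z ∈ T := by
    have hle : (⊤ : Subalgebra (𝒜 0) (Away 𝒜 (σ i₀))) ≤ T.comap φ := by
      rw [← hgen i₀]
      apply Algebra.adjoin_le
      rintro z ⟨f, hf, hz⟩
      change φ z ∈ T
      have hf' : f ∈ 𝒜 (s • 1) := by simpa using hf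
      have hz' : z = Away.mk 𝒜 (hσ i₀) s f hf' :=
        val_injective _ (by rw [hz, Away.val_mk])
      have key : φ z * w i₀ = Away.mk 𝒜 hτ 1 f (hmem1 f hf) := by
        apply val_injective
        rw [val_mul, hz', hφval, hwval, hvalgen f hf]
        calc ι f * ι τ' ^ s * θ ^ s * (ι (σ i₀) ^ s * θ)
            = ι f * θ * (ι (σ i₀) * ι τ' * θ) ^ s := by ring
          _ = ι f * θ := by rw [e1, one_pow, mul_one]
      have h1 : φ z = (φ z * w i₀) * v := by rw [mul_assoc, hwv, mul_one]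
      rw [h1, key]
      exact T.mul_mem (hgenT f hf) hv
    intro z
    exact hle (Algebra.mem_top (x := z))
  rw [eq_top_iff]
  intro b _
  obtain ⟨m, a, ha, rfl⟩ := Away.mk_surjective 𝒜 hτ b
  have ha' : a ∈ 𝒜 ((m * s) • 1) := by simpa using ha
  have hb : Away.mk 𝒜 hτ m a ha = φ (Away.mk 𝒜 (hσ i₀) (m * s) a ha') * w i₀ ^ m := by
    apply val_injective
    rw [val_mul, val_pow, hφval, hwval, Away.val_mk, mk_eq]
    calc ι a * θ ^ m = ι a * θ ^ m * 1 := by rw [mul_one]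
      _ = ι a * θ ^ m * (ι (σ i₀) * ι τ' * θ) ^ (m * s) := by rw [e1, one_pow]
      _ = ι a * ι τ' ^ (m * s) * θ ^ (m * s) * (ι (σ i₀) ^ s * θ) ^ m := by ring
  rw [hb]
  exact T.mul_mem (hφT _) (T.pow_mem (hw i₀) m)

end Groth.Agent.H87.GrAway
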