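import Mathlib
import Groth.Statements.S8988
import Groth.Statements.S8991
import Groth.Agent.S8979

/-!
# Sections of h / ph sheaves on thickenings
-/

universe w v u₁ u
open CategoryTheory AlgebraicGeometry Opposite

namespace Groth.Agent.H87.HThick

/-- A sheaf of types takes a monomorphism whose generated sieve is covering to a bijection. -/
theorem bijective_map_of_mono_of_generate_mem {C : Type u₁} [Category.{v} C]
    (J : GrothendieckTopology C) (F : Sheaf J (Type w)) {X X' : C} (f : X ⟶ X') [Mono f]
    (h : Sieve.generate (Presieve.singleton f) ∈ J X') : Function.Bijective (F.obj.map f.op) := by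
  have hs : Presieve.IsSheafFor F.obj (Sieve.generate (Presieve.singleton f)).arrows :=
    ((isSheaf_iff_isSheaf_of_type J F.obj).mp F.property) _ h
  rw [← Presieve.isSheafFor_iff_generate, ← Presieve.ofArrows_pUnit.{0},
    Presieve.isSheafFor_arrows_iff] at hs
  have hcompat : ∀ y : F.obj.obj (op X), Presieve.Arrows.Compatible F.obj
      (fun _ : PUnit.{1} => f) (fun _ => y) := by
    intro y i j Z gi gj hg
    have : gi = gj := (cancel_mono f).mp hg
    rw [this]
  constructor
  · intro t₁ t₂ ht
    obtain ⟨t, -, hu⟩ := hs (fun _ => F.obj.map f.op t₁) (hcompat _)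
    rw [hu t₁ (fun _ => rfl), hu t₂ (fun _ => ht.symm)]
  · intro y
    obtain ⟨t, ht, -⟩ := hs (fun _ => y) (hcompat y)
    exact ⟨t, ht PUnit.unit⟩

/-- In an over category, the singleton sieve of `f` is covering for `J.over S` as soon as the
singleton presieve of `f.left` is in a precoverage generating `J`. -/
theorem generate_singleton_mem_over {C : Type u₁} [Category.{v} C] (K : Precoverage C) {S : C}
    {X X' : Over S} (f : X ⟶ X') (h : Presieve.singleton f.left ∈ K X'.left) :
    Sieve.generate (Presieve.singleton f) ∈ (K.toGrothendieck.over S) X' := by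
  rw [GrothendieckTopology.mem_over_iff]
  refine K.toGrothendieck.superset_covering ?_ (Precoverage.generate_mem_toGrothendieck h)
  rw [Sieve.generate_le_iff]
  rintro Z g ⟨⟩
  rw [Sieve.overEquiv_iff]
  refine ⟨X, Over.homMk (𝟙 _) (by simp), f, ⟨⟩, ?_⟩
  ext
  simp

theorem mono_of_isClosedImmersion_left {S : Scheme.{u}} {X X' : Over S} (f : X ⟶ X')
    [IsClosedImmersion f.left] : Mono f :=
  (Over.forget S).mono_of_mono_map (inferInstanceAs (Mono f.left))

end Groth.Agent.H87.HThick
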