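import Mathlib
import Groth.Agent.H87.HThick

/-!
# A thickening, as a one-member family, is a ph covering
-/

universe u
open CategoryTheory AlgebraicGeometry Opposite

namespace Groth.Agent.H87.HThick

theorem isPhCover_singleton_of_thickening {X X' : Scheme.{u}} (t : X ⟶ X') [IsClosedImmersion t]
    [Surjective t] : HTop.IsPhCover (PreZeroHypercover.singleton.{0} t) := by
  refine ⟨fun _ => (inferInstance : LocallyOfFiniteType t), fun U => ?_⟩
  refine ⟨PreZeroHypercover.singleton.{0} (t ∣_ U.1), ?_, ?_⟩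
  · refine ⟨U.2, (inferInstanceAs (Finite PUnit.{1})), fun _ => U.2.preimage t, ?_⟩
    refine ⟨_, t ∣_ U.1, fun _ => 𝟙 _, inferInstance,
      IsZariskiLocalAtTarget.restrict (P := @Surjective) ‹Surjective t› U.1,
      fun _ => (inferInstanceAs (IsOpenImmersion (𝟙 ((t ⁻¹ᵁ U.1 : X.Opens) : Scheme.{u})))), fun _ => Category.id_comp _, fun x => ⟨PUnit.unit, x, rfl⟩⟩
  · intro j
    exact ⟨PUnit.unit, (t ⁻¹ᵁ U.1).ι, (morphismRestrict_ι t U.1).symm⟩

end Groth.Agent.H87.HThick
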