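import Mathlib
import Groth.Prelude.Def_HensSch
import Groth.Agent.H3.PairHens

/-!
# `HensSch.IsHensAway` versus `Hens2.IsPairHenselization` of the localization

`IsHensAway A I f B φ` says `B` is the henselization of `(A_f, I A_f)` as an `A`-algebra.  We turn it
into `IsPairHenselization (Localization.Away f) (I A_f) B` and deduce `B / I B = A_f / I A_f`
in elementary form.
-/

set_option autoImplicit false
universe u

namespace Groth.Agent.H87.HensAwayAlg

open Hens2

variable {A : Type u} [CommRing A] {I : Ideal A} {f : A} {B : Type u} [CommRing B] {φ : A →+* B}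

/-- the induced map `A_f → B` -/
noncomputable def awayLift (h : HensSch.IsHensAway A I f B φ) : Localization.Away f →+* B :=
  IsLocalization.Away.lift f h.1

theorem awayLift_comp (h : HensSch.IsHensAway A I f B φ) :
    (awayLift h).comp (algebraMap A (Localization.Away f)) = φ :=
  IsLocalization.Away.lift_comp f h.1

theorem awayLift_algebraMap (h : HensSch.IsHensAway A I f B φ) (a : A) :
    awayLift h (algebraMap A (Localization.Away f) a) = φ a :=
  IsLocalization.Away.lift_eq f h.1 a

/-- `IsHensAway` gives a henselization of the pair `(A_f, I A_f)`. -/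
theorem isPairHenselization (h : HensSch.IsHensAway A I f B φ) :
    letI : Algebra (Localization.Away f) B := (awayLift h).toAlgebra
    IsPairHenselization (Localization.Away f) (I.map (algebraMap A (Localization.Away f))) B := by
  letI : Algebra (Localization.Away f) B := (awayLift h).toAlgebra
  have hmap : (I.map (algebraMap A (Localization.Away f))).map
      (algebraMap (Localization.Away f) B) = I.map φ := by
    rw [Ideal.map_map]
    change I.map ((awayLift h).comp (algebraMap A (Localization.Away f))) = _
    rw [awayLift_comp]
  refine ⟨?_, ?_⟩
  · rw [hmap]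
    exact h.2.1
  · intro C _ J g hC hJ
    have hJ' : I.map (g.comp (algebraMap A (Localization.Away f))) ≤ J := by
      rw [← Ideal.map_map]
      exact hJ
    have hunit : IsUnit ((g.comp (algebraMap A (Localization.Away f))) f) := by
      rw [RingHom.comp_apply]
      exact (IsLocalization.Away.algebraMap_isUnit (S := Localization.Away f) f).map g
    obtain ⟨k, hk, hku⟩ := h.2.2 C J (g.comp (algebraMap A (Localization.Away f))) hC hJ' hunit
    refine ⟨k, ?_, ?_⟩
    · apply IsLocalization.ringHom_ext (Submonoid.powers f)
      rw [RingHom.comp_assoc]
      change k.comp ((awayLift h).comp (algebraMap A (Localization.Away f))) = _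
      rw [awayLift_comp]
      exact hk
    · intro k' hk'
      apply hku
      have : k'.comp ((awayLift h).comp (algebraMap A (Localization.Away f))) =
          g.comp (algebraMap A (Localization.Away f)) := by
        rw [← RingHom.comp_assoc]
        change (k'.comp (algebraMap (Localization.Away f) B)).comp _ = _
        rw [hk']
      rwa [awayLift_comp] at this

/-- every element of `B` is, up to a power of `f`, congruent modulo `I B` to an element of `A`. -/
theorem exists_mul_pow_sub_mem (h : HensSch.IsHensAway A I f B φ) (γ : B) :
    ∃ (a : A) (n : ℕ), γ * φ f ^ n - φ a ∈ I.map φ := by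
  letI : Algebra (Localization.Away f) B := (awayLift h).toAlgebra
  have hB := isPairHenselization h
  have hmap : (I.map (algebraMap A (Localization.Away f))).map
      (algebraMap (Localization.Away f) B) = I.map φ := by
    rw [Ideal.map_map]
    change I.map ((awayLift h).comp (algebraMap A (Localization.Away f))) = _
    rw [awayLift_comp]
  obtain ⟨q, hq⟩ := Groth.Agent.H3.PairHens.exists_sub_mem hB γ
  rw [hmap] at hq
  obtain ⟨a, n, hqa⟩ : ∃ (a : A) (n : ℕ), q * algebraMap A (Localization.Away f) (f ^ n) =
      algebraMap A (Localization.Away f) a := by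
    obtain ⟨⟨a, ⟨_, n, rfl⟩⟩, ha⟩ := IsLocalization.surj (Submonoid.powers f) q
    exact ⟨a, n, ha⟩
  refine ⟨a, n, ?_⟩
  have h1 : (awayLift h) q * φ f ^ n = φ a := by
    have := congrArg (awayLift h) hqa
    rw [map_mul, awayLift_algebraMap, awayLift_algebraMap, map_pow] at this
    exact this
  have h2 : γ * φ f ^ n - φ a = (γ - algebraMap (Localization.Away f) B q) * φ f ^ n := by
    change _ = (γ - awayLift h q) * φ f ^ n
    rw [sub_mul, h1]
  rw [h2]
  exact Ideal.mul_mem_right _ _ hq

end Groth.Agent.H87.HensAwayAlg
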