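import Mathlib
import Groth.Prelude.Def_HensSch
import Groth.Agent.H87.HensAwayAlg

/-!
# Basic facts on affine Henselian spectra `HensSch.IsSph`
-/

set_option autoImplicit false
universe u

open CategoryTheory Opposite TopologicalSpace Topology AlgebraicGeometry

namespace Groth.Agent.H87.HensSchBasic

variable {A : Type u} [CommRing A] {I : Ideal A} {X : LocallyRingedSpace.{u}}
  {π : X ⟶ HensSch.specLRS A}

/-- the distinguished opens form a basis -/
theorem exists_dOpen_le (hX : HensSch.IsSph A I X π) (O : Opens X) (x : X) (hx : x ∈ O) :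
    ∃ f : A, x ∈ HensSch.dOpen π f ∧ HensSch.dOpen π f ≤ O := by
  obtain ⟨t, ht, hOt⟩ := hX.1.isInducing.isOpen_iff.mp O.isOpen
  have hxt : π.base x ∈ t := by
    have : x ∈ π.base ⁻¹' t := by rw [hOt]; exact hx
    exact this
  obtain ⟨_, ⟨f, rfl⟩, hxf, hft⟩ :=
    PrimeSpectrum.isTopologicalBasis_basic_opens.exists_subset_of_mem_open hxt ht
  refine ⟨f, hxf, ?_⟩
  intro y hy
  have : y ∈ π.base ⁻¹' t := hft hy
  rw [hOt] at this
  exact this

/-- the basic open of the section `secMap π U a` -/
theorem basicOpen_secMap (U : Opens (PrimeSpectrum A)) (a : A) :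
    X.toRingedSpace.basicOpen (HensSch.secMap π U a) =
      (Opens.map π.base).obj U ⊓ (Opens.map π.base).obj (PrimeSpectrum.basicOpen a) := by
  have h1 : HensSch.secMap π U a =
      X.presheaf.map ((Opens.map π.base).map (homOfLE (le_top : U ≤ ⊤))).op
        (π.c.app (op ⊤) ((Scheme.ΓSpecIso (CommRingCat.of A)).inv.hom a)) := rfl
  rw [h1, RingedSpace.basicOpen_res]
  congr 1
  have h2 := LocallyRingedSpace.preimage_basicOpen π
    ((Scheme.ΓSpecIso (CommRingCat.of A)).inv.hom a)
  refine h2.symm.trans ?_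
  have h3 : (HensSch.specLRS A).toRingedSpace.basicOpen
      ((Scheme.ΓSpecIso (CommRingCat.of A)).inv.hom a) = PrimeSpectrum.basicOpen a :=
    basicOpen_eq_of_affine (R := CommRingCat.of A) a
  exact congrArg (fun O => (Opens.map π.base).obj O) h3

/-- sections coming from `I` vanish at every point of `X` -/
theorem germ_mem_maximalIdeal (hX : HensSch.IsSph A I X π) (U : Opens (PrimeSpectrum A)) (x : X)
    (hx : x ∈ (Opens.map π.base).obj U) (s : X.presheaf.obj (op ((Opens.map π.base).obj U)))
    (hs : s ∈ I.map (HensSch.secMap π U)) :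
    X.presheaf.germ _ x hx s ∈ IsLocalRing.maximalIdeal (X.presheaf.stalk x) := by
  have hle : I.map (HensSch.secMap π U) ≤
      (IsLocalRing.maximalIdeal (X.presheaf.stalk x)).comap (X.presheaf.germ _ x hx).hom := by
    rw [Ideal.map_le_iff_le_comap]
    intro a ha
    rw [Ideal.mem_comap, Ideal.mem_comap, IsLocalRing.mem_maximalIdeal, mem_nonunits_iff]
    intro hunit
    have h1 : x ∈ X.toRingedSpace.basicOpen (HensSch.secMap π U a) :=
      (X.toRingedSpace.mem_basicOpen _ x hx).mpr hunit
    rw [basicOpen_secMap] at h1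
    have h2 : π.base x ∈ PrimeSpectrum.basicOpen a := h1.2
    have h3 : π.base x ∈ PrimeSpectrum.zeroLocus (I : Set A) := by
      rw [← hX.2.1]
      exact ⟨x, rfl⟩
    exact h2 (h3 ha)
  exact hle hs

/-- congruent sections modulo `I` have the same basic open -/
theorem basicOpen_eq_of_sub_mem (hX : HensSch.IsSph A I X π) (U : Opens (PrimeSpectrum A))
    (s s' : X.presheaf.obj (op ((Opens.map π.base).obj U)))
    (h : s - s' ∈ I.map (HensSch.secMap π U)) :
    X.toRingedSpace.basicOpen s = X.toRingedSpace.basicOpen s' := by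
  ext x
  constructor
  · intro hxs
    have hx : x ∈ (Opens.map π.base).obj U := X.toRingedSpace.basicOpen_le s hxs
    have h1 := (X.toRingedSpace.mem_basicOpen s x hx).mp hxs
    refine (X.toRingedSpace.mem_basicOpen s' x hx).mpr ?_
    have h2 := germ_mem_maximalIdeal hX U x hx _ h
    rw [map_sub] at h2
    by_contra hnu
    have h3 : X.presheaf.germ _ x hx s' ∈ IsLocalRing.maximalIdeal (X.presheaf.stalk x) :=
      (IsLocalRing.mem_maximalIdeal _).mpr hnu
    have h4 := Ideal.add_mem _ h2 h3
    rw [sub_add_cancel] at h4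
    exact (IsLocalRing.mem_maximalIdeal _).mp h4 h1
  · intro hxs
    have hx : x ∈ (Opens.map π.base).obj U := X.toRingedSpace.basicOpen_le s' hxs
    have h1 := (X.toRingedSpace.mem_basicOpen s' x hx).mp hxs
    refine (X.toRingedSpace.mem_basicOpen s x hx).mpr ?_
    have h2 := germ_mem_maximalIdeal hX U x hx _ h
    rw [map_sub] at h2
    by_contra hnu
    have h3 : X.presheaf.germ _ x hx s ∈ IsLocalRing.maximalIdeal (X.presheaf.stalk x) :=
      (IsLocalRing.mem_maximalIdeal _).mpr hnu
    have h4 := Ideal.sub_mem _ h3 h2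
    rw [sub_sub_cancel] at h4
    exact (IsLocalRing.mem_maximalIdeal _).mp h4 h1

end Groth.Agent.H87.HensSchBasic
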