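import Mathlib
import Groth.Prelude.Def_HensSch
import Groth.Agent.H87.HensSchBasic

/-!
# Common distinguished opens of two affine Henselian charts
-/

set_option autoImplicit false
universe u

open CategoryTheory Opposite TopologicalSpace Topology AlgebraicGeometry

namespace Groth.Agent.H87.HensSchCommon

open Groth.Agent.H87.HensSchBasic Groth.Agent.H87.HensAwayAlg

theorem exists_common_dOpen (X : LocallyRingedSpace.{u})
    (U V : LocallyRingedSpace.{u}) (iU : U ⟶ X) [hiU : LocallyRingedSpace.IsOpenImmersion iU]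
    (iV : V ⟶ X) [hiV : LocallyRingedSpace.IsOpenImmersion iV]
    (A : Type u) [CommRing A] (I : Ideal A) (πU : U ⟶ HensSch.specLRS A)
    (hU : HensSch.IsSph A I U πU)
    (B : Type u) [CommRing B] (J : Ideal B) (πV : V ⟶ HensSch.specLRS B)
    (hV : HensSch.IsSph B J V πV)
    (x : X) (hxU : x ∈ Set.range iU.base) (hxV : x ∈ Set.range iV.base) :
    ∃ (f : A) (g : B), x ∈ iU.base '' (HensSch.dOpen πU f : Set U) ∧
      iU.base '' (HensSch.dOpen πU f : Set U) = iV.base '' (HensSch.dOpen πV g : Set V) := by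
  obtain ⟨u, rfl⟩ := hxU
  obtain ⟨v, hv⟩ := hxV
  -- Step 1
  let RV : Opens X := (LocallyRingedSpace.IsOpenImmersion.opensFunctor iV).obj
    ((Opens.map πV.base).obj ⊤)
  have hRV : ∀ y : X, y ∈ RV ↔ y ∈ Set.range iV.base := by
    intro y
    constructor
    · rintro ⟨v', -, rfl⟩
      exact ⟨v', rfl⟩
    · rintro ⟨v', rfl⟩
      exact ⟨v', trivial, rfl⟩
  obtain ⟨f₀, huf₀, hf₀⟩ := exists_dOpen_le hU ((Opens.map iU.base).obj RV) u
    ((hRV _).mpr ⟨v, hv⟩)
  let Ω : Opens X := (LocallyRingedSpace.IsOpenImmersion.opensFunctor iU).obj (HensSch.dOpen πU f₀)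
  have hΩ : ∀ y : X, y ∈ Ω ↔ ∃ w ∈ HensSch.dOpen πU f₀, iU.base w = y := fun y => Iff.rfl
  have hΩRV : Ω ≤ RV := by
    rintro y ⟨w, hw, rfl⟩
    exact hf₀ hw
  -- Step 2
  obtain ⟨g₀, hvg₀, hg₀⟩ := exists_dOpen_le hV ((Opens.map iV.base).obj Ω) v
    ((hΩ _).mpr ⟨u, huf₀, hv.symm⟩)
  -- the section
  let sV : V.presheaf.obj (op ((Opens.map πV.base).obj ⊤)) := HensSch.secMap πV ⊤ g₀
  let sX : X.presheaf.obj (op RV) := (hiV.invApp iV ((Opens.map πV.base).obj ⊤)).hom sV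
  let sΩ : X.presheaf.obj (op Ω) := (X.presheaf.map (homOfLE hΩRV).op).hom sX
  let γ : U.presheaf.obj (op (HensSch.dOpen πU f₀)) :=
    (inv (hiU.invApp iU (HensSch.dOpen πU f₀))).hom sΩ
  -- Fact 1
  have hF1a : (Opens.map iV.base).obj (X.toRingedSpace.basicOpen sX) =
      (Opens.map πV.base).obj ⊤ ⊓ (Opens.map πV.base).obj (PrimeSpectrum.basicOpen g₀) := by
    rw [LocallyRingedSpace.preimage_basicOpen iV sX, ← basicOpen_secMap]
    have heq : op ((Opens.map πV.base).obj ⊤) = op ((Opens.map iV.base).obj RV) := by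
      congr 1
      ext y
      exact ⟨fun hy => ⟨y, hy, rfl⟩, fun ⟨y', hy', hyy'⟩ => hiV.base_open.injective hyy' ▸ hy'⟩
    have h1 : (iV.c.app (op RV)).hom sX = (V.presheaf.map (eqToHom heq)).hom sV :=
      LocallyRingedSpace.IsOpenImmersion.invApp_app_apply iV ((Opens.map πV.base).obj ⊤) sV
    rw [h1]
    exact RingedSpace.basicOpen_res_eq V.toRingedSpace _ sV
  have hF1 : ∀ y : X, y ∈ X.toRingedSpace.basicOpen sX ↔
      ∃ v' ∈ HensSch.dOpen πV g₀, iV.base v' = y := by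
    intro y
    constructor
    · intro hy
      obtain ⟨v', rfl⟩ := (hRV y).mp (X.toRingedSpace.basicOpen_le sX hy)
      have h2 : v' ∈ (Opens.map iV.base).obj (X.toRingedSpace.basicOpen sX) := hy
      rw [hF1a] at h2
      exact ⟨v', h2.2, rfl⟩
    · rintro ⟨v', hv', rfl⟩
      have h2 : v' ∈ (Opens.map iV.base).obj (X.toRingedSpace.basicOpen sX) := by
        rw [hF1a]
        exact ⟨trivial, hv'⟩
      exact h2
  -- Fact 2 and 3
  have hF2 : X.toRingedSpace.basicOpen sΩ = Ω ⊓ X.toRingedSpace.basicOpen sX :=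
    RingedSpace.basicOpen_res X.toRingedSpace (homOfLE hΩRV).op sX
  have hF3 : U.toRingedSpace.basicOpen γ =
      (Opens.map iU.base).obj (X.toRingedSpace.basicOpen sΩ) := by
    rw [LocallyRingedSpace.preimage_basicOpen iU sΩ]
    have heq : op ((Opens.map iU.base).obj Ω) = op (HensSch.dOpen πU f₀) := by
      congr 1
      ext y
      exact ⟨fun ⟨y', hy', hyy'⟩ => hiU.base_open.injective hyy' ▸ hy', fun hy => ⟨y, hy, rfl⟩⟩
    have h1 : γ = (U.presheaf.map (eqToHom heq)).hom ((iU.c.app (op Ω)).hom sΩ) := by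
      have := LocallyRingedSpace.IsOpenImmersion.inv_invApp iU (HensSch.dOpen πU f₀)
      change (inv (hiU.invApp iU (HensSch.dOpen πU f₀))).hom sΩ = _
      rw [this]
      rfl
    rw [h1]
    exact RingedSpace.basicOpen_res_eq U.toRingedSpace _ _
  -- Fact 4
  obtain ⟨a, n, han⟩ := exists_mul_pow_sub_mem (hU.2.2 f₀) γ
  have hF4 : U.toRingedSpace.basicOpen γ =
      (Opens.map πU.base).obj (PrimeSpectrum.basicOpen f₀) ⊓
        (Opens.map πU.base).obj (PrimeSpectrum.basicOpen a) := by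
    rw [← basicOpen_secMap, ← basicOpen_eq_of_sub_mem hU _ _ _ han, RingedSpace.basicOpen_mul,
      RingedSpace.basicOpen_of_isUnit _ ((hU.2.2 f₀).1.pow n)]
    exact (inf_eq_left.mpr (U.toRingedSpace.basicOpen_le γ)).symm
  have hmem : ∀ w : U, w ∈ HensSch.dOpen πU (f₀ * a) ↔ w ∈ U.toRingedSpace.basicOpen γ := by
    intro w
    rw [hF4]
    change πU.base w ∈ PrimeSpectrum.basicOpen (f₀ * a) ↔
      πU.base w ∈ PrimeSpectrum.basicOpen f₀ ∧ πU.base w ∈ PrimeSpectrum.basicOpen a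
    rw [PrimeSpectrum.basicOpen_mul]
    rfl
  have hset : iU.base '' (HensSch.dOpen πU (f₀ * a) : Set U) =
      iV.base '' (HensSch.dOpen πV g₀ : Set V) := by
    ext y
    constructor
    · rintro ⟨w, hw, rfl⟩
      have h1 : w ∈ U.toRingedSpace.basicOpen γ := (hmem w).mp hw
      rw [hF3, hF2] at h1
      obtain ⟨v', hv', hv'e⟩ := (hF1 _).mp h1.2
      exact ⟨v', hv', hv'e⟩
    · rintro ⟨v', hv', rfl⟩
      obtain ⟨w, hw, hwe⟩ := (hΩ _).mp (hg₀ hv')
      refine ⟨w, (hmem w).mpr ?_, hwe⟩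
      rw [hF3, hF2]
      refine ⟨(hΩ _).mpr ⟨w, hw, rfl⟩, ?_⟩
      exact (hF1 _).mpr ⟨v', hv', hwe.symm⟩
  refine ⟨f₀ * a, g₀, ?_, hset⟩
  rw [hset]
  exact ⟨v, hvg₀, hv⟩

end Groth.Agent.H87.HensSchCommon
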