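import Mathlib
import Groth.Prelude.Def_HensSch
import Groth.Agent.H87.HensAwayAlg
import Groth.Agent.H87.HensSchBasic
import Groth.Agent.H3.HensRadical
import Groth.Agent.H3.HensIso

/-!
# Ring-level lemmas for the universal property of the Henselization along a closed subset
-/

set_option autoImplicit false
universe u

open CategoryTheory Opposite TopologicalSpace Topology AlgebraicGeometry

namespace Groth.Agent.H87.HensUP

open Groth.Agent.H87.HensSchBasic Groth.Agent.H87.HensAwayAlg

section Alg

variable {A : Type u} [CommRing A] {I : Ideal A} {f : A} {B : Type u} [CommRing B] {φ : A →+* B}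

/-- ring maps out of a Henselization to a Henselian pair are determined by their restriction -/
theorem hom_ext_of_isHensAway (h : HensSch.IsHensAway A I f B φ) {R : Type u} [CommRing R]
    (K : Ideal R) (hK : HenselianRing R K) (α β : B →+* R) (hαβ : α.comp φ = β.comp φ)
    (hI : I.map (α.comp φ) ≤ K) : α = β := by
  obtain ⟨k, -, huniq⟩ := h.2.2 R K (α.comp φ) hK hI (h.1.map α)
  exact (huniq α rfl).trans (huniq β hαβ.symm).symm

theorem exists_hom_of_isHensAway (h : HensSch.IsHensAway A I f B φ) {R : Type u} [CommRing R]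
    (K : Ideal R) (hK : HenselianRing R K) (γ : A →+* R) (hI : I.map γ ≤ K)
    (hf : IsUnit (γ f)) : ∃ α : B →+* R, α.comp φ = γ := by
  obtain ⟨k, hk, -⟩ := h.2.2 R K γ hK hI hf
  exact ⟨k, hk⟩

/-- transport along a bijective ring map -/
theorem isHensAway_of_bijective (h : HensSch.IsHensAway A I f B φ) {B' : Type u} [CommRing B']
    (e : B' →+* B) (he : Function.Bijective e) (φ' : A →+* B') (hφ : e.comp φ' = φ) :
    HensSch.IsHensAway A I f B' φ' := by
  let E : B' ≃+* B := RingEquiv.ofBijective e he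
  have hE : ∀ b, E b = e b := fun b => rfl
  have hφ' : φ' = (E.symm : B →+* B').comp φ := by
    ext a
    change φ' a = E.symm (φ a)
    rw [← hφ]
    change φ' a = E.symm (e (φ' a))
    rw [← hE, RingEquiv.symm_apply_apply]
  refine ⟨?_, ?_, ?_⟩
  · rw [hφ']
    exact h.1.map (E.symm : B →+* B')
  · have := Groth.Agent.H3.HensIso.henselianRing_of_ringEquiv E.symm _ h.2.1
    rw [Ideal.map_map] at this
    rw [hφ']
    exact this
  · intro C _ J g hJ hIJ hgf
    obtain ⟨k, hk, huniq⟩ := h.2.2 C J g hJ hIJ hgf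
    refine ⟨k.comp e, ?_, ?_⟩
    · change (k.comp e).comp φ' = g
      rw [RingHom.comp_assoc, hφ, hk]
    · intro k' hk'
      have h1 : (k'.comp (E.symm : B →+* B')).comp φ = g := by
        rw [RingHom.comp_assoc, ← hφ', hk']
      have h2 := huniq _ h1
      ext b
      have h3 := congrArg (fun m : B →+* C => m (e b)) h2
      simp only [RingHom.comp_apply] at h3
      rw [RingHom.comp_apply, ← h3]
      congr 1
      change b = E.symm (E b)
      rw [RingEquiv.symm_apply_apply]

end Alg

section Vanish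

variable {A : Type u} [CommRing A] {I : Ideal A} {X : LocallyRingedSpace.{u}}
  {π : X ⟶ HensSch.specLRS A}

/-- a section over a distinguished open vanishing at every point lies in the radical of `I` -/
theorem mem_radical_of_germ_mem (hX : HensSch.IsSph A I X π) (c : A)
    (s : X.presheaf.obj (op (HensSch.dOpen π c)))
    (hs : ∀ (x : X) (hx : x ∈ HensSch.dOpen π c),
      X.presheaf.germ _ x hx s ∈ IsLocalRing.maximalIdeal (X.presheaf.stalk x)) :
    s ∈ (I.map (HensSch.secMap π (PrimeSpectrum.basicOpen c))).radical := by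
  rw [Ideal.radical_eq_sInf, Ideal.mem_sInf]
  rintro q ⟨hq, hqp⟩
  obtain ⟨φ, hφ⟩ : ∃ φ, φ = HensSch.secMap π (PrimeSpectrum.basicOpen c) := ⟨_, rfl⟩
  rw [← hφ] at hq
  have hHA := hX.2.2 c
  rw [← hφ] at hHA
  obtain ⟨a, n, han⟩ := exists_mul_pow_sub_mem hHA s
  have hcq : φ c ∉ q := fun hc => hqp.ne_top (Ideal.eq_top_of_isUnit_mem _ hc hHA.1)
  let P : PrimeSpectrum A := ⟨q.comap φ, inferInstance⟩
  have hP : P ∈ PrimeSpectrum.zeroLocus (I : Set A) := by
    intro a' ha'
    exact hq (Ideal.mem_map_of_mem φ ha')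
  rw [← hX.2.1] at hP
  obtain ⟨x, hx⟩ := hP
  have hxc : x ∈ HensSch.dOpen π c := by
    change π.base x ∈ PrimeSpectrum.basicOpen c
    rw [hx]
    exact hcq
  have haq : φ a ∈ q := by
    by_contra hna
    have hxa : π.base x ∈ PrimeSpectrum.basicOpen a := by
      rw [hx]
      exact hna
    have h1 : x ∈ X.toRingedSpace.basicOpen (HensSch.secMap π (PrimeSpectrum.basicOpen c) a) := by
      rw [basicOpen_secMap]
      exact ⟨hxc, hxa⟩
    have h2 := (X.toRingedSpace.mem_basicOpen _ x hxc).mp h1
    have h3 : X.presheaf.germ _ x hxc (φ a) ∈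
        IsLocalRing.maximalIdeal (X.presheaf.stalk x) := by
      have h4 : φ a = s * φ c ^ n - (s * φ c ^ n - φ a) := by ring
      rw [h4, map_sub, map_mul]
      refine Ideal.sub_mem _ (Ideal.mul_mem_right _ _ (hs x hxc)) ?_
      have := germ_mem_maximalIdeal hX (PrimeSpectrum.basicOpen c) x hxc _ (hφ ▸ han)
      rw [hφ]
      exact this
    rw [hφ] at h3
    exact (IsLocalRing.mem_maximalIdeal _).mp h3 h2
  have h5 : s * φ c ^ n ∈ q := by
    have := Ideal.add_mem _ (hq han) haq
    rwa [sub_add_cancel] at this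
  rcases hqp.mem_or_mem h5 with h6 | h6
  · exact h6
  · exact absurd (hqp.mem_of_pow_mem n h6) hcq

end Vanish

end Groth.Agent.H87.HensUP
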