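import Groth.Agent.H87.HensUPGood3

set_option autoImplicit false
universe u

open CategoryTheory Opposite TopologicalSpace Topology AlgebraicGeometry

namespace Groth.Agent.H87.HensUP

section Alpha

variable {X : Scheme.{u}} {Y : Set X} {Xh : LocallyRingedSpace.{u}}
  {ι : Xh ⟶ X.toLocallyRingedSpace}
  {Z : LocallyRingedSpace.{u}} {g : Z ⟶ X.toLocallyRingedSpace}

/-- the map `O_X(U) → O_Z(T)` induced by `g`, for `T ⊆ g⁻¹ U` -/
noncomputable def gRes (g : Z ⟶ X.toLocallyRingedSpace) (U : X.Opens) (T : Opens Z)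
    (hTU : T ≤ (Opens.map g.base).obj U) :
    X.presheaf.obj (op U) →+* Z.presheaf.obj (op T) :=
  (g.c.app (op U) ≫ Z.presheaf.map (homOfLE hTU).op).hom

theorem gRes_apply (U : X.Opens) (T : Opens Z) (hTU : T ≤ (Opens.map g.base).obj U)
    (s : X.presheaf.obj (op U)) :
    gRes g U T hTU s = (Z.presheaf.map (homOfLE hTU).op).hom ((g.c.app (op U)).hom s) := rfl

theorem existsUnique_alpha (hg : Set.range g.base ⊆ Y) {U : X.Opens} (hU : IsGood X Y ι U)
    {T : Opens Z} (hT : IsHensOpen Z T) (hTU : T ≤ (Opens.map g.base).obj U) :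
    ∃! α : Xh.presheaf.obj (op ((Opens.map ι.base).obj U)) →+* Z.presheaf.obj (op T),
      α.comp (ι.c.app (op U)).hom = gRes g U T hTU := by
  obtain ⟨A, _, I, f, ψ, hHA, hunit, hepi, hvan⟩ := hU
  obtain ⟨K, hK, hKv⟩ := hT
  obtain ⟨γ₀, hγ₀⟩ : ∃ γ₀, γ₀ = (gRes g U T hTU).comp ψ := ⟨_, rfl⟩
  have hIK : I.map γ₀ ≤ K := by
    rw [Ideal.map_le_iff_le_comap]
    intro a ha
    refine hKv _ ?_
    intro z hz
    rw [hγ₀, RingHom.comp_apply, gRes_apply, TopCat.Presheaf.germ_res_apply]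
    exact (germ_app_mem_iff g U (ψ a) z (hTU hz)).mpr
      (hvan a ha (g.base z) (hTU hz) (hg ⟨z, rfl⟩))
  have hfu : IsUnit (γ₀ f) := by
    rw [hγ₀]
    exact hunit.map (gRes g U T hTU)
  obtain ⟨α, hα⟩ := exists_hom_of_isHensAway hHA K hK γ₀ hIK hfu
  refine ⟨α, ?_, ?_⟩
  · apply hepi
    rw [RingHom.comp_assoc, hα, hγ₀]
  · intro β hβ
    refine hom_ext_of_isHensAway hHA K hK β α ?_ ?_
    · rw [hα, ← RingHom.comp_assoc, hβ, hγ₀]
    · rw [← RingHom.comp_assoc, hβ, ← hγ₀]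
      exact hIK

/-- the canonical map `O_Xh(ι⁻¹U) → O_Z(T)` -/
noncomputable def alpha (hg : Set.range g.base ⊆ Y) {U : X.Opens} (hU : IsGood X Y ι U)
    {T : Opens Z} (hT : IsHensOpen Z T) (hTU : T ≤ (Opens.map g.base).obj U) :
    Xh.presheaf.obj (op ((Opens.map ι.base).obj U)) →+* Z.presheaf.obj (op T) :=
  (existsUnique_alpha hg hU hT hTU).choose

theorem alpha_spec (hg : Set.range g.base ⊆ Y) {U : X.Opens} (hU : IsGood X Y ι U)
    {T : Opens Z} (hT : IsHensOpen Z T) (hTU : T ≤ (Opens.map g.base).obj U) :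
    (alpha hg hU hT hTU).comp (ι.c.app (op U)).hom = gRes g U T hTU :=
  (existsUnique_alpha hg hU hT hTU).choose_spec.1

theorem alpha_uniq (hg : Set.range g.base ⊆ Y) {U : X.Opens} (hU : IsGood X Y ι U)
    {T : Opens Z} (hT : IsHensOpen Z T) (hTU : T ≤ (Opens.map g.base).obj U)
    (β : Xh.presheaf.obj (op ((Opens.map ι.base).obj U)) →+* Z.presheaf.obj (op T))
    (hβ : β.comp (ι.c.app (op U)).hom = gRes g U T hTU) : β = alpha hg hU hT hTU :=
  (existsUnique_alpha hg hU hT hTU).choose_spec.2 β hβ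

theorem gRes_res_left {U : X.Opens} {T T' : Opens Z} (hTU : T ≤ (Opens.map g.base).obj U)
    (hTT' : T' ≤ T) :
    (Z.presheaf.map (homOfLE hTT').op).hom.comp (gRes g U T hTU) =
      gRes g U T' (hTT'.trans hTU) := by
  ext s
  rw [RingHom.comp_apply, gRes_apply, gRes_apply, ← CommRingCat.comp_apply,
    ← Functor.map_comp]
  rfl

theorem gRes_res_right {U U' : X.Opens} (hUU' : U' ≤ U) {T' : Opens Z}
    (hTU' : T' ≤ (Opens.map g.base).obj U') :
    (gRes g U' T' hTU').comp (X.presheaf.map (homOfLE hUU').op).hom =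
      gRes g U T' (hTU'.trans ((Opens.map g.base).map (homOfLE hUU')).le) := by
  ext s
  rw [RingHom.comp_apply, gRes_apply, gRes_apply]
  have h1 := g.c.naturality (homOfLE hUU').op
  have h2 : (g.c.app (op U')).hom ((X.presheaf.map (homOfLE hUU').op).hom s) =
      (Z.presheaf.map ((Opens.map g.base).map (homOfLE hUU')).op).hom
        ((g.c.app (op U)).hom s) := congrArg (fun m => m.hom s) h1
  rw [h2, ← CommRingCat.comp_apply, ← Functor.map_comp]
  rfl

theorem alpha_res (hg : Set.range g.base ⊆ Y) {U U' : X.Opens} (hU : IsGood X Y ι U)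
    (hU' : IsGood X Y ι U') (hUU' : U' ≤ U) {T T' : Opens Z} (hT : IsHensOpen Z T)
    (hT' : IsHensOpen Z T') (hTU : T ≤ (Opens.map g.base).obj U)
    (hTU' : T' ≤ (Opens.map g.base).obj U') (hTT' : T' ≤ T) :
    (Z.presheaf.map (homOfLE hTT').op).hom.comp (alpha hg hU hT hTU) =
      (alpha hg hU' hT' hTU').comp
        (Xh.presheaf.map ((Opens.map ι.base).map (homOfLE hUU')).op).hom := by
  have h1 : (Z.presheaf.map (homOfLE hTT').op).hom.comp (alpha hg hU hT hTU) =
      alpha hg hU hT' (hTT'.trans hTU) := by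
    apply alpha_uniq
    rw [RingHom.comp_assoc, alpha_spec, gRes_res_left]
  have h2 : (alpha hg hU' hT' hTU').comp
      (Xh.presheaf.map ((Opens.map ι.base).map (homOfLE hUU')).op).hom =
      alpha hg hU hT' (hTT'.trans hTU) := by
    apply alpha_uniq
    have h3 := ι.c.naturality (homOfLE hUU').op
    have h4 : (Xh.presheaf.map ((Opens.map ι.base).map (homOfLE hUU')).op).hom.comp
        (ι.c.app (op U)).hom = (ι.c.app (op U')).hom.comp (X.presheaf.map (homOfLE hUU').op).hom := by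
      ext s
      exact (congrArg (fun m => m.hom s) h3).symm
    rw [RingHom.comp_assoc, h4, ← RingHom.comp_assoc, alpha_spec, gRes_res_right]
  rw [h1, h2]

end Alpha

end Groth.Agent.H87.HensUP
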