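import Groth.Agent.H87.HensUPAlpha

set_option autoImplicit false
universe u

open CategoryTheory Opposite TopologicalSpace Topology AlgebraicGeometry

namespace Groth.Agent.H87.HensUP

section Glue

variable {X : Scheme.{u}} {Y : Set X} {Xh : LocallyRingedSpace.{u}}
  {ι : Xh ⟶ X.toLocallyRingedSpace}
  {Z : LocallyRingedSpace.{u}} {g : Z ⟶ X.toLocallyRingedSpace}

/-- index for the gluing: a good open `U` of `X`, a Henselian open `T` of `Z` mapping into `U`,
with `ι⁻¹ U ⊆ W`. -/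
structure Idx (Y : Set X) (ι : Xh ⟶ X.toLocallyRingedSpace) (g : Z ⟶ X.toLocallyRingedSpace)
    (W : Opens Xh) where
  U : X.Opens
  T : Opens Z
  hU : IsGood X Y ι U
  hT : IsHensOpen Z T
  hTU : T ≤ (Opens.map g.base).obj U
  hUW : (Opens.map ι.base).obj U ≤ W

variable (gb : Z.toTopCat ⟶ Xh.toTopCat) (hgb : ∀ z, ι.base (gb z) = g.base z)

include hgb in
theorem Idx.le_preimage {W : Opens Xh} (p : Idx Y ι g W) : p.T ≤ (Opens.map gb).obj W := by
  intro z hz
  apply p.hUW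
  change ι.base (gb z) ∈ p.U
  rw [hgb]
  exact p.hTU hz

/-- change the target open -/
abbrev Idx.ofLE {W W' : Opens Xh} (p : Idx Y ι g W') (h : W' ≤ W) : Idx Y ι g W :=
  ⟨p.U, p.T, p.hU, p.hT, p.hTU, p.hUW.trans h⟩

include hgb in
theorem exists_idx (hh : HensSch.IsHenselizationAlong X Y Xh ι) (hZ : HensSch.IsHensScheme Z)
    (hg : Set.range g.base ⊆ Y) (W : Opens Xh) (z : Z) (hz : gb z ∈ W) (S : Opens Z)
    (hzS : z ∈ S) (U₀ : X.Opens) (hzU₀ : g.base z ∈ U₀) :
    ∃ p : Idx Y ι g W, z ∈ p.T ∧ p.T ≤ S ∧ p.U ≤ U₀ := by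
  obtain ⟨U₁, hU₁o, hU₁⟩ := hh.2.1.isInducing.isOpen_iff.mp W.isOpen
  have hz1 : g.base z ∈ (⟨U₁, hU₁o⟩ : X.Opens) ⊓ U₀ := by
    refine ⟨?_, hzU₀⟩
    change g.base z ∈ U₁
    rw [← hgb]
    have : gb z ∈ ι.base ⁻¹' U₁ := by
      rw [hU₁]
      exact hz
    exact this
  obtain ⟨U, hUg, hzU, hUle⟩ := exists_isGood hh (g.base z) (hg ⟨z, rfl⟩) _ hz1
  obtain ⟨T, hT, hzT, hTle⟩ := exists_isHensOpen hZ ((Opens.map g.base).obj U ⊓ S) z ⟨hzU, hzS⟩
  refine ⟨⟨U, T, hUg, hT, hTle.trans inf_le_left, ?_⟩, hzT, hTle.trans inf_le_right,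
    hUle.trans inf_le_right⟩
  intro y hy
  have h1 : ι.base y ∈ U₁ := (hUle hy).1
  have h2 : y ∈ ι.base ⁻¹' U₁ := h1
  rw [hU₁] at h2
  exact h2

/-- the local pieces of the comorphism -/
noncomputable def sfHom (hg : Set.range g.base ⊆ Y) {W : Opens Xh} (p : Idx Y ι g W) :
    Xh.presheaf.obj (op W) →+* Z.presheaf.obj (op p.T) :=
  (alpha hg p.hU p.hT p.hTU).comp (Xh.presheaf.map (homOfLE p.hUW).op).hom

theorem sfHom_res (hg : Set.range g.base ⊆ Y) {W : Opens Xh} (p r : Idx Y ι g W)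
    (hU : r.U ≤ p.U) (hT : r.T ≤ p.T) :
    (Z.presheaf.map (homOfLE hT).op).hom.comp (sfHom hg p) = sfHom hg r := by
  unfold sfHom
  rw [← RingHom.comp_assoc, alpha_res hg p.hU r.hU hU p.hT r.hT p.hTU r.hTU hT,
    RingHom.comp_assoc]
  congr 1
  ext s
  rw [RingHom.comp_apply, ← CommRingCat.comp_apply, ← Functor.map_comp]
  rfl

theorem sfHom_ofLE (hg : Set.range g.base ⊆ Y) {W W' : Opens Xh} (p : Idx Y ι g W')
    (h : W' ≤ W) :
    sfHom hg (p.ofLE h) = (sfHom hg p).comp (Xh.presheaf.map (homOfLE h).op).hom := by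
  unfold sfHom
  rw [RingHom.comp_assoc]
  congr 1
  ext s
  rw [RingHom.comp_apply, ← CommRingCat.comp_apply, ← Functor.map_comp]
  rfl

include hgb in
/-- sections of `O_Z` over `gb⁻¹ W` are determined by their restrictions to the `T`'s -/
theorem sec_ext (hh : HensSch.IsHenselizationAlong X Y Xh ι) (hZ : HensSch.IsHensScheme Z)
    (hg : Set.range g.base ⊆ Y) (W : Opens Xh) (U₀ : X.Opens)
    (hWU₀ : ∀ z, gb z ∈ W → g.base z ∈ U₀)
    (t t' : Z.presheaf.obj (op ((Opens.map gb).obj W)))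
    (h : ∀ p : Idx Y ι g W, p.U ≤ U₀ →
      (Z.presheaf.map (homOfLE (p.le_preimage gb hgb)).op).hom t =
        (Z.presheaf.map (homOfLE (p.le_preimage gb hgb)).op).hom t') : t = t' := by
  refine TopCat.Presheaf.IsSheaf.section_ext Z.IsSheaf (U := op ((Opens.map gb).obj W))
    fun z hz => ?_
  obtain ⟨p, hzp, -, hpU⟩ := exists_idx gb hgb hh hZ hg W z hz ⊤ trivial U₀ (hWU₀ z hz)
  exact ⟨p.T, p.le_preimage gb hgb, hzp, h p hpU⟩

include hgb in
theorem isCompatible_sf (hh : HensSch.IsHenselizationAlong X Y Xh ι)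
    (hZ : HensSch.IsHensScheme Z) (hg : Set.range g.base ⊆ Y) (W : Opens Xh)
    (s : Xh.presheaf.obj (op W)) :
    TopCat.Presheaf.IsCompatible Z.presheaf (fun p : Idx Y ι g W => p.T)
      (fun p => sfHom hg p s) := by
  intro p q
  refine TopCat.Presheaf.IsSheaf.section_ext Z.IsSheaf (U := op (p.T ⊓ q.T)) fun z hz => ?_
  have hzW : gb z ∈ W := p.le_preimage gb hgb hz.1
  obtain ⟨r, hzr, hrT, hrU⟩ := exists_idx gb hgb hh hZ hg W z hzW (p.T ⊓ q.T) hz (p.U ⊓ q.U)
    ⟨p.hTU hz.1, q.hTU hz.2⟩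
  refine ⟨r.T, hrT, hzr, ?_⟩
  have h1 := congrArg (fun m => m s)
    (sfHom_res hg p r (hrU.trans inf_le_left) (hrT.trans inf_le_left))
  have h2 := congrArg (fun m => m s)
    (sfHom_res hg q r (hrU.trans inf_le_right) (hrT.trans inf_le_right))
  simp only [RingHom.comp_apply] at h1 h2
  change (Z.presheaf.map (homOfLE hrT).op).hom
      ((Z.presheaf.map (homOfLE inf_le_left).op).hom (sfHom hg p s)) =
    (Z.presheaf.map (homOfLE hrT).op).hom
      ((Z.presheaf.map (homOfLE inf_le_right).op).hom (sfHom hg q s))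
  rw [← CommRingCat.comp_apply, ← CommRingCat.comp_apply, ← Functor.map_comp,
    ← Functor.map_comp]
  exact h1.trans h2.symm

include hgb in
theorem cover_le (hh : HensSch.IsHenselizationAlong X Y Xh ι) (hZ : HensSch.IsHensScheme Z)
    (hg : Set.range g.base ⊆ Y) (W : Opens Xh) :
    (Opens.map gb).obj W ≤ ⨆ p : Idx Y ι g W, p.T := by
  intro z hz
  obtain ⟨p, hzp, -, -⟩ := exists_idx gb hgb hh hZ hg W z hz ⊤ trivial ⊤ trivial
  exact Opens.mem_iSup.mpr ⟨p, hzp⟩

theorem existsUnique_gamma (hh : HensSch.IsHenselizationAlong X Y Xh ι)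
    (hZ : HensSch.IsHensScheme Z) (hg : Set.range g.base ⊆ Y) (W : Opens Xh)
    (s : Xh.presheaf.obj (op W)) :
    ∃! t : Z.presheaf.obj (op ((Opens.map gb).obj W)), ∀ p : Idx Y ι g W,
      (Z.presheaf.map (homOfLE (p.le_preimage gb hgb)).op).hom t = sfHom hg p s :=
  Z.sheaf.existsUnique_gluing' (fun p : Idx Y ι g W => p.T) ((Opens.map gb).obj W)
    (fun p => homOfLE (p.le_preimage gb hgb)) (cover_le gb hgb hh hZ hg W)
    (fun p => sfHom hg p s) (isCompatible_sf gb hgb hh hZ hg W s)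

/-- the glued section -/
noncomputable def gammaFun (hh : HensSch.IsHenselizationAlong X Y Xh ι)
    (hZ : HensSch.IsHensScheme Z) (hg : Set.range g.base ⊆ Y) (W : Opens Xh)
    (s : Xh.presheaf.obj (op W)) : Z.presheaf.obj (op ((Opens.map gb).obj W)) :=
  (existsUnique_gamma gb hgb hh hZ hg W s).choose

theorem gammaFun_spec (hh : HensSch.IsHenselizationAlong X Y Xh ι)
    (hZ : HensSch.IsHensScheme Z) (hg : Set.range g.base ⊆ Y) (W : Opens Xh)
    (s : Xh.presheaf.obj (op W)) (p : Idx Y ι g W) :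
    (Z.presheaf.map (homOfLE (p.le_preimage gb hgb)).op).hom (gammaFun gb hgb hh hZ hg W s) =
      sfHom hg p s :=
  (existsUnique_gamma gb hgb hh hZ hg W s).choose_spec.1 p

/-- the comorphism on sections over `W` -/
noncomputable def gammaHom (hh : HensSch.IsHenselizationAlong X Y Xh ι)
    (hZ : HensSch.IsHensScheme Z) (hg : Set.range g.base ⊆ Y) (W : Opens Xh) :
    Xh.presheaf.obj (op W) →+* Z.presheaf.obj (op ((Opens.map gb).obj W)) where
  toFun := gammaFun gb hgb hh hZ hg W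
  map_one' := by
    apply sec_ext gb hgb hh hZ hg W ⊤ (fun _ _ => trivial)
    intro p _
    rw [gammaFun_spec, map_one, map_one]
  map_mul' s t := by
    apply sec_ext gb hgb hh hZ hg W ⊤ (fun _ _ => trivial)
    intro p _
    rw [gammaFun_spec, map_mul, map_mul, gammaFun_spec, gammaFun_spec]
  map_zero' := by
    apply sec_ext gb hgb hh hZ hg W ⊤ (fun _ _ => trivial)
    intro p _
    rw [gammaFun_spec, map_zero, map_zero]
  map_add' s t := by
    apply sec_ext gb hgb hh hZ hg W ⊤ (fun _ _ => trivial)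
    intro p _
    rw [gammaFun_spec, map_add, map_add, gammaFun_spec, gammaFun_spec]

theorem gammaHom_spec (hh : HensSch.IsHenselizationAlong X Y Xh ι)
    (hZ : HensSch.IsHensScheme Z) (hg : Set.range g.base ⊆ Y) (W : Opens Xh)
    (s : Xh.presheaf.obj (op W)) (p : Idx Y ι g W) :
    (Z.presheaf.map (homOfLE (p.le_preimage gb hgb)).op).hom (gammaHom gb hgb hh hZ hg W s) =
      sfHom hg p s :=
  gammaFun_spec gb hgb hh hZ hg W s p

theorem gammaHom_res (hh : HensSch.IsHenselizationAlong X Y Xh ι)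
    (hZ : HensSch.IsHensScheme Z) (hg : Set.range g.base ⊆ Y) {W W' : Opens Xh} (h : W' ≤ W)
    (s : Xh.presheaf.obj (op W)) :
    (Z.presheaf.map ((Opens.map gb).map (homOfLE h)).op).hom (gammaHom gb hgb hh hZ hg W s) =
      gammaHom gb hgb hh hZ hg W' ((Xh.presheaf.map (homOfLE h).op).hom s) := by
  apply sec_ext gb hgb hh hZ hg W' ⊤ (fun _ _ => trivial)
  intro p _
  rw [gammaHom_spec, ← CommRingCat.comp_apply, ← Functor.map_comp]
  have := gammaHom_spec gb hgb hh hZ hg W s (p.ofLE h)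
  rw [sfHom_ofLE] at this
  exact this

end Glue

end Groth.Agent.H87.HensUP
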