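import Mathlib
import Groth.Prelude.Def_HensSch
import Groth.Agent.H87.HensUPAlg

/-!
# Henselian opens of a Henselian scheme
-/

set_option autoImplicit false
universe u

open CategoryTheory Opposite TopologicalSpace Topology AlgebraicGeometry

namespace Groth.Agent.H87.HensUP

open Groth.Agent.H87.HensSchBasic Groth.Agent.H87.HensAwayAlg

/-- vanishing of a section at a point is compatible with pulling back along a morphism of
locally ringed spaces -/
theorem germ_app_mem_iff {X Y : LocallyRingedSpace.{u}} (f : X ⟶ Y) (U : Opens Y)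
    (s : Y.presheaf.obj (op U)) (x : X) (hx : f.base x ∈ U) :
    X.presheaf.germ ((Opens.map f.base).obj U) x hx ((f.c.app (op U)).hom s) ∈
        IsLocalRing.maximalIdeal (X.presheaf.stalk x) ↔
      Y.presheaf.germ U (f.base x) hx s ∈
        IsLocalRing.maximalIdeal (Y.presheaf.stalk (f.base x)) := by
  rw [IsLocalRing.mem_maximalIdeal, IsLocalRing.mem_maximalIdeal, mem_nonunits_iff,
    mem_nonunits_iff, not_iff_not]
  have h1 := LocallyRingedSpace.preimage_basicOpen f s
  have h2 : x ∈ (Opens.map f.base).obj (Y.toRingedSpace.basicOpen s) ↔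
      IsUnit (Y.presheaf.germ U (f.base x) hx s) :=
    Y.toRingedSpace.mem_basicOpen s (f.base x) hx
  rw [h1] at h2
  rw [← h2]
  exact (X.toRingedSpace.mem_basicOpen _ x hx).symm

/-- An open of a locally ringed space whose ring of sections is Henselian along an ideal containing
all sections vanishing at every point of the open. -/
def IsHensOpen (Z : LocallyRingedSpace.{u}) (T : Opens Z) : Prop :=
  ∃ K : Ideal (Z.presheaf.obj (op T)), HenselianRing (Z.presheaf.obj (op T)) K ∧
    ∀ s : Z.presheaf.obj (op T),
      (∀ (z : Z) (hz : z ∈ T),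
        Z.presheaf.germ T z hz s ∈ IsLocalRing.maximalIdeal (Z.presheaf.stalk z)) → s ∈ K

/-- Henselian opens form a basis of a Henselian scheme. -/
theorem exists_isHensOpen {Z : LocallyRingedSpace.{u}} (hZ : HensSch.IsHensScheme Z)
    (S : Opens Z) (z : Z) (hz : z ∈ S) : ∃ T : Opens Z, IsHensOpen Z T ∧ z ∈ T ∧ T ≤ S := by
  obtain ⟨U, i, hi, ⟨u, rfl⟩, C, _, J, π, hCJ, -, hsph⟩ := hZ z
  obtain ⟨c, huc, hc⟩ := exists_dOpen_le hsph ((Opens.map i.base).obj S) u hz
  refine ⟨(LocallyRingedSpace.IsOpenImmersion.opensFunctor i).obj (HensSch.dOpen π c), ?_,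
    ⟨u, huc, rfl⟩, ?_⟩
  · -- the ring iso
    let E : U.presheaf.obj (op (HensSch.dOpen π c)) ≃+*
        Z.presheaf.obj (op ((LocallyRingedSpace.IsOpenImmersion.opensFunctor i).obj
          (HensSch.dOpen π c))) :=
      (asIso (hi.invApp i (HensSch.dOpen π c))).commRingCatIsoToRingEquiv
    have hE : ∀ b, E b = (hi.invApp i (HensSch.dOpen π c)).hom b := fun b => rfl
    obtain ⟨φ, hφ⟩ : ∃ φ, φ = HensSch.secMap π (PrimeSpectrum.basicOpen c) := ⟨_, rfl⟩
    have hHA := hsph.2.2 c
    rw [← hφ] at hHA
    refine ⟨((J.map φ).radical).map E.toRingHom, ?_, ?_⟩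
    · exact Groth.Agent.H3.HensIso.henselianRing_of_ringEquiv E _
        (Groth.Agent.H3.henselianRing_radical hHA.2.1)
    · intro s hs
      have h1 : E.symm s ∈ (J.map φ).radical := by
        rw [hφ]
        refine mem_radical_of_germ_mem hsph c _ ?_
        intro x hx
        have heq : op (HensSch.dOpen π c) = op ((Opens.map i.base).obj
            ((LocallyRingedSpace.IsOpenImmersion.opensFunctor i).obj (HensSch.dOpen π c))) := by
          congr 1
          ext y
          exact ⟨fun hy => ⟨y, hy, rfl⟩, fun ⟨y', hy', hyy'⟩ => hi.base_open.injective hyy' ▸ hy'⟩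
        have h2 : (i.c.app (op ((LocallyRingedSpace.IsOpenImmersion.opensFunctor i).obj
            (HensSch.dOpen π c)))).hom s = (U.presheaf.map (eqToHom heq)).hom (E.symm s) := by
          have := LocallyRingedSpace.IsOpenImmersion.invApp_app_apply i (HensSch.dOpen π c)
            (E.symm s)
          rw [← this]
          congr 1
          rw [← hE, RingEquiv.apply_symm_apply]
        have hx' : i.base x ∈ (LocallyRingedSpace.IsOpenImmersion.opensFunctor i).obj
            (HensSch.dOpen π c) := ⟨x, hx, rfl⟩
        have h3 := (germ_app_mem_iff i _ s x hx').mpr (hs (i.base x) hx')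
        rw [h2] at h3
        have h4 := TopCat.Presheaf.germ_res_apply' U.presheaf (eqToHom heq) x hx' (E.symm s)
        rw [← h4]
        exact h3
      have h5 := Ideal.mem_map_of_mem E.toRingHom h1
      have h6 : E.toRingHom (E.symm s) = s := E.apply_symm_apply s
      rwa [h6] at h5
  · rintro y ⟨w, hw, rfl⟩
    exact hc hw

end Groth.Agent.H87.HensUP
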