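import Mathlib
import Groth.Prelude.Def_HensSch
import Groth.Agent.H87.HensUPOpen

/-!
# Good opens for a Henselization along a closed subset
-/

set_option autoImplicit false
universe u

open CategoryTheory Opposite TopologicalSpace Topology AlgebraicGeometry

namespace Groth.Agent.H87.HensUP

open Groth.Agent.H87.HensSchBasic Groth.Agent.H87.HensAwayAlg

/-- An open `U` of `X` over which the sections of the Henselization are a Henselization of a
localization, compatibly with `ι`. -/
def IsGood (X : Scheme.{u}) (Y : Set X) {Xh : LocallyRingedSpace.{u}}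
    (ι : Xh ⟶ X.toLocallyRingedSpace) (U : X.Opens) : Prop :=
  ∃ (A : Type u) (_ : CommRing A) (I : Ideal A) (f : A) (ψ : A →+* X.presheaf.obj (op U)),
    HensSch.IsHensAway A I f (Xh.presheaf.obj (op ((Opens.map ι.base).obj U)))
      ((ι.c.app (op U)).hom.comp ψ) ∧
    IsUnit (ψ f) ∧
    (∀ (R : Type u) [CommRing R] (a b : X.presheaf.obj (op U) →+* R),
      a.comp ψ = b.comp ψ → a = b) ∧
    ∀ a ∈ I, ∀ (x : X) (hx : x ∈ U), x ∈ Y →
      X.presheaf.germ U x hx (ψ a) ∈ IsLocalRing.maximalIdeal (X.presheaf.stalk x)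

section Chart

variable {X : Scheme.{u}} {Y : Set X} {Xh : LocallyRingedSpace.{u}}
  {ι : Xh ⟶ X.toLocallyRingedSpace}
  {A : Type u} [CommRing A] (j : Spec (CommRingCat.of A) ⟶ X) [IsOpenImmersion j]
  {V : LocallyRingedSpace.{u}} (v : V ⟶ Xh) [hv : LocallyRingedSpace.IsOpenImmersion v]
  (π : V ⟶ HensSch.specLRS A)

/-- the ring map `A → Γ(Spec A, D(f))` -/
noncomputable def psi0 (f : A) : A →+*
    (Spec (CommRingCat.of A)).presheaf.obj (op (PrimeSpectrum.basicOpen f)) :=
  ((Spec (CommRingCat.of A)).presheaf.map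
    (homOfLE (le_top : PrimeSpectrum.basicOpen f ≤ ⊤)).op).hom.comp
    (Scheme.ΓSpecIso (CommRingCat.of A)).inv.hom

theorem psi0_eq (f : A) : psi0 f = algebraMap A
    ((Spec.structureSheaf A).presheaf.obj (op (PrimeSpectrum.basicOpen f))) := rfl

theorem psi0_epi (f : A) (R : Type u) [CommRing R]
    (a b : (Spec (CommRingCat.of A)).presheaf.obj (op (PrimeSpectrum.basicOpen f)) →+* R)
    (h : a.comp (psi0 f) = b.comp (psi0 f)) : a = b := by
  letI : Algebra A ((Spec (CommRingCat.of A)).presheaf.obj (op (PrimeSpectrum.basicOpen f))) :=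
    StructureSheaf.openAlgebra A (op (PrimeSpectrum.basicOpen f))
  haveI : IsLocalization.Away f
      ((Spec (CommRingCat.of A)).presheaf.obj (op (PrimeSpectrum.basicOpen f))) :=
    StructureSheaf.IsLocalization.to_basicOpen A f
  exact IsLocalization.ringHom_ext (Submonoid.powers f) h

theorem psi0_isUnit (f : A) : IsUnit (psi0 f f) := by
  letI : Algebra A ((Spec (CommRingCat.of A)).presheaf.obj (op (PrimeSpectrum.basicOpen f))) :=
    StructureSheaf.openAlgebra A (op (PrimeSpectrum.basicOpen f))
  haveI : IsLocalization.Away f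
      ((Spec (CommRingCat.of A)).presheaf.obj (op (PrimeSpectrum.basicOpen f))) :=
    StructureSheaf.IsLocalization.to_basicOpen A f
  exact IsLocalization.Away.algebraMap_isUnit f

end Chart

end Groth.Agent.H87.HensUP
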