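import Groth.Agent.H87.HensUPGood

set_option autoImplicit false
universe u

open CategoryTheory Opposite TopologicalSpace Topology AlgebraicGeometry

namespace Groth.Agent.H87.HensUP

open Groth.Agent.H87.HensSchBasic Groth.Agent.H87.HensAwayAlg

section Chart

variable {X : Scheme.{u}} {Y : Set X} {Xh : LocallyRingedSpace.{u}}
  {ι : Xh ⟶ X.toLocallyRingedSpace}
  {A : Type u} [CommRing A] (j : Spec (CommRingCat.of A) ⟶ X) [IsOpenImmersion j]
  {V : LocallyRingedSpace.{u}} (v : V ⟶ Xh) [hv : LocallyRingedSpace.IsOpenImmersion v]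
  (π : V ⟶ HensSch.specLRS A)

/-- the open `j(D(f))` -/
noncomputable abbrev chartOpen (f : A) : X.Opens :=
  j ''ᵁ (PrimeSpectrum.basicOpen f : (Spec (CommRingCat.of A)).Opens)

/-- the ring map `A → Γ(X, j(D(f)))` -/
noncomputable def psi (f : A) : A →+* X.presheaf.obj (op (chartOpen j f)) :=
  (j.appIso (PrimeSpectrum.basicOpen f : (Spec (CommRingCat.of A)).Opens)).inv.hom.comp (psi0 f)

theorem mem_chartOpen (f : A) (x : X) :
    x ∈ chartOpen j f ↔ ∃ q : PrimeSpectrum A, q ∈ PrimeSpectrum.basicOpen f ∧ j.base q = x :=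
  Iff.rfl

include hv in
theorem preimage_chartOpen_eq (hsq : v ≫ ι = π ≫ j.toLRSHom) (f : A) :
    (Opens.map v.base).obj ((Opens.map ι.base).obj (chartOpen j f)) = HensSch.dOpen π f := by
  have hpt : ∀ t : V, ι.base (v.base t) = j.base (π.base t) := fun t => by
    have := congrArg (fun m : V ⟶ X.toLocallyRingedSpace => m.base t) hsq
    exact this
  ext t
  change ι.base (v.base t) ∈ chartOpen j f ↔ π.base t ∈ PrimeSpectrum.basicOpen f
  rw [hpt, mem_chartOpen]
  constructor
  · rintro ⟨q, hq, hqe⟩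
    have := j.isOpenEmbedding.injective hqe
    rw [← this]
    exact hq
  · intro h
    exact ⟨_, h, rfl⟩

include hv in
theorem preimage_chartOpen_eq' (hrange : Set.range v.base = ι.base ⁻¹' Set.range j.base)
    (hsq : v ≫ ι = π ≫ j.toLRSHom) (f : A) :
    (Opens.map ι.base).obj (chartOpen j f) =
      (LocallyRingedSpace.IsOpenImmersion.opensFunctor v).obj (HensSch.dOpen π f) := by
  have hpt : ∀ t : V, ι.base (v.base t) = j.base (π.base t) := fun t => by
    have := congrArg (fun m : V ⟶ X.toLocallyRingedSpace => m.base t) hsq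
    exact this
  ext y
  change ι.base y ∈ chartOpen j f ↔ ∃ t, t ∈ HensSch.dOpen π f ∧ v.base t = y
  rw [mem_chartOpen]
  constructor
  · rintro ⟨q, hq, hqe⟩
    have hy : y ∈ Set.range v.base := by
      rw [hrange]
      exact ⟨q, hqe⟩
    obtain ⟨t, rfl⟩ := hy
    refine ⟨t, ?_, rfl⟩
    rw [hpt] at hqe
    have := j.isOpenEmbedding.injective hqe
    change π.base t ∈ PrimeSpectrum.basicOpen f
    rw [← this]
    exact hq
  · rintro ⟨t, ht, rfl⟩
    exact ⟨_, ht, (hpt t).symm⟩

end Chart

end Groth.Agent.H87.HensUP
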