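import Groth.Agent.H87.HensUPGood2

set_option autoImplicit false
universe u

open CategoryTheory Opposite TopologicalSpace Topology AlgebraicGeometry

namespace Groth.Agent.H87.HensUP

open Groth.Agent.H87.HensSchBasic Groth.Agent.H87.HensAwayAlg

section Chart

variable {X : Scheme.{u}} {Y : Set X} {Xh : LocallyRingedSpace.{u}}
  {ι : Xh ⟶ X.toLocallyRingedSpace}
  {A : Type u} [CommRing A] (j : Spec (CommRingCat.of A) ⟶ X) [IsOpenImmersion j]
  {V : LocallyRingedSpace.{u}} (v : V ⟶ Xh) [hv : LocallyRingedSpace.IsOpenImmersion v]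
  (π : V ⟶ HensSch.specLRS A)

set_option backward.isDefEq.respectTransparency false in
omit hv in
theorem chart_comm (hsq : v ≫ ι = π ≫ j.toLRSHom) (f : A)
    (h₁ : op ((Opens.map v.base).obj ((Opens.map ι.base).obj (chartOpen j f))) =
      op (HensSch.dOpen π f)) :
    CommRingCat.ofHom (psi j f) ≫ ι.c.app (op (chartOpen j f)) ≫
        v.c.app (op ((Opens.map ι.base).obj (chartOpen j f))) ≫ V.presheaf.map (eqToHom h₁) =
      CommRingCat.ofHom (HensSch.secMap π (PrimeSpectrum.basicOpen f)) := by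
  have hc := PresheafedSpace.congr_app (congrArg LocallyRingedSpace.Hom.toHom hsq)
    (op (chartOpen j f))
  have h1 : ι.c.app (op (chartOpen j f)) ≫
      v.c.app (op ((Opens.map ι.base).obj (chartOpen j f))) =
      (v ≫ ι).toHom.c.app (op (chartOpen j f)) := rfl
  rw [reassoc_of% h1, hc]
  have h3 : (π ≫ j.toLRSHom).toHom.c.app (op (chartOpen j f)) =
      j.app (chartOpen j f) ≫ π.c.app (op ((Opens.map j.base).obj (chartOpen j f))) := rfl
  rw [h3]
  have h4 : CommRingCat.ofHom (psi j f) = CommRingCat.ofHom (psi0 f) ≫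
      (j.appIso (PrimeSpectrum.basicOpen f : (Spec (CommRingCat.of A)).Opens)).inv := rfl
  rw [h4]
  simp only [Category.assoc]
  rw [Scheme.Hom.appIso_inv_app_assoc]
  have h5 := π.c.naturality (eqToHom (Scheme.Hom.preimage_image_eq j
    (PrimeSpectrum.basicOpen f : (Spec (CommRingCat.of A)).Opens))).op
  rw [reassoc_of% h5]
  have h6 : CommRingCat.ofHom (psi0 f) = (Scheme.ΓSpecIso (CommRingCat.of A)).inv ≫
      (Spec (CommRingCat.of A)).presheaf.map
        (homOfLE (le_top : PrimeSpectrum.basicOpen f ≤ ⊤)).op := rfl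
  have h7 := π.c.naturality (homOfLE (le_top : PrimeSpectrum.basicOpen f ≤ ⊤)).op
  have h8 : CommRingCat.ofHom (HensSch.secMap π (PrimeSpectrum.basicOpen f)) =
      (Scheme.ΓSpecIso (CommRingCat.of A)).inv ≫ π.c.app (op ⊤) ≫
        V.presheaf.map ((Opens.map π.base).map
          (homOfLE (le_top : PrimeSpectrum.basicOpen f ≤ ⊤))).op := rfl
  rw [h6, h8, Category.assoc, reassoc_of% h7]
  congr 2
  change V.presheaf.map _ ≫ V.presheaf.map _ ≫ V.presheaf.map _ ≫ V.presheaf.map _ =
    V.presheaf.map _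
  rw [← Functor.map_comp, ← Functor.map_comp, ← Functor.map_comp]
  congr 1

set_option backward.isDefEq.respectTransparency false in
/-- sections coming from the vanishing ideal vanish at the points of `Y` -/
theorem psi_germ_mem (f : A) (a : A) (ha : a ∈ PrimeSpectrum.vanishingIdeal (j.base ⁻¹' Y))
    (x : X) (hx : x ∈ chartOpen j f) (hxY : x ∈ Y) :
    X.presheaf.germ (chartOpen j f) x hx (psi j f a) ∈
      IsLocalRing.maximalIdeal (X.presheaf.stalk x) := by
  obtain ⟨q, hq, rfl⟩ := (mem_chartOpen j f x).mp hx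
  have haq : a ∈ q.asIdeal := by
    rw [PrimeSpectrum.mem_vanishingIdeal] at ha
    exact ha q hxY
  refine (germ_app_mem_iff j.toLRSHom (chartOpen j f) (psi j f a) q hx).mp ?_
  have h1 : (j.toLRSHom.c.app (op (chartOpen j f))).hom (psi j f a) =
      ((Spec (CommRingCat.of A)).presheaf.map (eqToHom (Scheme.Hom.preimage_image_eq j
        (PrimeSpectrum.basicOpen f : (Spec (CommRingCat.of A)).Opens))).op).hom (psi0 f a) := by
    have := Scheme.Hom.appIso_inv_app j
      (PrimeSpectrum.basicOpen f : (Spec (CommRingCat.of A)).Opens)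
    exact congrArg (fun m => m.hom (psi0 f a)) this
  rw [h1]
  have h2 := TopCat.Presheaf.germ_res_apply' (Spec (CommRingCat.of A)).presheaf
    (eqToHom (Scheme.Hom.preimage_image_eq j
      (PrimeSpectrum.basicOpen f : (Spec (CommRingCat.of A)).Opens))).op q hx (psi0 f a)
  rw [h2, IsLocalRing.mem_maximalIdeal, mem_nonunits_iff]
  intro hunit
  have h3 : q ∈ (HensSch.specLRS A).toRingedSpace.basicOpen (psi0 f a) :=
    ((HensSch.specLRS A).toRingedSpace.mem_basicOpen (psi0 f a) q hq).mpr hunit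
  have h4 : psi0 f a = ((Spec (CommRingCat.of A)).presheaf.map
      (homOfLE (le_top : PrimeSpectrum.basicOpen f ≤ ⊤)).op).hom
        ((Scheme.ΓSpecIso (CommRingCat.of A)).inv.hom a) := rfl
  rw [h4, RingedSpace.basicOpen_res] at h3
  have h5 : (HensSch.specLRS A).toRingedSpace.basicOpen
      ((Scheme.ΓSpecIso (CommRingCat.of A)).inv.hom a) = PrimeSpectrum.basicOpen a :=
    basicOpen_eq_of_affine (R := CommRingCat.of A) a
  rw [h5] at h3
  exact h3.2 haq

set_option backward.isDefEq.respectTransparency false in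
theorem isGood_chartOpen (hrange : Set.range v.base = ι.base ⁻¹' Set.range j.base)
    (hsq : v ≫ ι = π ≫ j.toLRSHom)
    (hsph : HensSch.IsSph A (PrimeSpectrum.vanishingIdeal (j.base ⁻¹' Y)) V π) (f : A) :
    IsGood X Y ι (chartOpen j f) := by
  refine ⟨A, inferInstance, PrimeSpectrum.vanishingIdeal (j.base ⁻¹' Y), f, psi j f,
    ?_, ?_, ?_, ?_⟩
  · have h₁ := preimage_chartOpen_eq j v π hsq f
    have h₂ := preimage_chartOpen_eq' j v π hrange hsq f
    have hiso : IsIso (v.c.app (op ((Opens.map ι.base).obj (chartOpen j f)))) :=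
      PresheafedSpace.IsOpenImmersion.c_iso' v.toHom _ h₂
    have hcomm := chart_comm j v π hsq f (congrArg op h₁)
    have hbij : Function.Bijective
        (v.c.app (op ((Opens.map ι.base).obj (chartOpen j f))) ≫
          V.presheaf.map (eqToHom (congrArg op h₁))).hom :=
      ConcreteCategory.bijective_of_isIso _
    refine isHensAway_of_bijective (hsph.2.2 f) _ hbij _ ?_
    have := congrArg (fun m => m.hom) hcomm
    exact this
  · exact (psi0_isUnit f).map (j.appIso (PrimeSpectrum.basicOpen f :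
      (Spec (CommRingCat.of A)).Opens)).inv.hom
  · intro R _ a b hab
    have h1 : (a.comp (j.appIso (PrimeSpectrum.basicOpen f :
        (Spec (CommRingCat.of A)).Opens)).inv.hom).comp (psi0 f) =
        (b.comp (j.appIso (PrimeSpectrum.basicOpen f :
          (Spec (CommRingCat.of A)).Opens)).inv.hom).comp (psi0 f) := hab
    have h2 := psi0_epi f R _ _ h1
    ext s
    have h3 := congrArg (fun m => m ((j.appIso (PrimeSpectrum.basicOpen f :
        (Spec (CommRingCat.of A)).Opens)).hom.hom s)) h2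
    simp only [RingHom.comp_apply] at h3
    have h4 : (j.appIso (PrimeSpectrum.basicOpen f :
        (Spec (CommRingCat.of A)).Opens)).inv.hom ((j.appIso (PrimeSpectrum.basicOpen f :
        (Spec (CommRingCat.of A)).Opens)).hom.hom s) = s := by
      rw [← CommRingCat.comp_apply, Iso.hom_inv_id]
      rfl
    rw [h4] at h3
    exact h3
  · intro a ha x hx hxY
    exact psi_germ_mem j f a ha x hx hxY

end Chart

/-- good opens form a basis of neighbourhoods in `X` of the points of `Y` -/
theorem exists_isGood {X : Scheme.{u}} {Y : Set X} {Xh : LocallyRingedSpace.{u}}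
    {ι : Xh ⟶ X.toLocallyRingedSpace} (hh : HensSch.IsHenselizationAlong X Y Xh ι)
    (x : X) (hx : x ∈ Y) (U₀ : X.Opens) (hxU : x ∈ U₀) :
    ∃ U : X.Opens, IsGood X Y ι U ∧ x ∈ U ∧ U ≤ U₀ := by
  obtain ⟨A, _, j, hj, ⟨p, rfl⟩, V, v, hv, π, hrange, hsq, hsph⟩ := hh.2.2.2 x hx
  have hp : p ∈ (j ⁻¹ᵁ U₀ : (Spec (CommRingCat.of A)).Opens) := hxU
  obtain ⟨_, ⟨f, rfl⟩, hpf, hfU⟩ :=
    PrimeSpectrum.isTopologicalBasis_basic_opens.exists_subset_of_mem_open hp
      (j ⁻¹ᵁ U₀ : (Spec (CommRingCat.of A)).Opens).isOpen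
  refine ⟨chartOpen j f, isGood_chartOpen j v π hrange hsq hsph f, ⟨p, hpf, rfl⟩, ?_⟩
  rintro y ⟨q, hq, rfl⟩
  exact hfU hq

end Groth.Agent.H87.HensUP
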