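import Groth.Agent.H87.HensUPMor

/-!
# Universal property of the Henselization of a scheme along a closed subset
-/

set_option autoImplicit false
universe u

open CategoryTheory Opposite TopologicalSpace Topology AlgebraicGeometry

namespace Groth.Agent.H87.HensUP

theorem existsUnique_lift (X : Scheme.{u}) (Y : Set X)
    (Xh : LocallyRingedSpace.{u}) (ι : Xh ⟶ X.toLocallyRingedSpace)
    (hh : HensSch.IsHenselizationAlong X Y Xh ι)
    (Z : LocallyRingedSpace.{u}) (hZ : HensSch.IsHensScheme Z) (g : Z ⟶ X.toLocallyRingedSpace)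
    (hg : Set.range g.base ⊆ Y) : ∃! g' : Z ⟶ Xh, g' ≫ ι = g := by
  have hex : ∀ z : Z, ∃ y : Xh, ι.base y = g.base z := fun z => by
    have h1 : g.base z ∈ Set.range ι.base := by
      rw [hh.2.2.1]
      exact hg ⟨z, rfl⟩
    exact h1
  choose gf hgf using hex
  have hcont : Continuous gf := by
    rw [hh.2.1.isInducing.continuous_iff]
    have h2 : (ι.base ∘ gf) = g.base := funext hgf
    rw [h2]
    exact g.base.hom.continuous
  obtain ⟨gb, hgb⟩ : ∃ gb : Z.toTopCat ⟶ Xh.toTopCat, ∀ z, ι.base (gb z) = g.base z :=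
    ⟨TopCat.ofHom ⟨gf, hcont⟩, hgf⟩
  refine ⟨gammaMor gb hgb hh hZ hg, gammaMor_comp gb hgb hh hZ hg, ?_⟩
  intro g₁ hg₁
  exact lift_unique hh hZ hg g₁ _ hg₁ (gammaMor_comp gb hgb hh hZ hg)

end Groth.Agent.H87.HensUP
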