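import Groth.Agent.H87.HensUPGlue

set_option autoImplicit false
universe u

open CategoryTheory Opposite TopologicalSpace Topology AlgebraicGeometry

namespace Groth.Agent.H87.HensUP

section Mor

variable {X : Scheme.{u}} {Y : Set X} {Xh : LocallyRingedSpace.{u}}
  {ι : Xh ⟶ X.toLocallyRingedSpace}
  {Z : LocallyRingedSpace.{u}} {g : Z ⟶ X.toLocallyRingedSpace}
  (gb : Z.toTopCat ⟶ Xh.toTopCat) (hgb : ∀ z, ι.base (gb z) = g.base z)
  (hh : HensSch.IsHenselizationAlong X Y Xh ι) (hZ : HensSch.IsHensScheme Z)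
  (hg : Set.range g.base ⊆ Y)

/-- the comorphism as a natural transformation -/
noncomputable def gammaNat : Xh.presheaf ⟶ gb _* Z.presheaf where
  app W := CommRingCat.ofHom (gammaHom gb hgb hh hZ hg W.unop)
  naturality := by
    intro W W' i
    ext s
    exact (gammaHom_res gb hgb hh hZ hg (leOfHom i.unop) s).symm

theorem gammaNat_app (W : Opens Xh) (s : Xh.presheaf.obj (op W)) :
    ((gammaNat gb hgb hh hZ hg).app (op W)).hom s = gammaHom gb hgb hh hZ hg W s := rfl

include hgb in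
theorem preimage_le (U₀ : X.Opens) :
    (Opens.map gb).obj ((Opens.map ι.base).obj U₀) ≤ (Opens.map g.base).obj U₀ := by
  intro z hz
  have h1 : ι.base (gb z) ∈ U₀ := hz
  rw [hgb] at h1
  exact h1

theorem gammaHom_comp (U₀ : X.Opens) :
    (gammaHom gb hgb hh hZ hg ((Opens.map ι.base).obj U₀)).comp (ι.c.app (op U₀)).hom =
      gRes g U₀ ((Opens.map gb).obj ((Opens.map ι.base).obj U₀)) (preimage_le gb hgb U₀) := by
  ext r
  apply sec_ext gb hgb hh hZ hg ((Opens.map ι.base).obj U₀) U₀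
    (fun z hz => preimage_le gb hgb U₀ hz)
  intro p hpU
  rw [RingHom.comp_apply, gammaHom_spec]
  have h1 := congrArg (fun m => m r) (gRes_res_left (g := g) (preimage_le gb hgb U₀)
    (p.le_preimage gb hgb))
  simp only [RingHom.comp_apply] at h1
  rw [h1]
  have h2 := congrArg (fun m => m r) (gRes_res_right (g := g) hpU p.hTU)
  simp only [RingHom.comp_apply] at h2
  rw [← h2, ← alpha_spec hg p.hU p.hT p.hTU]
  unfold sfHom
  rw [RingHom.comp_apply, RingHom.comp_apply]
  congr 1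
  have h3 := ι.c.naturality (homOfLE hpU).op
  exact congrArg (fun m => m.hom r) h3.symm

theorem germ_mem_transport {W : LocallyRingedSpace.{u}} (U : Opens W)
    (s : W.presheaf.obj (op U)) {x x' : W} (h : x = x') (hx : x ∈ U) (hx' : x' ∈ U) :
    W.presheaf.germ U x hx s ∈ IsLocalRing.maximalIdeal (W.presheaf.stalk x) ↔
      W.presheaf.germ U x' hx' s ∈ IsLocalRing.maximalIdeal (W.presheaf.stalk x') := by
  subst h
  rfl

/-- the underlying morphism of presheafed spaces -/
noncomputable def gammaPHom : Z.toPresheafedSpace ⟶ Xh.toPresheafedSpace :=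
  { base := gb, c := gammaNat gb hgb hh hZ hg }

theorem isLocalHom_stalkMap (z : Z) :
    IsLocalHom ((gammaPHom gb hgb hh hZ hg).stalkMap z).hom := by
  constructor
  intro a ha
  obtain ⟨W, hyW, s, rfl⟩ := TopCat.Presheaf.exists_germ_eq Xh.presheaf a
  obtain ⟨p, hzp, -, -⟩ := exists_idx gb hgb hh hZ hg W z hyW ⊤ trivial ⊤ trivial
  have hy : gb z ∈ (Opens.map ι.base).obj p.U := by
    change ι.base (gb z) ∈ p.U
    rw [hgb]
    exact p.hTU hzp
  obtain ⟨s', hs'⟩ : ∃ s', s' = (Xh.presheaf.map (homOfLE p.hUW).op).hom s := ⟨_, rfl⟩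
  have hs'g : Xh.presheaf.germ _ (gb z) hy s' = Xh.presheaf.germ W (gb z) hyW s := by
    rw [hs']
    exact TopCat.Presheaf.germ_res_apply Xh.presheaf (homOfLE p.hUW) (gb z) hy s
  have ha' : IsUnit (((gammaPHom gb hgb hh hZ hg).stalkMap z).hom
      (Xh.presheaf.germ _ (gb z) hy s')) := by
    rw [hs'g]
    exact ha
  have hgoal : IsUnit (Xh.presheaf.germ _ (gb z) hy s') → IsUnit
      (Xh.presheaf.germ W (gb z) hyW s) := by
    rw [hs'g]
    exact id
  apply hgoal
  have h1 := PresheafedSpace.stalkMap_germ_apply (gammaPHom gb hgb hh hZ hg)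
    ((Opens.map ι.base).obj p.U) z hy s'
  have hy' : z ∈ (Opens.map gb).obj ((Opens.map ι.base).obj p.U) := hy
  have ha'' : IsUnit (Z.presheaf.germ ((Opens.map gb).obj ((Opens.map ι.base).obj p.U)) z hy'
      (gammaHom gb hgb hh hZ hg _ s')) := by
    have := ha'
    rw [show ((gammaPHom gb hgb hh hZ hg).stalkMap z).hom
      (Xh.presheaf.germ _ (gb z) hy s') = _ from h1] at this
    exact this
  clear ha ha' h1 hgoal hs'g hs' s hyW
  obtain ⟨A, _, I, f, ψ, hHA, hunit, hepi, hvan⟩ := p.hU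
  obtain ⟨φ, hφ⟩ : ∃ φ, φ = (ι.c.app (op p.U)).hom.comp ψ := ⟨_, rfl⟩
  rw [← hφ] at hHA
  obtain ⟨Γ, hΓ⟩ : ∃ Γ, Γ = gammaHom gb hgb hh hZ hg ((Opens.map ι.base).obj p.U) := ⟨_, rfl⟩
  rw [← hΓ] at ha''
  have hzg : g.base z ∈ p.U := p.hTU hzp
  -- vanishing of sections coming from `I`
  have hΓφ : ∀ a' : A, Γ (φ a') = gRes g p.U _ (preimage_le gb hgb p.U) (ψ a') := by
    intro a'
    rw [hΓ, hφ]
    exact congrArg (fun m => m (ψ a')) (gammaHom_comp gb hgb hh hZ hg p.U)
  have hgermz : ∀ a' : A, (Z.presheaf.germ _ z hy' (Γ (φ a')) ∈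
      IsLocalRing.maximalIdeal (Z.presheaf.stalk z) ↔
      X.presheaf.germ p.U (g.base z) hzg (ψ a') ∈
        IsLocalRing.maximalIdeal (X.presheaf.stalk (g.base z))) := by
    intro a'
    rw [hΓφ, gRes_apply, TopCat.Presheaf.germ_res_apply]
    exact germ_app_mem_iff g p.U (ψ a') z hzg
  have hgermy : ∀ a' : A, (Xh.presheaf.germ _ (gb z) hy (φ a') ∈
      IsLocalRing.maximalIdeal (Xh.presheaf.stalk (gb z)) ↔
      X.presheaf.germ p.U (g.base z) hzg (ψ a') ∈
        IsLocalRing.maximalIdeal (X.presheaf.stalk (g.base z))) := by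
    intro a'
    rw [hφ, RingHom.comp_apply]
    exact (germ_app_mem_iff ι p.U (ψ a') (gb z) hy).trans
      (germ_mem_transport p.U (ψ a') (hgb z) hy hzg)
  have hC1 : I.map φ ≤ (IsLocalRing.maximalIdeal (Xh.presheaf.stalk (gb z))).comap
      (Xh.presheaf.germ _ (gb z) hy).hom := by
    rw [Ideal.map_le_iff_le_comap]
    intro a' ha'
    exact (hgermy a').mpr (hvan a' ha' _ hzg (hg ⟨z, rfl⟩))
  have hC2 : I.map φ ≤ (IsLocalRing.maximalIdeal (Z.presheaf.stalk z)).comap
      ((Z.presheaf.germ _ z hy').hom.comp Γ) := by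
    rw [Ideal.map_le_iff_le_comap]
    intro a' ha'
    exact (hgermz a').mpr (hvan a' ha' _ hzg (hg ⟨z, rfl⟩))
  obtain ⟨a₀, n, hmem⟩ := Groth.Agent.H87.HensAwayAlg.exists_mul_pow_sub_mem hHA s'
  -- Step A
  have hA : Z.presheaf.germ _ z hy' (Γ (φ a₀)) ∉
      IsLocalRing.maximalIdeal (Z.presheaf.stalk z) := by
    intro hcon
    have h2 := hC2 hmem
    rw [Ideal.mem_comap, RingHom.comp_apply, map_sub, map_sub, map_mul, map_mul, map_pow,
      map_pow] at h2
    have h3 := Ideal.add_mem _ h2 hcon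
    rw [sub_add_cancel] at h3
    have h4 : IsUnit ((Z.presheaf.germ _ z hy').hom (Γ s') *
        (Z.presheaf.germ _ z hy').hom (Γ (φ f)) ^ n) :=
      ha''.mul (((hHA.1.map Γ).map (Z.presheaf.germ _ z hy').hom).pow n)
    exact (IsLocalRing.mem_maximalIdeal _).mp h3 h4
  have hB : Xh.presheaf.germ _ (gb z) hy (φ a₀) ∉
      IsLocalRing.maximalIdeal (Xh.presheaf.stalk (gb z)) := fun hcon =>
    hA ((hgermz a₀).mpr ((hgermy a₀).mp hcon))
  have hD : IsUnit ((Xh.presheaf.germ _ (gb z) hy).hom s' *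
      (Xh.presheaf.germ _ (gb z) hy).hom (φ f) ^ n) := by
    by_contra hnu
    have h5 : (Xh.presheaf.germ _ (gb z) hy).hom s' *
        (Xh.presheaf.germ _ (gb z) hy).hom (φ f) ^ n ∈
        IsLocalRing.maximalIdeal (Xh.presheaf.stalk (gb z)) :=
      (IsLocalRing.mem_maximalIdeal _).mpr hnu
    have h2 := hC1 hmem
    rw [Ideal.mem_comap, map_sub, map_mul, map_pow] at h2
    have h3 := Ideal.sub_mem _ h5 h2
    rw [sub_sub_cancel] at h3
    exact hB h3
  exact isUnit_of_mul_isUnit_left hD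

theorem lrs_hom_ext {Z W : LocallyRingedSpace.{u}} (a b : Z ⟶ W) (hbase : a.base = b.base)
    (hle : ∀ U : Opens W, (Opens.map b.base).obj U ≤ (Opens.map a.base).obj U)
    (hc : ∀ (U : Opens W) (s : W.presheaf.obj (op U)),
      (Z.presheaf.map (homOfLE (hle U)).op).hom ((a.c.app (op U)).hom s) =
        (b.c.app (op U)).hom s) : a = b := by
  apply LocallyRingedSpace.Hom.ext'
  refine PresheafedSpace.ext _ _ hbase ?_
  ext U s
  refine Eq.trans ?_ (hc U s)
  rw [NatTrans.comp_app, Functor.whiskerRight_app, eqToHom_app, CommRingCat.comp_apply]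
  congr 2

/-- the morphism `Z ⟶ Xh` -/
noncomputable def gammaMor : Z ⟶ Xh :=
  ⟨gammaPHom gb hgb hh hZ hg, fun z => isLocalHom_stalkMap gb hgb hh hZ hg z⟩

theorem gammaMor_comp : gammaMor gb hgb hh hZ hg ≫ ι = g := by
  have hle : ∀ U : Opens X, (Opens.map g.base).obj U ≤
      (Opens.map (gammaMor gb hgb hh hZ hg ≫ ι).base).obj U := by
    intro U z hz
    have h1 : g.base z ∈ U := hz
    rw [← hgb] at h1
    exact h1
  refine lrs_hom_ext _ _ ?_ hle ?_
  · ext z
    exact hgb z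
  · intro U s
    have h1 := congrArg (fun m => m s) (gammaHom_comp gb hgb hh hZ hg U)
    rw [RingHom.comp_apply] at h1
    have hle' : (Opens.map g.base).obj U ≤ (Opens.map gb).obj ((Opens.map ι.base).obj U) :=
      hle U
    have h3 := congrArg (fun m => m s)
      (gRes_res_left (g := g) (preimage_le gb hgb U) hle')
    rw [RingHom.comp_apply] at h3
    have h4 : gRes g U ((Opens.map g.base).obj U) (hle'.trans (preimage_le gb hgb U)) s =
        (g.c.app (op U)).hom s := by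
      rw [gRes_apply]
      have h5 : Z.presheaf.map (homOfLE (hle'.trans (preimage_le gb hgb U))).op = 𝟙 _ :=
        Z.presheaf.map_id _
      rw [h5]
      rfl
    exact ((congrArg (fun t => (Z.presheaf.map (homOfLE hle').op).hom t) h1).trans h3).trans h4

end Mor

section Uniq

variable {X : Scheme.{u}} {Y : Set X} {Xh : LocallyRingedSpace.{u}}
  {ι : Xh ⟶ X.toLocallyRingedSpace} {Z : LocallyRingedSpace.{u}}

theorem res_c_eq_sfHom {g : Z ⟶ X.toLocallyRingedSpace} (g₁ : Z ⟶ Xh) (h₁ : g₁ ≫ ι = g)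
    (hg : Set.range g.base ⊆ Y) {W : Opens Xh}
    (p : Idx Y ι g W) (hle : p.T ≤ (Opens.map g₁.base).obj W)
    (s : Xh.presheaf.obj (op W)) :
    (Z.presheaf.map (homOfLE hle).op).hom ((g₁.c.app (op W)).hom s) = sfHom hg p s := by
  subst h₁
  unfold sfHom
  have hle' : p.T ≤ (Opens.map g₁.base).obj ((Opens.map ι.base).obj p.U) := p.hTU
  have hβ : ((Z.presheaf.map (homOfLE hle').op).hom.comp
      (g₁.c.app (op ((Opens.map ι.base).obj p.U))).hom) = alpha hg p.hU p.hT p.hTU := by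
    apply alpha_uniq
    rfl
  rw [← hβ, RingHom.comp_apply, RingHom.comp_apply]
  have h3 := g₁.c.naturality (homOfLE p.hUW).op
  have h4 : (g₁.c.app (op ((Opens.map ι.base).obj p.U))).hom
      ((Xh.presheaf.map (homOfLE p.hUW).op).hom s) =
      (Z.presheaf.map ((Opens.map g₁.base).map (homOfLE p.hUW)).op).hom
        ((g₁.c.app (op W)).hom s) := congrArg (fun m => m.hom s) h3
  rw [h4]
  symm
  rw [← CommRingCat.comp_apply, ← Functor.map_comp]
  rfl

theorem lift_unique (hh : HensSch.IsHenselizationAlong X Y Xh ι) (hZ : HensSch.IsHensScheme Z)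
    {g : Z ⟶ X.toLocallyRingedSpace} (hg : Set.range g.base ⊆ Y) (g₁ g₂ : Z ⟶ Xh)
    (h₁ : g₁ ≫ ι = g) (h₂ : g₂ ≫ ι = g) : g₁ = g₂ := by
  have hpt : ∀ z, ι.base (g₂.base z) = g.base z := fun z =>
    congrArg (fun m : Z ⟶ X.toLocallyRingedSpace => m.base z) h₂
  have hpt1 : ∀ z, ι.base (g₁.base z) = g.base z := fun z =>
    congrArg (fun m : Z ⟶ X.toLocallyRingedSpace => m.base z) h₁
  have hbase : ∀ z, g₁.base z = g₂.base z := fun z =>
    hh.2.1.injective ((hpt1 z).trans (hpt z).symm)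
  have hle : ∀ U : Opens Xh, (Opens.map g₂.base).obj U ≤ (Opens.map g₁.base).obj U := by
    intro U z hz
    change g₁.base z ∈ U
    rw [hbase]
    exact hz
  refine lrs_hom_ext g₁ g₂ ?_ hle ?_
  · ext z
    exact hbase z
  · intro W s
    apply sec_ext g₂.base hpt hh hZ hg W ⊤ (fun _ _ => trivial)
    intro p _
    rw [← CommRingCat.comp_apply, ← Functor.map_comp]
    have e1 := res_c_eq_sfHom g₁ h₁ hg p ((p.le_preimage g₂.base hpt).trans (hle W)) s
    refine e1.trans ?_
    exact (res_c_eq_sfHom g₂ h₂ hg p (p.le_preimage g₂.base hpt) s).symm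

end Uniq

end Groth.Agent.H87.HensUP
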