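import Mathlib

/-!
# Comparing powers of an ideal along a map that is an isomorphism modulo the ideal

If `Φ : H → B` is an `A`-algebra map that is bijective modulo `I` and all truncations
`B / I^n B` are flat over `A / I^n`, then `Φ h ∈ I^n B` implies `h ∈ I^n H`.
-/

set_option autoImplicit false
universe u

namespace Groth.Agent.H87.HfpEtale

/-- elements of an extended ideal are finite combinations -/
theorem exists_sum_of_mem_map {A H : Type u} [CommRing A] [CommRing H] [Algebra A H] (K : Ideal A)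
    {x : H} (hx : x ∈ K.map (algebraMap A H)) :
    ∃ (ι : Type) (_ : Fintype ι) (a : ι → A) (h : ι → H),
      (∀ j, a j ∈ K) ∧ x = ∑ j, a j • h j := by
  unfold Ideal.map at hx
  induction hx using Submodule.span_induction with
  | mem x hx =>
    obtain ⟨a, ha, rfl⟩ := hx
    exact ⟨Unit, inferInstance, fun _ => a, fun _ => 1, fun _ => ha, by simp [Algebra.smul_def]⟩
  | zero => exact ⟨Empty, inferInstance, Empty.elim, Empty.elim, fun j => j.elim, by simp⟩
  | add x y _ _ hx hy =>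
    obtain ⟨ι₁, _, a₁, h₁, ha₁, rfl⟩ := hx
    obtain ⟨ι₂, _, a₂, h₂, ha₂, rfl⟩ := hy
    refine ⟨ι₁ ⊕ ι₂, inferInstance, Sum.elim a₁ a₂, Sum.elim h₁ h₂, ?_, ?_⟩
    · rintro (j | j)
      · exact ha₁ j
      · exact ha₂ j
    · rw [Fintype.sum_sum_type]
      simp
  | smul c x _ hx =>
    obtain ⟨ι₁, _, a₁, h₁, ha₁, rfl⟩ := hx
    refine ⟨ι₁, inferInstance, a₁, fun j => c * h₁ j, ha₁, ?_⟩
    rw [smul_eq_mul, Finset.mul_sum]
    refine Finset.sum_congr rfl fun j _ => ?_
    rw [Algebra.smul_def, Algebra.smul_def]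
    ring

theorem quot_smul_mk {A B : Type u} [CommRing A] [CommRing B] [Algebra A B] (K : Ideal A)
    (x : A) (b : B) : (Ideal.Quotient.mk K x) • (Ideal.Quotient.mk (K.map (algebraMap A B)) b) =
      Ideal.Quotient.mk (K.map (algebraMap A B)) (x • b) := rfl

theorem step {A H B : Type u} [CommRing A] [CommRing H] [CommRing B]
    [Algebra A H] [Algebra A B] (I N K : Ideal A) (hKI : K ≤ I) (hNIK : N * I ≤ K)
    (Φ : H →ₐ[A] B)
    (hsurj : ∀ b : B, ∃ h : H, b - Φ h ∈ I.map (algebraMap A B))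
    (hinj : ∀ h : H, Φ h ∈ I.map (algebraMap A B) → h ∈ I.map (algebraMap A H))
    (hflat : Module.Flat (A ⧸ K) (B ⧸ K.map (algebraMap A B)))
    (h : H) (h1 : h ∈ N.map (algebraMap A H)) (hh : Φ h ∈ K.map (algebraMap A B)) :
    h ∈ K.map (algebraMap A H) := by
  obtain ⟨ι, _, a, g, ha, rfl⟩ := exists_sum_of_mem_map N h1
  have hrel : ∑ j, (Ideal.Quotient.mk K (a j)) •
      (Ideal.Quotient.mk (K.map (algebraMap A B)) (Φ (g j))) = 0 := by
    simp_rw [quot_smul_mk]
    rw [← map_sum, Ideal.Quotient.eq_zero_iff_mem]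
    have : ∑ j, a j • Φ (g j) = Φ (∑ j, a j • g j) := by
      rw [map_sum]
      simp [map_smul]
    rw [this]
    exact hh
  have h3 := Module.Flat.isTrivialRelation_of_sum_smul_eq_zero
    (R := A ⧸ K) (M := B ⧸ K.map (algebraMap A B))
    (f := fun j => Ideal.Quotient.mk K (a j))
    (x := fun j => Ideal.Quotient.mk (K.map (algebraMap A B)) (Φ (g j))) hrel
  obtain ⟨k, c, y, hy, hc⟩ := h3
  replace hy : ∀ i, Ideal.Quotient.mk (K.map (algebraMap A B)) (Φ (g i)) = ∑ j, c i j • y j := hy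
  replace hc : ∀ j, ∑ i, Ideal.Quotient.mk K (a i) * c i j = 0 := hc
  choose c' hc' using fun j l => Ideal.Quotient.mk_surjective (c j l)
  choose y' hy' using fun l => Ideal.Quotient.mk_surjective (y l)
  choose g' hg' using fun l => hsurj (y' l)
  have hu : ∀ j, g j - ∑ l, c' j l • g' l ∈ I.map (algebraMap A H) := by
    intro j
    apply hinj
    have e1 : Φ (g j - ∑ l, c' j l • g' l) =
        (Φ (g j) - ∑ l, c' j l • y' l) + ∑ l, c' j l • (y' l - Φ (g' l)) := by
      simp only [map_sub, map_sum, map_smul, smul_sub, Finset.sum_sub_distrib]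
      ring
    rw [e1]
    refine Ideal.add_mem _ ?_ (Ideal.sum_mem _ fun l _ => ?_)
    · have h2 : Φ (g j) - ∑ l, c' j l • y' l ∈ K.map (algebraMap A B) := by
        rw [← Ideal.Quotient.eq_zero_iff_mem, map_sub, hy j, sub_eq_zero, map_sum]
        refine Finset.sum_congr rfl fun l _ => ?_
        rw [← hc' j l, ← hy' l, quot_smul_mk]
      exact Ideal.map_mono hKI h2
    · rw [Algebra.smul_def]
      exact Ideal.mul_mem_left _ _ (hg' l)
  have hs : ∀ l, ∑ j, a j * c' j l ∈ K := by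
    intro l
    rw [← Ideal.Quotient.eq_zero_iff_mem, map_sum]
    simp_rw [map_mul, hc']
    exact hc l
  have e2 : ∑ j, a j • g j = ∑ j, a j • (g j - ∑ l, c' j l • g' l) +
      ∑ l, (∑ j, a j * c' j l) • g' l := by
    have e3 : ∑ l, (∑ j, a j * c' j l) • g' l = ∑ j, a j • ∑ l, c' j l • g' l := by
      simp_rw [Finset.sum_smul, Finset.smul_sum]
      rw [Finset.sum_comm]
      refine Finset.sum_congr rfl fun j _ => Finset.sum_congr rfl fun l _ => ?_
      rw [mul_smul]
    rw [e3, ← Finset.sum_add_distrib]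
    refine Finset.sum_congr rfl fun j _ => ?_
    rw [smul_sub, sub_add_cancel]
  rw [e2]
  refine Ideal.add_mem _ (Ideal.sum_mem _ fun j _ => ?_) (Ideal.sum_mem _ fun l _ => ?_)
  · refine Ideal.map_mono hNIK ?_
    rw [Ideal.map_mul, Algebra.smul_def]
    exact Ideal.mul_mem_mul (Ideal.mem_map_of_mem _ (ha j)) (hu j)
  · rw [Algebra.smul_def]
    exact Ideal.mul_mem_right _ _ (Ideal.mem_map_of_mem _ (hs l))

theorem mem_map_pow_of_map_mem {A H B : Type u} [CommRing A] [CommRing H] [CommRing B]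
    [Algebra A H] [Algebra A B] (I : Ideal A) (Φ : H →ₐ[A] B)
    (hsurj : ∀ b : B, ∃ h : H, b - Φ h ∈ I.map (algebraMap A B))
    (hinj : ∀ h : H, Φ h ∈ I.map (algebraMap A B) → h ∈ I.map (algebraMap A H))
    (hflat : ∀ n : ℕ, 1 ≤ n → Module.Flat (A ⧸ I ^ n) (B ⧸ (I ^ n).map (algebraMap A B))) :
    ∀ (n : ℕ) (h : H), Φ h ∈ (I ^ n).map (algebraMap A B) → h ∈ (I ^ n).map (algebraMap A H) := by
  intro n
  induction n with
  | zero =>
    intro h _
    rw [pow_zero, Ideal.one_eq_top, Ideal.map_top]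
    exact Submodule.mem_top
  | succ n ih =>
    intro h hh
    rcases Nat.eq_zero_or_pos n with rfl | hn
    · rw [zero_add, pow_one] at hh ⊢
      exact hinj h hh
    · have h1 : h ∈ (I ^ n).map (algebraMap A H) :=
        ih h (Ideal.map_mono (Ideal.pow_le_pow_right (Nat.le_succ n)) hh)
      exact step I (I ^ n) (I ^ (n + 1)) (Ideal.pow_le_self (by omega)) (pow_succ I n).ge Φ hsurj
        hinj (hflat (n + 1) (by omega)) h h1 hh

end Groth.Agent.H87.HfpEtale
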