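import Mathlib.RepresentationTheory.Irreducible
import Mathlib.LinearAlgebra.FiniteDimensional.Lemmas

set_option autoImplicit false

namespace Groth.Agent.H87.Theta

variable {k : Type*} [Field k] {G : Type*} [Monoid G]
variable {V : Type*} [AddCommGroup V] [Module k V] (ρ : Representation k G V)

lemma subrep_top_toSubmodule : (⊤ : Subrepresentation ρ).toSubmodule = ⊤ := rfl
lemma subrep_bot_toSubmodule : (⊥ : Subrepresentation ρ).toSubmodule = ⊥ := rfl

/-- a nonzero finite-dimensional representation has a minimal nonzero subrepresentation -/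
theorem exists_atom_subrep [FiniteDimensional k V] [Nontrivial V] :
    ∃ S : Subrepresentation ρ, S ≠ ⊥ ∧ ∀ S' : Subrepresentation ρ, S' ≤ S → S' = ⊥ ∨ S' = S := by
  classical
  let P : ℕ → Prop := fun n =>
    ∃ S : Subrepresentation ρ, S ≠ ⊥ ∧ Module.finrank k S.toSubmodule = n
  have htop : (⊤ : Subrepresentation ρ) ≠ ⊥ := by
    intro h
    have := congrArg Subrepresentation.toSubmodule h
    rw [subrep_top_toSubmodule, subrep_bot_toSubmodule] at this
    exact top_ne_bot this
  have hP : ∃ n, P n := ⟨_, ⊤, htop, rfl⟩
  obtain ⟨S, hS0, hSn⟩ := Nat.find_spec hP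
  refine ⟨S, hS0, fun S' hle => ?_⟩
  by_cases h0 : S' = ⊥
  · exact Or.inl h0
  · right
    have hmin := Nat.find_min' hP ⟨S', h0, rfl⟩
    apply Subrepresentation.toSubmodule_injective
    exact Submodule.eq_of_le_of_finrank_le hle (hSn ▸ hmin)

/-- a minimal nonzero subrepresentation is irreducible -/
theorem isIrreducible_of_atom (S : Subrepresentation ρ) (hS0 : S ≠ ⊥)
    (hS : ∀ S' : Subrepresentation ρ, S' ≤ S → S' = ⊥ ∨ S' = S) :
    S.toRepresentation.IsIrreducible := by
  have key : ∀ T : Subrepresentation S.toRepresentation, T = ⊥ ∨ T = ⊤ := by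
    intro T
    let T' : Subrepresentation ρ :=
      { toSubmodule := T.toSubmodule.map S.toSubmodule.subtype
        apply_mem_toSubmodule := by
          rintro g _ ⟨w, hw, rfl⟩
          exact ⟨S.toRepresentation g w, T.apply_mem_toSubmodule g hw, rfl⟩ }
    have hle : T' ≤ S := by
      rintro _ ⟨w, _, rfl⟩
      exact w.2
    rcases hS T' hle with h0 | h1
    · left
      apply Subrepresentation.toSubmodule_injective
      have := congrArg Subrepresentation.toSubmodule h0
      change T.toSubmodule.map S.toSubmodule.subtype = ⊥ at this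
      rw [← Submodule.map_bot S.toSubmodule.subtype] at this
      exact Submodule.map_injective_of_injective S.toSubmodule.injective_subtype this
    · right
      apply Subrepresentation.toSubmodule_injective
      have := congrArg Subrepresentation.toSubmodule h1
      change T.toSubmodule.map S.toSubmodule.subtype = S.toSubmodule at this
      change T.toSubmodule = ⊤
      rw [eq_top_iff]
      intro w _
      have hw : (w : V) ∈ T.toSubmodule.map S.toSubmodule.subtype := by rw [this]; exact w.2
      obtain ⟨w', hw', hww'⟩ := hw
      have : w' = w := Subtype.ext hww'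
      rwa [← this]
  have hne : (⊥ : Subrepresentation S.toRepresentation) ≠ ⊤ := by
    intro h
    have h1 := congrArg Subrepresentation.toSubmodule h
    rw [subrep_top_toSubmodule, subrep_bot_toSubmodule] at h1
    apply hS0
    apply Subrepresentation.toSubmodule_injective
    rw [subrep_bot_toSubmodule, eq_bot_iff]
    intro v hv
    have : (⟨v, hv⟩ : S.toSubmodule) ∈ (⊥ : Submodule k S.toSubmodule) := by
      rw [h1]; exact Submodule.mem_top
    rw [Submodule.mem_bot] at this ⊢
    exact congrArg Subtype.val this
  exact { exists_pair_ne := ⟨⊥, ⊤, hne⟩, eq_bot_or_eq_top := key }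

end Groth.Agent.H87.Theta
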