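import Mathlib.RepresentationTheory.Invariants
import Mathlib.RepresentationTheory.Subrepresentation
import Mathlib.LinearAlgebra.FiniteDimensional.Lemmas
import Groth.Agent.H87.SubIrr

set_option autoImplicit false

namespace Groth.Agent.H87.Theta

variable {k : Type*} [Field k] {G : Type*} [Monoid G] {G' : Type*} [Group G']
variable {W : Type*} [AddCommGroup W] [Module k W] (ρ : Representation k G W)

lemma isCompl_toSubmodule {S S' : Subrepresentation ρ} (hc : IsCompl S S') :
    IsCompl S.toSubmodule S'.toSubmodule := by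
  constructor
  · rw [disjoint_iff]
    have := congrArg Subrepresentation.toSubmodule (disjoint_iff.mp hc.1)
    exact this
  · rw [codisjoint_iff]
    have := congrArg Subrepresentation.toSubmodule (codisjoint_iff.mp hc.2)
    exact this

lemma map_invariants_sub (S : Subrepresentation ρ) (φ : G' →* G) :
    (Representation.invariants (S.toRepresentation.comp φ)).map S.toSubmodule.subtype =
      Representation.invariants (ρ.comp φ) ⊓ S.toSubmodule := by
  ext w
  constructor
  · rintro ⟨s, hs, rfl⟩
    refine ⟨fun g => ?_, s.2⟩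
    have := congrArg Subtype.val (hs g)
    exact this
  · rintro ⟨hw1, hw2⟩
    refine ⟨⟨w, hw2⟩, fun g => Subtype.ext (hw1 g), rfl⟩

lemma finrank_invariants_sub (S : Subrepresentation ρ) (φ : G' →* G) :
    Module.finrank k (Representation.invariants (S.toRepresentation.comp φ)) =
      Module.finrank k ↥(Representation.invariants (ρ.comp φ) ⊓ S.toSubmodule) := by
  rw [← map_invariants_sub]
  exact LinearEquiv.finrank_eq
    (Submodule.equivMapOfInjective _ S.toSubmodule.injective_subtype _)

/-- invariants decompose along a decomposition into subrepresentations -/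
theorem finrank_invariants_add [FiniteDimensional k W] {S S' : Subrepresentation ρ}
    (hc : IsCompl S S') (φ : G' →* G) :
    Module.finrank k (Representation.invariants (ρ.comp φ)) =
      Module.finrank k (Representation.invariants (S.toRepresentation.comp φ)) +
      Module.finrank k (Representation.invariants (S'.toRepresentation.comp φ)) := by
  have hc' := isCompl_toSubmodule ρ hc
  set I := Representation.invariants (ρ.comp φ) with hI
  rw [finrank_invariants_sub, finrank_invariants_sub, ← hI]
  have hsup : (I ⊓ S.toSubmodule) ⊔ (I ⊓ S'.toSubmodule) = I := by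
    apply le_antisymm (sup_le inf_le_left inf_le_left)
    intro w hw
    have hwtop : w ∈ S.toSubmodule ⊔ S'.toSubmodule := by
      rw [codisjoint_iff.mp hc'.2]; exact Submodule.mem_top
    obtain ⟨s, hs, s', hs', rfl⟩ := Submodule.mem_sup.mp hwtop
    have hfix : ∀ g : G', ρ (φ g) s = s ∧ ρ (φ g) s' = s' := by
      intro g
      have h1 : ρ (φ g) (s + s') = s + s' := hw g
      rw [map_add] at h1
      have h2 : ρ (φ g) s - s = s' - ρ (φ g) s' := by
        rw [sub_eq_sub_iff_add_eq_add, h1, add_comm]
      have h3 : ρ (φ g) s - s ∈ S.toSubmodule ⊓ S'.toSubmodule := by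
        refine ⟨S.toSubmodule.sub_mem (S.apply_mem_toSubmodule _ hs) hs, ?_⟩
        rw [h2]
        exact S'.toSubmodule.sub_mem hs' (S'.apply_mem_toSubmodule _ hs')
      rw [disjoint_iff.mp hc'.1, Submodule.mem_bot] at h3
      refine ⟨sub_eq_zero.mp h3, ?_⟩
      rw [h3] at h2
      exact (sub_eq_zero.mp h2.symm).symm
    exact Submodule.add_mem_sup ⟨fun g => (hfix g).1, hs⟩ ⟨fun g => (hfix g).2, hs'⟩
  have hinf : (I ⊓ S.toSubmodule) ⊓ (I ⊓ S'.toSubmodule) = ⊥ := by
    rw [eq_bot_iff]
    rintro w ⟨⟨_, h1⟩, ⟨_, h2⟩⟩
    have : w ∈ S.toSubmodule ⊓ S'.toSubmodule := ⟨h1, h2⟩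
    rwa [disjoint_iff.mp hc'.1] at this
  have := Submodule.finrank_sup_add_finrank_inf_eq (I ⊓ S.toSubmodule) (I ⊓ S'.toSubmodule)
  rw [hsup, hinf, finrank_bot, add_zero] at this
  exact this

end Groth.Agent.H87.Theta
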