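import Mathlib

/-!
# Iterated equalizer subalgebras of a finite algebra terminate at the base ring
-/

set_option autoImplicit false
universe u
open scoped TensorProduct

namespace Groth.Agent.H87.IterEq

/-- Over a local ring, a finite module `T` with `T ⊗ T = 0` is zero. -/
theorem subsingleton_of_tensor_self (R T : Type u) [CommRing R] [IsLocalRing R] [AddCommGroup T]
    [Module R T] [Module.Finite R T] (h : Subsingleton (T ⊗[R] T)) : Subsingleton T := by
  by_contra hT
  rw [not_subsingleton_iff_nontrivial] at hT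
  let k := IsLocalRing.ResidueField R
  have hV : Nontrivial (k ⊗[R] T) := by
    rw [← not_subsingleton_iff_nontrivial, IsLocalRing.subsingleton_tensorProduct]
    exact not_subsingleton T
  obtain ⟨v, hv⟩ := exists_ne (0 : k ⊗[R] T)
  obtain ⟨φ, hφ⟩ : ∃ φ : Module.Dual k (k ⊗[R] T), φ v ≠ 0 := by
    by_contra hcon
    push Not at hcon
    exact hv ((Module.forall_dual_apply_eq_zero_iff k v).1 hcon)
  obtain ⟨t, rfl⟩ := TensorProduct.mk_surjective R T k IsLocalRing.residue_surjective v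
  let f : T →ₗ[R] k := (φ.restrictScalars R) ∘ₗ (TensorProduct.mk R k T 1)
  have hft : f t ≠ 0 := hφ
  have hf : Function.Surjective f := by
    intro d
    obtain ⟨r, hr⟩ := IsLocalRing.residue_surjective (d / f t)
    refine ⟨r • t, ?_⟩
    rw [map_smul, Algebra.smul_def, IsLocalRing.ResidueField.algebraMap_eq, hr,
      div_mul_cancel₀ _ hft]
  have hμ : Function.Surjective (LinearMap.mul' R k) := fun d => ⟨d ⊗ₜ 1, by simp⟩
  have hsurj : Function.Surjective ((LinearMap.mul' R k) ∘ₗ TensorProduct.map f f) :=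
    hμ.comp (TensorProduct.map_surjective hf hf)
  have : Subsingleton k := hsurj.subsingleton
  exact not_subsingleton k this

/-- If `s` kills `T ⊗ T` for a finite module `T`, a power of `s` kills `T`. -/
theorem exists_pow_smul_eq_zero_of_smul_tensor_self (A T : Type u) [CommRing A] [AddCommGroup T]
    [Module A T] [Module.Finite A T] (s : A) (h : ∀ x y : T, s • (x ⊗ₜ[A] y) = 0) :
    ∃ k : ℕ, ∀ x : T, s ^ k • x = 0 := by
  have hsupp : Module.support A T ⊆ PrimeSpectrum.zeroLocus ((Ideal.span {s} : Ideal A) : Set A) := by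
    intro q hq
    rw [PrimeSpectrum.zeroLocus_span]
    rw [PrimeSpectrum.mem_zeroLocus, Set.singleton_subset_iff]
    by_contra hs
    rw [Module.mem_support_iff] at hq
    let S := q.asIdeal.primeCompl
    let Aq := Localization S
    let Tq := LocalizedModule S T
    have hunit : IsUnit (algebraMap A Aq s) := IsLocalization.map_units Aq (⟨s, hs⟩ : S)
    let f : T →ₗ[A] Tq := LocalizedModule.mkLinearMap S T
    let g : T ⊗[A] T →ₗ[A] Tq ⊗[Aq] Tq :=
      (TensorProduct.mapOfCompatibleSMul Aq A A Tq Tq) ∘ₗ (TensorProduct.map f f)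
    have hg : ∀ x y : T, g (x ⊗ₜ y) = (f x) ⊗ₜ[Aq] (f y) := fun x y => rfl
    have hzero : ∀ x y : T, (f x) ⊗ₜ[Aq] (f y) = 0 := by
      intro x y
      have h1 : s • ((f x) ⊗ₜ[Aq] (f y)) = 0 := by
        rw [← hg, ← map_smul, h, map_zero]
      rw [← algebraMap_smul Aq s ((f x) ⊗ₜ[Aq] (f y))] at h1
      exact (hunit.smul_eq_zero).1 h1
    have hsub : Subsingleton (Tq ⊗[Aq] Tq) := by
      refine ⟨fun a b => ?_⟩
      have : ∀ z : Tq ⊗[Aq] Tq, z = 0 := by
        intro z
        induction z with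
        | zero => rfl
        | add x y hx hy => rw [hx, hy, add_zero]
        | tmul x y =>
          induction x using LocalizedModule.induction_on with
          | h x u =>
            induction y using LocalizedModule.induction_on with
            | h y v =>
              have hx : LocalizedModule.mk x u = (Localization.mk 1 u : Aq) • f x := by
                show LocalizedModule.mk x u = (Localization.mk 1 u : Aq) • LocalizedModule.mk x 1
                rw [LocalizedModule.mk_smul_mk, one_smul, mul_one]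
              have hy : LocalizedModule.mk y v = (Localization.mk 1 v : Aq) • f y := by
                show LocalizedModule.mk y v = (Localization.mk 1 v : Aq) • LocalizedModule.mk y 1
                rw [LocalizedModule.mk_smul_mk, one_smul, mul_one]
              rw [hx, hy, TensorProduct.smul_tmul_smul, hzero, smul_zero]
      rw [this a, this b]
    have := subsingleton_of_tensor_self Aq Tq hsub
    exact not_subsingleton Tq this
  rw [Module.support_eq_zeroLocus, PrimeSpectrum.zeroLocus_subset_zeroLocus_iff] at hsupp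
  have hs : s ∈ (Module.annihilator A T).radical := hsupp (Ideal.mem_span_singleton_self s)
  obtain ⟨k, hk⟩ := hs
  exact ⟨k, fun x => Module.mem_annihilator.1 hk x⟩

/-- Lemma K. -/
theorem exists_pow_smul_mem_range (A C : Type u) [CommRing A] [CommRing C] [Algebra A C]
    [Module.Finite A C] (s : A)
    (hs : ∀ c : C, s • (c ⊗ₜ[A] (1 : C)) = s • ((1 : C) ⊗ₜ[A] c)) :
    ∃ k : ℕ, ∀ c : C, ∃ a : A, s ^ k • c = algebraMap A C a := by
  let R' : Submodule A C := LinearMap.range (Algebra.linearMap A C)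
  let π : C →ₗ[A] C ⧸ R' := R'.mkQ
  have hπ1 : π 1 = 0 := by
    rw [Submodule.mkQ_apply, Submodule.Quotient.mk_eq_zero]
    exact ⟨1, by simp⟩
  have key : ∀ x y : C, s • (x ⊗ₜ[A] y) = s • ((1 : C) ⊗ₜ[A] (x * y)) := by
    intro x y
    have h1 : x ⊗ₜ[A] y = (x ⊗ₜ[A] (1 : C)) * ((1 : C) ⊗ₜ[A] y) := by
      rw [Algebra.TensorProduct.tmul_mul_tmul, mul_one, one_mul]
    have h2 : (1 : C) ⊗ₜ[A] (x * y) = ((1 : C) ⊗ₜ[A] x) * ((1 : C) ⊗ₜ[A] y) := by
      rw [Algebra.TensorProduct.tmul_mul_tmul, mul_one]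
    rw [h1, h2, ← smul_mul_assoc, hs, smul_mul_assoc]
  obtain ⟨k, hk⟩ := exists_pow_smul_eq_zero_of_smul_tensor_self A (C ⧸ R') s (by
    intro x y
    obtain ⟨x, rfl⟩ := R'.mkQ_surjective x
    obtain ⟨y, rfl⟩ := R'.mkQ_surjective y
    have := congrArg (TensorProduct.map π π) (key x y)
    rw [map_smul, map_smul, TensorProduct.map_tmul, TensorProduct.map_tmul, hπ1,
      TensorProduct.zero_tmul, smul_zero] at this
    exact this)
  refine ⟨k, fun c => ?_⟩
  have h1 : π (s ^ k • c) = 0 := by rw [map_smul]; exact hk _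
  rw [Submodule.mkQ_apply, Submodule.Quotient.mk_eq_zero] at h1
  obtain ⟨a, ha⟩ := h1
  exact ⟨a, ha.symm⟩

/-- A finite module killed by an ideal with Artinian quotient is Artinian. -/
theorem isArtinian_of_torsion (R M : Type u) [CommRing R] [AddCommGroup M] [Module R M]
    [Module.Finite R M] (J : Ideal R) [IsArtinianRing (R ⧸ J)]
    (hJ : ∀ a ∈ J, ∀ m : M, a • m = 0) : IsArtinian R M := by
  have hM : Module.IsTorsionBySet R M J := by
    intro m a
    exact hJ a.1 a.2 m
  let _ := hM.module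
  have : IsScalarTower R (R ⧸ J) M := hM.isScalarTower
  have : Module.Finite (R ⧸ J) M := Module.Finite.of_restrictScalars_finite R (R ⧸ J) M
  have : IsArtinian (R ⧸ J) M := inferInstance
  exact isArtinian_of_surjective_algebraMap (S := R) (R := R ⧸ J) Ideal.Quotient.mk_surjective

/-- Lemma U. -/
theorem exists_uniform_smul_mem (A M : Type u) [CommRing A] [AddCommGroup M] [Module A M]
    (𝔭 : Ideal A) [𝔭.IsPrime] (P Q : Submodule A M) (hQ : Q.FG)
    (h : ∀ x ∈ Q, ∃ u ∉ 𝔭, u • x ∈ P) : ∃ s ∉ 𝔭, ∀ x ∈ Q, s • x ∈ P := by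
  revert h
  refine Submodule.fg_induction (motive := fun Q _ => (∀ x ∈ Q, ∃ u ∉ 𝔭, u • x ∈ P) →
    ∃ s ∉ 𝔭, ∀ x ∈ Q, s • x ∈ P) ?_ ?_ Q hQ
  · intro x h
    obtain ⟨u, hu, hux⟩ := h x (Submodule.mem_span_singleton_self x)
    refine ⟨u, hu, fun y hy => ?_⟩
    obtain ⟨a, rfl⟩ := Submodule.mem_span_singleton.1 hy
    rw [smul_comm]
    exact P.smul_mem a hux
  · intro M₁ M₂ _ _ h₁ h₂ h
    obtain ⟨s₁, hs₁, H₁⟩ := h₁ fun x hx => h x (Submodule.mem_sup_left hx)
    obtain ⟨s₂, hs₂, H₂⟩ := h₂ fun x hx => h x (Submodule.mem_sup_right hx)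
    refine ⟨s₁ * s₂, ?_, fun x hx => ?_⟩
    · intro hmem
      rcases Ideal.IsPrime.mem_or_mem ‹_› hmem with h | h
      exacts [hs₁ h, hs₂ h]
    · obtain ⟨x₁, hx₁, x₂, hx₂, rfl⟩ := Submodule.mem_sup.1 hx
      rw [smul_add]
      refine P.add_mem ?_ ?_
      · rw [mul_comm, mul_smul]; exact P.smul_mem _ (H₁ x₁ hx₁)
      · rw [mul_smul]; exact P.smul_mem _ (H₂ x₂ hx₂)

/-- Lemma D. -/
theorem exists_local_stabilize (A T : Type u) [CommRing A] [IsNoetherianRing A] [AddCommGroup T]
    [Module A T] [Module.Finite A T] (V : ℕ → Submodule A T) (hV : ∀ i, V (i + 1) ≤ V i)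
    (I 𝔭 : Ideal A) (h𝔭 : 𝔭 ∈ I.minimalPrimes)
    (hI : ∀ a ∈ I, ∀ x ∈ V 0, a • x = 0) :
    ∃ i, ∀ x ∈ V i, ∃ u ∉ 𝔭, u • x ∈ V (i + 1) := by
  have hprime : 𝔭.IsPrime := h𝔭.1.1
  have hanti : Antitone V := antitone_nat_of_succ_le hV
  let S := 𝔭.primeCompl
  let Aq := Localization.AtPrime 𝔭
  let Tq := LocalizedModule S T
  let f := algebraMap A Aq
  let W : ℕ → Submodule Aq Tq := fun j => (V j).localized S
  have hWanti : Antitone W := by
    intro i j hij x hx
    rw [Submodule.mem_localized'] at hx ⊢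
    obtain ⟨m, hm, s, rfl⟩ := hx
    exact ⟨m, hanti hij hm, s, rfl⟩
  let L : Submodule Aq Tq := W 0
  let J : Ideal Aq := I.map f
  have hJmin : IsLocalRing.maximalIdeal Aq ∈ J.minimalPrimes := by
    rwa [IsLocalization.minimalPrimes_map 𝔭.primeCompl (Localization.AtPrime 𝔭) I,
      Set.mem_preimage, Localization.AtPrime.under_maximalIdeal]
  have : IsArtinianRing (Aq ⧸ J) :=
    IsLocalRing.quotient_artinian_of_mem_minimalPrimes_of_isLocalRing J hJmin
  have hNoeth : IsNoetherian Aq Tq := isNoetherian_of_isNoetherianRing_of_finite Aq Tq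
  have hLfin : Module.Finite Aq L := inferInstance
  have hJL : ∀ a ∈ J, ∀ m : L, a • m = 0 := by
    have : J ≤ Module.annihilator Aq L := by
      rw [Ideal.map_le_iff_le_comap]
      intro b hb
      rw [Ideal.mem_comap, Module.mem_annihilator]
      rintro ⟨x, hx⟩
      obtain ⟨t, ht, u, rfl⟩ := (Submodule.mem_localized' _ _ _ _ _).1 hx
      apply Subtype.ext
      show f b • IsLocalizedModule.mk' (LocalizedModule.mkLinearMap S T) t u = 0
      rw [algebraMap_smul, ← IsLocalizedModule.mk'_smul, hI b hb t ht, IsLocalizedModule.mk'_zero]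
    intro a ha m
    exact Module.mem_annihilator.1 (this ha) m
  have hArt : IsArtinian Aq L := isArtinian_of_torsion Aq L J hJL
  let g : ℕ →o (Submodule Aq L)ᵒᵈ :=
    { toFun := fun j => OrderDual.toDual (Submodule.comap L.subtype (W j))
      monotone' := fun i j hij => Submodule.comap_mono (hWanti hij) }
  obtain ⟨n, hn⟩ := IsArtinian.monotone_stabilizes g
  refine ⟨n, fun x hx => ?_⟩
  have h1 : LocalizedModule.mk x (1 : S) ∈ W n := by
    rw [Submodule.mem_localized']
    exact ⟨x, hx, 1, (IsLocalizedModule.mk_eq_mk' 1 x).symm⟩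
  have h2 : LocalizedModule.mk x (1 : S) ∈ W (n + 1) := by
    have hL : LocalizedModule.mk x (1 : S) ∈ L := hWanti (Nat.zero_le n) h1
    have h3 : (⟨_, hL⟩ : L) ∈ Submodule.comap L.subtype (W n) := h1
    have h4 : Submodule.comap L.subtype (W n) = Submodule.comap L.subtype (W (n + 1)) :=
      congrArg OrderDual.ofDual (hn (n + 1) (Nat.le_succ n))
    rw [h4] at h3
    exact h3
  rw [Submodule.mem_localized'] at h2
  obtain ⟨t, ht, u, hu⟩ := h2
  rw [← IsLocalizedModule.mk_eq_mk', LocalizedModule.mk_eq] at hu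
  obtain ⟨v, hv⟩ := hu
  refine ⟨v * u, (v * u).2, ?_⟩
  have : ((v : A) * (u : A)) • x = (v : A) • t := by
    have := hv
    simp only [one_smul] at this
    rw [mul_smul]
    exact this.symm
  show ((v : A) * (u : A)) • x ∈ V (n + 1)
  rw [this]
  exact (V (n + 1)).smul_mem _ ht

/-- The iterated equalizer subalgebras of a finite algebra over a Noetherian ring reach `⊥`. -/
theorem iter_eq_main (A B : Type u) [CommRing A] [CommRing B] [Algebra A B]
    [IsNoetherianRing A] [Module.Finite A B]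
    (C : ℕ → Subalgebra A B)
    (hanti : ∀ i, C (i + 1) ≤ C i)
    (hstep : ∀ (i : ℕ) (b : B) (hb : b ∈ C i), b ∈ C (i + 1) →
      ((⟨b, hb⟩ : C i) ⊗ₜ[A] (1 : C i) : C i ⊗[A] C i) = (1 : C i) ⊗ₜ[A] (⟨b, hb⟩ : C i)) :
    ∃ m : ℕ, C m = ⊥ := by
  classical
  have hNB : IsNoetherian A B := isNoetherian_of_isNoetherianRing_of_finite A B
  have hmono : Antitone C := antitone_nat_of_succ_le hanti
  let R : Submodule A B := Subalgebra.toSubmodule (⊥ : Subalgebra A B)
  have hRle : ∀ i, R ≤ Subalgebra.toSubmodule (C i) := fun i x hx =>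
    (bot_le : (⊥ : Subalgebra A B) ≤ C i) hx
  let 𝔞 : ℕ → Ideal A := fun i => R.colon (Subalgebra.toSubmodule (C i))
  have h𝔞 : ∀ i a, a ∈ 𝔞 i ↔ ∀ c ∈ C i, a • c ∈ (⊥ : Subalgebra A B) :=
    fun i a => Submodule.mem_colon
  have h𝔞mono : Monotone 𝔞 := by
    intro i j hij a ha
    rw [h𝔞] at ha ⊢
    exact fun c hc => ha c (hmono hij hc)
  obtain ⟨N, hN⟩ := monotone_stabilizes_iff_noetherian.mpr inferInstance ⟨𝔞, h𝔞mono⟩
  by_cases htop : 𝔞 N = ⊤
  · refine ⟨N, eq_bot_iff.2 fun c hc => ?_⟩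
    have := (h𝔞 N 1).1 (htop ▸ Submodule.mem_top) c hc
    simpa using this
  · exfalso
    obtain ⟨M, hM, hle⟩ := Ideal.exists_le_maximal _ htop
    have hMp : M.IsPrime := hM.isPrime
    obtain ⟨𝔭, h𝔭, -⟩ := Ideal.exists_minimalPrimes_le hle
    have hprime : 𝔭.IsPrime := h𝔭.1.1
    -- apply Lemma D
    let π : B →ₗ[A] B ⧸ R := R.mkQ
    let V : ℕ → Submodule A (B ⧸ R) := fun j => (Subalgebra.toSubmodule (C (N + j))).map π
    have hV : ∀ j, V (j + 1) ≤ V j := fun j =>
      Submodule.map_mono (fun x hx => hanti (N + j) hx)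
    obtain ⟨j, hj⟩ := exists_local_stabilize A (B ⧸ R) V hV (𝔞 N) 𝔭 h𝔭 (by
      rintro a ha x ⟨c, hc, rfl⟩
      rw [← map_smul, Submodule.mkQ_apply, Submodule.Quotient.mk_eq_zero]
      exact (h𝔞 N a).1 ha c hc)
    let i := N + j
    have hloc : ∀ c ∈ Subalgebra.toSubmodule (C i), ∃ u ∉ 𝔭,
        u • c ∈ Subalgebra.toSubmodule (C (i + 1)) := by
      intro c hc
      obtain ⟨u, hu, hux⟩ := hj (π c) ⟨c, hc, rfl⟩
      refine ⟨u, hu, ?_⟩
      obtain ⟨c', hc', hcc'⟩ := hux
      rw [← map_smul] at hcc'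
      have hsub : c' - u • c ∈ R := by
        rw [← Submodule.Quotient.mk_eq_zero, Submodule.Quotient.mk_sub]
        exact sub_eq_zero.2 hcc'
      have h1 : u • c = c' - (c' - u • c) := by abel
      rw [h1]
      exact Submodule.sub_mem _ hc' (hRle (i + 1) hsub)
    obtain ⟨s, hs𝔭, hs⟩ := exists_uniform_smul_mem A B 𝔭 (Subalgebra.toSubmodule (C (i + 1)))
      (Subalgebra.toSubmodule (C i)) (IsNoetherian.noetherian _) hloc
    have hfin : Module.Finite A (C i) :=
      Module.Finite.iff_fg.2 (IsNoetherian.noetherian (Subalgebra.toSubmodule (C i)))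
    obtain ⟨k, hk⟩ := exists_pow_smul_mem_range A (C i) s (by
      intro c
      have hb : s • (c : B) ∈ C i := (C i).smul_mem c.2 s
      have h1 := hstep i (s • (c : B)) hb (hs c c.2)
      have h2 : (⟨s • (c : B), hb⟩ : C i) = s • c := Subtype.ext rfl
      rw [h2] at h1
      rw [TensorProduct.smul_tmul', h1, TensorProduct.tmul_smul])
    have hmem : s ^ k ∈ 𝔞 i := by
      rw [h𝔞]
      intro c hc
      obtain ⟨a, ha⟩ := hk ⟨c, hc⟩
      rw [Algebra.mem_bot]
      refine ⟨a, ?_⟩
      have := congrArg (Subtype.val) ha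
      exact this.symm
    have : 𝔞 i = 𝔞 N := (hN i (Nat.le_add_right N j)).symm
    rw [this] at hmem
    exact hs𝔭 (hprime.mem_of_pow_mem k (h𝔭.1.2 hmem))

end Groth.Agent.H87.IterEq
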