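import Mathlib

/-!
# The Jouanolou ring `A[a_k, t] / (∑ a_k f_k - 1)`

For a finite family `f : ι → A`, the ring `R f = A[a_k (k : ι), t] / (∑ a_k f_k - 1)`,
its structure maps, the universal property (`liftR`) and an extensionality lemma.
-/

set_option autoImplicit false
universe u

namespace Groth.Agent.H87.Jouanolou

section Alg

variable {ι : Type u} [Fintype ι] {A : Type u} [CommRing A] (f : ι → A)

/-- The relation `∑ a_k f_k - 1`. -/
noncomputable def rel : MvPolynomial (Option ι) A :=
  ∑ k, MvPolynomial.X (some k) * MvPolynomial.C (f k) - 1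

/-- The Jouanolou ring. -/
abbrev R : Type u := MvPolynomial (Option ι) A ⧸ Ideal.span {rel f}

/-- The structure map `A → R`. -/
noncomputable def ιA : A →+* R f := (Ideal.Quotient.mk _).comp MvPolynomial.C

/-- The generators `a_k`. -/
noncomputable def aR (k : ι) : R f := Ideal.Quotient.mk _ (MvPolynomial.X (some k))

/-- The generator `t`. -/
noncomputable def tR : R f := Ideal.Quotient.mk _ (MvPolynomial.X none)

lemma mk_rel : Ideal.Quotient.mk (Ideal.span {rel f}) (rel f) = ∑ k, aR f k * ιA f (f k) - 1 := by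
  have key : ∀ (I : Ideal (MvPolynomial (Option ι) A)),
      Ideal.Quotient.mk I (rel f) = ∑ k, Ideal.Quotient.mk I (MvPolynomial.X (some k)) *
        Ideal.Quotient.mk I (MvPolynomial.C (f k)) - 1 := by
    intro I
    rw [rel, map_sub, map_sum, map_one]
    simp only [map_mul]
  exact key _

lemma rel_eq : ∑ k, aR f k * ιA f (f k) = 1 := by
  have h : Ideal.Quotient.mk (Ideal.span {rel f}) (rel f) = 0 :=
    Ideal.Quotient.eq_zero_iff_mem.mpr (Ideal.subset_span rfl)
  rw [mk_rel, sub_eq_zero] at h
  exact h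

/-- The universal property of the Jouanolou ring. -/
noncomputable def liftR {W : Type u} [CommRing W] (ψ : A →+* W) (α : ι → W) (τ : W)
    (h : ∑ k, α k * ψ (f k) = 1) : R f →+* W :=
  Ideal.Quotient.lift _ (MvPolynomial.eval₂Hom ψ (fun o => o.elim τ α)) (by
    intro x hx
    rw [Ideal.mem_span_singleton] at hx
    obtain ⟨y, rfl⟩ := hx
    rw [map_mul]
    have : MvPolynomial.eval₂Hom ψ (fun o => o.elim τ α) (rel f) = 0 := by
      simp [rel, h]
    rw [this, zero_mul])

variable {W : Type u} [CommRing W] (ψ : A →+* W) (α : ι → W) (τ : W)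
  (h : ∑ k, α k * ψ (f k) = 1)

@[simp] lemma liftR_ιA (a : A) : liftR f ψ α τ h (ιA f a) = ψ a := by
  simp [liftR, ιA]

@[simp] lemma liftR_aR (k : ι) : liftR f ψ α τ h (aR f k) = α k := by
  simp [liftR, aR]

@[simp] lemma liftR_tR : liftR f ψ α τ h (tR f) = τ := by
  simp [liftR, tR]

lemma R_hom_ext {g h : R f →+* W} (h1 : ∀ a, g (ιA f a) = h (ιA f a))
    (h2 : ∀ k, g (aR f k) = h (aR f k)) (h3 : g (tR f) = h (tR f)) : g = h := by
  apply Ideal.Quotient.ringHom_ext
  apply MvPolynomial.ringHom_ext
  · intro a; exact h1 a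
  · intro o
    cases o with
    | none => exact h3
    | some k => exact h2 k

end Alg

end Groth.Agent.H87.Jouanolou
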