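import Groth.Agent.H87.JouanolouAlg

/-!
# Algebraic identities for the Jouanolou torsor trivialisation
-/

set_option autoImplicit false
universe u

namespace Groth.Agent.H87.Jouanolou

variable {ι : Type u} [Fintype ι] {A : Type u} [CommRing A] (f : ι → A)
variable {B : Type u} [CommRing B] (β : A →+* B) (c : ι → B) (hc : ∑ k, c k * β (f k) = 1)

section one

variable {P : Type u} [CommRing P] (σ : B →+* P) (ρ : R f →+* P)
  (hρ : ∀ a, ρ (ιA f a) = σ (β a))

include hc in
lemma sum_map_c : ∑ l, σ (c l) * σ (β (f l)) = 1 := by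
  rw [← map_one σ, ← hc, map_sum]
  simp only [map_mul]

include hρ in
lemma sum_rho : ∑ k, ρ (aR f k) * σ (β (f k)) = 1 := by
  have := congrArg ρ (rel_eq f)
  rw [map_sum, map_one] at this
  rw [← this]
  refine Finset.sum_congr rfl fun k _ => ?_
  rw [map_mul, hρ]

include hc hρ in
lemma sum_v :
    ∑ l, (ρ (aR f l) - σ (c l) + ρ (tR f) * σ (c l)) * σ (β (f l)) = ρ (tR f) := by
  calc ∑ l, (ρ (aR f l) - σ (c l) + ρ (tR f) * σ (c l)) * σ (β (f l))
      = ∑ l, ρ (aR f l) * σ (β (f l)) - ∑ l, σ (c l) * σ (β (f l))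
          + ρ (tR f) * ∑ l, σ (c l) * σ (β (f l)) := by
        rw [Finset.mul_sum, ← Finset.sum_sub_distrib, ← Finset.sum_add_distrib]
        refine Finset.sum_congr rfl fun l _ => ?_
        ring
    _ = ρ (tR f) := by rw [sum_rho f β σ ρ hρ, sum_map_c f β c hc σ]; ring

include hc hρ in
lemma v_back (k : ι) :
    (ρ (aR f k) - σ (c k) + ρ (tR f) * σ (c k)) +
      (1 - ∑ l, (ρ (aR f l) - σ (c l) + ρ (tR f) * σ (c l)) * σ (β (f l))) * σ (c k) =
      ρ (aR f k) := by
  rw [sum_v f β c hc σ ρ hρ]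
  ring

end one

section two

variable {Q : Type u} [CommRing Q] (π : B →+* Q) (y : ι → Q)

include hc in
lemma sum_alpha :
    ∑ k, (y k + (1 - ∑ l, y l * π (β (f l))) * π (c k)) * (π.comp β) (f k) = 1 := by
  have h1 := sum_map_c f β c hc π
  calc ∑ k, (y k + (1 - ∑ l, y l * π (β (f l))) * π (c k)) * (π.comp β) (f k)
      = ∑ k, y k * π (β (f k)) + (1 - ∑ l, y l * π (β (f l))) * ∑ k, π (c k) * π (β (f k)) := by
        rw [Finset.mul_sum, ← Finset.sum_add_distrib]
        refine Finset.sum_congr rfl fun k _ => ?_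
        rw [RingHom.comp_apply]
        ring
    _ = 1 := by rw [h1]; ring

lemma alpha_back (k : ι) :
    (y k + (1 - ∑ l, y l * π (β (f l))) * π (c k)) - π (c k) +
      (∑ l, y l * π (β (f l))) * π (c k) = y k := by
  ring

end two

section three

variable {P : Type u} [CommRing P] (σ : B →+* P) (ρ : R f →+* P)
  (hρ : ∀ a, ρ (ιA f a) = σ (β a))
variable {Q : Type u} [CommRing Q] (π : B →+* Q) (y : ι → Q)

include hρ in
lemma key1 (η : Q →+* P) (hηπ : ∀ b, η (π b) = σ b)
    (hηy : ∀ k, η (y k) = ρ (aR f k) - σ (c k) + ρ (tR f) * σ (c k)) :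
    η.comp (liftR f (π.comp β) (fun k => y k + (1 - ∑ l, y l * π (β (f l))) * π (c k))
      (∑ l, y l * π (β (f l))) (sum_alpha f β c hc π y)) = ρ := by
  apply R_hom_ext f
  · intro a
    rw [RingHom.comp_apply, liftR_ιA, RingHom.comp_apply, hηπ, hρ]
  · intro k
    rw [RingHom.comp_apply, liftR_aR]
    simp only [map_add, map_mul, map_sub, map_one, map_sum, hηπ, hηy]
    exact v_back f β c hc σ ρ hρ k
  · rw [RingHom.comp_apply, liftR_tR]
    simp only [map_mul, map_sum, hηπ, hηy]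
    exact sum_v f β c hc σ ρ hρ

lemma key2 (ζ : P →+* Q) (hζσ : ∀ b, ζ (σ b) = π b)
    (hζρ : ∀ r, ζ (ρ r) = liftR f (π.comp β)
      (fun k => y k + (1 - ∑ l, y l * π (β (f l))) * π (c k))
      (∑ l, y l * π (β (f l))) (sum_alpha f β c hc π y) r) (k : ι) :
    ζ (ρ (aR f k) - σ (c k) + ρ (tR f) * σ (c k)) = y k := by
  simp only [map_add, map_mul, map_sub, hζσ, hζρ]
  rw [liftR_aR, liftR_tR]
  exact alpha_back f β c π y k

end three

end Groth.Agent.H87.Jouanolou
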