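import Groth.Agent.H87.JouanolouSpec

set_option autoImplicit false
universe u

open AlgebraicGeometry CategoryTheory Limits

namespace Groth.Agent.H87.Jouanolou

lemma exists_cover (X : Scheme.{u}) [X.IsQuasiAffine] :
    ∃ (m : ℕ) (f : ULift.{u} (Fin m) → Γ(X, ⊤)),
      (PrimeSpectrum.zeroLocus (Set.range f))ᶜ = Set.range X.toSpecΓ := by
  have h1 : IsCompact (Set.range X.toSpecΓ) := isCompact_range X.toSpecΓ.continuous
  have h2 : IsOpen (Set.range X.toSpecΓ) := X.toSpecΓ.isOpenEmbedding.isOpen_range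
  obtain ⟨t, ht⟩ := PrimeSpectrum.isCompact_isOpen_iff.mp ⟨h1, h2⟩
  refine ⟨t.card, fun k => ((t.equivFin.symm k.down : t) : Γ(X, ⊤)), ?_⟩
  rw [← ht]
  congr 2
  ext a
  constructor
  · rintro ⟨k, rfl⟩
    exact (t.equivFin.symm k.down).2
  · intro hat
    refine ⟨⟨t.equivFin ⟨a, hat⟩⟩, ?_⟩
    simp

lemma exists_notMem_of_mem_range (X : Scheme.{u}) {m : ℕ} (f : ULift.{u} (Fin m) → Γ(X, ⊤))
    (hf : (PrimeSpectrum.zeroLocus (Set.range f))ᶜ = Set.range X.toSpecΓ) (x : X) :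
    ∃ k, x ∈ X.basicOpen (f k) := by
  have hx : (X.toSpecΓ x : PrimeSpectrum Γ(X, ⊤)) ∉ PrimeSpectrum.zeroLocus (Set.range f) := by
    intro h
    have h' : X.toSpecΓ x ∈ Set.range X.toSpecΓ := ⟨x, rfl⟩
    rw [← hf] at h'
    exact h' h
  by_contra hne
  push_neg at hne
  apply hx
  change Set.range f ⊆ ((X.toSpecΓ x : PrimeSpectrum Γ(X, ⊤)).asIdeal : Set Γ(X, ⊤))
  rintro _ ⟨k, rfl⟩
  have := hne k
  rw [← Scheme.toSpecΓ_preimage_basicOpen] at this
  by_contra h2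
  exact this h2

end Groth.Agent.H87.Jouanolou
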