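import Groth.Agent.H87.JouanolouCover
import Groth.Agent.H87.JouanolouAlg2

set_option autoImplicit false
universe u

open AlgebraicGeometry CategoryTheory Limits

namespace Groth.Agent.H87.Jouanolou

section

variable {X : Scheme.{u}} [X.IsQuasiAffine] {m : ℕ} (f : ULift.{u} (Fin m) → Γ(X, ⊤))
  (hf : (PrimeSpectrum.zeroLocus (Set.range f))ᶜ = Set.range X.toSpecΓ)
  (p : Spec (CommRingCat.of (R f)) ⟶ X)
  (hp : p ≫ X.toSpecΓ = Spec.map (CommRingCat.ofHom (ιA f)))
  (X' : Scheme.{u}) [IsAffine X'] (g : X' ⟶ X)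

include hf in
lemma span_eq_top : Ideal.span (Set.range fun k => g.appTop.hom (f k)) = ⊤ := by
  rw [← (isAffineOpen_top X').self_le_iSup_basicOpen_iff]
  intro x _
  obtain ⟨k, hk⟩ := exists_notMem_of_mem_range X f hf (g x)
  rw [TopologicalSpace.Opens.mem_iSup]
  refine ⟨⟨_, ⟨k, rfl⟩⟩, ?_⟩
  change x ∈ X'.basicOpen (g.appTop.hom (f k))
  rw [← Scheme.preimage_basicOpen_top]
  exact hk

include hp in
lemma appTop_compat (a : Γ(X, ⊤)) :
    (pullback.fst g p).appTop.hom (g.appTop.hom a) =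
      (pullback.snd g p).appTop.hom ((Scheme.ΓSpecIso (CommRingCat.of (R f))).inv.hom (ιA f a)) := by
  have h1 : pullback.fst g p ≫ g ≫ X.toSpecΓ =
      pullback.snd g p ≫ Spec.map (CommRingCat.ofHom (ιA f)) := by
    rw [← hp, pullback.condition_assoc]
  have h2 := congr($(h1).appTop)
  simp only [Scheme.Hom.comp_appTop, Scheme.toSpecΓ_appTop] at h2
  have h3 := congr($(h2).hom ((Scheme.ΓSpecIso Γ(X, ⊤)).inv.hom a))
  simp only [CommRingCat.hom_comp, RingHom.comp_apply] at h3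
  have h4 := congr($(Scheme.ΓSpecIso_inv_naturality (CommRingCat.ofHom (ιA f))).hom a)
  simp only [CommRingCat.hom_comp, RingHom.comp_apply, CommRingCat.hom_ofHom] at h4
  have h5 : (Scheme.ΓSpecIso Γ(X, ⊤)).hom.hom ((Scheme.ΓSpecIso Γ(X, ⊤)).inv.hom a) = a := by
    rw [← RingHom.comp_apply, ← CommRingCat.hom_comp, Iso.inv_hom_id]; rfl
  rw [h5] at h3
  rw [h4]
  exact h3

set_option maxHeartbeats 1600000 in
include hf hp in
theorem exists_iso : ∃ e : pullback g p ≅ 𝔸(ULift.{u} (Fin m); X'),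
    e.hom ≫ (𝔸(ULift.{u} (Fin m); X') ↘ X') = pullback.fst g p := by
  classical
  obtain ⟨π, hπ⟩ : ∃ π : Γ(X', ⊤) →+* Γ(𝔸(ULift.{u} (Fin m); X'), ⊤),
      π = (𝔸(ULift.{u} (Fin m); X') ↘ X').appTop.hom := ⟨_, rfl⟩
  obtain ⟨β, hβ⟩ : ∃ β : Γ(X, ⊤) →+* Γ(X', ⊤), β = g.appTop.hom := ⟨_, rfl⟩
  obtain ⟨c, hc⟩ : ∃ c : ULift.{u} (Fin m) → Γ(X', ⊤), ∑ k, c k * β (f k) = 1 := by
    have := span_eq_top f hf X' g
    rw [Ideal.eq_top_iff_one, Ideal.mem_span_range_iff_exists_fun] at this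
    rw [hβ]
    exact this
  -- sections on P
  obtain ⟨ρ, hρ⟩ : ∃ ρ : R f →+* Γ(pullback g p, ⊤), ρ =
    (pullback.snd g p).appTop.hom.comp (Scheme.ΓSpecIso (CommRingCat.of (R f))).inv.hom := ⟨_, rfl⟩
  obtain ⟨σ, hσ⟩ : ∃ σ : Γ(X', ⊤) →+* Γ(pullback g p, ⊤), σ = (pullback.fst g p).appTop.hom :=
    ⟨_, rfl⟩
  have hρι : ∀ a, ρ (ιA f a) = σ (β a) := fun a => by
    rw [hρ, hσ, hβ]
    exact (appTop_compat f p hp X' g a).symm
  obtain ⟨v, hv⟩ : ∃ v : ULift.{u} (Fin m) → Γ(pullback g p, ⊤),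
      v = fun k => ρ (aR f k) - σ (c k) + ρ (tR f) * σ (c k) := ⟨_, rfl⟩
  obtain ⟨y, hy⟩ : ∃ y : ULift.{u} (Fin m) → Γ(𝔸(ULift.{u} (Fin m); X'), ⊤),
      y = fun k => AffineSpace.coord X' k := ⟨_, rfl⟩
  obtain ⟨ψ, hψ⟩ : ∃ ψ : R f →+* Γ(𝔸(ULift.{u} (Fin m); X'), ⊤),
      ψ = liftR f (π.comp β) (fun k => y k + (1 - ∑ l, y l * π (β (f l))) * π (c k))
        (∑ l, y l * π (β (f l))) (sum_alpha f β c hc π y) := ⟨_, rfl⟩
  obtain ⟨τ, hτ⟩ : ∃ τ : 𝔸(ULift.{u} (Fin m); X') ⟶ Spec (CommRingCat.of (R f)),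
      τ = toSpec (CommRingCat.ofHom ψ) := ⟨_, rfl⟩
  have hτapp : ∀ r : R f, τ.appTop.hom ((Scheme.ΓSpecIso (CommRingCat.of (R f))).inv.hom r) = ψ r := by
    intro r
    rw [hτ]
    exact toSpec_appTop_inv (CommRingCat.ofHom ψ) r
  have hcomm : (𝔸(ULift.{u} (Fin m); X') ↘ X') ≫ g = τ ≫ p := by
    rw [← cancel_mono X.toSpecΓ, Category.assoc, Category.assoc, hp, hτ, toSpec_comp_SpecMap,
      ← Category.assoc, comp_toSpecΓ]
    congr 1
    ext a
    rw [Scheme.Hom.comp_appTop]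
    change (Scheme.Hom.appTop (𝔸(ULift.{u} (Fin m); X') ↘ X')).hom (g.appTop.hom a) = ψ (ιA f a)
    rw [hψ, liftR_ιA, RingHom.comp_apply, hπ, hβ]
  have hfst : ∀ b, (pullback.lift (𝔸(ULift.{u} (Fin m); X') ↘ X') τ hcomm).appTop.hom (σ b) = π b := by
    intro b
    rw [hσ, hπ, ← RingHom.comp_apply, ← CommRingCat.hom_comp, ← Scheme.Hom.comp_appTop,
      pullback.lift_fst]
  have hsnd : ∀ r, (pullback.lift (𝔸(ULift.{u} (Fin m); X') ↘ X') τ hcomm).appTop.hom (ρ r) = ψ r := by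
    intro r
    rw [hρ, RingHom.comp_apply, ← RingHom.comp_apply, ← CommRingCat.hom_comp,
      ← Scheme.Hom.comp_appTop, pullback.lift_snd]
    exact hτapp r
  refine ⟨⟨AffineSpace.homOfVector (pullback.fst g p) v,
    pullback.lift (𝔸(ULift.{u} (Fin m); X') ↘ X') τ hcomm, ?_, ?_⟩, ?_⟩
  · -- hom ≫ inv = 𝟙
    apply pullback.hom_ext
    · rw [Category.assoc, pullback.lift_fst, AffineSpace.homOfVector_over, Category.id_comp]
    · rw [Category.assoc, pullback.lift_snd, Category.id_comp]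
      apply hom_ext_toSpec
      intro r
      have hhomπ : ∀ b, (AffineSpace.homOfVector (pullback.fst g p) v).appTop.hom (π b) = σ b := by
        intro b
        have h0 := AffineSpace.homOfVector_over (pullback.fst g p) v
        have h2 := congr($(h0).appTop.hom b)
        rw [hσ, hπ]
        exact h2
      have hhomy : ∀ k, (AffineSpace.homOfVector (pullback.fst g p) v).appTop.hom (y k) =
          ρ (aR f k) - σ (c k) + ρ (tR f) * σ (c k) := by
        intro k
        have h3 := AffineSpace.homOfVector_appTop_coord (pullback.fst g p) v k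
        have h4 : y k = AffineSpace.coord X' k := congrFun hy k
        rw [h4]
        exact h3.trans (congrFun hv k)
      have key := key1 f β c hc σ ρ hρι π y _ hhomπ hhomy
      have h1 : (AffineSpace.homOfVector (pullback.fst g p) v).appTop.hom (ψ r) = ρ r := by
        rw [hψ]
        exact congr($key r)
      rw [Scheme.Hom.comp_appTop]
      change (AffineSpace.homOfVector (pullback.fst g p) v).appTop.hom
        (τ.appTop.hom ((Scheme.ΓSpecIso (CommRingCat.of (R f))).inv.hom r)) = _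
      rw [hτapp r]
      refine h1.trans ?_
      rw [hρ]
      rfl
  · -- inv ≫ hom = 𝟙
    apply AffineSpace.hom_ext
    · rw [Category.assoc, AffineSpace.homOfVector_over, pullback.lift_fst, Category.id_comp]
    · intro k
      have h0 := key2 f β c hc σ ρ π y _ hfst (fun r => by rw [hsnd r, hψ]) k
      rw [Scheme.Hom.comp_appTop]
      have h1 := (AffineSpace.homOfVector_appTop_coord (pullback.fst g p) v k).trans (congrFun hv k)
      change (pullback.lift (𝔸(ULift.{u} (Fin m); X') ↘ X') τ hcomm).appTop.hom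
        ((AffineSpace.homOfVector (pullback.fst g p) v).appTop.hom (AffineSpace.coord X' k)) = _
      rw [h1, h0]
      have h4 : y k = AffineSpace.coord X' k := congrFun hy k
      rw [h4]
      simp
  · exact AffineSpace.homOfVector_over _ _

end

/-- **Jouanolou's trick** for quasi-affine schemes, with trivialisations over affines. -/
theorem main (X : Scheme.{u}) [X.IsQuasiAffine] :
    ∃ (n : ℕ) (T : Scheme.{u}) (_ : IsAffine T) (p : T ⟶ X),
      ∀ (X' : Scheme.{u}) [IsAffine X'] (g : X' ⟶ X),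
        ∃ e : pullback g p ≅ 𝔸(ULift.{u} (Fin n); X'),
          e.hom ≫ (𝔸(ULift.{u} (Fin n); X') ↘ X') = pullback.fst g p := by
  obtain ⟨m, f, hf⟩ := exists_cover X
  have hrange : Set.range (Spec.map (CommRingCat.ofHom (ιA f))) ⊆ Set.range X.toSpecΓ := by
    rintro _ ⟨q, rfl⟩
    rw [← hf]
    intro hq
    have h1 : (1 : R f) ∈ q.asIdeal := by
      rw [← rel_eq f]
      refine Ideal.sum_mem _ fun k _ => Ideal.mul_mem_left _ _ ?_
      exact hq ⟨k, rfl⟩
    exact q.isPrime.ne_top ((Ideal.eq_top_iff_one _).mpr h1)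
  refine ⟨m, Spec (CommRingCat.of (R f)), inferInstance,
    IsOpenImmersion.lift X.toSpecΓ (Spec.map (CommRingCat.ofHom (ιA f))) hrange, ?_⟩
  intro X' _ g
  exact exists_iso f hf _ (IsOpenImmersion.lift_fac _ _ _) X' g

end Groth.Agent.H87.Jouanolou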