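import Groth.Agent.H87.JouanolouAlg

set_option autoImplicit false
universe u

open AlgebraicGeometry CategoryTheory Limits

namespace Groth.Agent.H87.Jouanolou

/-- The morphism to `Spec R` attached to a ring map `R → Γ(W, ⊤)`. -/
noncomputable def toSpec {W : Scheme.{u}} {R : CommRingCat.{u}} (ψ : R ⟶ Γ(W, ⊤)) : W ⟶ Spec R :=
  W.toSpecΓ ≫ Spec.map ψ

lemma toSpec_appTop {W : Scheme.{u}} {R : CommRingCat.{u}} (ψ : R ⟶ Γ(W, ⊤)) :
    (toSpec ψ).appTop = (Scheme.ΓSpecIso R).hom ≫ ψ := by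
  unfold toSpec
  rw [Scheme.Hom.comp_appTop, Scheme.toSpecΓ_appTop]
  rw [← Scheme.ΓSpecIso_naturality]

lemma toSpec_appTop_inv {W : Scheme.{u}} {R : CommRingCat.{u}} (ψ : R ⟶ Γ(W, ⊤)) (r : R) :
    (toSpec ψ).appTop ((Scheme.ΓSpecIso R).inv r) = ψ r := by
  rw [toSpec_appTop]
  simp

lemma eq_toSpec {W : Scheme.{u}} {R : CommRingCat.{u}} (v : W ⟶ Spec R) :
    v = toSpec ((Scheme.ΓSpecIso R).inv ≫ v.appTop) := by
  unfold toSpec
  have h1 := Scheme.toSpecΓ_naturality v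
  have h2 := toSpecΓ_SpecMap_ΓSpecIso_inv R
  rw [Spec.map_comp, ← reassoc_of% h1, h2, Category.comp_id]

lemma hom_ext_toSpec {W : Scheme.{u}} {R : CommRingCat.{u}} {v w : W ⟶ Spec R}
    (h : ∀ r : R, v.appTop ((Scheme.ΓSpecIso R).inv r) = w.appTop ((Scheme.ΓSpecIso R).inv r)) :
    v = w := by
  rw [eq_toSpec v, eq_toSpec w]
  congr 1
  ext r
  exact h r

lemma toSpec_comp_SpecMap {W : Scheme.{u}} {R S : CommRingCat.{u}} (ψ : S ⟶ Γ(W, ⊤)) (θ : R ⟶ S) :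
    toSpec ψ ≫ Spec.map θ = toSpec (θ ≫ ψ) := by
  unfold toSpec
  rw [Category.assoc, ← Spec.map_comp]

lemma comp_toSpecΓ {W X : Scheme.{u}} (v : W ⟶ X) : v ≫ X.toSpecΓ = toSpec v.appTop :=
  Scheme.toSpecΓ_naturality v

end Groth.Agent.H87.Jouanolou
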