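import Mathlib.Algebra.Module.ZLattice.Basic
import Mathlib.Analysis.InnerProductSpace.Basic
import Mathlib.Analysis.InnerProductSpace.Dual
import Mathlib.LinearAlgebra.Dual.Defs
import Mathlib.Order.Bounds.Basic
import Mathlib.Topology.Algebra.Module.FiniteDimension

set_option autoImplicit false
universe u

namespace Groth.Agent.H87.Kempf

variable {E : Type u} [NormedAddCommGroup E] [InnerProductSpace ℝ E]

/-- the minimum of finitely many functionals -/
noncomputable def fmin (F : Finset (Module.Dual ℝ E)) (hF : F.Nonempty) (v : E) : ℝ :=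
  F.inf' hF (fun f => f v)

variable (F : Finset (Module.Dual ℝ E)) (hF : F.Nonempty)

theorem fmin_le {f : Module.Dual ℝ E} (hf : f ∈ F) (v : E) : fmin F hF v ≤ f v :=
  Finset.inf'_le (fun f => f v) hf

theorem le_fmin_iff (a : ℝ) (v : E) : a ≤ fmin F hF v ↔ ∀ f ∈ F, a ≤ f v :=
  Finset.le_inf'_iff hF _

theorem exists_eq_fmin (v : E) : ∃ f ∈ F, fmin F hF v = f v :=
  Finset.exists_mem_eq_inf' hF _

theorem fmin_smul {c : ℝ} (hc : 0 ≤ c) (v : E) : fmin F hF (c • v) = c * fmin F hF v := by
  apply le_antisymm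
  · obtain ⟨f, hf, h⟩ := exists_eq_fmin F hF v
    rw [h]
    calc fmin F hF (c • v) ≤ f (c • v) := fmin_le F hF hf _
      _ = c * f v := by rw [map_smul, smul_eq_mul]
  · rw [le_fmin_iff]
    intro f hf
    rw [map_smul, smul_eq_mul]
    exact mul_le_mul_of_nonneg_left (fmin_le F hF hf v) hc

theorem fmin_zero : fmin F hF 0 = 0 := by
  have := fmin_smul F hF (le_refl (0:ℝ)) (0 : E)
  rwa [zero_smul, zero_mul] at this

theorem fmin_add_le (v w : E) : fmin F hF v + fmin F hF w ≤ fmin F hF (v + w) := by
  rw [le_fmin_iff]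
  intro f hf
  rw [map_add]
  exact add_le_add (fmin_le F hF hf v) (fmin_le F hF hf w)

theorem continuous_fmin [FiniteDimensional ℝ E] : Continuous (fmin F hF) := by
  unfold fmin
  apply Continuous.finset_inf'_apply
  intro f _
  exact LinearMap.continuous_of_finiteDimensional f

end Groth.Agent.H87.Kempf
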