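import Groth.Agent.H87.Kempf0
import Mathlib.Analysis.Convex.StrictConvexSpace
import Mathlib.Analysis.InnerProductSpace.Convex
import Mathlib.Analysis.Normed.Module.Ray
import Mathlib.Topology.Order.Compact
import Mathlib.Analysis.Normed.Module.FiniteDimension

set_option autoImplicit false
universe u

namespace Groth.Agent.H87.Kempf

variable {E : Type u} [NormedAddCommGroup E] [InnerProductSpace ℝ E] [FiniteDimensional ℝ E]

variable (F : Finset (Module.Dual ℝ E)) (hF : F.Nonempty)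
variable (G : Finset (Module.Dual ℝ E)) (hG : G.Nonempty)

theorem exists_max (hpos : ∃ v : E, 0 ≤ fmin F hF v ∧ 0 < fmin G hG v) :
    ∃ u₀ : E, ‖u₀‖ = 1 ∧ 0 ≤ fmin F hF u₀ ∧ 0 < fmin G hG u₀ ∧
      (∀ v : E, v ≠ 0 → 0 ≤ fmin F hF v → fmin G hG v / ‖v‖ ≤ fmin G hG u₀) ∧
      (∀ v : E, v ≠ 0 → 0 ≤ fmin F hF v → fmin G hG v / ‖v‖ = fmin G hG u₀ → v = ‖v‖ • u₀) := by
  set K : Set E := Metric.sphere 0 1 ∩ {v | 0 ≤ fmin F hF v} with hK
  have hKc : IsCompact K :=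
    (isCompact_sphere 0 1).inter_right (isClosed_le continuous_const (continuous_fmin F hF))
  -- normalisation
  have hnorm : ∀ v : E, v ≠ 0 → 0 ≤ fmin F hF v →
      ‖v‖⁻¹ • v ∈ K ∧ fmin G hG (‖v‖⁻¹ • v) = fmin G hG v / ‖v‖ := by
    intro v hv hfv
    have hn : 0 < ‖v‖ := norm_pos_iff.mpr hv
    refine ⟨⟨?_, ?_⟩, ?_⟩
    · rw [mem_sphere_zero_iff_norm, norm_smul, norm_inv, norm_norm, inv_mul_cancel₀ hn.ne']
    · change 0 ≤ fmin F hF (‖v‖⁻¹ • v)
      rw [fmin_smul F hF (inv_nonneg.mpr hn.le)]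
      exact mul_nonneg (inv_nonneg.mpr hn.le) hfv
    · rw [fmin_smul G hG (inv_nonneg.mpr hn.le), div_eq_inv_mul]
  obtain ⟨v, hfv, hgv⟩ := hpos
  have hv0 : v ≠ 0 := by
    rintro rfl
    rw [fmin_zero] at hgv
    exact lt_irrefl _ hgv
  obtain ⟨u₀, hu₀K, hmax⟩ := hKc.exists_isMaxOn ⟨_, (hnorm v hv0 hfv).1⟩
    (continuous_fmin G hG).continuousOn
  replace hmax : ∀ x ∈ K, fmin G hG x ≤ fmin G hG u₀ := isMaxOn_iff.mp hmax
  have hu₀n : ‖u₀‖ = 1 := mem_sphere_zero_iff_norm.mp hu₀K.1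
  have hM : 0 < fmin G hG u₀ := by
    have := hmax _ (hnorm v hv0 hfv).1
    rw [(hnorm v hv0 hfv).2] at this
    exact lt_of_lt_of_le (div_pos hgv (norm_pos_iff.mpr hv0)) this
  refine ⟨u₀, hu₀n, hu₀K.2, hM, ?_, ?_⟩
  · intro w hw hfw
    have := hmax _ (hnorm w hw hfw).1
    rwa [(hnorm w hw hfw).2] at this
  · intro w hw hfw hwM
    set u := ‖w‖⁻¹ • w with hu
    have huK := (hnorm w hw hfw).1
    have hun : ‖u‖ = 1 := mem_sphere_zero_iff_norm.mp huK.1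
    have hgu : fmin G hG u = fmin G hG u₀ := by rw [(hnorm w hw hfw).2, hwM]
    -- the sum
    have hfs : 0 ≤ fmin F hF (u + u₀) :=
      le_trans (add_nonneg huK.2 hu₀K.2) (fmin_add_le F hF u u₀)
    have hgs : 2 * fmin G hG u₀ ≤ fmin G hG (u + u₀) := by
      have := fmin_add_le G hG u u₀
      rw [hgu] at this
      linarith
    have hs0 : u + u₀ ≠ 0 := by
      intro h0
      rw [h0, fmin_zero] at hgs
      linarith
    have hle : fmin G hG (u + u₀) / ‖u + u₀‖ ≤ fmin G hG u₀ := by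
      have := hmax _ (hnorm _ hs0 hfs).1
      rwa [(hnorm _ hs0 hfs).2] at this
    have hsn : 0 < ‖u + u₀‖ := norm_pos_iff.mpr hs0
    rw [div_le_iff₀ hsn] at hle
    have h2 : 2 ≤ ‖u + u₀‖ := by
      by_contra hlt
      push Not at hlt
      have : fmin G hG u₀ * ‖u + u₀‖ < fmin G hG u₀ * 2 := mul_lt_mul_of_pos_left hlt hM
      linarith
    have heq : ‖u + u₀‖ = ‖u‖ + ‖u₀‖ := by
      apply le_antisymm (norm_add_le _ _)
      rw [hun, hu₀n]; linarith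
    have hray : SameRay ℝ u u₀ := sameRay_iff_norm_add.mpr heq
    have huu : u = u₀ := (sameRay_iff_of_norm_eq (hun.trans hu₀n.symm)).mp hray
    rw [← huu, hu, smul_smul, mul_inv_cancel₀ (norm_pos_iff.mpr hw).ne', one_smul]

end Groth.Agent.H87.Kempf
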