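import Groth.Agent.H87.Kempf0

set_option autoImplicit false
universe u

open scoped RealInnerProductSpace

namespace Groth.Agent.H87.Kempf

variable {E : Type u} [NormedAddCommGroup E] [InnerProductSpace ℝ E]

/-- rational points for the lattice `L` -/
def IsRat (L : Submodule ℤ E) (x : E) : Prop := ∃ N : ℕ, 0 < N ∧ (N : ℝ) • x ∈ L

variable {L : Submodule ℤ E}

theorem isRat_of_mem {x : E} (hx : x ∈ L) : IsRat L x := ⟨1, one_pos, by simpa using hx⟩

theorem isRat_zero : IsRat L (0 : E) := isRat_of_mem L.zero_mem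

theorem IsRat.add {x y : E} (hx : IsRat L x) (hy : IsRat L y) : IsRat L (x + y) := by
  obtain ⟨N, hN, hx⟩ := hx
  obtain ⟨N', hN', hy⟩ := hy
  refine ⟨N * N', Nat.mul_pos hN hN', ?_⟩
  have h1 : ((N * N' : ℕ) : ℝ) • (x + y) = (N' : ℤ) • ((N : ℝ) • x) + (N : ℤ) • ((N' : ℝ) • y) := by
    rw [← Int.cast_smul_eq_zsmul ℝ, ← Int.cast_smul_eq_zsmul ℝ, smul_smul, smul_smul, smul_add]
    push_cast
    rw [mul_comm (N : ℝ) (N' : ℝ)]
  rw [h1]
  exact L.add_mem (L.smul_mem _ hx) (L.smul_mem _ hy)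

theorem IsRat.smul_rat {x : E} (hx : IsRat L x) (q : ℚ) : IsRat L ((q : ℝ) • x) := by
  obtain ⟨N, hN, hx⟩ := hx
  refine ⟨q.den * N, Nat.mul_pos q.den_pos hN, ?_⟩
  have h1 : ((q.den * N : ℕ) : ℝ) • ((q : ℝ) • x) = (q.num : ℤ) • ((N : ℝ) • x) := by
    rw [← Int.cast_smul_eq_zsmul ℝ, smul_smul, smul_smul]
    congr 1
    have : (q : ℝ) = (q.num : ℝ) / (q.den : ℝ) := by
      exact_mod_cast (Rat.num_div_den q).symm
    rw [this]
    push_cast
    have hd : (q.den : ℝ) ≠ 0 := by exact_mod_cast q.den_pos.ne'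
    field_simp
  rw [h1]
  exact L.smul_mem _ hx

theorem IsRat.neg {x : E} (hx : IsRat L x) : IsRat L (-x) := by
  have := hx.smul_rat (-1)
  simpa using this

theorem IsRat.sub {x y : E} (hx : IsRat L x) (hy : IsRat L y) : IsRat L (x - y) := by
  rw [sub_eq_add_neg]; exact hx.add hy.neg

theorem IsRat.sum {ι : Type*} (s : Finset ι) (f : ι → E) (h : ∀ i ∈ s, IsRat L (f i)) :
    IsRat L (∑ i ∈ s, f i) := by
  classical
  induction s using Finset.induction_on with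
  | empty => simpa using isRat_zero
  | insert a s ha ih =>
    rw [Finset.sum_insert ha]
    exact (h a (Finset.mem_insert_self a s)).add
      (ih (fun i hi => h i (Finset.mem_insert_of_mem hi)))

theorem IsRat.inner (hint : ∀ x ∈ L, ∀ y ∈ L, ∃ n : ℤ, inner ℝ x y = (n : ℝ))
    {x y : E} (hx : IsRat L x) (hy : IsRat L y) : ∃ q : ℚ, inner ℝ x y = (q : ℝ) := by
  obtain ⟨N, hN, hx⟩ := hx
  obtain ⟨N', hN', hy⟩ := hy
  obtain ⟨n, hn⟩ := hint _ hx _ hy
  rw [real_inner_smul_left, real_inner_smul_right] at hn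
  refine ⟨(n : ℚ) / ((N : ℚ) * (N' : ℚ)), ?_⟩
  have hN0 : (N : ℝ) ≠ 0 := by exact_mod_cast hN.ne'
  have hN0' : (N' : ℝ) ≠ 0 := by exact_mod_cast hN'.ne'
  push_cast
  rw [← hn]
  field_simp

theorem IsRat.apply {f : Module.Dual ℝ E} (hf : ∀ x ∈ L, ∃ n : ℤ, f x = (n : ℝ))
    {x : E} (hx : IsRat L x) : ∃ q : ℚ, f x = (q : ℝ) := by
  obtain ⟨N, hN, hx⟩ := hx
  obtain ⟨n, hn⟩ := hf _ hx
  rw [map_smul, smul_eq_mul] at hn
  refine ⟨(n : ℚ) / (N : ℚ), ?_⟩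
  have hN0 : (N : ℝ) ≠ 0 := by exact_mod_cast hN.ne'
  push_cast
  rw [← hn]
  field_simp

end Groth.Agent.H87.Kempf
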