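import Groth.Agent.H87.Kempf2

set_option autoImplicit false
universe u

open scoped RealInnerProductSpace

namespace Groth.Agent.H87.Kempf

variable {E : Type u} [NormedAddCommGroup E] [InnerProductSpace ℝ E]

/-- projection onto the span of an orthogonal finset -/
noncomputable def proj (T : Finset E) (a : E) : E := ∑ b ∈ T, (inner ℝ b a / inner ℝ b b) • b

/-- pairwise orthogonality -/
def Orth (T : Finset E) : Prop := ∀ b ∈ T, ∀ b' ∈ T, b ≠ b' → inner ℝ b b' = 0

theorem proj_mem_span (T : Finset E) (a : E) : proj T a ∈ Submodule.span ℝ (T : Set E) :=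
  Submodule.sum_mem _ (fun _ hb => Submodule.smul_mem _ _ (Submodule.subset_span hb))

theorem inner_proj [DecidableEq E] {T : Finset E} (hT : Orth T) {b' : E} (hb' : b' ∈ T) (a : E) :
    inner ℝ b' (proj T a) = inner ℝ b' a := by
  unfold proj
  rw [inner_sum, Finset.sum_eq_single b']
  · rw [real_inner_smul_right]
    by_cases h0 : b' = 0
    · subst h0; simp
    · have : inner ℝ b' b' ≠ 0 := fun h => h0 (inner_self_eq_zero.mp h)
      field_simp
  · intro b hb hbb'
    rw [real_inner_smul_right, hT b' hb' b hb (Ne.symm hbb'), mul_zero]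
  · intro h; exact absurd hb' h

theorem inner_sub_proj [DecidableEq E] {T : Finset E} (hT : Orth T) {b' : E} (hb' : b' ∈ T)
    (a : E) : inner ℝ b' (a - proj T a) = 0 := by
  rw [inner_sub_right, inner_proj hT hb', sub_self]

variable {L : Submodule ℤ E}

theorem isRat_proj (hint : ∀ x ∈ L, ∀ y ∈ L, ∃ n : ℤ, inner ℝ x y = (n : ℝ))
    {T : Finset E} (hT : ∀ b ∈ T, IsRat L b) {a : E} (ha : IsRat L a) : IsRat L (proj T a) := by
  apply IsRat.sum
  intro b hb
  obtain ⟨q, hq⟩ := (hT b hb).inner hint ha
  obtain ⟨q', hq'⟩ := (hT b hb).inner hint (hT b hb)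
  have : inner ℝ b a / inner ℝ b b = ((q / q' : ℚ) : ℝ) := by rw [hq, hq']; push_cast; rfl
  rw [this]
  exact (hT b hb).smul_rat _

/-- rational Gram–Schmidt -/
theorem exists_orth (hint : ∀ x ∈ L, ∀ y ∈ L, ∃ n : ℤ, inner ℝ x y = (n : ℝ))
    (T : Finset E) (hT : ∀ h ∈ T, IsRat L h) :
    ∃ T' : Finset E, (∀ b ∈ T', IsRat L b) ∧ Orth T' ∧
      Submodule.span ℝ (T' : Set E) = Submodule.span ℝ (T : Set E) := by
  classical
  induction T using Finset.induction_on with
  | empty => exact ⟨∅, by simp, by intro b hb; simp at hb, rfl⟩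
  | insert h T₀ hh ih =>
    obtain ⟨T₀', hrat, horth, hspan⟩ := ih (fun x hx => hT x (Finset.mem_insert_of_mem hx))
    have hhr : IsRat L h := hT h (Finset.mem_insert_self h T₀)
    set h' := h - proj T₀' h with hh'
    refine ⟨insert h' T₀', ?_, ?_, ?_⟩
    · intro b hb
      rcases Finset.mem_insert.mp hb with rfl | hb
      · exact hhr.sub (isRat_proj hint hrat hhr)
      · exact hrat b hb
    · intro b hb b' hb' hne
      rcases Finset.mem_insert.mp hb with rfl | hb <;> rcases Finset.mem_insert.mp hb' with rfl | hb'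
      · exact absurd rfl hne
      · rw [real_inner_comm]; exact inner_sub_proj horth hb' h
      · exact inner_sub_proj horth hb h
      · exact horth b hb b' hb' hne
    · rw [Finset.coe_insert, Finset.coe_insert, Submodule.span_insert, Submodule.span_insert, hspan]
      have hp : proj T₀' h ∈ Submodule.span ℝ (T₀ : Set E) := hspan ▸ proj_mem_span T₀' h
      apply le_antisymm
      · refine sup_le ?_ le_sup_right
        rw [Submodule.span_singleton_le_iff_mem]
        exact Submodule.sub_mem _ (Submodule.mem_sup_left (Submodule.mem_span_singleton_self h))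
          (Submodule.mem_sup_right hp)
      · refine sup_le ?_ le_sup_right
        rw [Submodule.span_singleton_le_iff_mem]
        have : h = h' + proj T₀' h := by rw [hh']; abel
        rw [this]
        exact Submodule.add_mem _ (Submodule.mem_sup_left (Submodule.mem_span_singleton_self h'))
          (Submodule.mem_sup_right hp)

end Groth.Agent.H87.Kempf
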