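import Groth.Agent.H87.Kempf3

set_option autoImplicit false
universe u

open scoped RealInnerProductSpace

namespace Groth.Agent.H87.Kempf

variable {E : Type u} [NormedAddCommGroup E] [InnerProductSpace ℝ E]

theorem inner_eq_zero_of_mem_span {S : Set E} {v : E} (h : ∀ s ∈ S, inner ℝ s v = 0) {x : E}
    (hx : x ∈ Submodule.span ℝ S) : inner ℝ x v = 0 := by
  induction hx using Submodule.span_induction with
  | mem s hs => exact h s hs
  | zero => exact inner_zero_left v
  | add x y _ _ hx hy => rw [inner_add_left, hx, hy, add_zero]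
  | smul c x _ hx => rw [real_inner_smul_left, hx, mul_zero]

variable {L : Submodule ℤ E}

/-- rational projection onto the common orthogonal complement of rational vectors -/
theorem exists_rat_kernel (hint : ∀ x ∈ L, ∀ y ∈ L, ∃ n : ℤ, inner ℝ x y = (n : ℝ))
    (H : Finset E) (hH : ∀ h ∈ H, IsRat L h) {a : E} (ha : IsRat L a) :
    ∃ r : E, IsRat L r ∧ (∀ h ∈ H, inner ℝ h r = 0) ∧
      ∀ v : E, (∀ h ∈ H, inner ℝ h v = 0) → inner ℝ r v = inner ℝ a v := by
  classical
  obtain ⟨T', hrat, horth, hspan⟩ := exists_orth hint H hH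
  refine ⟨a - proj T' a, ha.sub (isRat_proj hint hrat ha), ?_, ?_⟩
  · intro h hh
    have hmem : h ∈ Submodule.span ℝ (T' : Set E) := hspan ▸ Submodule.subset_span hh
    exact inner_eq_zero_of_mem_span (fun b hb => inner_sub_proj horth hb a) hmem
  · intro v hv
    have hmem : proj T' a ∈ Submodule.span ℝ (H : Set E) := hspan ▸ proj_mem_span T' a
    rw [inner_sub_left, inner_eq_zero_of_mem_span hv hmem, sub_zero]

/-- Riesz vectors of integral functionals are rational -/
theorem exists_rat_riesz [FiniteDimensional ℝ E] [DiscreteTopology L] [IsZLattice ℝ L]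
    (hint : ∀ x ∈ L, ∀ y ∈ L, ∃ n : ℤ, inner ℝ x y = (n : ℝ))
    (f : Module.Dual ℝ E) (hf : ∀ x ∈ L, ∃ n : ℤ, f x = (n : ℝ)) :
    ∃ a : E, IsRat L a ∧ ∀ v : E, f v = inner ℝ a v := by
  classical
  have htop : Submodule.span ℝ (L : Set E) = ⊤ := IsZLattice.span_top
  have hfg : (Submodule.span ℝ (L : Set E)).FG := by
    rw [htop]; exact Module.Finite.fg_top
  obtain ⟨T, hTL, hT⟩ := (Submodule.fg_span_iff_fg_span_finset_subset _).mp hfg
  obtain ⟨T', hrat, horth, hspan⟩ := exists_orth hint T (fun h hh => isRat_of_mem (hTL hh))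
  have hspan' : Submodule.span ℝ (T' : Set E) = ⊤ := by rw [hspan, ← hT, htop]
  set a : E := ∑ b ∈ T', (f b / inner ℝ b b) • b with ha
  refine ⟨a, ?_, ?_⟩
  · apply IsRat.sum
    intro b hb
    obtain ⟨q, hq⟩ := (hrat b hb).apply hf
    obtain ⟨q', hq'⟩ := (hrat b hb).inner hint (hrat b hb)
    have : f b / inner ℝ b b = ((q / q' : ℚ) : ℝ) := by rw [hq, hq']; push_cast; rfl
    rw [this]
    exact (hrat b hb).smul_rat _
  · -- two linear maps agreeing on a spanning set
    have key : ∀ b' ∈ T', f b' = inner ℝ a b' := by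
      intro b' hb'
      rw [ha, sum_inner, Finset.sum_eq_single b']
      · rw [real_inner_smul_left]
        by_cases h0 : b' = 0
        · subst h0; simp
        · have : inner ℝ b' b' ≠ 0 := fun h => h0 (inner_self_eq_zero.mp h)
          field_simp
      · intro b hb hbb'
        rw [real_inner_smul_left, horth b hb b' hb' hbb', mul_zero]
      · intro h; exact absurd hb' h
    have hlin : f = (innerₛₗ ℝ a : E →ₗ[ℝ] ℝ) := by
      apply LinearMap.ext_on hspan'
      intro x hx
      rw [innerₛₗ_apply_apply]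
      exact key x hx
    intro v
    rw [hlin, innerₛₗ_apply_apply]

end Groth.Agent.H87.Kempf
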