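import Groth.Agent.H87.Kempf4
import Mathlib.Topology.Order.LeftRightNhds
import Mathlib.Topology.Algebra.Order.Field

set_option autoImplicit false
universe u

open scoped RealInnerProductSpace Topology
open Filter

namespace Groth.Agent.H87.Kempf

variable {E : Type u} [NormedAddCommGroup E] [InnerProductSpace ℝ E] [FiniteDimensional ℝ E]
variable {L : Submodule ℤ E} [DiscreteTopology L] [IsZLattice ℝ L]

variable (F : Finset (Module.Dual ℝ E)) (hF : F.Nonempty)
variable (G : Finset (Module.Dual ℝ E)) (hG : G.Nonempty)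

/-- the optimal ray is rational -/
theorem exists_rat_on_ray (hint : ∀ x ∈ L, ∀ y ∈ L, ∃ n : ℤ, inner ℝ x y = (n : ℝ))
    (hFi : ∀ f ∈ F, ∀ x ∈ L, ∃ n : ℤ, f x = (n : ℝ)) (hGi : ∀ g ∈ G, ∀ x ∈ L, ∃ n : ℤ, g x = (n : ℝ))
    (u₀ : E) (hu₀ : ‖u₀‖ = 1) (hfu : 0 ≤ fmin F hF u₀) (hM : 0 < fmin G hG u₀)
    (hmax : ∀ v : E, v ≠ 0 → 0 ≤ fmin F hF v → fmin G hG v / ‖v‖ ≤ fmin G hG u₀) :
    IsRat L (fmin G hG u₀ • u₀) := by
  classical
  set M := fmin G hG u₀ with hMdef
  -- Riesz vectors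
  have hR : ∀ f : Module.Dual ℝ E, f ∈ F ∪ G → ∃ a : E, IsRat L a ∧ ∀ v : E, f v = inner ℝ a v := by
    intro f hf
    rcases Finset.mem_union.mp hf with hf | hf
    · exact exists_rat_riesz hint f (hFi f hf)
    · exact exists_rat_riesz hint f (hGi f hf)
  choose! ρ hρrat hρ using hR
  obtain ⟨g₁, hg₁G, hg₁⟩ := exists_eq_fmin G hG u₀
  have hg₁' : g₁ u₀ = M := hg₁.symm
  set G₀ := G.filter (fun g => g u₀ = M) with hG₀
  set F₀ := F.filter (fun f => f u₀ = 0) with hF₀
  set H : Finset E := (G₀.image (fun g => ρ g - ρ g₁)) ∪ (F₀.image ρ) with hH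
  have hHrat : ∀ h ∈ H, IsRat L h := by
    intro h hh
    rcases Finset.mem_union.mp hh with hh | hh
    · obtain ⟨g, hg, rfl⟩ := Finset.mem_image.mp hh
      have hgG : g ∈ G := (Finset.mem_filter.mp hg).1
      exact (hρrat g (Finset.mem_union_right _ hgG)).sub (hρrat g₁ (Finset.mem_union_right _ hg₁G))
    · obtain ⟨f, hf, rfl⟩ := Finset.mem_image.mp hh
      exact hρrat f (Finset.mem_union_left _ (Finset.mem_filter.mp hf).1)
  obtain ⟨r, hrrat, hrH, hrv⟩ := exists_rat_kernel hint H hHrat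
    (hρrat g₁ (Finset.mem_union_right _ hg₁G))
  -- characterisation of vectors orthogonal to H
  have hperp : ∀ v : E, (∀ h ∈ H, inner ℝ h v = 0) →
      (∀ g ∈ G₀, g v = g₁ v) ∧ (∀ f ∈ F₀, f v = 0) := by
    intro v hv
    constructor
    · intro g hg
      have hgG : g ∈ G := (Finset.mem_filter.mp hg).1
      have := hv (ρ g - ρ g₁) (Finset.mem_union_left _ (Finset.mem_image_of_mem _ hg))
      rw [inner_sub_left, ← hρ g (Finset.mem_union_right _ hgG),
        ← hρ g₁ (Finset.mem_union_right _ hg₁G)] at this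
      linarith
    · intro f hf
      have hfF : f ∈ F := (Finset.mem_filter.mp hf).1
      have := hv (ρ f) (Finset.mem_union_right _ (Finset.mem_image_of_mem _ hf))
      rwa [← hρ f (Finset.mem_union_left _ hfF)] at this
  have hu₀H : ∀ h ∈ H, inner ℝ h u₀ = 0 := by
    intro h hh
    rcases Finset.mem_union.mp hh with hh | hh
    · obtain ⟨g, hg, rfl⟩ := Finset.mem_image.mp hh
      have hgG : g ∈ G := (Finset.mem_filter.mp hg).1
      rw [inner_sub_left, ← hρ g (Finset.mem_union_right _ hgG),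
        ← hρ g₁ (Finset.mem_union_right _ hg₁G), (Finset.mem_filter.mp hg).2, hg₁', sub_self]
    · obtain ⟨f, hf, rfl⟩ := Finset.mem_image.mp hh
      rw [← hρ f (Finset.mem_union_left _ (Finset.mem_filter.mp hf).1), (Finset.mem_filter.mp hf).2]
  have hru₀ : inner ℝ r u₀ = M := by
    rw [hrv u₀ hu₀H, ← hρ g₁ (Finset.mem_union_right _ hg₁G), hg₁']
  set d : E := r - M • u₀ with hd
  set δ : ℝ := inner ℝ d d with hδ
  have hu₀u₀ : inner ℝ u₀ u₀ = 1 := by rw [real_inner_self_eq_norm_sq, hu₀, one_pow]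
  have hdH : ∀ h ∈ H, inner ℝ h d = 0 := by
    intro h hh
    rw [hd, inner_sub_right, real_inner_smul_right, hrH h hh, hu₀H h hh, mul_zero, sub_zero]
  have hu₀d : inner ℝ u₀ d = 0 := by
    rw [hd, inner_sub_right, real_inner_smul_right, real_inner_comm, hru₀, hu₀u₀, mul_one, sub_self]
  have hrd : inner ℝ r d = δ := by
    have : r = d + M • u₀ := by rw [hd]; abel
    rw [this, inner_add_left, real_inner_smul_left, hu₀d, mul_zero, add_zero]
  suffices hd0 : d = 0 by
    have : r = M • u₀ := by rw [hd] at hd0; exact sub_eq_zero.mp hd0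
    rw [← this]; exact hrrat
  by_contra hdne
  have hδpos : 0 < δ := real_inner_self_pos.mpr hdne
  -- the path
  have hpath : ∀ t : ℝ, ∀ h ∈ H, inner ℝ h (u₀ + t • d) = 0 := by
    intro t h hh
    rw [inner_add_right, real_inner_smul_right, hu₀H h hh, hdH h hh, mul_zero, add_zero]
  have hg₁t : ∀ t : ℝ, g₁ (u₀ + t • d) = M + t * δ := by
    intro t
    rw [hρ g₁ (Finset.mem_union_right _ hg₁G), ← hrv _ (hpath t), inner_add_right,
      real_inner_smul_right, hru₀, hrd]
  have hnormt : ∀ t : ℝ, ‖u₀ + t • d‖ ^ 2 = 1 + t ^ 2 * δ := by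
    intro t
    rw [← real_inner_self_eq_norm_sq, inner_add_left, inner_add_right, inner_add_right,
      real_inner_smul_left, real_inner_smul_right, real_inner_smul_left, real_inner_smul_right,
      hu₀u₀, hu₀d, real_inner_comm, hu₀d]
    ring
  -- eventually valid
  have hevG : ∀ᶠ t in 𝓝[>] (0:ℝ), ∀ g ∈ G, M + t * δ ≤ g (u₀ + t • d) := by
    rw [eventually_all_finset]
    intro g hg
    by_cases hact : g u₀ = M
    · refine Eventually.of_forall (fun t => ?_)
      have hg0 : g ∈ G₀ := Finset.mem_filter.mpr ⟨hg, hact⟩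
      rw [(hperp _ (hpath t)).1 g hg0, hg₁t]
    · have hlt : M < g u₀ := lt_of_le_of_ne (fmin_le G hG hg u₀) (Ne.symm hact)
      have hcont : ContinuousAt (fun t : ℝ => g u₀ + t * g d - (M + t * δ)) 0 := by
        fun_prop
      have h0 : (0:ℝ) < (fun t : ℝ => g u₀ + t * g d - (M + t * δ)) 0 := by
        simp only [zero_mul, add_zero]; linarith
      have hev : ∀ᶠ t in 𝓝[>] (0:ℝ), 0 < g u₀ + t * g d - (M + t * δ) :=
        (hcont.eventually (lt_mem_nhds h0)).filter_mono nhdsWithin_le_nhds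
      filter_upwards [hev] with t ht
      rw [map_add, map_smul, smul_eq_mul]
      linarith
  have hevF : ∀ᶠ t in 𝓝[>] (0:ℝ), ∀ f ∈ F, 0 ≤ f (u₀ + t • d) := by
    rw [eventually_all_finset]
    intro f hf
    by_cases hact : f u₀ = 0
    · refine Eventually.of_forall (fun t => ?_)
      have hf0 : f ∈ F₀ := Finset.mem_filter.mpr ⟨hf, hact⟩
      rw [(hperp _ (hpath t)).2 f hf0]
    · have hlt : 0 < f u₀ :=
        lt_of_le_of_ne (le_trans hfu (fmin_le F hF hf u₀)) (Ne.symm hact)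
      have hcont : ContinuousAt (fun t : ℝ => f u₀ + t * f d) 0 := by
        fun_prop
      have h0 : (0:ℝ) < (fun t : ℝ => f u₀ + t * f d) 0 := by
        simp only [zero_mul, add_zero]; exact hlt
      have hev : ∀ᶠ t in 𝓝[>] (0:ℝ), 0 < f u₀ + t * f d :=
        (hcont.eventually (lt_mem_nhds h0)).filter_mono nhdsWithin_le_nhds
      filter_upwards [hev] with t ht
      rw [map_add, map_smul, smul_eq_mul]
      exact ht.le
  have hevI : ∀ᶠ t in 𝓝[>] (0:ℝ), t ∈ Set.Ioo (0:ℝ) (1 / M) :=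
    Ioo_mem_nhdsGT (one_div_pos.mpr hM)
  obtain ⟨t, htG, htF, ht0, ht1⟩ := (hevG.and (hevF.and hevI)).exists
  -- contradiction
  have hgt : M + t * δ ≤ fmin G hG (u₀ + t • d) := (le_fmin_iff G hG _ _).mpr htG
  have hft : 0 ≤ fmin F hF (u₀ + t • d) := (le_fmin_iff F hF _ _).mpr htF
  have hne : u₀ + t • d ≠ 0 := by
    intro h0
    have := hnormt t
    rw [h0, norm_zero] at this
    nlinarith [sq_nonneg t]
  have hnpos : 0 < ‖u₀ + t • d‖ := norm_pos_iff.mpr hne
  have h1 := hmax _ hne hft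
  rw [div_le_iff₀ hnpos] at h1
  have h2 : M + t * δ ≤ M * ‖u₀ + t • d‖ := le_trans hgt h1
  have h3 : (M + t * δ) ^ 2 ≤ (M * ‖u₀ + t • d‖) ^ 2 :=
    pow_le_pow_left₀ (by positivity) h2 2
  rw [mul_pow, hnormt t] at h3
  have h4 : M * t < 1 := by
    have := mul_lt_mul_of_pos_left ht1 hM
    rwa [mul_one_div_cancel hM.ne'] at this
  -- 2Mtδ + t²δ² ≤ M² t² δ
  have h5 : 2 * M + t * δ ≤ M ^ 2 * t := by
    have htδ : 0 < t * δ := mul_pos ht0 hδpos
    have : (t * δ) * (2 * M + t * δ) ≤ (t * δ) * (M ^ 2 * t) := by nlinarith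
    exact le_of_mul_le_mul_left this htδ
  nlinarith [mul_pos ht0 hδpos, mul_pos hM ht0]

end Groth.Agent.H87.Kempf
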