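import Groth.Agent.H87.Kempf0
import Mathlib.Topology.Algebra.Order.Archimedean
import Mathlib.Topology.MetricSpace.Pseudo.Defs

set_option autoImplicit false
universe u

open scoped Topology

namespace Groth.Agent.H87.Kempf

variable {E : Type u} [NormedAddCommGroup E] [InnerProductSpace ℝ E]

omit [InnerProductSpace ℝ E] in
theorem exists_ball_of_discrete (L : Submodule ℤ E) [DiscreteTopology L] :
    ∃ ε : ℝ, 0 < ε ∧ ∀ x ∈ L, ‖x‖ < ε → x = 0 := by
  have hopen : IsOpen ({0} : Set L) := isOpen_discrete _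
  obtain ⟨t, ht, hpre⟩ := isOpen_induced_iff.mp hopen
  have h0t : (0 : E) ∈ t := by
    have : (0 : L) ∈ Subtype.val ⁻¹' t := by rw [hpre]; rfl
    simpa using this
  obtain ⟨ε, hε, hball⟩ := Metric.isOpen_iff.mp ht 0 h0t
  refine ⟨ε, hε, fun x hx hn => ?_⟩
  have hxt : x ∈ t := hball (by rwa [Metric.mem_ball, dist_zero_right])
  have : (⟨x, hx⟩ : L) ∈ Subtype.val ⁻¹' t := hxt
  rw [hpre] at this
  exact congrArg Subtype.val (Set.mem_singleton_iff.mp this)

theorem exists_primitive (L : Submodule ℤ E) [DiscreteTopology L] (u₀ : E) (hu₀ : ‖u₀‖ = 1)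
    (hex : ∃ c : ℝ, 0 < c ∧ c • u₀ ∈ L) :
    ∃ a : ℝ, 0 < a ∧ a • u₀ ∈ L ∧ ∀ c : ℝ, c • u₀ ∈ L → ∃ n : ℤ, c = n * a := by
  have hu0 : u₀ ≠ 0 := by
    intro h; rw [h, norm_zero] at hu₀; exact zero_ne_one hu₀
  let S : AddSubgroup ℝ :=
    { carrier := {c | c • u₀ ∈ L}
      zero_mem' := by simp
      add_mem' := fun {a b} ha hb => by
        change (a + b) • u₀ ∈ L
        rw [add_smul]; exact L.add_mem ha hb
      neg_mem' := fun {a} ha => by
        change (-a) • u₀ ∈ L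
        rw [neg_smul]; exact L.neg_mem ha }
  have hS : ∀ c : ℝ, c ∈ S ↔ c • u₀ ∈ L := fun c => Iff.rfl
  obtain ⟨ε, hε, hball⟩ := exists_ball_of_discrete L
  rcases AddSubgroup.dense_or_cyclic S with hdense | ⟨a, ha⟩
  · exfalso
    obtain ⟨c, hcS, hcI⟩ := hdense.exists_mem_open isOpen_Ioo (⟨ε / 2, by constructor <;> linarith⟩ :
      (Set.Ioo (0:ℝ) ε).Nonempty)
    have hc0 : c • u₀ = 0 := hball _ ((hS c).mp hcS) (by
      rw [norm_smul, hu₀, mul_one, Real.norm_eq_abs, abs_of_pos hcI.1]; exact hcI.2)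
    rcases smul_eq_zero.mp hc0 with h | h
    · exact absurd h hcI.1.ne'
    · exact hu0 h
  · obtain ⟨c, hc, hcL⟩ := hex
    have hcS : c ∈ S := (hS c).mpr hcL
    have ha0 : a ≠ 0 := by
      rintro rfl
      rw [ha, AddSubgroup.mem_closure_singleton] at hcS
      obtain ⟨n, hn⟩ := hcS
      rw [smul_zero] at hn
      exact hc.ne' hn.symm
    have haS : a ∈ S := by rw [ha]; exact AddSubgroup.subset_closure rfl
    refine ⟨|a|, abs_pos.mpr ha0, ?_, ?_⟩
    · rcases abs_choice a with h | h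
      · rw [h]; exact (hS a).mp haS
      · rw [h]; exact (hS (-a)).mp (S.neg_mem haS)
    · intro c' hc'
      have hc'S : c' ∈ S := (hS c').mpr hc'
      rw [ha, AddSubgroup.mem_closure_singleton] at hc'S
      obtain ⟨n, hn⟩ := hc'S
      rw [zsmul_eq_mul] at hn
      rcases abs_choice a with h | h
      · exact ⟨n, by rw [h, hn]⟩
      · refine ⟨-n, ?_⟩
        rw [h, ← hn]; push_cast; ring

end Groth.Agent.H87.Kempf
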