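import Groth.Agent.H87.Kempf1
import Groth.Agent.H87.Kempf5
import Groth.Agent.H87.Kempf6

set_option autoImplicit false
universe u

namespace Groth.Agent.H87.Kempf

variable {E : Type u} [NormedAddCommGroup E] [InnerProductSpace ℝ E] [FiniteDimensional ℝ E]

theorem main (L : Submodule ℤ E) [DiscreteTopology L] [IsZLattice ℝ L]
    (hint : ∀ x ∈ L, ∀ y ∈ L, ∃ n : ℤ, inner ℝ x y = (n : ℝ))
    (F G : Finset (Module.Dual ℝ E)) (hF : F.Nonempty) (hG : G.Nonempty)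
    (hFi : ∀ f ∈ F, ∀ x ∈ L, ∃ n : ℤ, f x = (n : ℝ)) (hGi : ∀ g ∈ G, ∀ x ∈ L, ∃ n : ℤ, g x = (n : ℝ))
    (hpos : ∃ v : E, 0 ≤ fmin F hF v ∧ 0 < fmin G hG v) :
    ∃ M : ℝ, IsGreatest ((fun v => fmin G hG v / ‖v‖) '' {v : E | v ≠ 0 ∧ 0 ≤ fmin F hF v}) M ∧
      ∃! v₀ : E, v₀ ∈ L ∧ v₀ ≠ 0 ∧ 0 ≤ fmin F hF v₀ ∧ fmin G hG v₀ / ‖v₀‖ = M ∧
        ∀ v ∈ L, v ≠ 0 → 0 ≤ fmin F hF v → fmin G hG v / ‖v‖ = M → ∃ n : ℤ, v = n • v₀ := by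
  obtain ⟨u₀, hu₀, hfu, hM, hmax, huniq⟩ := exists_max F hF G hG hpos
  have hu0 : u₀ ≠ 0 := by
    intro h; rw [h, norm_zero] at hu₀; exact zero_ne_one hu₀
  set M := fmin G hG u₀ with hMdef
  refine ⟨M, ⟨⟨u₀, ⟨hu0, hfu⟩, by simp [hu₀, hMdef]⟩, ?_⟩, ?_⟩
  · rintro _ ⟨v, ⟨hv0, hfv⟩, rfl⟩
    exact hmax v hv0 hfv
  have hrat : IsRat L (M • u₀) := exists_rat_on_ray F hF G hG hint hFi hGi u₀ hu₀ hfu hM hmax
  obtain ⟨N, hN, hNL⟩ := hrat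
  have hNpos : (0:ℝ) < N := by exact_mod_cast hN
  obtain ⟨a, ha, haL, hgen⟩ := exists_primitive L u₀ hu₀
    ⟨(N : ℝ) * M, mul_pos hNpos hM, by rwa [mul_smul]⟩
  -- facts about multiples of u₀
  have hmul : ∀ c : ℝ, 0 < c → c • u₀ ≠ 0 ∧ 0 ≤ fmin F hF (c • u₀) ∧
      fmin G hG (c • u₀) / ‖c • u₀‖ = M ∧ ‖c • u₀‖ = c := by
    intro c hc
    have hn : ‖c • u₀‖ = c := by rw [norm_smul, hu₀, mul_one, Real.norm_eq_abs, abs_of_pos hc]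
    refine ⟨smul_ne_zero hc.ne' hu0, ?_, ?_, hn⟩
    · rw [fmin_smul F hF hc.le]; exact mul_nonneg hc.le hfu
    · rw [fmin_smul G hG hc.le, hn, mul_div_assoc]
      field_simp
      rfl
  have hinj : ∀ c c' : ℝ, c • u₀ = c' • u₀ → c = c' := by
    intro c c' h
    have : (c - c') • u₀ = 0 := by rw [sub_smul, h, sub_self]
    rcases smul_eq_zero.mp this with h | h
    · exact sub_eq_zero.mp h
    · exact absurd h hu0
  -- key: lattice maximisers are integer multiples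
  have hkey : ∀ v ∈ L, v ≠ 0 → 0 ≤ fmin F hF v → fmin G hG v / ‖v‖ = M →
      ∃ n : ℤ, 0 < n ∧ v = ((n : ℝ) * a) • u₀ := by
    intro v hvL hv0 hfv hgv
    have hv : v = ‖v‖ • u₀ := huniq v hv0 hfv hgv
    have hvpos : 0 < ‖v‖ := norm_pos_iff.mpr hv0
    obtain ⟨n, hn⟩ := hgen ‖v‖ (by rw [← hv]; exact hvL)
    refine ⟨n, ?_, by rw [← hn]; exact hv⟩
    have : (0:ℝ) < n * a := by rw [← hn]; exact hvpos
    have hn0 : (0:ℝ) < n := by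
      by_contra hle
      push Not at hle
      nlinarith
    exact_mod_cast hn0
  refine ⟨a • u₀, ⟨haL, (hmul a ha).1, (hmul a ha).2.1, (hmul a ha).2.2.1, ?_⟩, ?_⟩
  · intro v hvL hv0 hfv hgv
    obtain ⟨n, -, hn⟩ := hkey v hvL hv0 hfv hgv
    exact ⟨n, by rw [hn, mul_smul, Int.cast_smul_eq_zsmul]⟩
  · rintro v₁ ⟨hv₁L, hv₁0, hfv₁, hgv₁, hv₁gen⟩
    obtain ⟨n, hnpos, hn⟩ := hkey v₁ hv₁L hv₁0 hfv₁ hgv₁
    obtain ⟨n', hn'⟩ := hv₁gen (a • u₀) haL (hmul a ha).1 (hmul a ha).2.1 (hmul a ha).2.2.1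
    -- a • u₀ = n' • v₁ = (n' * n * a) • u₀
    rw [hn, ← Int.cast_smul_eq_zsmul ℝ, smul_smul] at hn'
    have h1 : a = (n' : ℝ) * ((n : ℝ) * a) := hinj _ _ hn'
    have h2 : (n' : ℝ) * (n : ℝ) = 1 := by
      have : a * 1 = a * ((n' : ℝ) * (n : ℝ)) := by rw [mul_one]; linarith [h1]
      exact (mul_left_cancel₀ ha.ne' this).symm
    have h3 : n' * n = 1 := by exact_mod_cast h2
    have h4 : n = 1 := by
      rcases Int.eq_one_or_neg_one_of_mul_eq_one' h3 with ⟨_, h⟩ | ⟨_, h⟩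
      · exact h
      · omega
    rw [hn, h4]; simp
end Groth.Agent.H87.Kempf
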