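import Groth.Agent.H87.LRSKer
import Mathlib.AlgebraicGeometry.Morphisms.QuasiCompact
import Mathlib.AlgebraicGeometry.Morphisms.ClosedImmersion

/-!
# Comparing two embeddings into a scheme with the same kernel on an affine open
-/

set_option autoImplicit false
universe u

open CategoryTheory Opposite TopologicalSpace Topology AlgebraicGeometry

namespace Groth.Agent.H87.LRSCompare

open Groth.Agent.H87.LRSFactor Groth.Agent.H87.HensUP Groth.Agent.H87.LRSKer

theorem hs_of_surjective_stalkMap {Z X : LocallyRingedSpace.{u}} (i : Z ⟶ X)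
    (hind : IsInducing i.base)
    (hsurj : ∀ z, Function.Surjective (i.stalkMap z).hom) : HS i := by
  intro V t z hz
  obtain ⟨σ, hσ⟩ := hsurj z (Z.presheaf.germ V z hz t)
  obtain ⟨U', hzU', s, rfl⟩ := TopCat.Presheaf.exists_germ_eq X.presheaf σ
  have h1 : (i.stalkMap z).hom (X.presheaf.germ U' (i.base z) hzU' s) =
      Z.presheaf.germ ((Opens.map i.base).obj U') z hzU' ((i.c.app (op U')).hom s) :=
    LocallyRingedSpace.stalkMap_germ_apply i U' z hzU' s
  rw [h1] at hσ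
  obtain ⟨N, hzN, iU, iV, e⟩ := TopCat.Presheaf.germ_eq Z.presheaf z hzU' hz _ _ hσ
  obtain ⟨U''s, hU''o, hU''⟩ := (hind.isOpen_iff (s := N.carrier)).mp N.isOpen
  obtain ⟨U'', hU''def⟩ : ∃ U'' : Opens X, U'' = ⟨U''s, hU''o⟩ := ⟨_, rfl⟩
  have hN : (Opens.map i.base).obj U'' = N := by
    ext y
    rw [hU''def]
    change y ∈ i.base ⁻¹' U''s ↔ y ∈ N.carrier
    rw [hU'']
  have hleN : (Opens.map i.base).obj (U' ⊓ U'') ≤ N := fun y hy => by
    rw [← hN]
    exact hy.2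
  have hzU : i.base z ∈ U' ⊓ U'' := by
    refine ⟨hzU', ?_⟩
    have : z ∈ (Opens.map i.base).obj U'' := by
      rw [hN]
      exact hzN
    exact this
  refine ⟨U' ⊓ U'', (X.presheaf.map (homOfLE inf_le_left).op).hom s, hzU,
    hleN.trans iV.le, ?_⟩
  rw [c_res i inf_le_left s]
  have e' : (Z.presheaf.map iU.op).hom ((i.c.app (op U')).hom s) =
      (Z.presheaf.map iV.op).hom t := e
  have e2 := congrArg (fun m => (Z.presheaf.map (homOfLE hleN).op).hom m) e'
  refine Eq.trans ?_ (e2.trans ?_)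
  · exact (res_res hleN iU.le _).symm
  · exact res_res hleN iV.le _

variable {X : Scheme.{u}}

/-- on the affine open `U`, sections killed by `k^♯` over `D(f)` are killed over `U` after
multiplying by a power of `f` -/
def KP {W : LocallyRingedSpace.{u}} (k : W ⟶ X.toLocallyRingedSpace) (U : X.Opens) : Prop :=
  ∀ f a : Γ(X, U), (k.c.app (op (X.basicOpen f))).hom
    ((X.presheaf.map (homOfLE (X.basicOpen_le f)).op).hom a) = 0 →
      ∃ m : ℕ, (k.c.app (op U)).hom (f ^ m * a) = 0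

theorem kp_of_kerLocallyGenerated {Z : LocallyRingedSpace.{u}} (i : Z ⟶ X.toLocallyRingedSpace)
    (hk : LRSImm.KerLocallyGenerated i) {U : X.Opens} (hU : IsAffineOpen U) : KP i U :=
  fun f a h0 => exists_pow_mul_app_eq_zero i hk hU f a h0

theorem kerLE_of_kp {W₁ W₂ : LocallyRingedSpace.{u}} (k₁ : W₁ ⟶ X.toLocallyRingedSpace)
    (k₂ : W₂ ⟶ X.toLocallyRingedSpace) {U : X.Opens} (hU : IsAffineOpen U) (hkp : KP k₁ U)
    (hker : ∀ a : Γ(X, U), (k₁.c.app (op U)).hom a = 0 → (k₂.c.app (op U)).hom a = 0)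
    (hrange : Set.range k₂.base ⊆ (U : Set X)) : KerLE k₁ k₂ := by
  intro V s hs
  refine TopCat.Presheaf.IsSheaf.section_ext W₂.IsSheaf (U := op ((Opens.map k₂.base).obj V))
    fun w hw => ?_
  have hwU : k₂.base w ∈ U := hrange ⟨w, rfl⟩
  obtain ⟨f, hfle, hwf⟩ := hU.exists_basicOpen_le (V := V ⊓ U) ⟨k₂.base w, ⟨hw, hwU⟩⟩ hwU
  have hfV : X.basicOpen f ≤ V := hfle.trans inf_le_left
  refine ⟨(Opens.map k₂.base).obj (X.basicOpen f),
    ((Opens.map k₂.base).map (homOfLE hfV)).le, hwf, ?_⟩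
  rw [map_zero]
  refine (c_res k₂ hfV s).symm.trans ?_
  have hloc := hU.isLocalization_basicOpen f
  obtain ⟨⟨a, ⟨_, n, rfl⟩⟩, hsa⟩ := IsLocalization.surj (Submonoid.powers f)
    ((X.presheaf.map (homOfLE hfV).op).hom s)
  have hsa' : (X.presheaf.map (homOfLE hfV).op).hom s *
      algebraMap Γ(X, U) Γ(X, X.basicOpen f) (f ^ n) =
      algebraMap Γ(X, U) Γ(X, X.basicOpen f) a := hsa
  have h1 : (k₁.c.app (op (X.basicOpen f))).hom
      ((X.presheaf.map (homOfLE (X.basicOpen_le f)).op).hom a) = 0 := by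
    change (k₁.c.app (op (X.basicOpen f))).hom (algebraMap Γ(X, U) Γ(X, X.basicOpen f) a) = 0
    rw [← hsa', map_mul, c_res k₁ hfV s, hs, map_zero, zero_mul]
  obtain ⟨m, hm⟩ := hkp f a h1
  have h2 := hker _ hm
  have h3 : (k₂.c.app (op (X.basicOpen f))).hom
      (algebraMap Γ(X, U) Γ(X, X.basicOpen f) (f ^ m * a)) = 0 := by
    change (k₂.c.app (op (X.basicOpen f))).hom
      ((X.presheaf.map (homOfLE (X.basicOpen_le f)).op).hom (f ^ m * a)) = 0
    rw [c_res k₂ (X.basicOpen_le f) _, h2, map_zero]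
  rw [map_mul, ← hsa', map_mul, map_mul, map_pow, map_pow, map_pow, map_pow] at h3
  have hunit : IsUnit ((k₂.c.app (op (X.basicOpen f))).hom
      (algebraMap Γ(X, U) Γ(X, X.basicOpen f) f)) :=
    (IsLocalization.Away.algebraMap_isUnit f).map _
  rw [(hunit.pow m).mul_right_eq_zero, (hunit.pow n).mul_left_eq_zero] at h3
  exact h3

theorem kp_of_scheme {T : Scheme.{u}} (j : T ⟶ X) {U : X.Opens}
    (hc : IsCompact ((j ⁻¹ᵁ U : T.Opens) : Set T)) : KP j.toLRSHom U := by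
  intro f a h0
  have hle : T.basicOpen (j.app U f) ≤ j ⁻¹ᵁ X.basicOpen f := (Scheme.preimage_basicOpen j f).ge
  have H : (T.presheaf.map (homOfLE (T.basicOpen_le (j.app U f))).op).hom ((j.app U).hom a) = 0 := by
    have h1 := c_res j.toLRSHom (X.basicOpen_le f) a
    rw [h0] at h1
    have h2 := congrArg (fun m => (T.presheaf.map (homOfLE hle).op).hom m) h1
    simp only [map_zero] at h2
    refine Eq.trans ?_ h2.symm
    exact (res_res (W := T.toLocallyRingedSpace) hle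
      ((Opens.map j.base).map (homOfLE (X.basicOpen_le f))).le _).symm
  obtain ⟨n, hn⟩ := exists_pow_mul_eq_zero_of_res_basicOpen_eq_zero_of_isCompact T hc
    ((j.app U).hom a) ((j.app U).hom f) H
  refine ⟨n, ?_⟩
  rw [map_mul, map_pow]
  exact hn

theorem exists_iso_of_kerLE {Z₁ Z₂ X : LocallyRingedSpace.{u}} (i₁ : Z₁ ⟶ X) (i₂ : Z₂ ⟶ X)
    (hs₁ : HS i₁) (hs₂ : HS i₂) (he₁ : IsEmbedding i₁.base) (he₂ : IsEmbedding i₂.base)
    (hr₁₂ : Set.range i₁.base ⊆ Set.range i₂.base) (hr₂₁ : Set.range i₂.base ⊆ Set.range i₁.base)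
    (k₁₂ : KerLE i₁ i₂) (k₂₁ : KerLE i₂ i₁) : ∃ e : Z₁ ≅ Z₂, e.hom ≫ i₂ = i₁ := by
  obtain ⟨g, hg⟩ := exists_fac hs₂ he₂ hr₁₂ k₂₁
  obtain ⟨h, hh⟩ := exists_fac hs₁ he₁ hr₂₁ k₁₂
  refine ⟨⟨g, h, ?_, ?_⟩, hg⟩
  · apply fac_unique hs₁ he₁.injective
    rw [Category.assoc, hh, hg, Category.id_comp]
  · apply fac_unique hs₂ he₂.injective
    rw [Category.assoc, hg, hh, Category.id_comp]

theorem isOpen_top_diff_range {Z X : LocallyRingedSpace.{u}} (i : Z ⟶ X)
    (hcl : IsClosed (Set.range i.base)) :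
    IsOpen (((⊤ : Opens X.toTopCat) : Set X.toTopCat) \ Set.range i.base) := by
  have : (((⊤ : Opens X.toTopCat) : Set X.toTopCat) \ Set.range i.base) =
      (Set.range i.base)ᶜ := by
    ext x
    simp
  rw [this]
  exact hcl.isOpen_compl

theorem exists_iso_Spec_quotient (R : Type u) [CommRing R] (Z : LocallyRingedSpace.{u})
    (i : Z ⟶ (Spec (CommRingCat.of R)).toLocallyRingedSpace) (hi : LRSImm.IsClosedImmersion i)
    (I : Ideal R)
    (hI : I = RingHom.ker ((Scheme.ΓSpecIso (CommRingCat.of R)).inv ≫ i.c.app (op ⊤)).hom) :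
    ∃ e : Z ≅ (Spec (CommRingCat.of (R ⧸ I))).toLocallyRingedSpace,
      e.hom ≫ (Spec.map (CommRingCat.ofHom (Ideal.Quotient.mk I))).toLRSHom = i := by
  obtain ⟨j, hj⟩ : ∃ j : Spec (CommRingCat.of (R ⧸ I)) ⟶ Spec (CommRingCat.of R),
    j = Spec.map (CommRingCat.ofHom (Ideal.Quotient.mk I)) := ⟨_, rfl⟩
  have hjc : IsClosedImmersion j := by
    rw [hj]
    exact IsClosedImmersion.spec_of_surjective _ Ideal.Quotient.mk_surjective
  rw [← hj]
  have hU : IsAffineOpen (⊤ : (Spec (CommRingCat.of R)).Opens) := isAffineOpen_top _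
  have hs₁ : HS i := hs_of_isClosedImmersion hi
  have hs₂ : HS j.toLRSHom := hs_of_surjective_stalkMap _ j.isClosedEmbedding.isInducing
    (fun z => j.stalkMap_surjective z)
  have kp₁ : KP i ⊤ := kp_of_kerLocallyGenerated i hi.2.2 hU
  have kp₂ : KP j.toLRSHom ⊤ := kp_of_scheme j isCompact_univ
  have hker : ∀ a : Γ(Spec (CommRingCat.of R), ⊤),
      (i.c.app (op ⊤)).hom a = 0 ↔ (j.toLRSHom.c.app (op ⊤)).hom a = 0 := by
    intro a
    obtain ⟨r, rfl⟩ : ∃ r : R, (Scheme.ΓSpecIso (CommRingCat.of R)).inv.hom r = a :=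
      ⟨(Scheme.ΓSpecIso (CommRingCat.of R)).hom.hom a, by
        rw [← CommRingCat.comp_apply, Iso.hom_inv_id]
        rfl⟩
    have h1 : (i.c.app (op ⊤)).hom ((Scheme.ΓSpecIso (CommRingCat.of R)).inv.hom r) = 0 ↔
        r ∈ I := by
      rw [hI, RingHom.mem_ker]
      rfl
    have h2 : (j.toLRSHom.c.app (op ⊤)).hom ((Scheme.ΓSpecIso (CommRingCat.of R)).inv.hom r) =
        (Scheme.ΓSpecIso (CommRingCat.of (R ⧸ I))).inv.hom (Ideal.Quotient.mk I r) := by
      have h3 := Scheme.ΓSpecIso_inv_naturality (CommRingCat.ofHom (Ideal.Quotient.mk I))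
      rw [← hj] at h3
      exact (congrArg (fun m => m.hom r) h3).symm
    have hinj : Function.Injective (Scheme.ΓSpecIso (CommRingCat.of (R ⧸ I))).inv.hom :=
      ((ConcreteCategory.bijective_of_isIso
        (Scheme.ΓSpecIso (CommRingCat.of (R ⧸ I))).inv)).1
    rw [h1]
    refine ⟨fun h => h2.trans ?_, fun h => ?_⟩
    · rw [Ideal.Quotient.eq_zero_iff_mem.mpr h]
      exact map_zero _
    · have h4 := h2.symm.trans h
      have h5 : Ideal.Quotient.mk I r = 0 := hinj (h4.trans (map_zero _).symm)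
      exact Ideal.Quotient.eq_zero_iff_mem.mp h5
  have k₁₂ : KerLE i j.toLRSHom := kerLE_of_kp i j.toLRSHom hU kp₁ (fun a h => (hker a).mp h)
    (fun _ _ => trivial)
  have k₂₁ : KerLE j.toLRSHom i := kerLE_of_kp j.toLRSHom i hU kp₂ (fun a h => (hker a).mpr h)
    (fun _ _ => trivial)
  have hr₁ := range_subset_of_kerLE (i := j.toLRSHom) (f := i) ⊤
    (isOpen_top_diff_range _ j.isClosedEmbedding.isClosed_range) (fun _ _ => trivial) k₂₁
  have hr₂ := range_subset_of_kerLE (i := i) (f := j.toLRSHom) ⊤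
    (isOpen_top_diff_range _ hi.1.isClosed_range) (fun _ _ => trivial) k₁₂
  exact exists_iso_of_kerLE i j.toLRSHom hs₁ hs₂ hi.1.isEmbedding
    j.isClosedEmbedding.isEmbedding hr₁ hr₂ k₁₂ k₂₁

end Groth.Agent.H87.LRSCompare
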