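import Groth.Agent.H87.HensUPMor
import Groth.Prelude.Def_W4stkremschemesLRS

/-!
# Factoring morphisms of locally ringed spaces through stalk-surjective embeddings
-/

set_option autoImplicit false
universe u

open CategoryTheory Opposite TopologicalSpace Topology AlgebraicGeometry

namespace Groth.Agent.H87.LRSFactor

open Groth.Agent.H87.HensUP

variable {Z X Y : LocallyRingedSpace.{u}}

/-- sections of `O_Z` locally come from sections of `O_X` -/
def HS (i : Z ⟶ X) : Prop :=
  ∀ (V : Opens Z) (t : Z.presheaf.obj (op V)) (z : Z) (_ : z ∈ V),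
    ∃ (U : Opens X) (s : X.presheaf.obj (op U)) (_ : i.base z ∈ U)
      (hle : (Opens.map i.base).obj U ≤ V),
      (i.c.app (op U)).hom s = (Z.presheaf.map (homOfLE hle).op).hom t

/-- the kernel condition -/
def KerLE (i : Z ⟶ X) (f : Y ⟶ X) : Prop :=
  ∀ (U : Opens X) (s : X.presheaf.obj (op U)),
    (i.c.app (op U)).hom s = 0 → (f.c.app (op U)).hom s = 0

/-- index for the gluing -/
structure Idx (i : Z ⟶ X) (V : Opens Z) (t : Z.presheaf.obj (op V)) where
  U : Opens X
  s : X.presheaf.obj (op U)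
  hle : (Opens.map i.base).obj U ≤ V
  hs : (i.c.app (op U)).hom s = (Z.presheaf.map (homOfLE hle).op).hom t

section Core

variable {i : Z ⟶ X} {f : Y ⟶ X} {gb : Y.toTopCat ⟶ Z.toTopCat}

theorem Idx.le_preimage (hgb : ∀ y, i.base (gb y) = f.base y)
    {V : Opens Z} {t : Z.presheaf.obj (op V)} (p : Idx i V t) :
    (Opens.map f.base).obj p.U ≤ (Opens.map gb).obj V := by
  intro y hy
  apply p.hle
  change i.base (gb y) ∈ p.U
  rw [hgb]
  exact hy

theorem app_eq_of_app_eq (h₂ : KerLE i f) {U : Opens X} (s s' : X.presheaf.obj (op U))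
    (h : (i.c.app (op U)).hom s = (i.c.app (op U)).hom s') :
    (f.c.app (op U)).hom s = (f.c.app (op U)).hom s' := by
  have h1 : (i.c.app (op U)).hom (s - s') = 0 := by rw [map_sub, h, sub_self]
  have h3 := h₂ U _ h1
  rw [map_sub, sub_eq_zero] at h3
  exact h3

theorem c_res {W : LocallyRingedSpace.{u}} (g : W ⟶ X) {U U' : Opens X} (h : U' ≤ U)
    (s : X.presheaf.obj (op U)) :
    (g.c.app (op U')).hom ((X.presheaf.map (homOfLE h).op).hom s) =
      (W.presheaf.map (homOfLE ((Opens.map g.base).map (homOfLE h)).le).op).hom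
        ((g.c.app (op U)).hom s) :=
  congrArg (fun m => m.hom s) (g.c.naturality (homOfLE h).op)

theorem cover_le (hs : HS i) (hgb : ∀ y, i.base (gb y) = f.base y)
    (V : Opens Z) (t : Z.presheaf.obj (op V)) :
    (Opens.map gb).obj V ≤ ⨆ p : Idx i V t, (Opens.map f.base).obj p.U := by
  intro y hy
  obtain ⟨U, s, hzU, hle, hsU⟩ := hs V t (gb y) hy
  refine Opens.mem_iSup.mpr ⟨⟨U, s, hle, hsU⟩, ?_⟩
  change f.base y ∈ U
  rw [← hgb]
  exact hzU

theorem app_res_eq (h₂ : KerLE i f) {V : Opens Z} {t : Z.presheaf.obj (op V)} (p q : Idx i V t)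
    (U : Opens X) (hp : U ≤ p.U) (hq : U ≤ q.U) :
    (Y.presheaf.map (homOfLE ((Opens.map f.base).map (homOfLE hp)).le).op).hom
        ((f.c.app (op p.U)).hom p.s) =
      (Y.presheaf.map (homOfLE ((Opens.map f.base).map (homOfLE hq)).le).op).hom
        ((f.c.app (op q.U)).hom q.s) := by
  rw [← c_res f hp, ← c_res f hq]
  apply app_eq_of_app_eq h₂
  rw [c_res i hp, c_res i hq, p.hs, q.hs, ← CommRingCat.comp_apply, ← CommRingCat.comp_apply,
    ← Functor.map_comp, ← Functor.map_comp]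
  rfl

theorem isCompatible (h₂ : KerLE i f) (V : Opens Z) (t : Z.presheaf.obj (op V)) :
    TopCat.Presheaf.IsCompatible Y.presheaf
      (fun p : Idx i V t => (Opens.map f.base).obj p.U)
      (fun p => (f.c.app (op p.U)).hom p.s) := by
  intro p q
  exact app_res_eq h₂ p q (p.U ⊓ q.U) inf_le_left inf_le_right

theorem existsUnique_chi (hs : HS i) (h₂ : KerLE i f) (hgb : ∀ y, i.base (gb y) = f.base y)
    (V : Opens Z) (t : Z.presheaf.obj (op V)) :
    ∃! r : Y.presheaf.obj (op ((Opens.map gb).obj V)), ∀ p : Idx i V t,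
      (Y.presheaf.map (homOfLE (p.le_preimage hgb)).op).hom r =
        (f.c.app (op p.U)).hom p.s :=
  Y.sheaf.existsUnique_gluing' (fun p : Idx i V t => (Opens.map f.base).obj p.U)
    ((Opens.map gb).obj V) (fun p => homOfLE (p.le_preimage hgb))
    (cover_le hs hgb V t) (fun p => (f.c.app (op p.U)).hom p.s) (isCompatible h₂ V t)

/-- the glued section -/
noncomputable def chiFun (hs : HS i) (h₂ : KerLE i f) (hgb : ∀ y, i.base (gb y) = f.base y)
    (V : Opens Z) (t : Z.presheaf.obj (op V)) :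
    Y.presheaf.obj (op ((Opens.map gb).obj V)) :=
  (existsUnique_chi hs h₂ hgb V t).choose

theorem chiFun_spec (hs : HS i) (h₂ : KerLE i f) (hgb : ∀ y, i.base (gb y) = f.base y)
    (V : Opens Z) (t : Z.presheaf.obj (op V)) (p : Idx i V t) :
    (Y.presheaf.map (homOfLE (p.le_preimage hgb)).op).hom (chiFun hs h₂ hgb V t) =
      (f.c.app (op p.U)).hom p.s :=
  (existsUnique_chi hs h₂ hgb V t).choose_spec.1 p

theorem chi_local (hs : HS i) (h₂ : KerLE i f) (hgb : ∀ y, i.base (gb y) = f.base y)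
    (V : Opens Z) (t : Z.presheaf.obj (op V)) (U : Opens X) (s : X.presheaf.obj (op U))
    (hle : (Opens.map i.base).obj U ≤ V)
    (hsU : (i.c.app (op U)).hom s = (Z.presheaf.map (homOfLE hle).op).hom t)
    (hle' : (Opens.map f.base).obj U ≤ (Opens.map gb).obj V) :
    (Y.presheaf.map (homOfLE hle').op).hom (chiFun hs h₂ hgb V t) = (f.c.app (op U)).hom s :=
  chiFun_spec hs h₂ hgb V t ⟨U, s, hle, hsU⟩

theorem exists_common (hs : HS i) (V : Opens Z) (t₁ t₂ : Z.presheaf.obj (op V)) (z : Z)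
    (hz : z ∈ V) :
    ∃ (U : Opens X) (s₁ s₂ : X.presheaf.obj (op U)) (_ : i.base z ∈ U)
      (hle : (Opens.map i.base).obj U ≤ V),
      (i.c.app (op U)).hom s₁ = (Z.presheaf.map (homOfLE hle).op).hom t₁ ∧
      (i.c.app (op U)).hom s₂ = (Z.presheaf.map (homOfLE hle).op).hom t₂ := by
  obtain ⟨U₁, s₁, hz₁, hle₁, hs₁⟩ := hs V t₁ z hz
  obtain ⟨U₂, s₂, hz₂, hle₂, hs₂⟩ := hs V t₂ z hz
  have hle : (Opens.map i.base).obj (U₁ ⊓ U₂) ≤ V := fun y hy => hle₁ hy.1
  refine ⟨U₁ ⊓ U₂, (X.presheaf.map (homOfLE inf_le_left).op).hom s₁,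
    (X.presheaf.map (homOfLE inf_le_right).op).hom s₂, ⟨hz₁, hz₂⟩, hle, ?_, ?_⟩
  · rw [c_res i, hs₁, ← CommRingCat.comp_apply, ← Functor.map_comp]
    rfl
  · rw [c_res i, hs₂, ← CommRingCat.comp_apply, ← Functor.map_comp]
    rfl

/-- the comorphism on sections over `V` -/
noncomputable def chiHom (hs : HS i) (h₂ : KerLE i f) (hgb : ∀ y, i.base (gb y) = f.base y)
    (V : Opens Z) :
    Z.presheaf.obj (op V) →+* Y.presheaf.obj (op ((Opens.map gb).obj V)) where
  toFun := chiFun hs h₂ hgb V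
  map_one' := by
    refine TopCat.Presheaf.IsSheaf.section_ext Y.IsSheaf (U := op ((Opens.map gb).obj V))
      fun y hy => ?_
    obtain ⟨U, s, hzU, hle, -⟩ := hs V 1 (gb y) hy
    have hle' : (Opens.map f.base).obj U ≤ (Opens.map gb).obj V := fun y' hy' => by
      apply hle
      change i.base (gb y') ∈ U
      rw [hgb]
      exact hy'
    have hyU : y ∈ (Opens.map f.base).obj U := by
      change f.base y ∈ U
      rw [← hgb]
      exact hzU
    refine ⟨_, hle', hyU, ?_⟩
    rw [chi_local hs h₂ hgb V 1 U 1 hle (by rw [map_one, map_one]) hle', map_one, map_one]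
  map_mul' t₁ t₂ := by
    refine TopCat.Presheaf.IsSheaf.section_ext Y.IsSheaf (U := op ((Opens.map gb).obj V))
      fun y hy => ?_
    obtain ⟨U, s₁, s₂, hzU, hle, e₁, e₂⟩ := exists_common hs V t₁ t₂ (gb y) hy
    have hle' : (Opens.map f.base).obj U ≤ (Opens.map gb).obj V := fun y' hy' => by
      apply hle
      change i.base (gb y') ∈ U
      rw [hgb]
      exact hy'
    have hyU : y ∈ (Opens.map f.base).obj U := by
      change f.base y ∈ U
      rw [← hgb]
      exact hzU
    refine ⟨_, hle', hyU, ?_⟩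
    rw [chi_local hs h₂ hgb V (t₁ * t₂) U (s₁ * s₂) hle (by rw [map_mul, map_mul, e₁, e₂]) hle',
      map_mul, map_mul, chi_local hs h₂ hgb V t₁ U s₁ hle e₁ hle',
      chi_local hs h₂ hgb V t₂ U s₂ hle e₂ hle']
  map_zero' := by
    refine TopCat.Presheaf.IsSheaf.section_ext Y.IsSheaf (U := op ((Opens.map gb).obj V))
      fun y hy => ?_
    obtain ⟨U, s, hzU, hle, -⟩ := hs V 0 (gb y) hy
    have hle' : (Opens.map f.base).obj U ≤ (Opens.map gb).obj V := fun y' hy' => by
      apply hle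
      change i.base (gb y') ∈ U
      rw [hgb]
      exact hy'
    have hyU : y ∈ (Opens.map f.base).obj U := by
      change f.base y ∈ U
      rw [← hgb]
      exact hzU
    refine ⟨_, hle', hyU, ?_⟩
    rw [chi_local hs h₂ hgb V 0 U 0 hle (by rw [map_zero, map_zero]) hle', map_zero, map_zero]
  map_add' t₁ t₂ := by
    refine TopCat.Presheaf.IsSheaf.section_ext Y.IsSheaf (U := op ((Opens.map gb).obj V))
      fun y hy => ?_
    obtain ⟨U, s₁, s₂, hzU, hle, e₁, e₂⟩ := exists_common hs V t₁ t₂ (gb y) hy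
    have hle' : (Opens.map f.base).obj U ≤ (Opens.map gb).obj V := fun y' hy' => by
      apply hle
      change i.base (gb y') ∈ U
      rw [hgb]
      exact hy'
    have hyU : y ∈ (Opens.map f.base).obj U := by
      change f.base y ∈ U
      rw [← hgb]
      exact hzU
    refine ⟨_, hle', hyU, ?_⟩
    rw [chi_local hs h₂ hgb V (t₁ + t₂) U (s₁ + s₂) hle (by rw [map_add, map_add, e₁, e₂]) hle',
      map_add, map_add, chi_local hs h₂ hgb V t₁ U s₁ hle e₁ hle',
      chi_local hs h₂ hgb V t₂ U s₂ hle e₂ hle']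


theorem chiHom_apply (hs : HS i) (h₂ : KerLE i f) (hgb : ∀ y, i.base (gb y) = f.base y)
    (V : Opens Z) (t : Z.presheaf.obj (op V)) :
    chiHom hs h₂ hgb V t = chiFun hs h₂ hgb V t := rfl

theorem chiHom_res (hs : HS i) (h₂ : KerLE i f) (hgb : ∀ y, i.base (gb y) = f.base y)
    {V V' : Opens Z} (hVV : V' ≤ V) (t : Z.presheaf.obj (op V)) :
    chiHom hs h₂ hgb V' ((Z.presheaf.map (homOfLE hVV).op).hom t) =
      (Y.presheaf.map (homOfLE ((Opens.map gb).map (homOfLE hVV)).le).op).hom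
        (chiHom hs h₂ hgb V t) := by
  refine TopCat.Presheaf.IsSheaf.section_ext Y.IsSheaf (U := op ((Opens.map gb).obj V'))
    fun y hy => ?_
  obtain ⟨U, s, hzU, hle, hsU⟩ := hs V' ((Z.presheaf.map (homOfLE hVV).op).hom t) (gb y) hy
  have hle' : (Opens.map f.base).obj U ≤ (Opens.map gb).obj V' := fun y' hy' => by
    apply hle
    change i.base (gb y') ∈ U
    rw [hgb]
    exact hy'
  have hyU : y ∈ (Opens.map f.base).obj U := by
    change f.base y ∈ U
    rw [← hgb]
    exact hzU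
  refine ⟨_, hle', hyU, ?_⟩
  have hsU' : (i.c.app (op U)).hom s = (Z.presheaf.map (homOfLE (hle.trans hVV)).op).hom t := by
    rw [hsU, ← CommRingCat.comp_apply, ← Functor.map_comp]
    rfl
  have hle'' : (Opens.map f.base).obj U ≤ (Opens.map gb).obj V :=
    hle'.trans ((Opens.map gb).map (homOfLE hVV)).le
  rw [chiHom_apply, chiHom_apply, chi_local hs h₂ hgb V' _ U s hle hsU hle']
  rw [← chi_local hs h₂ hgb V t U s (hle.trans hVV) hsU' hle'', ← CommRingCat.comp_apply,
    ← Functor.map_comp]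
  rfl

/-- the comorphism as a natural transformation -/
noncomputable def chiNat (hs : HS i) (h₂ : KerLE i f) (hgb : ∀ y, i.base (gb y) = f.base y) :
    Z.presheaf ⟶ gb _* Y.presheaf where
  app W := CommRingCat.ofHom (chiHom hs h₂ hgb W.unop)
  naturality := by
    intro W W' j
    ext s
    exact (chiHom_res hs h₂ hgb (leOfHom j.unop) s)

/-- the underlying morphism of presheafed spaces -/
noncomputable def chiPHom (hs : HS i) (h₂ : KerLE i f) (hgb : ∀ y, i.base (gb y) = f.base y) :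
    Y.toPresheafedSpace ⟶ Z.toPresheafedSpace :=
  { base := gb, c := chiNat hs h₂ hgb }

theorem isLocalHom_stalkMap (hs : HS i) (h₂ : KerLE i f)
    (hgb : ∀ y, i.base (gb y) = f.base y) (y : Y) :
    IsLocalHom ((chiPHom hs h₂ hgb).stalkMap y).hom := by
  constructor
  intro a ha
  obtain ⟨V, hzV, t, rfl⟩ := TopCat.Presheaf.exists_germ_eq Z.presheaf a
  obtain ⟨U, s, hzU, hle, hsU⟩ := hs V t (gb y) hzV
  have hle' : (Opens.map f.base).obj U ≤ (Opens.map gb).obj V := fun y' hy' => by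
    apply hle
    change i.base (gb y') ∈ U
    rw [hgb]
    exact hy'
  have hfU : f.base y ∈ U := by
    rw [← hgb]
    exact hzU
  have hyU : y ∈ (Opens.map f.base).obj U := hfU
  have hzU' : gb y ∈ (Opens.map i.base).obj U := hzU
  have h1 := PresheafedSpace.stalkMap_germ_apply (chiPHom hs h₂ hgb) V y hzV t
  have hyV : y ∈ (Opens.map gb).obj V := hzV
  have ha' : IsUnit (Y.presheaf.germ ((Opens.map gb).obj V) y hyV (chiHom hs h₂ hgb V t)) :=
    (congrArg IsUnit h1).mp ha
  have h2 : Y.presheaf.germ ((Opens.map gb).obj V) y hyV (chiHom hs h₂ hgb V t) =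
      Y.presheaf.germ ((Opens.map f.base).obj U) y hyU ((f.c.app (op U)).hom s) := by
    rw [← chi_local hs h₂ hgb V t U s hle hsU hle', chiHom_apply]
    exact (TopCat.Presheaf.germ_res_apply Y.presheaf (homOfLE hle') y hyU _).symm
  rw [h2] at ha'
  have h3 : Z.presheaf.germ V (gb y) hzV t =
      Z.presheaf.germ ((Opens.map i.base).obj U) (gb y) hzU' ((i.c.app (op U)).hom s) := by
    rw [hsU]
    exact (TopCat.Presheaf.germ_res_apply Z.presheaf (homOfLE hle) (gb y) hzU' _).symm
  change IsUnit (Z.presheaf.germ V (gb y) hzV t)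
  rw [h3]
  by_contra hnu
  have h4 : Z.presheaf.germ ((Opens.map i.base).obj U) (gb y) hzU' ((i.c.app (op U)).hom s) ∈
      IsLocalRing.maximalIdeal (Z.presheaf.stalk (gb y)) :=
    (IsLocalRing.mem_maximalIdeal _).mpr hnu
  have h5 := (germ_app_mem_iff i U s (gb y) hzU).mp h4
  have h6 := (germ_mem_transport U s (hgb y) hzU hfU).mp h5
  have h7 := (germ_app_mem_iff f U s y hfU).mpr h6
  exact (IsLocalRing.mem_maximalIdeal _).mp h7 ha'

/-- the factorisation -/
noncomputable def chiMor (hs : HS i) (h₂ : KerLE i f) (hgb : ∀ y, i.base (gb y) = f.base y) :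
    Y ⟶ Z :=
  ⟨chiPHom hs h₂ hgb, fun y => isLocalHom_stalkMap hs h₂ hgb y⟩

theorem chiMor_comp (hs : HS i) (h₂ : KerLE i f) (hgb : ∀ y, i.base (gb y) = f.base y) :
    chiMor hs h₂ hgb ≫ i = f := by
  have hle : ∀ U : Opens X, (Opens.map f.base).obj U ≤
      (Opens.map (chiMor hs h₂ hgb ≫ i).base).obj U := by
    intro U y hy
    have h1 : f.base y ∈ U := hy
    rw [← hgb] at h1
    exact h1
  refine lrs_hom_ext _ _ ?_ hle ?_
  · ext y
    exact hgb y
  · intro U s
    exact chi_local hs h₂ hgb ((Opens.map i.base).obj U) ((i.c.app (op U)).hom s) U s le_rfl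
      (by
        have h5 : Z.presheaf.map (homOfLE (le_refl ((Opens.map i.base).obj U))).op = 𝟙 _ :=
          Z.presheaf.map_id _
        rw [h5]
        rfl) (hle U)


theorem res_res {W : LocallyRingedSpace.{u}} {A B C : Opens W} (h₁ : A ≤ B) (h₂ : B ≤ C)
    (x : W.presheaf.obj (op C)) :
    (W.presheaf.map (homOfLE h₁).op).hom ((W.presheaf.map (homOfLE h₂).op).hom x) =
      (W.presheaf.map (homOfLE (h₁.trans h₂)).op).hom x := by
  rw [← CommRingCat.comp_apply, ← Functor.map_comp]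
  rfl

theorem c_app_congr {W : LocallyRingedSpace.{u}} {a b : W ⟶ X} (h : a = b) (U : Opens X)
    (s : X.presheaf.obj (op U))
    (hle : (Opens.map b.base).obj U ≤ (Opens.map a.base).obj U) :
    (W.presheaf.map (homOfLE hle).op).hom ((a.c.app (op U)).hom s) = (b.c.app (op U)).hom s := by
  subst h
  have h5 : W.presheaf.map (homOfLE hle).op = 𝟙 _ := W.presheaf.map_id _
  rw [h5]
  rfl

theorem fac_unique (hs : HS i) (hinj : Function.Injective i.base) (g g' : Y ⟶ Z)
    (h : g ≫ i = g' ≫ i) : g = g' := by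
  have hbase : ∀ y, g.base y = g'.base y := fun y =>
    hinj (congrArg (fun m : Y ⟶ X => m.base y) h)
  have hle : ∀ V : Opens Z, (Opens.map g'.base).obj V ≤ (Opens.map g.base).obj V := by
    intro V y hy
    change g.base y ∈ V
    rw [hbase]
    exact hy
  refine lrs_hom_ext g g' ?_ hle ?_
  · ext y
    exact hbase y
  · intro V t
    refine TopCat.Presheaf.IsSheaf.section_ext Y.IsSheaf (U := op ((Opens.map g'.base).obj V))
      fun y hy => ?_
    obtain ⟨U, s, hzU, hle₁, hsU⟩ := hs V t (g'.base y) hy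
    have hW : (Opens.map (g' ≫ i).base).obj U ≤ (Opens.map g'.base).obj V := fun y' hy' =>
      hle₁ hy'
    have hW' : (Opens.map (g' ≫ i).base).obj U ≤ (Opens.map (g ≫ i).base).obj U := by
      rw [h]
    refine ⟨_, hW, hzU, ?_⟩
    have hWg : (Opens.map (g ≫ i).base).obj U ≤ (Opens.map g.base).obj V := fun y' hy' =>
      hle₁ hy'
    have e1 := c_app_congr h U s hW'
    have e2 : ((g ≫ i).c.app (op U)).hom s =
        (Y.presheaf.map (homOfLE hWg).op).hom ((g.c.app (op V)).hom t) := by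
      have := c_res g hle₁ t
      rw [← hsU] at this
      exact this
    have e3 : ((g' ≫ i).c.app (op U)).hom s =
        (Y.presheaf.map (homOfLE hW).op).hom ((g'.c.app (op V)).hom t) := by
      have := c_res g' hle₁ t
      rw [← hsU] at this
      exact this
    refine (res_res hW (hle V) _).trans ?_
    refine (res_res hW' hWg _).symm.trans ?_
    refine (congrArg (fun m => (Y.presheaf.map (homOfLE hW').op).hom m) e2.symm).trans ?_
    exact e1.trans e3

theorem exists_fac (hs : HS i) (hemb : IsEmbedding i.base)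
    (hrange : Set.range f.base ⊆ Set.range i.base) (h₂ : KerLE i f) :
    ∃ g : Y ⟶ Z, g ≫ i = f := by
  choose gb0 hgb0 using fun y : Y => hrange ⟨y, rfl⟩
  have hcont : Continuous gb0 := by
    rw [hemb.isInducing.continuous_iff]
    have : (i.base : Z → X) ∘ gb0 = f.base := funext hgb0
    rw [this]
    exact f.base.hom.continuous
  exact ⟨chiMor (gb := TopCat.ofHom ⟨gb0, hcont⟩) hs h₂ hgb0, chiMor_comp hs h₂ hgb0⟩


theorem range_subset_of_kerLE (U₀ : Opens X)
    (hopen : IsOpen ((U₀ : Set X) \ Set.range i.base)) (hf : Set.range f.base ⊆ (U₀ : Set X))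
    (h₂ : KerLE i f) : Set.range f.base ⊆ Set.range i.base := by
  rintro _ ⟨y, rfl⟩
  by_contra hy
  obtain ⟨U, hU⟩ : ∃ U : Opens X, U = ⟨(U₀ : Set X) \ Set.range i.base, hopen⟩ := ⟨_, rfl⟩
  have hyU : f.base y ∈ U := by
    rw [hU]
    exact ⟨hf ⟨y, rfl⟩, hy⟩
  have h0 : (i.c.app (op U)).hom 1 = 0 := by
    refine TopCat.Presheaf.IsSheaf.section_ext Z.IsSheaf (U := op ((Opens.map i.base).obj U))
      fun z hz => ?_
    have hz' : i.base z ∈ U := hz
    rw [hU] at hz'
    exact absurd ⟨z, rfl⟩ hz'.2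
  have h1 := h₂ U 1 h0
  rw [map_one] at h1
  have h2 := congrArg (Y.presheaf.germ ((Opens.map f.base).obj U) y hyU) h1
  rw [map_one, map_zero] at h2
  exact one_ne_zero h2

theorem hs_of_isClosedImmersion (hi : LRSImm.IsClosedImmersion i) : HS i := by
  obtain ⟨hemb, hsurj, -⟩ := hi
  intro V t z hz
  obtain ⟨U₀s, hU₀o, hU₀⟩ := hemb.isInducing.isOpen_iff.mp V.isOpen
  obtain ⟨U₀, hU₀'⟩ : ∃ U₀ : Opens X, U₀ = ⟨U₀s, hU₀o⟩ := ⟨_, rfl⟩
  have hle0 : (Opens.map i.base).obj U₀ ≤ V := fun y hy => by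
    have h1 : i.base y ∈ U₀ := hy
    rw [hU₀'] at h1
    have h2 : y ∈ i.base ⁻¹' U₀s := h1
    rw [hU₀] at h2
    exact h2
  have hz0 : i.base z ∈ U₀ := by
    have h1 : z ∈ (V : Set Z) := hz
    rw [← hU₀] at h1
    rw [hU₀']
    exact h1
  obtain ⟨U', hU'le, ⟨s, hs'⟩, hzU'⟩ := (TopCat.Presheaf.isLocallySurjective_iff i.c).mp hsurj U₀
    ((Z.presheaf.map (homOfLE hle0).op).hom t) (i.base z) hz0
  have hle1 : (Opens.map i.base).obj U' ≤ (Opens.map i.base).obj U₀ := fun y hy => hU'le hy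
  refine ⟨U', s, hzU', hle1.trans hle0, ?_⟩
  refine Eq.trans ?_ (res_res hle1 hle0 t)
  exact hs'

end Core

end Groth.Agent.H87.LRSFactor
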