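import Groth.Agent.H87.LRSFactor

/-!
# The kernel of a closed immersion of locally ringed spaces into a scheme, on affine opens
-/

set_option autoImplicit false
universe u

open CategoryTheory Opposite TopologicalSpace Topology AlgebraicGeometry

namespace Groth.Agent.H87.LRSKer

open Groth.Agent.H87.LRSFactor Groth.Agent.H87.HensUP

theorem exists_pow_mul_mem_of_mem_map {A B : Type*} [CommRing A] [CommRing B] [Algebra A B]
    (f : A) [IsLocalization.Away f B] (J : Ideal A) (a : A)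
    (h : algebraMap A B a ∈ J.map (algebraMap A B)) : ∃ m : ℕ, f ^ m * a ∈ J := by
  rw [IsLocalization.mem_map_algebraMap_iff (Submonoid.powers f) B] at h
  obtain ⟨⟨⟨j, hj⟩, ⟨_, n, rfl⟩⟩, h⟩ := h
  rw [← map_mul] at h
  obtain ⟨⟨_, k, rfl⟩, hc⟩ := (IsLocalization.eq_iff_exists (Submonoid.powers f) B).mp h
  refine ⟨k + n, ?_⟩
  have h1 : f ^ (k + n) * a = f ^ k * j := by
    rw [← hc]
    ring
  rw [h1]
  exact J.mul_mem_left _ hj

variable {X : Scheme.{u}} {Z : LocallyRingedSpace.{u}} (i : Z ⟶ X.toLocallyRingedSpace)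

theorem exists_local (hk : LRSImm.KerLocallyGenerated i) {U : X.Opens} (hU : IsAffineOpen U)
    (f a : Γ(X, U))
    (h0 : (i.c.app (op (X.basicOpen f))).hom
      ((X.presheaf.map (homOfLE (X.basicOpen_le f)).op).hom a) = 0)
    (x : X) (hx : x ∈ U) :
    ∃ (W : X.Opens) (hWU : W ≤ U) (_ : x ∈ W) (m : ℕ),
      (i.c.app (op W)).hom ((X.presheaf.map (homOfLE hWU).op).hom (f ^ m * a)) = 0 := by
  obtain ⟨U₁, hxU₁, ι, s, hs0, hspan⟩ := hk x
  obtain ⟨h, hle, hxW⟩ := hU.exists_basicOpen_le (V := U ⊓ U₁) ⟨x, ⟨hx, hxU₁⟩⟩ hx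
  have hW : IsAffineOpen (X.basicOpen h) := hU.basicOpen h
  obtain ⟨W, hWdef⟩ : ∃ W : X.Opens, W = X.basicOpen h := ⟨_, rfl⟩
  rw [← hWdef] at hW hle hxW
  have hWU : W ≤ U := hle.trans inf_le_left
  have hWU₁ : W ≤ U₁ := hle.trans inf_le_right
  obtain ⟨fW, hfW⟩ : ∃ fW : Γ(X, W), fW = (X.presheaf.map (homOfLE hWU).op).hom f := ⟨_, rfl⟩
  obtain ⟨aW, haW⟩ : ∃ aW : Γ(X, W), aW = (X.presheaf.map (homOfLE hWU).op).hom a := ⟨_, rfl⟩
  obtain ⟨sW, hsW⟩ : ∃ sW : ι → Γ(X, W),
    sW = fun j => (X.presheaf.map (homOfLE hWU₁).op).hom (s j) := ⟨_, rfl⟩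
  have hW' : IsAffineOpen (X.basicOpen fW) := hW.basicOpen fW
  have hloc := hW.isLocalization_basicOpen fW
  have key : algebraMap Γ(X, W) Γ(X, X.basicOpen fW) aW ∈
      (Ideal.span (Set.range sW)).map (algebraMap Γ(X, W) Γ(X, X.basicOpen fW)) := by
    rw [hW'.mem_ideal_iff]
    intro x' hx'
    have hx'W : x' ∈ W := X.basicOpen_le fW hx'
    have hx'U₁ : x' ∈ U₁ := hWU₁ hx'W
    have hx'f : x' ∈ X.basicOpen f := by
      have h1 : X.basicOpen fW = W ⊓ X.basicOpen f := by
        rw [hfW]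
        exact Scheme.basicOpen_res _ _ _
      rw [h1] at hx'
      exact hx'.2
    have e1 : X.presheaf.germ (X.basicOpen fW) x' hx'
        (algebraMap Γ(X, W) Γ(X, X.basicOpen fW) aW) =
        X.presheaf.germ (X.basicOpen f) x' hx'f
          ((X.presheaf.map (homOfLE (X.basicOpen_le f)).op).hom a) := by
      rw [haW]
      refine (TopCat.Presheaf.germ_res_apply X.presheaf (homOfLE (X.basicOpen_le fW)) x' hx'
        _).trans ?_
      refine (TopCat.Presheaf.germ_res_apply X.presheaf (homOfLE hWU) x' hx'W _).trans ?_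
      exact (TopCat.Presheaf.germ_res_apply X.presheaf (homOfLE (X.basicOpen_le f)) x' hx'f
        _).symm
    have e2 : X.presheaf.germ (X.basicOpen f) x' hx'f
        ((X.presheaf.map (homOfLE (X.basicOpen_le f)).op).hom a) ∈
        RingHom.ker ((TopCat.Presheaf.stalkFunctor CommRingCat x').map i.c).hom := by
      refine RingHom.mem_ker.mpr ?_
      refine (TopCat.Presheaf.stalkFunctor_map_germ_apply (X.basicOpen f) x' hx'f i.c _).trans ?_
      refine (congrArg (fun m => (TopCat.Presheaf.germ (i.base _* Z.presheaf)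
        (X.basicOpen f) x' hx'f).hom m) h0).trans ?_
      exact map_zero _
    have e2' : X.presheaf.germ (X.basicOpen f) x' hx'f
        ((X.presheaf.map (homOfLE (X.basicOpen_le f)).op).hom a) ∈
        Ideal.span (Set.range fun j => X.presheaf.germ U₁ x' hx'U₁ (s j)) := by
      rw [hspan x' hx'U₁]
      exact e2
    rw [e1]
    refine (Ideal.span_le.mpr ?_) e2'
    rintro _ ⟨j, rfl⟩
    have e3 : X.presheaf.germ U₁ x' hx'U₁ (s j) =
        (X.presheaf.germ (X.basicOpen fW) x' hx').hom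
          (algebraMap Γ(X, W) Γ(X, X.basicOpen fW) (sW j)) := by
      rw [hsW]
      symm
      refine (TopCat.Presheaf.germ_res_apply X.presheaf (homOfLE (X.basicOpen_le fW)) x' hx'
        _).trans ?_
      exact TopCat.Presheaf.germ_res_apply X.presheaf (homOfLE hWU₁) x' hx'W _
    rw [SetLike.mem_coe]
    refine (congrArg (fun m => m ∈ _) e3).mpr ?_
    exact Ideal.mem_map_of_mem _ (Ideal.mem_map_of_mem _ (Ideal.subset_span ⟨j, rfl⟩))
  obtain ⟨m, hm⟩ := exists_pow_mul_mem_of_mem_map fW (Ideal.span (Set.range sW)) aW key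
  have hJ : Ideal.span (Set.range sW) ≤ RingHom.ker (i.c.app (op W)).hom := by
    rw [Ideal.span_le]
    rintro _ ⟨j, rfl⟩
    rw [hsW]
    change (i.c.app (op W)).hom ((X.presheaf.map (homOfLE hWU₁).op).hom (s j)) = 0
    rw [c_res i hWU₁ (s j)]
    rw [show (i.c.app (op U₁)).hom (s j) = 0 from hs0 j, map_zero]
  refine ⟨W, hWU, hxW, m, ?_⟩
  rw [map_mul, map_pow, ← hfW, ← haW]
  exact hJ hm

/-- **Lemma K**: if `a` restricted to `D(f)` is killed by `i^♯`, then some `f ^ m * a` is killed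
by `i^♯` on the affine open `U`. -/
theorem exists_pow_mul_app_eq_zero (hk : LRSImm.KerLocallyGenerated i) {U : X.Opens}
    (hU : IsAffineOpen U) (f a : Γ(X, U))
    (h0 : (i.c.app (op (X.basicOpen f))).hom
      ((X.presheaf.map (homOfLE (X.basicOpen_le f)).op).hom a) = 0) :
    ∃ m : ℕ, (i.c.app (op U)).hom (f ^ m * a) = 0 := by
  have hcpt : IsCompact (U : Set X) := hU.isCompact
  have key : ∃ m : ℕ, ∀ (z : Z) (hz : i.base z ∈ U), i.base z ∈ (U : Set X) →
      Z.presheaf.germ ((Opens.map i.base).obj U) z hz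
        ((i.c.app (op U)).hom (f ^ m * a)) = 0 := by
    refine hcpt.induction_on (p := fun S => ∃ m : ℕ, ∀ (z : Z) (hz : i.base z ∈ U),
      i.base z ∈ S → Z.presheaf.germ ((Opens.map i.base).obj U) z hz
        ((i.c.app (op U)).hom (f ^ m * a)) = 0) ?_ ?_ ?_ ?_
    · exact ⟨0, fun z hz h => absurd h (Set.notMem_empty _)⟩
    · rintro S T hST ⟨m, hm⟩
      exact ⟨m, fun z hz h => hm z hz (hST h)⟩
    · rintro S T ⟨m₁, h₁⟩ ⟨m₂, h₂⟩
      refine ⟨m₁ + m₂, fun z hz h => ?_⟩
      rcases h with h | h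
      · have e : f ^ (m₁ + m₂) * a = f ^ m₂ * (f ^ m₁ * a) := by ring
        rw [e, map_mul, map_mul, h₁ z hz h, mul_zero]
      · have e : f ^ (m₁ + m₂) * a = f ^ m₁ * (f ^ m₂ * a) := by ring
        rw [e, map_mul, map_mul, h₂ z hz h, mul_zero]
    · intro x hx
      obtain ⟨W, hWU, hxW, m, hm⟩ := exists_local i hk hU f a h0 x hx
      refine ⟨W, mem_nhdsWithin_of_mem_nhds (W.isOpen.mem_nhds hxW), m, fun z hz h => ?_⟩
      have hzW : z ∈ (Opens.map i.base).obj W := h
      rw [← TopCat.Presheaf.germ_res_apply Z.presheaf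
        (homOfLE ((Opens.map i.base).map (homOfLE hWU)).le) z hzW]
      refine (congrArg (fun t => (Z.presheaf.germ ((Opens.map i.base).obj W) z hzW).hom t)
        ((c_res i hWU _).symm.trans hm)).trans ?_
      exact map_zero _
  obtain ⟨m, hm⟩ := key
  refine ⟨m, ?_⟩
  refine TopCat.Presheaf.section_ext Z.sheaf _ _ _ fun z hz => ?_
  exact (hm z hz hz).trans (map_zero _).symm

end Groth.Agent.H87.LRSKer
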