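import Groth.Agent.H87.LRSCompare
import Mathlib.AlgebraicGeometry.Morphisms.Preimmersion
import Mathlib.AlgebraicGeometry.Morphisms.Immersion

/-!
# A closed immersion of locally ringed spaces into a scheme is a closed immersion of schemes
-/

set_option autoImplicit false
universe u

open CategoryTheory Opposite TopologicalSpace Topology AlgebraicGeometry

namespace Groth.Agent.H87.LRSLocal

open Groth.Agent.H87.LRSFactor Groth.Agent.H87.HensUP Groth.Agent.H87.LRSKer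
  Groth.Agent.H87.LRSCompare

theorem comp_fromSpec_app_eq {X : Scheme.{u}} {U : X.Opens} (hU : IsAffineOpen U)
    {B : CommRingCat.{u}} (φ : Γ(X, U) ⟶ B) :
    ∃ ψ : B ⟶ Γ(Spec B, (Spec.map φ ≫ hU.fromSpec) ⁻¹ᵁ U), IsIso ψ ∧
      (Spec.map φ ≫ hU.fromSpec).app U = φ ≫ ψ := by
  have e : (Spec.map φ ≫ hU.fromSpec) ⁻¹ᵁ U = ⊤ := by
    rw [Scheme.Hom.comp_preimage, hU.fromSpec_preimage_self]
    rfl
  refine ⟨(Scheme.ΓSpecIso B).inv ≫ (Spec B).presheaf.map (eqToHom e).op, inferInstance, ?_⟩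
  rw [Scheme.Hom.comp_app, hU.fromSpec_app_self, Category.assoc]
  rw [Scheme.Hom.naturality, ← Category.assoc, ← Category.assoc]
  have h1 : (Scheme.ΓSpecIso Γ(X, U)).inv ≫ Scheme.Hom.app (Spec.map φ) ⊤ =
      φ ≫ (Scheme.ΓSpecIso B).inv := (Scheme.ΓSpecIso_inv_naturality φ).symm
  rw [h1]
  rfl

theorem surjective_stalkMap_of_hs {Z X : LocallyRingedSpace.{u}} {i : Z ⟶ X} (hs : HS i) (z : Z) :
    Function.Surjective (i.stalkMap z).hom := by
  intro b
  obtain ⟨V, hzV, t, rfl⟩ := TopCat.Presheaf.exists_germ_eq Z.presheaf b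
  obtain ⟨U, s, hzU, hle, hsU⟩ := hs V t z hzV
  refine ⟨X.presheaf.germ U (i.base z) hzU s, ?_⟩
  refine (LocallyRingedSpace.stalkMap_germ_apply i U z hzU s).trans ?_
  have hzU' : z ∈ (Opens.map i.base).obj U := hzU
  refine (congrArg (fun m => (Z.presheaf.germ ((Opens.map i.base).obj U) z hzU').hom m)
    hsU).trans ?_
  exact TopCat.Presheaf.germ_res_apply Z.presheaf (homOfLE hle) z hzU' t

variable {X : Scheme.{u}} {Z : LocallyRingedSpace.{u}}

theorem exists_restrict_iso_Spec (i : Z ⟶ X.toLocallyRingedSpace)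
    (hi : LRSImm.IsClosedImmersion i) {U : X.Opens} (hU : IsAffineOpen U) :
    ∃ R : CommRingCat.{u}, Nonempty
      (Z.restrict ((Opens.map i.base).obj U).isOpenEmbedding ≅
        (Spec R).toLocallyRingedSpace) := by
  obtain ⟨IU, hIU⟩ : ∃ IU : Ideal Γ(X, U), IU = RingHom.ker (i.c.app (op U)).hom := ⟨_, rfl⟩
  obtain ⟨q, hq⟩ : ∃ q : Γ(X, U) ⟶ CommRingCat.of (Γ(X, U) ⧸ IU),
    q = CommRingCat.ofHom (Ideal.Quotient.mk IU) := ⟨_, rfl⟩
  have hqc : IsClosedImmersion (Spec.map q) := by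
    rw [hq]
    exact IsClosedImmersion.spec_of_surjective _ Ideal.Quotient.mk_surjective
  obtain ⟨jU, hjU⟩ : ∃ jU : Spec (CommRingCat.of (Γ(X, U) ⧸ IU)) ⟶ X,
    jU = Spec.map q ≫ hU.fromSpec := ⟨_, rfl⟩
  obtain ⟨ψ, hψiso, hψ⟩ : ∃ ψ : CommRingCat.of (Γ(X, U) ⧸ IU) ⟶
      Γ(Spec (CommRingCat.of (Γ(X, U) ⧸ IU)), jU ⁻¹ᵁ U), IsIso ψ ∧ jU.app U = q ≫ ψ := by
    rw [hjU]
    exact comp_fromSpec_app_eq hU q
  have hjpre : IsPreimmersion jU := by
    rw [hjU]
    infer_instance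
  refine ⟨CommRingCat.of (Γ(X, U) ⧸ IU), ?_⟩
  have hs_i : HS i := hs_of_isClosedImmersion hi
  have hs_j : HS jU.toLRSHom := hs_of_surjective_stalkMap _ jU.isEmbedding.isInducing
    (fun z => jU.stalkMap_surjective z)
  have kp_i : KP i U := kp_of_kerLocallyGenerated i hi.2.2 hU
  have hpre : jU ⁻¹ᵁ U = ⊤ := by
    rw [hjU, Scheme.Hom.comp_preimage, hU.fromSpec_preimage_self]
    rfl
  have kp_j : KP jU.toLRSHom U := by
    apply kp_of_scheme jU
    rw [hpre]
    exact isCompact_univ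
  have hψinj : Function.Injective ψ.hom := (ConcreteCategory.bijective_of_isIso ψ).1
  have hker_j : ∀ a : Γ(X, U), (jU.toLRSHom.c.app (op U)).hom a = 0 ↔ a ∈ IU := by
    intro a
    have h1 : (jU.toLRSHom.c.app (op U)).hom a = ψ.hom (Ideal.Quotient.mk IU a) := by
      have := congrArg (fun m => m.hom a) hψ
      rw [hq] at this
      exact this
    rw [h1]
    constructor
    · intro h
      have h5 : Ideal.Quotient.mk IU a = 0 := hψinj (h.trans (map_zero _).symm)
      exact Ideal.Quotient.eq_zero_iff_mem.mp h5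
    · intro h
      rw [Ideal.Quotient.eq_zero_iff_mem.mpr h]
      exact map_zero _
  have hrange_j : Set.range jU.toLRSHom.base ⊆ (U : Set X) := by
    rintro _ ⟨t, rfl⟩
    rw [← hU.range_fromSpec]
    refine ⟨(Spec.map q) t, ?_⟩
    rw [hjU]
    rfl
  have k_ij : KerLE i jU.toLRSHom := kerLE_of_kp i jU.toLRSHom hU kp_i
    (fun a h => (hker_j a).mpr (by rw [hIU]; exact h)) hrange_j
  have hr_j : Set.range jU.toLRSHom.base ⊆ Set.range i.base :=
    range_subset_of_kerLE ⊤ (isOpen_top_diff_range i hi.1.isClosed_range) (fun _ _ => trivial) k_ij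
  obtain ⟨h, hh⟩ := exists_fac hs_i hi.1.isEmbedding hr_j k_ij
  obtain ⟨V, hV⟩ : ∃ V : Opens Z, V = (Opens.map i.base).obj U := ⟨_, rfl⟩
  rw [← hV]
  obtain ⟨ι, hι⟩ : ∃ ι : Z.restrict V.isOpenEmbedding ⟶ Z, ι = Z.ofRestrict V.isOpenEmbedding :=
    ⟨_, rfl⟩
  have hιo : LocallyRingedSpace.IsOpenImmersion ι := by
    rw [hι]
    infer_instance
  have hιbase : ∀ w : Z.restrict V.isOpenEmbedding, ι.base w ∈ V := by
    intro w
    rw [hι]
    exact w.2
  have hrange_ι : Set.range (ι ≫ i).base ⊆ (U : Set X) := by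
    rintro _ ⟨w, rfl⟩
    exact (show ι.base w ∈ (Opens.map i.base).obj U by
      rw [← hV]
      exact hιbase w)
  have k_ji : KerLE jU.toLRSHom (ι ≫ i) := by
    refine kerLE_of_kp jU.toLRSHom (ι ≫ i) hU kp_j (fun a ha => ?_) hrange_ι
    have h1 : (i.c.app (op U)).hom a = 0 := by
      have := (hker_j a).mp ha
      rw [hIU] at this
      exact this
    have e : ((ι ≫ i).c.app (op U)).hom a =
        (ι.c.app (op ((Opens.map i.base).obj U))).hom ((i.c.app (op U)).hom a) := rfl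
    rw [e, h1]
    exact map_zero _
  have hopen : IsOpen ((U : Set X) \ Set.range jU.toLRSHom.base) := by
    have h1 : Set.range jU.toLRSHom.base = hU.fromSpec '' (Set.range (Spec.map q)) := by
      rw [hjU]
      ext x
      constructor
      · rintro ⟨t, rfl⟩
        exact ⟨(Spec.map q) t, ⟨t, rfl⟩, rfl⟩
      · rintro ⟨_, ⟨t, rfl⟩, rfl⟩
        exact ⟨t, rfl⟩
    rw [h1, ← hU.range_fromSpec,
      ← Set.image_compl_eq_range_sdiff_image hU.fromSpec.isOpenEmbedding.injective]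
    exact hU.fromSpec.isOpenEmbedding.isOpenMap _
      (Spec.map q).isClosedEmbedding.isClosed_range.isOpen_compl
  have hr_i : Set.range (ι ≫ i).base ⊆ Set.range jU.toLRSHom.base :=
    range_subset_of_kerLE U hopen hrange_ι k_ji
  obtain ⟨g, hg⟩ := exists_fac hs_j jU.isEmbedding hr_i k_ji
  have hrange_h : Set.range h.base ⊆ Set.range ι.base := by
    rintro _ ⟨t, rfl⟩
    have h1 : i.base (h.base t) ∈ U := by
      have h2 : i.base (h.base t) = jU.toLRSHom.base t :=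
        congrArg (fun m : (Spec (CommRingCat.of (Γ(X, U) ⧸ IU))).toLocallyRingedSpace ⟶
          X.toLocallyRingedSpace => m.base t) hh
      rw [h2]
      exact hrange_j ⟨t, rfl⟩
    have h3 : h.base t ∈ V := by
      rw [hV]
      exact h1
    refine ⟨⟨h.base t, h3⟩, ?_⟩
    rw [hι]
    rfl
  obtain ⟨h', hh'⟩ : ∃ h' : (Spec (CommRingCat.of (Γ(X, U) ⧸ IU))).toLocallyRingedSpace ⟶
      Z.restrict V.isOpenEmbedding, h' ≫ ι = h :=
    ⟨LocallyRingedSpace.IsOpenImmersion.lift ι h hrange_h,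
      LocallyRingedSpace.IsOpenImmersion.lift_fac ι h hrange_h⟩
  have e1 : h' ≫ ι ≫ i = jU.toLRSHom := by rw [← Category.assoc, hh', hh]
  refine ⟨⟨g, h', ?_, ?_⟩⟩
  · rw [← cancel_mono ι]
    apply fac_unique hs_i hi.1.injective
    rw [Category.assoc, Category.assoc, e1, hg, Category.id_comp]
  · apply fac_unique hs_j jU.isEmbedding.injective
    rw [Category.assoc, hg, e1, Category.id_comp]

theorem exists_scheme_iso (X : Scheme.{u}) (Z : LocallyRingedSpace.{u})
    (i : Z ⟶ X.toLocallyRingedSpace) (hi : LRSImm.IsClosedImmersion i) :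
    ∃ (Z' : Scheme.{u}) (e : Z'.toLocallyRingedSpace ≅ Z),
      AlgebraicGeometry.IsClosedImmersion (Scheme.Hom.mk (e.hom ≫ i) : Z' ⟶ X) := by
  have hla : ∀ z : Z, ∃ (V : OpenNhds z) (R : CommRingCat),
      Nonempty (Z.restrict V.isOpenEmbedding ≅ Spec.toLocallyRingedSpace.obj (op R)) := by
    intro z
    obtain ⟨_, ⟨U, hU, rfl⟩, hzU, -⟩ := X.isBasis_affineOpens.exists_subset_of_mem_open
      (Set.mem_univ (i.base z)) isOpen_univ
    obtain ⟨R, ⟨e⟩⟩ := exists_restrict_iso_Spec i hi hU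
    exact ⟨⟨(Opens.map i.base).obj U, hzU⟩, R, ⟨e⟩⟩
  refine ⟨⟨Z, hla⟩, Iso.refl _, ?_⟩
  have hs := hs_of_isClosedImmersion hi
  have e0 : (Iso.refl Z).hom ≫ i = i := Category.id_comp i
  rw [e0]
  refine { toSurjectiveOnStalks := ⟨fun z => ?_⟩, isClosedEmbedding := ?_ }
  · exact surjective_stalkMap_of_hs hs z
  · exact hi.1

end Groth.Agent.H87.LRSLocal
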