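import Mathlib

/-!
# Patching local retractions of a linear map with finitely presented cokernel (helper87)

`exists_retraction_of_local`: for an exact sequence `M → N → Q → 0` with `Q` finitely presented,
if `ι : M → N` admits retractions "locally" (into localizations of `M` away from elements
`g` covering the spectrum), then `ι` admits a retraction.
Also `finitePresentation_of_local` and `finitePresentation_localizedModule_away_of_isLocalizedModule`.
-/

set_option autoImplicit false
universe u
open TensorProduct

namespace Groth.Agent.H87.LiftPatch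

section ModulePatch
variable {R : Type u} [CommRing R] {M N Q : Type u} [AddCommGroup M] [AddCommGroup N]
  [AddCommGroup Q] [Module R M] [Module R N] [Module R Q]

/-- A retraction into the localization at powers of `g ∉ m` gives one into the localization at
`m`. -/
theorem exists_retraction_at_prime (ι : M →ₗ[R] N) (m : Ideal R) [m.IsPrime] (g : R) (hg : g ∉ m)
    {L : Type u} [AddCommGroup L] [Module R L] (loc : M →ₗ[R] L)
    [IsLocalizedModule (Submonoid.powers g) loc] (ρ : N →ₗ[R] L) (hρ : ρ ∘ₗ ι = loc) :
    ∃ ρ' : N →ₗ[R] LocalizedModule m.primeCompl M,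
      ρ' ∘ₗ ι = LocalizedModule.mkLinearMap m.primeCompl M := by
  have hunits : ∀ x : Submonoid.powers g,
      IsUnit (algebraMap R (Module.End R (LocalizedModule m.primeCompl M)) x) := by
    intro x
    have hx : (x : R) ∈ m.primeCompl := by
      obtain ⟨n, hn⟩ := x.2
      rw [← hn]
      exact m.primeCompl.pow_mem hg n
    exact IsLocalizedModule.map_units (LocalizedModule.mkLinearMap m.primeCompl M) ⟨x, hx⟩
  refine ⟨(IsLocalizedModule.lift (Submonoid.powers g) loc
    (LocalizedModule.mkLinearMap m.primeCompl M) hunits) ∘ₗ ρ, ?_⟩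
  rw [LinearMap.comp_assoc, hρ, IsLocalizedModule.lift_comp]

/-- A retraction of `ι` into the localization of `M` gives a section of the localized `p`. -/
theorem exists_section_localized (ι : M →ₗ[R] N) (p : N →ₗ[R] Q) (hex : Function.Exact ι p)
    (hp : Function.Surjective p) (S : Submonoid R)
    (ρ' : N →ₗ[R] LocalizedModule S M) (hρ' : ρ' ∘ₗ ι = LocalizedModule.mkLinearMap S M) :
    ∃ g : LocalizedModule S Q →ₗ[Localization S] LocalizedModule S N,
      (LocalizedModule.map S p).comp g = LinearMap.id := by
  let σ₀ : N →ₗ[R] LocalizedModule S N :=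
    LocalizedModule.mkLinearMap S N - ((LocalizedModule.map S ι).restrictScalars R) ∘ₗ ρ'
  have hσ₀ : ∀ x, σ₀ x = LocalizedModule.mkLinearMap S N x - LocalizedModule.map S ι (ρ' x) :=
    fun x => rfl
  have hσ₀ι : ∀ y, σ₀ (ι y) = 0 := by
    intro y
    have h1 : ρ' (ι y) = LocalizedModule.mkLinearMap S M y := LinearMap.congr_fun hρ' y
    rw [hσ₀, h1, LocalizedModule.mkLinearMap_apply, LocalizedModule.mkLinearMap_apply,
      LocalizedModule.map_mk, sub_self]
  have hker : LinearMap.ker p ≤ LinearMap.ker σ₀ := by
    intro x hx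
    obtain ⟨y, rfl⟩ := (hex x).1 hx
    exact hσ₀ι y
  let σ₁ : Q →ₗ[R] LocalizedModule S N :=
    (Submodule.liftQ _ σ₀ hker) ∘ₗ (p.quotKerEquivOfSurjective hp).symm.toLinearMap
  have hσ₁ : ∀ x, σ₁ (p x) = σ₀ x := by
    intro x
    change Submodule.liftQ _ σ₀ hker ((p.quotKerEquivOfSurjective hp).symm (p x)) = σ₀ x
    have h1 : (p.quotKerEquivOfSurjective hp).symm (p x) = Submodule.Quotient.mk x := by
      rw [LinearEquiv.symm_apply_eq]
      rfl
    rw [h1, Submodule.liftQ_apply]
  have hunits : ∀ x : S, IsUnit (algebraMap R (Module.End R (LocalizedModule S N)) x) :=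
    IsLocalizedModule.map_units (LocalizedModule.mkLinearMap S N)
  let g₀ : LocalizedModule S Q →ₗ[R] LocalizedModule S N :=
    IsLocalizedModule.lift S (LocalizedModule.mkLinearMap S Q) σ₁ hunits
  have hg₀ : ∀ q, g₀ (LocalizedModule.mkLinearMap S Q q) = σ₁ q := fun q =>
    IsLocalizedModule.lift_apply S (LocalizedModule.mkLinearMap S Q) σ₁ hunits q
  refine ⟨g₀.extendScalarsOfIsLocalization S (Localization S), ?_⟩
  apply LinearMap.restrictScalars_injective R
  apply IsLocalizedModule.linearMap_ext S (LocalizedModule.mkLinearMap S Q)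
    (LocalizedModule.mkLinearMap S Q)
  ext q
  obtain ⟨x, rfl⟩ := hp q
  change LocalizedModule.map S p (g₀ (LocalizedModule.mkLinearMap S Q (p x))) =
    LocalizedModule.mkLinearMap S Q (p x)
  rw [hg₀, hσ₁, hσ₀, map_sub, LocalizedModule.mkLinearMap_apply, LocalizedModule.map_mk]
  have h2 : ∀ z : LocalizedModule S M, LocalizedModule.map S p (LocalizedModule.map S ι z) = 0 := by
    intro z
    induction z using LocalizedModule.induction_on with
    | h m s =>
      rw [LocalizedModule.map_mk, LocalizedModule.map_mk, hex.apply_apply_eq_zero,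
        LocalizedModule.zero_mk]
  rw [h2, sub_zero, LocalizedModule.mkLinearMap_apply]

/-- **Patching retractions.** -/
theorem exists_retraction_of_local (ι : M →ₗ[R] N) (p : N →ₗ[R] Q) (hex : Function.Exact ι p)
    (hp : Function.Surjective p) [Module.FinitePresentation R Q]
    (H : ∀ m : Ideal R, m.IsMaximal → ∃ g : R, g ∉ m ∧ ∃ (L : Type u) (_ : AddCommGroup L)
      (_ : Module R L) (loc : M →ₗ[R] L) (_ : IsLocalizedModule (Submonoid.powers g) loc)
      (ρ : N →ₗ[R] L), ρ ∘ₗ ι = loc) :
    ∃ ρ : N →ₗ[R] M, ρ ∘ₗ ι = LinearMap.id := by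
  have H' : ∀ (m : Ideal R) [m.IsMaximal], ∃ ρ' : N →ₗ[R] LocalizedModule m.primeCompl M,
      ρ' ∘ₗ ι = LocalizedModule.mkLinearMap m.primeCompl M := by
    intro m hm
    obtain ⟨g, hg, L, _, _, loc, _, ρ, hρ⟩ := H m hm
    exact exists_retraction_at_prime ι m g hg loc ρ hρ
  -- `ι` is injective
  have hinj : Function.Injective ι := by
    rw [injective_iff_map_eq_zero]
    intro x hx
    refine Module.eq_zero_of_localization_maximal
      (fun (P : Ideal R) [P.IsMaximal] => LocalizedModule P.primeCompl M)
      (fun (P : Ideal R) [P.IsMaximal] => LocalizedModule.mkLinearMap P.primeCompl M) x ?_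
    intro P hP
    obtain ⟨ρ', hρ'⟩ := H' P
    have h1 : ρ' (ι x) = LocalizedModule.mkLinearMap P.primeCompl M x := LinearMap.congr_fun hρ' x
    rw [← h1, hx, map_zero]
  -- a global section of `p`
  obtain ⟨s, hs⟩ := LinearMap.split_surjective_of_localization_maximal p (fun m hm => by
    haveI := hm
    obtain ⟨ρ', hρ'⟩ := H' m
    exact exists_section_localized ι p hex hp m.primeCompl ρ' hρ')
  -- the retraction
  have hmem : ∀ x : N, x - s (p x) ∈ LinearMap.range ι := by
    intro x
    rw [← hex.linearMap_ker_eq, LinearMap.mem_ker, map_sub]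
    have : p (s (p x)) = p x := LinearMap.congr_fun hs (p x)
    rw [this, sub_self]
  let e := LinearEquiv.ofInjective ι hinj
  let t : N →ₗ[R] LinearMap.range ι :=
    LinearMap.codRestrict (LinearMap.range ι) (LinearMap.id - s ∘ₗ p) hmem
  refine ⟨e.symm.toLinearMap ∘ₗ t, ?_⟩
  ext y
  change e.symm (t (ι y)) = y
  rw [LinearEquiv.symm_apply_eq]
  apply Subtype.ext
  change ι y - s (p (ι y)) = ι y
  rw [hex.apply_apply_eq_zero, map_zero, sub_zero]

end ModulePatch

section FP
variable {R : Type u} [CommRing R] {M : Type u} [AddCommGroup M] [Module R M]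

/-- Finite presentation is local (maximal ideal form). -/
theorem finitePresentation_of_local
    (H : ∀ m : Ideal R, m.IsMaximal → ∃ g : R, g ∉ m ∧
      Module.FinitePresentation (Localization.Away g) (LocalizedModule.Away g M)) :
    Module.FinitePresentation R M := by
  let s : Set R := {g | Module.FinitePresentation (Localization.Away g) (LocalizedModule.Away g M)}
  have hs : Ideal.span s = ⊤ := by
    by_contra hne
    obtain ⟨m, hm, hle⟩ := Ideal.exists_le_maximal _ hne
    obtain ⟨g, hg, hfp⟩ := H m hm
    exact hg (hle (Ideal.subset_span hfp))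
  exact Module.FinitePresentation.of_localizationSpan s hs (fun g => g.2)

/-- Transfer of finite presentation to the canonical localization. -/
theorem finitePresentation_away_of_isLocalizedModule (g : R) {A : Type u} [CommRing A]
    [Algebra R A] [IsLocalization.Away g A] {M' : Type u} [AddCommGroup M'] [Module R M']
    [Module A M'] [IsScalarTower R A M'] (loc : M →ₗ[R] M')
    [IsLocalizedModule (Submonoid.powers g) loc] [Module.FinitePresentation A M'] :
    Module.FinitePresentation (Localization.Away g) (LocalizedModule.Away g M) := by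
  let e : A ≃ₐ[R] Localization.Away g :=
    IsLocalization.algEquiv (Submonoid.powers g) A (Localization.Away g)
  letI : Algebra A (Localization.Away g) := e.toAlgHom.toRingHom.toAlgebra
  haveI : IsScalarTower R A (Localization.Away g) :=
    IsScalarTower.of_algebraMap_eq (fun x => (e.commutes x).symm)
  have hbc : IsBaseChange A loc := IsLocalizedModule.isBaseChange (Submonoid.powers g) A loc
  haveI h1 : Module.FinitePresentation A (A ⊗[R] M) :=
    Module.FinitePresentation.of_equiv hbc.equiv.symm
  haveI h2 : Module.FinitePresentation (Localization.Away g)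
      (Localization.Away g ⊗[A] (A ⊗[R] M)) := inferInstance
  haveI h3 : Module.FinitePresentation (Localization.Away g) (Localization.Away g ⊗[R] M) :=
    Module.FinitePresentation.of_equiv
      (AlgebraTensorModule.cancelBaseChange R A (Localization.Away g) (Localization.Away g) M)
  have hbc' : IsBaseChange (Localization.Away g)
      (LocalizedModule.mkLinearMap (Submonoid.powers g) M) :=
    IsLocalizedModule.isBaseChange (Submonoid.powers g) (Localization.Away g) _
  exact Module.FinitePresentation.of_equiv hbc'.equiv

end FP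

end Groth.Agent.H87.LiftPatch
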