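import Groth.Agent.H44.ConormalAlg3

/-!
# A ring retraction from a retraction of conormal modules (helper87)

For `R → A → B` with `R → B` and `A → B` surjective with square-zero kernels, a `B`-linear
retraction of `conormalMap R A B : B ⊗[R] ker(R → B) → B ⊗[A] ker(A → B)` gives a ring
retraction `A → R` of `R → A` over `B`.
-/

set_option autoImplicit false
universe u
open TensorProduct Function

namespace Groth.Agent.H87.LiftRetr

open Groth.Agent.H44

variable {R A B : Type u} [CommRing R] [CommRing A] [CommRing B] [Algebra R A] [Algebra A B]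
  [Algebra R B] [IsScalarTower R A B]

/-- `I → B ⊗[R] I`, `x ↦ 1 ⊗ x`, is bijective when `I² = 0`. -/
theorem mk_one_bijective (hRB : Surjective (algebraMap R B))
    (hsqR : ∀ x y : R, algebraMap R B x = 0 → algebraMap R B y = 0 → x * y = 0) :
    Bijective (TensorProduct.mk R B (RingHom.ker (algebraMap R B)) 1) := by
  constructor
  · rw [injective_iff_map_eq_zero]
    intro x hx
    have h1 : (1 : B) ⊗ₜ[R] x = 0 := hx
    rw [one_tmul_eq_zero_iff hRB] at h1
    have h2 : (RingHom.ker (algebraMap R B)) ^ 2 = ⊥ := by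
      rw [eq_bot_iff, pow_two, Ideal.mul_le]
      intro a ha b hb
      exact hsqR a b ha hb
    rw [h2] at h1
    exact Subtype.ext h1
  · intro t
    obtain ⟨x, rfl⟩ := exists_one_tmul_eq hRB t
    exact ⟨x, rfl⟩

theorem exists_ring_retraction (hRB : Surjective (algebraMap R B))
    (hsqR : ∀ x y : R, algebraMap R B x = 0 → algebraMap R B y = 0 → x * y = 0)
    (hsqA : ∀ x y : A, algebraMap A B x = 0 → algebraMap A B y = 0 → x * y = 0)
    (ρ : B ⊗[A] RingHom.ker (algebraMap A B) →ₗ[B] B ⊗[R] RingHom.ker (algebraMap R B))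
    (hρ : ρ ∘ₗ conormalMap R A B = LinearMap.id) :
    ∃ r : A →+* R, r.comp (algebraMap R A) = RingHom.id R ∧
      (algebraMap R B).comp r = algebraMap A B := by
  classical
  let e : RingHom.ker (algebraMap R B) ≃ₗ[R] B ⊗[R] RingHom.ker (algebraMap R B) :=
    LinearEquiv.ofBijective (TensorProduct.mk R B (RingHom.ker (algebraMap R B)) 1)
      (mk_one_bijective hRB hsqR)
  have he : ∀ x, e x = (1 : B) ⊗ₜ[R] x := fun x => rfl
  let ρ' : RingHom.ker (algebraMap A B) → RingHom.ker (algebraMap R B) :=
    fun x => e.symm (ρ ((1 : B) ⊗ₜ[A] x))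
  have hρ'add : ∀ x y, ρ' (x + y) = ρ' x + ρ' y := by
    intro x y
    change e.symm (ρ ((1 : B) ⊗ₜ[A] (x + y))) = _
    rw [tmul_add, map_add, map_add]
  have hρ'zero : ρ' 0 = 0 := by
    change e.symm (ρ ((1 : B) ⊗ₜ[A] (0 : RingHom.ker (algebraMap A B)))) = _
    rw [tmul_zero, map_zero, map_zero]
  have hρ'smul : ∀ (b : R) (y : RingHom.ker (algebraMap A B)),
      ρ' (algebraMap R A b • y) = b • ρ' y := by
    intro b y
    change e.symm (ρ ((1 : B) ⊗ₜ[A] (algebraMap R A b • y))) = _
    rw [LinearEquiv.symm_apply_eq, _root_.map_smul, he]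
    have h1 : (1 : B) ⊗ₜ[A] (algebraMap R A b • y) = algebraMap R B b • ((1 : B) ⊗ₜ[A] y) := by
      rw [← smul_tmul, smul_tmul', Algebra.smul_def, mul_one, smul_eq_mul, mul_one,
        ← IsScalarTower.algebraMap_apply]
    rw [h1, _root_.map_smul]
    have h2 : ρ ((1 : B) ⊗ₜ[A] y) = (1 : B) ⊗ₜ[R] ρ' y := by
      rw [← he, LinearEquiv.apply_symm_apply]
    rw [h2, smul_tmul', smul_eq_mul, mul_one, smul_tmul', Algebra.smul_def, mul_one]
  have hρ'incl : ∀ x : RingHom.ker (algebraMap R B),
      ρ' ⟨algebraMap R A (x : R), algebraMap_mem_ker R A B x⟩ = x := by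
    intro x
    change e.symm (ρ _) = x
    rw [LinearEquiv.symm_apply_eq, he]
    have h1 : conormalMap R A B ((1 : B) ⊗ₜ[R] x) =
        (1 : B) ⊗ₜ[A] ⟨algebraMap R A (x : R), algebraMap_mem_ker R A B x⟩ :=
      conormalMap_tmul R A B 1 x
    rw [← h1]
    exact LinearMap.congr_fun hρ _
  let r : A → R := fun a => rPart hRB a + (ρ' (iPart hRB a) : R)
  have hr : ∀ (a : A) (b : R) (x : RingHom.ker (algebraMap A B)),
      a = algebraMap R A b + x → r a = b + (ρ' x : R) := by
    intro a b x h
    have hj : b - rPart hRB a ∈ RingHom.ker (algebraMap R B) := by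
      rw [RingHom.mem_ker, map_sub, rPart, surjInv_eq hRB, h, map_add,
        ← IsScalarTower.algebraMap_apply, RingHom.mem_ker.1 x.2, add_zero, sub_self]
    have hx : iPart hRB a = x +
        ⟨algebraMap R A ((⟨b - rPart hRB a, hj⟩ : RingHom.ker (algebraMap R B)) : R),
          algebraMap_mem_ker R A B _⟩ := by
      apply Subtype.ext
      change a - algebraMap R A (rPart hRB a) = (x : A) + algebraMap R A (b - rPart hRB a)
      rw [h, map_sub]
      ring
    change rPart hRB a + (ρ' (iPart hRB a) : R) = _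
    rw [hx, hρ'add, hρ'incl]
    push_cast
    ring
  have hdec : ∀ a : A, a = algebraMap R A (rPart hRB a) + (iPart hRB a : A) := decomp hRB
  have hr1 : r 1 = 1 := by
    rw [hr 1 1 0 (by simp), hρ'zero]
    simp
  have hradd : ∀ a a', r (a + a') = r a + r a' := by
    intro a a'
    rw [hr (a + a') (rPart hRB a + rPart hRB a') (iPart hRB a + iPart hRB a') (by
      rw [map_add]
      conv_lhs => rw [hdec a, hdec a']
      push_cast
      ring), hρ'add]
    push_cast
    change _ = (rPart hRB a + (ρ' (iPart hRB a) : R)) + (rPart hRB a' + (ρ' (iPart hRB a') : R))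
    ring
  have hrmul : ∀ a a', r (a * a') = r a * r a' := by
    intro a a'
    have hxx : (iPart hRB a : A) * (iPart hRB a' : A) = 0 :=
      hsqA _ _ (iPart hRB a).2 (iPart hRB a').2
    rw [hr (a * a') (rPart hRB a * rPart hRB a')
      (algebraMap R A (rPart hRB a) • iPart hRB a' + algebraMap R A (rPart hRB a') • iPart hRB a) (by
        rw [map_mul]
        push_cast
        rw [smul_eq_mul, smul_eq_mul]
        have ha := hdec a
        have ha' := hdec a'
        generalize (iPart hRB a : A) = x at ha hxx ⊢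
        generalize (iPart hRB a' : A) = x' at ha' hxx ⊢
        generalize algebraMap R A (rPart hRB a) = c at ha ⊢
        generalize algebraMap R A (rPart hRB a') = c' at ha' ⊢
        subst ha ha'
        linear_combination hxx), hρ'add, hρ'smul, hρ'smul]
    have hyy : (ρ' (iPart hRB a) : R) * (ρ' (iPart hRB a') : R) = 0 :=
      hsqR _ _ (ρ' (iPart hRB a)).2 (ρ' (iPart hRB a')).2
    change _ = (rPart hRB a + (ρ' (iPart hRB a) : R)) * (rPart hRB a' + (ρ' (iPart hRB a') : R))
    push_cast
    rw [smul_eq_mul, smul_eq_mul]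
    linear_combination -hyy
  have hr0 : r 0 = 0 := by
    have := hradd 0 0
    rw [add_zero] at this
    exact left_eq_add.mp this
  let rr : A →+* R :=
    { toFun := r
      map_one' := hr1
      map_mul' := hrmul
      map_zero' := hr0
      map_add' := hradd }
  refine ⟨rr, ?_, ?_⟩
  · ext b
    change r (algebraMap R A b) = b
    rw [hr (algebraMap R A b) b 0 (by simp), hρ'zero]
    simp
  · ext a
    change algebraMap R B (r a) = algebraMap A B a
    change algebraMap R B (rPart hRB a + (ρ' (iPart hRB a) : R)) = _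
    rw [map_add, RingHom.mem_ker.1 (ρ' (iPart hRB a)).2, add_zero, rPart, surjInv_eq hRB]

end Groth.Agent.H87.LiftRetr
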