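import Mathlib
import Groth.Agent.H87.LiftPatch
import Groth.Agent.H87.LiftRetr

/-!
# Existence of a ring retraction from local retractions (helper87)
-/

set_option autoImplicit false
universe u
open TensorProduct Function

namespace Groth.Agent.H87.LiftAlgMain

open Groth.Agent.H44 Groth.Agent.H87.LiftPatch Groth.Agent.H87.LiftRetr

variable {R A B : Type u} [CommRing R] [CommRing A] [CommRing B] [Algebra R A] [Algebra A B]
  [Algebra R B] [IsScalarTower R A B]

theorem exists_ring_retraction_of_local (hRB : Surjective (algebraMap R B))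
    (hsqR : ∀ x y : R, algebraMap R B x = 0 → algebraMap R B y = 0 → x * y = 0)
    (hsqA : ∀ x y : A, algebraMap A B x = 0 → algebraMap A B y = 0 → x * y = 0)
    (Hfp : ∀ m : Ideal B, m.IsMaximal → ∃ g : R, algebraMap R B g ∉ m ∧
      Module.FinitePresentation (Localization.Away (algebraMap R B g))
        (LocalizedModule.Away (algebraMap R B g) (B ⊗[A] Ω[A⁄R])))
    (Hloc : ∀ m : Ideal B, m.IsMaximal → ∃ g : R, algebraMap R B g ∉ m ∧
      ∃ (L : Type u) (_ : AddCommGroup L) (_ : Module B L)
        (loc : B ⊗[R] RingHom.ker (algebraMap R B) →ₗ[B] L)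
        (_ : IsLocalizedModule (Submonoid.powers (algebraMap R B g)) loc)
        (ρ : B ⊗[A] RingHom.ker (algebraMap A B) →ₗ[B] L), ρ ∘ₗ conormalMap R A B = loc) :
    ∃ r : A →+* R, r.comp (algebraMap R A) = RingHom.id R ∧
      (algebraMap R B).comp r = algebraMap A B := by
  haveI : Module.FinitePresentation B (B ⊗[A] Ω[A⁄R]) := by
    refine finitePresentation_of_local (fun m hm => ?_)
    obtain ⟨g, hg, hfp⟩ := Hfp m hm
    exact ⟨algebraMap R B g, hg, hfp⟩
  obtain ⟨ρ, hρ⟩ := exists_retraction_of_local (conormalMap R A B) (conormalToTensor R A B)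
    (exact_conormalMap_conormalToTensor hRB) (conormalToTensor_surjective R A B hRB)
    (fun m hm => by
      obtain ⟨g, hg, L, i1, i2, loc, i3, ρ, hρ⟩ := Hloc m hm
      exact ⟨algebraMap R B g, hg, L, i1, i2, loc, i3, ρ, hρ⟩)
  exact exists_ring_retraction hRB hsqR hsqA ρ hρ

end Groth.Agent.H87.LiftAlgMain
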