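import Mathlib

/-!
# Differentials of a universal first order thickening, ring level (helper87)

For `R → A → B' → B` with `B' → B` having the universal property of the universal first order
thickening of `B` over `A`, the map `B ⊗_{B'} (B' ⊗_A Ω_{A/R}) → B ⊗_{B'} Ω_{B'/R}` is bijective.
-/

set_option autoImplicit false
universe u
open TensorProduct

namespace Groth.Agent.H87.ThickOmegaAlg

section TSZ
variable {A B : Type u} [CommRing A] [CommRing B] {M : Type u} [AddCommGroup M] [Module B M]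
  [Module Bᵐᵒᵖ M] [IsCentralScalar B M]

/-- A ring map into a trivial square zero extension from a ring map and a "derivation". -/
theorem exists_tsze_lift (π : A →+* B) (D : A →+ M)
    (hD : ∀ x y, D (x * y) = π x • D y + π y • D x) :
    ∃ θ : A →+* TrivSqZeroExt B M, (∀ x, (θ x).fst = π x) ∧ ∀ x, (θ x).snd = D x := by
  have hD1 : D 1 = 0 := by
    have h := hD 1 1
    rw [mul_one, map_one π, one_smul] at h
    exact (add_eq_left (a := D 1)).1 h.symm
  refine ⟨{ toFun := fun x => (π x, D x)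
            map_one' := ?_
            map_mul' := ?_
            map_zero' := ?_
            map_add' := ?_ }, fun x => rfl, fun x => rfl⟩
  · apply TrivSqZeroExt.ext
    · exact map_one π
    · exact hD1
  · intro x y
    apply TrivSqZeroExt.ext
    · exact map_mul π x y
    · change D (x * y) = π x • D y + MulOpposite.op (π y) • D x
      rw [op_smul_eq_smul]
      exact hD x y
  · apply TrivSqZeroExt.ext
    · exact map_zero π
    · exact map_zero D
  · intro x y
    apply TrivSqZeroExt.ext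
    · exact map_add π x y
    · exact map_add D x y

omit [CommRing A] in
theorem tsze_fst_surjective :
    Function.Surjective (TrivSqZeroExt.fstHom B B M).toRingHom := fun b =>
  ⟨TrivSqZeroExt.inl b, rfl⟩

omit [CommRing A] in
theorem tsze_sqzero (x y : TrivSqZeroExt B M) (hx : (TrivSqZeroExt.fstHom B B M).toRingHom x = 0)
    (hy : (TrivSqZeroExt.fstHom B B M).toRingHom y = 0) : x * y = 0 := by
  have hx' : x.fst = 0 := hx
  have hy' : y.fst = 0 := hy
  apply TrivSqZeroExt.ext
  · rw [TrivSqZeroExt.fst_mul, hx', zero_mul]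
    rfl
  · rw [TrivSqZeroExt.snd_mul, hx', hy', zero_smul, MulOpposite.op_zero, zero_smul, add_zero]
    rfl

/-- Leibniz rule for the second component of a ring map into a trivial square zero extension. -/
theorem tsze_snd_mul (θ : A →+* TrivSqZeroExt B M) (x y : A) :
    (θ (x * y)).snd = (θ x).fst • (θ y).snd + (θ y).fst • (θ x).snd := by
  rw [map_mul, TrivSqZeroExt.snd_mul, op_smul_eq_smul]

end TSZ

section Gens
variable {R A B' B : Type u} [CommRing R] [CommRing A] [CommRing B'] [CommRing B]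
  [Algebra R A] [Algebra A B'] [Algebra R B'] [IsScalarTower R A B'] [Algebra B' B]

omit [CommRing R] [CommRing A] [Algebra R A] [Algebra A B'] [Algebra R B'] [IsScalarTower R A B'] in
theorem one_tmul_smul {N : Type u} [AddCommGroup N] [Module B' N] (b : B') (ω : N) :
    (1 : B) ⊗ₜ[B'] (b • ω) = algebraMap B' B b • ((1 : B) ⊗ₜ[B'] ω) := by
  rw [TensorProduct.tmul_smul, algebraMap_smul]

theorem one_tmul_one_tmul_smul (x : A) (ω : Ω[A⁄R]) :
    (1 : B) ⊗ₜ[B'] ((1 : B') ⊗ₜ[A] (x • ω)) =
      algebraMap B' B (algebraMap A B' x) • ((1 : B) ⊗ₜ[B'] ((1 : B') ⊗ₜ[A] ω)) := by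
  have h1 : (1 : B') ⊗ₜ[A] (x • ω) = algebraMap A B' x • ((1 : B') ⊗ₜ[A] ω) := by
    rw [TensorProduct.tmul_smul, algebraMap_smul]
  rw [h1, one_tmul_smul]

variable (R A B' B) in
theorem span_gen₂ : Submodule.span B (Set.range fun b : B' =>
    (1 : B) ⊗ₜ[B'] KaehlerDifferential.D R B' b) = ⊤ := by
  rw [eq_top_iff]
  rintro x -
  induction x using TensorProduct.induction_on with
  | zero => exact Submodule.zero_mem _
  | add x y hx hy => exact Submodule.add_mem _ hx hy
  | tmul b ω =>
    have hω : ω ∈ Submodule.span B' (Set.range (KaehlerDifferential.D R B')) := by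
      rw [KaehlerDifferential.span_range_derivation]; trivial
    induction hω using Submodule.span_induction generalizing b with
    | mem ω hω =>
      obtain ⟨s, rfl⟩ := hω
      have : b ⊗ₜ[B'] KaehlerDifferential.D R B' s =
          b • ((1 : B) ⊗ₜ[B'] KaehlerDifferential.D R B' s) := by
        rw [TensorProduct.smul_tmul', smul_eq_mul, mul_one]
      rw [this]
      exact Submodule.smul_mem _ _ (Submodule.subset_span ⟨s, rfl⟩)
    | zero => rw [TensorProduct.tmul_zero]; exact Submodule.zero_mem _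
    | add x y _ _ hx hy => rw [TensorProduct.tmul_add]; exact Submodule.add_mem _ (hx b) (hy b)
    | smul r x _ hx => rw [← TensorProduct.smul_tmul]; exact hx _

variable (R A B' B) in
theorem span_gen₁ : Submodule.span B (Set.range fun a : A =>
    (1 : B) ⊗ₜ[B'] ((1 : B') ⊗ₜ[A] KaehlerDifferential.D R A a)) = ⊤ := by
  rw [eq_top_iff]
  rintro x -
  induction x using TensorProduct.induction_on with
  | zero => exact Submodule.zero_mem _
  | add x y hx hy => exact Submodule.add_mem _ hx hy
  | tmul b n =>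
    induction n using TensorProduct.induction_on generalizing b with
    | zero => rw [TensorProduct.tmul_zero]; exact Submodule.zero_mem _
    | add x y hx hy => rw [TensorProduct.tmul_add]; exact Submodule.add_mem _ (hx b) (hy b)
    | tmul b' ω =>
      have hω : ω ∈ Submodule.span A (Set.range (KaehlerDifferential.D R A)) := by
        rw [KaehlerDifferential.span_range_derivation]; trivial
      induction hω using Submodule.span_induction generalizing b b' with
      | mem ω hω =>
        obtain ⟨s, rfl⟩ := hω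
        have : b ⊗ₜ[B'] (b' ⊗ₜ[A] KaehlerDifferential.D R A s) =
            (b * algebraMap B' B b') •
              ((1 : B) ⊗ₜ[B'] ((1 : B') ⊗ₜ[A] KaehlerDifferential.D R A s)) := by
          have h1 : b' ⊗ₜ[A] KaehlerDifferential.D R A s =
              b' • ((1 : B') ⊗ₜ[A] KaehlerDifferential.D R A s) := by
            rw [TensorProduct.smul_tmul', smul_eq_mul, mul_one]
          rw [h1, TensorProduct.tmul_smul, ← algebraMap_smul B b', TensorProduct.smul_tmul',
            TensorProduct.smul_tmul', smul_eq_mul, smul_eq_mul, mul_one, mul_comm]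
        rw [this]
        exact Submodule.smul_mem _ _ (Submodule.subset_span ⟨s, rfl⟩)
      | zero =>
        rw [TensorProduct.tmul_zero, TensorProduct.tmul_zero]; exact Submodule.zero_mem _
      | add x y _ _ hx hy =>
        rw [TensorProduct.tmul_add, TensorProduct.tmul_add]
        exact Submodule.add_mem _ (hx b' b) (hy b' b)
      | smul r x _ hx => rw [← TensorProduct.smul_tmul]; exact hx _ _

end Gens

section Main
variable {R A B' B : Type u} [CommRing R] [CommRing A] [CommRing B'] [CommRing B]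
  [Algebra R A] [Algebra A B'] [Algebra R B'] [IsScalarTower R A B'] [Algebra B' B]
  [Algebra R B] [IsScalarTower R B' B]
  (UPE : ∀ {C Cb : Type u} [CommRing C] [CommRing Cb] (τ : C →+* Cb), Function.Surjective τ →
    (∀ x y, τ x = 0 → τ y = 0 → x * y = 0) → ∀ (α : B →+* Cb) (β : A →+* C),
      τ.comp β = α.comp ((algebraMap B' B).comp (algebraMap A B')) →
      ∃ θ : B' →+* C, τ.comp θ = α.comp (algebraMap B' B) ∧ θ.comp (algebraMap A B') = β)
  (UPU : ∀ {C Cb : Type u} [CommRing C] [CommRing Cb] (τ : C →+* Cb), Function.Surjective τ →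
    (∀ x y, τ x = 0 → τ y = 0 → x * y = 0) → ∀ (α : B →+* Cb) (θ₁ θ₂ : B' →+* C),
      τ.comp θ₁ = α.comp (algebraMap B' B) → τ.comp θ₂ = α.comp (algebraMap B' B) →
      θ₁.comp (algebraMap A B') = θ₂.comp (algebraMap A B') → θ₁ = θ₂)

include UPE UPU in
theorem baseChange_mapBaseChange_bijective :
    Function.Bijective ((KaehlerDifferential.mapBaseChange R A B').baseChange B) := by
  let ρ : A →+* B' := algebraMap A B'
  let π : B' →+* B := algebraMap B' B
  let F : B ⊗[B'] (B' ⊗[A] Ω[A⁄R]) →ₗ[B] B ⊗[B'] Ω[B'⁄R] :=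
    (KaehlerDifferential.mapBaseChange R A B').baseChange B
  have hF : ∀ a : A, F ((1 : B) ⊗ₜ[B'] ((1 : B') ⊗ₜ[A] KaehlerDifferential.D R A a)) =
      (1 : B) ⊗ₜ[B'] KaehlerDifferential.D R B' (ρ a) := by
    intro a
    change (KaehlerDifferential.mapBaseChange R A B').baseChange B _ = _
    rw [LinearMap.baseChange_tmul, KaehlerDifferential.mapBaseChange_tmul, one_smul,
      KaehlerDifferential.map_D]
  -- the derivation `D₁ : A → M₁`
  let D₁ : A →+ B ⊗[B'] (B' ⊗[A] Ω[A⁄R]) :=
    { toFun := fun a => (1 : B) ⊗ₜ[B'] ((1 : B') ⊗ₜ[A] KaehlerDifferential.D R A a)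
      map_zero' := by rw [map_zero, TensorProduct.tmul_zero, TensorProduct.tmul_zero]
      map_add' := fun x y => by rw [map_add, TensorProduct.tmul_add, TensorProduct.tmul_add] }
  have hD₁ : ∀ x y, D₁ (x * y) = (π.comp ρ) x • D₁ y + (π.comp ρ) y • D₁ x := by
    intro x y
    change (1 : B) ⊗ₜ[B'] ((1 : B') ⊗ₜ[A] KaehlerDifferential.D R A (x * y)) = _
    rw [Derivation.leibniz, TensorProduct.tmul_add, TensorProduct.tmul_add,
      one_tmul_one_tmul_smul, one_tmul_one_tmul_smul]
    rfl
  obtain ⟨β₁, hβ₁f, hβ₁s⟩ := exists_tsze_lift (π.comp ρ) D₁ hD₁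
  obtain ⟨θ₁, hθ₁τ, hθ₁ρ⟩ := UPE (TrivSqZeroExt.fstHom B B _).toRingHom tsze_fst_surjective
    tsze_sqzero (RingHom.id B) β₁ (by
      ext a
      exact hβ₁f a)
  have hθ₁f : ∀ b : B', (θ₁ b).fst = π b := fun b => RingHom.congr_fun hθ₁τ b
  have hθ₁ρ' : ∀ a : A, (θ₁ (ρ a)).snd =
      (1 : B) ⊗ₜ[B'] ((1 : B') ⊗ₜ[A] KaehlerDifferential.D R A a) := by
    intro a
    have h1 : θ₁ (ρ a) = β₁ a := RingHom.congr_fun hθ₁ρ a
    rw [h1, hβ₁s]
    rfl
  -- the derivation `D' : B' → M₁`
  have hleib : ∀ x y : B', (θ₁ (x * y)).snd = x • (θ₁ y).snd + y • (θ₁ x).snd := by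
    intro x y
    rw [tsze_snd_mul, hθ₁f, hθ₁f, algebraMap_smul, algebraMap_smul]
  have hR : ∀ r : R, (θ₁ (algebraMap R B' r)).snd = 0 := by
    intro r
    rw [IsScalarTower.algebraMap_apply R A B', hθ₁ρ', Derivation.map_algebraMap,
      TensorProduct.tmul_zero, TensorProduct.tmul_zero]
  let D'ₗ : B' →ₗ[R] B ⊗[B'] (B' ⊗[A] Ω[A⁄R]) :=
    { toFun := fun b => (θ₁ b).snd
      map_add' := fun x y => by rw [map_add, TrivSqZeroExt.snd_add]
      map_smul' := fun r b => by
        rw [Algebra.smul_def, hleib, hR, smul_zero, add_zero, RingHom.id_apply, algebraMap_smul] }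
  let Dd : Derivation R B' (B ⊗[B'] (B' ⊗[A] Ω[A⁄R])) := Derivation.mk' D'ₗ hleib
  let G : B ⊗[B'] Ω[B'⁄R] →ₗ[B] B ⊗[B'] (B' ⊗[A] Ω[A⁄R]) :=
    Dd.liftKaehlerDifferential.liftBaseChange B
  have hG : ∀ b : B', G ((1 : B) ⊗ₜ[B'] KaehlerDifferential.D R B' b) = (θ₁ b).snd := by
    intro b
    change Dd.liftKaehlerDifferential.liftBaseChange B _ = _
    rw [LinearMap.liftBaseChange_tmul, one_smul, Derivation.liftKaehlerDifferential_comp_D]
    rfl
  -- `G ∘ F = id`
  have hGF : G ∘ₗ F = LinearMap.id := by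
    refine LinearMap.ext_on (span_gen₁ R A B' B) ?_
    rintro _ ⟨a, rfl⟩
    rw [LinearMap.comp_apply, LinearMap.id_apply]
    beta_reduce
    rw [hF, hG, hθ₁ρ']
  -- `F ∘ G = id`
  let D₂ : B' →+ B ⊗[B'] Ω[B'⁄R] :=
    { toFun := fun b => (1 : B) ⊗ₜ[B'] KaehlerDifferential.D R B' b
      map_zero' := by rw [map_zero, TensorProduct.tmul_zero]
      map_add' := fun x y => by rw [map_add, TensorProduct.tmul_add] }
  have hD₂ : ∀ x y, D₂ (x * y) = π x • D₂ y + π y • D₂ x := by
    intro x y
    change (1 : B) ⊗ₜ[B'] KaehlerDifferential.D R B' (x * y) = _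
    rw [Derivation.leibniz, TensorProduct.tmul_add, one_tmul_smul, one_tmul_smul]
    rfl
  obtain ⟨θ₂, hθ₂f, hθ₂s⟩ := exists_tsze_lift π D₂ hD₂
  have hθeq : θ₂ = (TrivSqZeroExt.map F).toRingHom.comp θ₁ := by
    refine UPU (TrivSqZeroExt.fstHom B B _).toRingHom tsze_fst_surjective tsze_sqzero
      (RingHom.id B) _ _ ?_ ?_ ?_
    · ext b
      exact hθ₂f b
    · ext b
      change (TrivSqZeroExt.map F (θ₁ b)).fst = π b
      rw [TrivSqZeroExt.fst_map, hθ₁f]
    · ext a
      · change (θ₂ (ρ a)).fst = (TrivSqZeroExt.map F (θ₁ (ρ a))).fst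
        rw [TrivSqZeroExt.fst_map, hθ₁f, hθ₂f]
      · change (θ₂ (ρ a)).snd = (TrivSqZeroExt.map F (θ₁ (ρ a))).snd
        rw [TrivSqZeroExt.snd_map, hθ₁ρ', hF, hθ₂s]
        rfl
  have hFG : F ∘ₗ G = LinearMap.id := by
    refine LinearMap.ext_on (span_gen₂ R B' B) ?_
    rintro _ ⟨b, rfl⟩
    rw [LinearMap.comp_apply, LinearMap.id_apply]
    beta_reduce
    rw [hG]
    have h1 : (θ₂ b).snd = (TrivSqZeroExt.map F (θ₁ b)).snd := by rw [hθeq]; rfl
    rw [TrivSqZeroExt.snd_map, hθ₂s] at h1
    exact h1.symm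
  exact ⟨fun x y hxy => by
      have := congrArg G hxy
      rwa [← LinearMap.comp_apply, ← LinearMap.comp_apply, hGF] at this,
    fun y => ⟨G y, LinearMap.congr_fun hFG y⟩⟩

end Main

end Groth.Agent.H87.ThickOmegaAlg
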