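import Mathlib
import Groth.Agent.H87.ThickOmegaAlg
import Groth.Agent.H87.LiftPatch

/-!
# Local finite presentation of `B ⊗[A] Ω[A⁄R]` for a universal thickening chart (helper87)
-/

set_option autoImplicit false
universe u
open TensorProduct Function

namespace Groth.Agent.H87.LiftFP

open Groth.Agent.H87.ThickOmegaAlg Groth.Agent.H87.LiftPatch

section Chart
variable {R C A B : Type u} [CommRing R] [CommRing C] [CommRing A] [CommRing B]
  [Algebra R C] [Algebra C A] [Algebra R A] [IsScalarTower R C A] [Algebra A B]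
  [Algebra R B] [IsScalarTower R A B]
  (UPE : ∀ {D Db : Type u} [CommRing D] [CommRing Db] (τ : D →+* Db), Function.Surjective τ →
    (∀ x y, τ x = 0 → τ y = 0 → x * y = 0) → ∀ (α : B →+* Db) (β : C →+* D),
      τ.comp β = α.comp ((algebraMap A B).comp (algebraMap C A)) →
      ∃ θ : A →+* D, τ.comp θ = α.comp (algebraMap A B) ∧ θ.comp (algebraMap C A) = β)
  (UPU : ∀ {D Db : Type u} [CommRing D] [CommRing Db] (τ : D →+* Db), Function.Surjective τ →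
    (∀ x y, τ x = 0 → τ y = 0 → x * y = 0) → ∀ (α : B →+* Db) (θ₁ θ₂ : A →+* D),
      τ.comp θ₁ = α.comp (algebraMap A B) → τ.comp θ₂ = α.comp (algebraMap A B) →
      θ₁.comp (algebraMap C A) = θ₂.comp (algebraMap C A) → θ₁ = θ₂)

include UPE UPU in
/-- For a chart `C → A → B` of a universal thickening over a finitely presented `R`-algebra `C`,
`B ⊗[A] Ω[A⁄R]` is a finitely presented `B`-module. -/
theorem finitePresentation_chart [Algebra.FinitePresentation R C] :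
    Module.FinitePresentation B (B ⊗[A] Ω[A⁄R]) := by
  have hbij := baseChange_mapBaseChange_bijective (R := R) (A := C) (B' := A) (B := B) UPE UPU
  exact Module.FinitePresentation.of_equiv (LinearEquiv.ofBijective _ hbij)

end Chart

section Loc
variable {R A B Rg Ag Bg : Type u} [CommRing R] [CommRing A] [CommRing B]
  [CommRing Rg] [CommRing Ag] [CommRing Bg]
  [Algebra R A] [Algebra A B] [Algebra R B] [IsScalarTower R A B]
  [Algebra R Rg] [Algebra A Ag] [Algebra B Bg]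
  [Algebra Rg Ag] [Algebra Ag Bg]
  [Algebra R Ag] [IsScalarTower R A Ag] [IsScalarTower R Rg Ag]
  [Algebra A Bg] [IsScalarTower A B Bg] [IsScalarTower A Ag Bg]

/-- `B_g ⊗[B] (B ⊗[A] Ω[A⁄R]) ≃ B_g ⊗[A_g] Ω[A_g⁄R_g]`. -/
theorem finitePresentation_away (g : R) [IsLocalization.Away g Rg]
    [IsLocalization.Away (algebraMap R A g) Ag] [IsLocalization.Away (algebraMap R B g) Bg]
    [Module.FinitePresentation Bg (Bg ⊗[Ag] Ω[Ag⁄Rg])] :
    Module.FinitePresentation (Localization.Away (algebraMap R B g))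
      (LocalizedModule.Away (algebraMap R B g) (B ⊗[A] Ω[A⁄R])) := by
  haveI hloc : IsLocalization (Algebra.algebraMapSubmonoid A (Submonoid.powers g)) Ag := by
    rw [Algebra.algebraMapSubmonoid, Submonoid.map_powers]
    infer_instance
  haveI hpo : Algebra.IsPushout R Rg A Ag :=
    (Algebra.isPushout_of_isLocalization (Submonoid.powers g) Rg A Ag).symm
  let e1 : Bg ⊗[B] (B ⊗[A] Ω[A⁄R]) ≃ₗ[Bg] Bg ⊗[A] Ω[A⁄R] :=
    AlgebraTensorModule.cancelBaseChange A B Bg Bg Ω[A⁄R]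
  let e2 : Bg ⊗[Ag] (Ag ⊗[A] Ω[A⁄R]) ≃ₗ[Bg] Bg ⊗[A] Ω[A⁄R] :=
    AlgebraTensorModule.cancelBaseChange A Ag Bg Bg Ω[A⁄R]
  let e3 : Bg ⊗[Ag] (Ag ⊗[A] Ω[A⁄R]) ≃ₗ[Bg] Bg ⊗[Ag] Ω[Ag⁄Rg] :=
    AlgebraTensorModule.congr (LinearEquiv.refl Bg Bg)
      (KaehlerDifferential.tensorKaehlerEquiv R Rg A Ag)
  let E : Bg ⊗[Ag] Ω[Ag⁄Rg] ≃ₗ[Bg] Bg ⊗[B] (B ⊗[A] Ω[A⁄R]) := e3.symm ≪≫ₗ e2 ≪≫ₗ e1.symm
  haveI : Module.FinitePresentation Bg (Bg ⊗[B] (B ⊗[A] Ω[A⁄R])) :=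
    Module.FinitePresentation.of_equiv E
  have hbc : IsBaseChange Bg (TensorProduct.mk B Bg (B ⊗[A] Ω[A⁄R]) 1) :=
    TensorProduct.isBaseChange B (B ⊗[A] Ω[A⁄R]) Bg
  haveI : IsLocalizedModule (Submonoid.powers (algebraMap R B g))
      (TensorProduct.mk B Bg (B ⊗[A] Ω[A⁄R]) 1) :=
    (isLocalizedModule_iff_isBaseChange (Submonoid.powers (algebraMap R B g)) Bg _).mpr hbc
  exact finitePresentation_away_of_isLocalizedModule (algebraMap R B g) (A := Bg)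
    (TensorProduct.mk B Bg (B ⊗[A] Ω[A⁄R]) 1)

end Loc

section Loc'
variable {R A B Ag Bg : Type u} [CommRing R] [CommRing A] [CommRing B]
  [CommRing Ag] [CommRing Bg]
  [Algebra R A] [Algebra A B] [Algebra R B] [IsScalarTower R A B]
  [Algebra A Ag] [Algebra B Bg] [Algebra Ag Bg]
  [Algebra R Ag] [IsScalarTower R A Ag]
  [Algebra A Bg] [IsScalarTower A B Bg] [IsScalarTower A Ag Bg]

/-- Variant of `finitePresentation_away` with the base ring not localized. -/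
theorem finitePresentation_away' (g : R)
    [IsLocalization.Away (algebraMap R A g) Ag] [IsLocalization.Away (algebraMap R B g) Bg]
    [Module.FinitePresentation Bg (Bg ⊗[Ag] Ω[Ag⁄R])] :
    Module.FinitePresentation (Localization.Away (algebraMap R B g))
      (LocalizedModule.Away (algebraMap R B g) (B ⊗[A] Ω[A⁄R])) := by
  haveI : Algebra.FormallyEtale A Ag :=
    Algebra.FormallyEtale.of_isLocalization (Rₘ := Ag) (Submonoid.powers (algebraMap R A g))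
  let e1 : Bg ⊗[B] (B ⊗[A] Ω[A⁄R]) ≃ₗ[Bg] Bg ⊗[A] Ω[A⁄R] :=
    AlgebraTensorModule.cancelBaseChange A B Bg Bg Ω[A⁄R]
  let e2 : Bg ⊗[Ag] (Ag ⊗[A] Ω[A⁄R]) ≃ₗ[Bg] Bg ⊗[A] Ω[A⁄R] :=
    AlgebraTensorModule.cancelBaseChange A Ag Bg Bg Ω[A⁄R]
  let e3 : Bg ⊗[Ag] (Ag ⊗[A] Ω[A⁄R]) ≃ₗ[Bg] Bg ⊗[Ag] Ω[Ag⁄R] :=
    AlgebraTensorModule.congr (LinearEquiv.refl Bg Bg)
      (KaehlerDifferential.tensorKaehlerEquivOfFormallyEtale R A Ag)
  let E : Bg ⊗[Ag] Ω[Ag⁄R] ≃ₗ[Bg] Bg ⊗[B] (B ⊗[A] Ω[A⁄R]) := e3.symm ≪≫ₗ e2 ≪≫ₗ e1.symm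
  haveI : Module.FinitePresentation Bg (Bg ⊗[B] (B ⊗[A] Ω[A⁄R])) :=
    Module.FinitePresentation.of_equiv E
  have hbc : IsBaseChange Bg (TensorProduct.mk B Bg (B ⊗[A] Ω[A⁄R]) 1) :=
    TensorProduct.isBaseChange B (B ⊗[A] Ω[A⁄R]) Bg
  haveI : IsLocalizedModule (Submonoid.powers (algebraMap R B g))
      (TensorProduct.mk B Bg (B ⊗[A] Ω[A⁄R]) 1) :=
    (isLocalizedModule_iff_isBaseChange (Submonoid.powers (algebraMap R B g)) Bg _).mpr hbc
  exact finitePresentation_away_of_isLocalizedModule (algebraMap R B g) (A := Bg)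
    (TensorProduct.mk B Bg (B ⊗[A] Ω[A⁄R]) 1)

end Loc'

end Groth.Agent.H87.LiftFP
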