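import Mathlib
import Groth.Agent.H87.UnivThickA

/-!
# Local sections of a universal thickening over an affine base, ring level (helper87)
-/

set_option autoImplicit false
universe u
open CategoryTheory Limits AlgebraicGeometry OmegaSh

namespace Groth.Agent.H87.LiftGeomA

open Groth.Agent.H87.UnivThick

variable {P T T₀ T' : Scheme.{u}} {q : P ⟶ T} {σ₀ : T₀ ⟶ P} {i' : T₀ ⟶ T'} {h' : T' ⟶ P}

/-- A local section `β` of `q` over `D(g)`, compatible with `σ₀`, gives a ring map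
`Γ(T', ⊤) → Γ(T, D(g))` retracting `(h' ≫ q)^♯` and compatible with the projections. -/
theorem exists_local_ring_hom [IsAffine T] [IsAffine T'] [IsAffine T₀]
    (hu : IsUnivThickening σ₀ i' h')
    (hi : MoreMor.IsFirstOrderThickening (σ₀ ≫ q)) (g : Γ(T, ⊤))
    (β : Spec Γ(T, T.basicOpen g) ⟶ P)
    (hβ₁ : β ≫ q = ((isAffineOpen_top T).basicOpen g).fromSpec)
    (hβ₂ : Spec.map ((σ₀ ≫ q).app (T.basicOpen g)) ≫ β =
      (((isAffineOpen_top T).basicOpen g).preimage (σ₀ ≫ q)).fromSpec ≫ σ₀) :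
    ∃ θ : Γ(T', ⊤) ⟶ Γ(T, T.basicOpen g),
      (h' ≫ q).appTop ≫ θ = T.presheaf.map (homOfLE le_top).op ∧
      θ ≫ (σ₀ ≫ q).app (T.basicOpen g) =
        i'.appTop ≫ T₀.presheaf.map (homOfLE le_top).op := by
  haveI : IsClosedImmersion (σ₀ ≫ q) := hi.1.1
  haveI : IsClosedImmersion i' := hu.1.1.1
  have hD : IsAffineOpen (T.basicOpen g) := (isAffineOpen_top T).basicOpen g
  have hD₀ : IsAffineOpen ((σ₀ ≫ q) ⁻¹ᵁ T.basicOpen g) := hD.preimage (σ₀ ≫ q)
  have hT : IsAffineOpen (⊤ : T.Opens) := isAffineOpen_top T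
  have hT' : IsAffineOpen (⊤ : T'.Opens) := isAffineOpen_top T'
  have hT₀ : IsAffineOpen (⊤ : T₀.Opens) := isAffineOpen_top T₀
  -- the thickening `Spec B_g → Spec R_g`
  have hj : MoreMor.IsFirstOrderThickening (Spec.map ((σ₀ ≫ q).app (T.basicOpen g))) := by
    refine Groth.Agent.H49.isFirstOrderThickening_specMap_of_surjective _
      ((σ₀ ≫ q).app_surjective _ hD) ?_
    intro x y hx hy
    exact Groth.Agent.H49.IsFirstOrderThickening.mul_eq_zero hi ⟨_, hD⟩ x y hx hy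
  let a' := lift hu (Spec.map ((σ₀ ≫ q).app (T.basicOpen g))) β hD₀.fromSpec hj hβ₂
  have fl : Spec.map ((σ₀ ≫ q).app (T.basicOpen g)) ≫ a' = hD₀.fromSpec ≫ i' :=
    lift_fac_left hu _ _ _ hj hβ₂
  have fr : a' ≫ h' = β := lift_fac_right hu _ _ _ hj hβ₂
  have hrange : Set.range a' ⊆ Set.range hT'.fromSpec := by
    rw [hT'.range_fromSpec]
    exact fun _ _ => trivial
  obtain ⟨θ, hθ⟩ := Spec.map_surjective (IsOpenImmersion.lift hT'.fromSpec a' hrange)
  have hθ' : Spec.map θ ≫ hT'.fromSpec = a' := by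
    rw [hθ, IsOpenImmersion.lift_fac]
  refine ⟨θ, ?_, ?_⟩
  · apply Spec.map_injective
    rw [← cancel_mono hT.fromSpec, Spec.map_comp, Category.assoc]
    have h1 : Spec.map (h' ≫ q).appTop ≫ hT.fromSpec = hT'.fromSpec ≫ (h' ≫ q) := by
      have := IsAffineOpen.SpecMap_appLE_fromSpec (h' ≫ q) hT hT' (le_top)
      rw [← this]
      congr 2
      simp [Scheme.Hom.appLE]
    rw [h1, ← Category.assoc, hθ', ← Category.assoc, fr, hβ₁]
    exact (IsAffineOpen.map_fromSpec hT hD (homOfLE le_top).op).symm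
  · apply Spec.map_injective
    rw [← cancel_mono hT'.fromSpec, Spec.map_comp, Category.assoc, hθ', fl, Spec.map_comp,
      Category.assoc]
    have h1 : Spec.map i'.appTop ≫ hT'.fromSpec = hT₀.fromSpec ≫ i' := by
      have := IsAffineOpen.SpecMap_appLE_fromSpec i' hT' hT₀ (le_top)
      rw [← this]
      congr 2
      simp [Scheme.Hom.appLE]
    rw [h1, ← Category.assoc]
    congr 1
    exact (IsAffineOpen.map_fromSpec hT₀ hD₀ (homOfLE le_top).op).symm

end Groth.Agent.H87.LiftGeomA
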