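import Mathlib
import Groth.Agent.H87.ChartUP
import Groth.Agent.H87.LiftFP

/-!
# Local finite presentation of `Γ(T₀) ⊗ Ω_{Γ(T')/Γ(T)}` for a universal thickening (helper87)
-/

set_option autoImplicit false
universe u
open CategoryTheory Limits AlgebraicGeometry OmegaSh TensorProduct TopologicalSpace

namespace Groth.Agent.H87.LiftGeomB

open Groth.Agent.H87.UnivThick Groth.Agent.H87.LiftFP

variable {P T T₀ T' : Scheme.{u}} {q : P ⟶ T} {σ₀ : T₀ ⟶ P} {i' : T₀ ⟶ T'} {h' : T' ⟶ P}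

set_option maxHeartbeats 1600000 in
theorem fp_local [IsAffine T] [IsAffine T'] [IsAffine T₀] [LocallyOfFinitePresentation q]
    (hu : IsUnivThickening σ₀ i' h') (hi : MoreMor.IsFirstOrderThickening (σ₀ ≫ q)) (x₀ : T₀) :
    letI : Algebra Γ(T, ⊤) Γ(T', ⊤) := (h' ≫ q).appTop.hom.toAlgebra
    letI : Algebra Γ(T', ⊤) Γ(T₀, ⊤) := i'.appTop.hom.toAlgebra
    letI : Algebra Γ(T, ⊤) Γ(T₀, ⊤) := (σ₀ ≫ q).appTop.hom.toAlgebra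
    ∃ g : Γ(T, ⊤), x₀ ∈ T₀.basicOpen ((σ₀ ≫ q).appTop.hom g) ∧
      Module.FinitePresentation (Localization.Away ((σ₀ ≫ q).appTop.hom g))
        (LocalizedModule.Away ((σ₀ ≫ q).appTop.hom g)
          (Γ(T₀, ⊤) ⊗[Γ(T', ⊤)] Ω[Γ(T', ⊤)⁄Γ(T, ⊤)])) := by
  haveI : IsClosedImmersion (σ₀ ≫ q) := hi.1.1
  haveI : IsClosedImmersion i' := hu.1.1.1
  have hT : IsAffineOpen (⊤ : T.Opens) := isAffineOpen_top T
  have hT' : IsAffineOpen (⊤ : T'.Opens) := isAffineOpen_top T'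
  have hT₀ : IsAffineOpen (⊤ : T₀.Opens) := isAffineOpen_top T₀
  have hσ : i' ≫ h' = σ₀ := hu.2.1
  -- an affine open of `P` around `σ₀ x₀`
  obtain ⟨U, hU, hxU, -⟩ := Opens.isBasis_iff_nbhd.mp P.isBasis_affineOpens
    (show σ₀ x₀ ∈ (⊤ : P.Opens) from trivial)
  -- a basic open of `T₀` around `x₀` inside `σ₀⁻¹ U`
  obtain ⟨gb, hgle, hxg⟩ := hT₀.exists_basicOpen_le (V := σ₀ ⁻¹ᵁ U) ⟨x₀, hxU⟩ trivial
  obtain ⟨g, rfl⟩ := (σ₀ ≫ q).app_surjective ⊤ hT gb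
  refine ⟨g, hxg, ?_⟩
  -- the chart of `T'`
  have hW' : IsAffineOpen (T'.basicOpen ((h' ≫ q).appTop.hom g)) := hT'.basicOpen _
  have hpre : i' ⁻¹ᵁ T'.basicOpen ((h' ≫ q).appTop.hom g) =
      T₀.basicOpen ((σ₀ ≫ q).appTop.hom g) := by
    rw [Scheme.preimage_basicOpen]
    congr 1
    have : (σ₀ ≫ q).appTop = (h' ≫ q).appTop ≫ i'.appTop := by
      rw [← Scheme.Hom.comp_appTop, ← Category.assoc, hσ]
    rw [this]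
    rfl
  have le : T'.basicOpen ((h' ≫ q).appTop.hom g) ≤ h' ⁻¹ᵁ U := by
    intro x' hx'
    obtain ⟨z, rfl⟩ := hu.1.1.2.surj x'
    have hz : z ∈ i' ⁻¹ᵁ T'.basicOpen ((h' ≫ q).appTop.hom g) := hx'
    rw [hpre] at hz
    have h1 : σ₀ z ∈ U := hgle hz
    change h' (i' z) ∈ U
    rw [← Scheme.Hom.comp_apply, hσ]
    exact h1
  have hcomp : (σ₀ ≫ q).appTop = (h' ≫ q).appTop ≫ i'.appTop := by
    rw [← Scheme.Hom.comp_appTop, ← Category.assoc, hσ]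
  -- instances
  letI algRA : Algebra Γ(T, ⊤) Γ(T', ⊤) := (h' ≫ q).appTop.hom.toAlgebra
  letI algAB : Algebra Γ(T', ⊤) Γ(T₀, ⊤) := i'.appTop.hom.toAlgebra
  letI algRB : Algebra Γ(T, ⊤) Γ(T₀, ⊤) := (σ₀ ≫ q).appTop.hom.toAlgebra
  haveI tow : IsScalarTower Γ(T, ⊤) Γ(T', ⊤) Γ(T₀, ⊤) :=
    IsScalarTower.of_algebraMap_eq (fun x => congr($(hcomp) x))
  obtain ⟨W', hW'def⟩ : ∃ W' : T'.Opens, W' = T'.basicOpen ((h' ≫ q).appTop.hom g) := ⟨_, rfl⟩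
  rw [← hW'def] at hW' hpre le
  letI algAAg : Algebra Γ(T', ⊤) Γ(T', W') := (T'.presheaf.map (homOfLE le_top).op).hom.toAlgebra
  haveI locA : IsLocalization.Away (algebraMap Γ(T, ⊤) Γ(T', ⊤) g) Γ(T', W') :=
    hT'.isLocalization_of_eq_basicOpen _ (homOfLE le_top) hW'def
  letI algBBg : Algebra Γ(T₀, ⊤) Γ(T₀, i' ⁻¹ᵁ W') :=
    (T₀.presheaf.map (homOfLE le_top).op).hom.toAlgebra
  haveI locB : IsLocalization.Away (algebraMap Γ(T, ⊤) Γ(T₀, ⊤) g) Γ(T₀, i' ⁻¹ᵁ W') :=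
    hT₀.isLocalization_of_eq_basicOpen _ (homOfLE le_top) hpre
  letI algAgBg : Algebra Γ(T', W') Γ(T₀, i' ⁻¹ᵁ W') :=
    (i'.appLE W' (i' ⁻¹ᵁ W') le_rfl).hom.toAlgebra
  letI algRAg : Algebra Γ(T, ⊤) Γ(T', W') :=
    ((algebraMap Γ(T', ⊤) Γ(T', W')).comp (algebraMap Γ(T, ⊤) Γ(T', ⊤))).toAlgebra
  haveI tow2 : IsScalarTower Γ(T, ⊤) Γ(T', ⊤) Γ(T', W') :=
    IsScalarTower.of_algebraMap_eq (fun _ => rfl)
  letI algABg : Algebra Γ(T', ⊤) Γ(T₀, i' ⁻¹ᵁ W') :=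
    ((algebraMap Γ(T₀, ⊤) Γ(T₀, i' ⁻¹ᵁ W')).comp (algebraMap Γ(T', ⊤) Γ(T₀, ⊤))).toAlgebra
  haveI tow3 : IsScalarTower Γ(T', ⊤) Γ(T₀, ⊤) Γ(T₀, i' ⁻¹ᵁ W') :=
    IsScalarTower.of_algebraMap_eq (fun _ => rfl)
  haveI tow4 : IsScalarTower Γ(T', ⊤) Γ(T', W') Γ(T₀, i' ⁻¹ᵁ W') := by
    refine IsScalarTower.of_algebraMap_eq (fun x => ?_)
    have h1 : i'.appTop ≫ T₀.presheaf.map (homOfLE (le_top : i' ⁻¹ᵁ W' ≤ ⊤)).op =
        T'.presheaf.map (homOfLE (le_top : W' ≤ ⊤)).op ≫ i'.appLE W' (i' ⁻¹ᵁ W') le_rfl := by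
      rw [Scheme.Hom.map_appLE]
      rfl
    exact congr($(h1) x)
  letI algRC : Algebra Γ(T, ⊤) Γ(P, U) := (q.appLE ⊤ U le_top).hom.toAlgebra
  letI algCAg : Algebra Γ(P, U) Γ(T', W') := (h'.appLE U W' le).hom.toAlgebra
  haveI tow5 : IsScalarTower Γ(T, ⊤) Γ(P, U) Γ(T', W') := by
    refine IsScalarTower.of_algebraMap_eq (fun x => ?_)
    have h1 : (h' ≫ q).appTop ≫ T'.presheaf.map (homOfLE (le_top : W' ≤ ⊤)).op =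
        q.appLE ⊤ U le_top ≫ h'.appLE U W' le := by
      rw [Scheme.Hom.appLE_comp_appLE]
      rfl
    exact congr($(h1) x)
  letI algRBg : Algebra Γ(T, ⊤) Γ(T₀, i' ⁻¹ᵁ W') :=
    ((algebraMap Γ(T', W') Γ(T₀, i' ⁻¹ᵁ W')).comp (algebraMap Γ(T, ⊤) Γ(T', W'))).toAlgebra
  haveI tow6 : IsScalarTower Γ(T, ⊤) Γ(T', W') Γ(T₀, i' ⁻¹ᵁ W') :=
    IsScalarTower.of_algebraMap_eq (fun _ => rfl)
  haveI fpC : Algebra.FinitePresentation Γ(T, ⊤) Γ(P, U) :=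
    HasRingHomProperty.appLE (P := @LocallyOfFinitePresentation) q inferInstance ⟨⊤, hT⟩ ⟨U, hU⟩
      le_top
  haveI fpQ : Module.FinitePresentation Γ(T₀, i' ⁻¹ᵁ W')
      (Γ(T₀, i' ⁻¹ᵁ W') ⊗[Γ(T', W')] Ω[Γ(T', W')⁄Γ(T, ⊤)]) := by
    refine finitePresentation_chart (R := Γ(T, ⊤)) (C := Γ(P, U)) (A := Γ(T', W'))
      (B := Γ(T₀, i' ⁻¹ᵁ W')) ?_ ?_
    · intro D Db _ _ τ hτ hsq α β comm
      refine Groth.Agent.H87.ChartUP.exists_chart_lift' hu hU hW' le τ hτ hsq α β ?_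
      rw [comm]
      congr 1
      exact congrArg CommRingCat.Hom.hom (Scheme.Hom.appLE_comp_appLE i' h' U W'
        (i' ⁻¹ᵁ W') le le_rfl)
    · intro D Db _ _ τ hτ hsq α θ₁ θ₂ h1 h1' h2
      exact Groth.Agent.H87.ChartUP.chart_lift_unique' hu hU hW' le τ hτ hsq α θ₁ θ₂ h1 h1' h2
  exact finitePresentation_away' (R := Γ(T, ⊤)) (A := Γ(T', ⊤)) (B := Γ(T₀, ⊤))
    (Ag := Γ(T', W')) (Bg := Γ(T₀, i' ⁻¹ᵁ W')) g

end Groth.Agent.H87.LiftGeomB
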