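import Mathlib
import Groth.Agent.H44.ConormalAlg6

/-!
# Local retraction data from a local ring retraction (helper87)

For `R → A → B` and a ring map `r : A → R_g` compatible with `R → R_g` and the projections to
`B_g`, the square-conormal map `sqMap` gives a `B`-linear map
`B ⊗[A] ker(A → B) → B_g ⊗[R_g] ker(R_g → B_g)` restricting, along `conormalMap R A B`, to the
localization map of `B ⊗[R] ker(R → B)`.
-/

set_option autoImplicit false
universe u
open TensorProduct Function

namespace Groth.Agent.H87.LiftLocal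

open Groth.Agent.H44

section Ker
variable {R B Rg Bg : Type u} [CommRing R] [CommRing B] [CommRing Rg] [CommRing Bg]
  [Algebra R B] [Algebra R Rg] [Algebra B Bg] [Algebra Rg Bg] [Algebra R Bg]
  [IsScalarTower R Rg Bg] [IsScalarTower R B Bg]

theorem ker_algebraMap_away (g : R) [IsLocalization.Away g Rg]
    [IsLocalization.Away (algebraMap R B g) Bg] :
    RingHom.ker (algebraMap Rg Bg) = (RingHom.ker (algebraMap R B)).map (algebraMap R Rg) := by
  have hT : Submonoid.map (algebraMap R B) (Submonoid.powers g) =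
      Submonoid.powers (algebraMap R B g) := Submonoid.map_powers _ _
  have heq : algebraMap Rg Bg =
      IsLocalization.map Bg (algebraMap R B) (hT.symm ▸ (Submonoid.powers g).le_comap_map) := by
    refine IsLocalization.ringHom_ext (Submonoid.powers g) ?_
    ext x
    rw [RingHom.comp_apply, RingHom.comp_apply, IsLocalization.map_eq,
      ← IsScalarTower.algebraMap_apply, ← IsScalarTower.algebraMap_apply]
  rw [heq]
  exact IsLocalization.ker_map Bg (algebraMap R B) hT

end Ker

section Main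
variable {R A B Rg Bg : Type u} [CommRing R] [CommRing A] [CommRing B] [CommRing Rg] [CommRing Bg]
  [Algebra R A] [Algebra A B] [Algebra R B] [IsScalarTower R A B]
  [Algebra R Rg] [Algebra B Bg] [Algebra Rg Bg] [Algebra R Bg]
  [IsScalarTower R Rg Bg] [IsScalarTower R B Bg] [Algebra A Bg] [IsScalarTower A B Bg]

theorem exists_local_retraction (hRB : Surjective (algebraMap R B)) (g : R)
    [IsLocalization.Away g Rg] [IsLocalization.Away (algebraMap R B g) Bg]
    (r : A →+* Rg) (hr1 : r.comp (algebraMap R A) = algebraMap R Rg)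
    (hr2 : (algebraMap Rg Bg).comp r = algebraMap A Bg) :
    ∃ (L : Type u) (_ : AddCommGroup L) (_ : Module B L)
      (loc : B ⊗[R] RingHom.ker (algebraMap R B) →ₗ[B] L)
      (_ : IsLocalizedModule (Submonoid.powers (algebraMap R B g)) loc)
      (ρ : B ⊗[A] RingHom.ker (algebraMap A B) →ₗ[B] L), ρ ∘ₗ conormalMap R A B = loc := by
  letI algARg : Algebra A Rg := r.toAlgebra
  haveI towA : IsScalarTower A Rg Bg :=
    IsScalarTower.of_algebraMap_eq (fun x => (RingHom.congr_fun hr2 x).symm)
  have hker := ker_algebraMap_away (R := R) (B := B) (Rg := Rg) (Bg := Bg) g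
  haveI : Module.Flat R Rg := IsLocalization.flat Rg (Submonoid.powers g)
  let E : Bg ⊗[B] (B ⊗[R] RingHom.ker (algebraMap R B)) ≃ₗ[Bg]
      Bg ⊗[Rg] RingHom.ker (algebraMap Rg Bg) :=
    LinearEquiv.ofBijective (sqMap R Rg B Bg)
      ⟨sqMap_injective R Rg B Bg hker, sqMap_surjective R Rg B Bg hker⟩
  let loc : B ⊗[R] RingHom.ker (algebraMap R B) →ₗ[B] Bg ⊗[Rg] RingHom.ker (algebraMap Rg Bg) :=
    ((sqMap R Rg B Bg).restrictScalars B) ∘ₗ
      (TensorProduct.mk B Bg (B ⊗[R] RingHom.ker (algebraMap R B)) 1)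
  have hloc : IsBaseChange Bg loc := IsBaseChange.of_equiv E (fun x => rfl)
  have hlocm : IsLocalizedModule (Submonoid.powers (algebraMap R B g)) loc :=
    (isLocalizedModule_iff_isBaseChange (Submonoid.powers (algebraMap R B g)) Bg loc).mpr hloc
  let ρ : B ⊗[A] RingHom.ker (algebraMap A B) →ₗ[B] Bg ⊗[Rg] RingHom.ker (algebraMap Rg Bg) :=
    ((sqMap A Rg B Bg).restrictScalars B) ∘ₗ
      (TensorProduct.mk B Bg (B ⊗[A] RingHom.ker (algebraMap A B)) 1)
  refine ⟨_, inferInstance, inferInstance, loc, hlocm, ρ, ?_⟩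
  refine LinearMap.ext fun t => ?_
  obtain ⟨x, rfl⟩ := exists_one_tmul_eq hRB t
  change sqMap A Rg B Bg ((1 : Bg) ⊗ₜ[B] conormalMap R A B ((1 : B) ⊗ₜ[R] x)) =
    sqMap R Rg B Bg ((1 : Bg) ⊗ₜ[B] ((1 : B) ⊗ₜ[R] x))
  rw [conormalMap_tmul, sqMap_one_tmul, sqMap_one_tmul]
  congr 1
  apply Subtype.ext
  change r (algebraMap R A (x : R)) = algebraMap R Rg (x : R)
  exact RingHom.congr_fun hr1 _

end Main

end Groth.Agent.H87.LiftLocal
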