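import Mathlib
import Groth.Agent.H87.LiftGeomA
import Groth.Agent.H87.LiftLocal

/-!
# Local conormal retractions from local sections of a universal thickening (helper87)
-/

set_option autoImplicit false
universe u
open CategoryTheory Limits AlgebraicGeometry OmegaSh TensorProduct TopologicalSpace

namespace Groth.Agent.H87.LiftGeomC

open Groth.Agent.H87.UnivThick Groth.Agent.H87.LiftGeomA Groth.Agent.H87.LiftLocal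
  Groth.Agent.H44

variable {P T T₀ T' : Scheme.{u}} {q : P ⟶ T} {σ₀ : T₀ ⟶ P} {i' : T₀ ⟶ T'} {h' : T' ⟶ P}

set_option maxHeartbeats 1600000 in
theorem loc_of_section [IsAffine T] [IsAffine T'] [IsAffine T₀]
    [Algebra Γ(T, ⊤) Γ(T', ⊤)] [Algebra Γ(T', ⊤) Γ(T₀, ⊤)] [Algebra Γ(T, ⊤) Γ(T₀, ⊤)]
    [IsScalarTower Γ(T, ⊤) Γ(T', ⊤) Γ(T₀, ⊤)]
    (hRA : algebraMap Γ(T, ⊤) Γ(T', ⊤) = (h' ≫ q).appTop.hom)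
    (hAB : algebraMap Γ(T', ⊤) Γ(T₀, ⊤) = i'.appTop.hom)
    (hRB : algebraMap Γ(T, ⊤) Γ(T₀, ⊤) = (σ₀ ≫ q).appTop.hom)
    (hu : IsUnivThickening σ₀ i' h')
    (hi : MoreMor.IsFirstOrderThickening (σ₀ ≫ q)) (g : Γ(T, ⊤))
    (β : Spec Γ(T, T.basicOpen g) ⟶ P)
    (hβ₁ : β ≫ q = ((isAffineOpen_top T).basicOpen g).fromSpec)
    (hβ₂ : Spec.map ((σ₀ ≫ q).app (T.basicOpen g)) ≫ β =
      (((isAffineOpen_top T).basicOpen g).preimage (σ₀ ≫ q)).fromSpec ≫ σ₀) :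
    ∃ (L : Type u) (_ : AddCommGroup L) (_ : Module Γ(T₀, ⊤) L)
      (loc : Γ(T₀, ⊤) ⊗[Γ(T, ⊤)] RingHom.ker (algebraMap Γ(T, ⊤) Γ(T₀, ⊤)) →ₗ[Γ(T₀, ⊤)] L)
      (_ : IsLocalizedModule (Submonoid.powers (algebraMap Γ(T, ⊤) Γ(T₀, ⊤) g)) loc)
      (ρ : Γ(T₀, ⊤) ⊗[Γ(T', ⊤)] RingHom.ker (algebraMap Γ(T', ⊤) Γ(T₀, ⊤)) →ₗ[Γ(T₀, ⊤)] L),
      ρ ∘ₗ conormalMap Γ(T, ⊤) Γ(T', ⊤) Γ(T₀, ⊤) = loc := by
  haveI : IsClosedImmersion (σ₀ ≫ q) := hi.1.1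
  have hT : IsAffineOpen (⊤ : T.Opens) := isAffineOpen_top T
  have hT₀ : IsAffineOpen (⊤ : T₀.Opens) := isAffineOpen_top T₀
  obtain ⟨θ, hθ1, hθ2⟩ := exists_local_ring_hom hu hi g β hβ₁ hβ₂
  have hsurj : Function.Surjective (algebraMap Γ(T, ⊤) Γ(T₀, ⊤)) := by
    rw [hRB]
    exact (σ₀ ≫ q).app_surjective ⊤ hT
  have hpre : (σ₀ ≫ q) ⁻¹ᵁ T.basicOpen g = T₀.basicOpen (algebraMap Γ(T, ⊤) Γ(T₀, ⊤) g) := by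
    rw [Scheme.preimage_basicOpen, hRB]
    rfl
  haveI locR : IsLocalization.Away g Γ(T, T.basicOpen g) := hT.isLocalization_basicOpen g
  letI algBBg : Algebra Γ(T₀, ⊤) Γ(T₀, (σ₀ ≫ q) ⁻¹ᵁ T.basicOpen g) :=
    (T₀.presheaf.map (homOfLE le_top).op).hom.toAlgebra
  haveI locB : IsLocalization.Away (algebraMap Γ(T, ⊤) Γ(T₀, ⊤) g)
      Γ(T₀, (σ₀ ≫ q) ⁻¹ᵁ T.basicOpen g) :=
    hT₀.isLocalization_of_eq_basicOpen _ (homOfLE le_top) hpre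
  letI algRgBg : Algebra Γ(T, T.basicOpen g) Γ(T₀, (σ₀ ≫ q) ⁻¹ᵁ T.basicOpen g) :=
    ((σ₀ ≫ q).app (T.basicOpen g)).hom.toAlgebra
  letI algRBg : Algebra Γ(T, ⊤) Γ(T₀, (σ₀ ≫ q) ⁻¹ᵁ T.basicOpen g) :=
    ((algebraMap Γ(T, T.basicOpen g) Γ(T₀, (σ₀ ≫ q) ⁻¹ᵁ T.basicOpen g)).comp
      (algebraMap Γ(T, ⊤) Γ(T, T.basicOpen g))).toAlgebra
  haveI tow1 : IsScalarTower Γ(T, ⊤) Γ(T, T.basicOpen g) Γ(T₀, (σ₀ ≫ q) ⁻¹ᵁ T.basicOpen g) :=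
    IsScalarTower.of_algebraMap_eq (fun _ => rfl)
  haveI tow2 : IsScalarTower Γ(T, ⊤) Γ(T₀, ⊤) Γ(T₀, (σ₀ ≫ q) ⁻¹ᵁ T.basicOpen g) := by
    refine IsScalarTower.of_algebraMap_eq (fun x => ?_)
    have h1 : T.presheaf.map (homOfLE (le_top : T.basicOpen g ≤ ⊤)).op ≫
        (σ₀ ≫ q).app (T.basicOpen g) =
        (σ₀ ≫ q).appTop ≫ T₀.presheaf.map
          (homOfLE (le_top : (σ₀ ≫ q) ⁻¹ᵁ T.basicOpen g ≤ ⊤)).op :=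
      Scheme.Hom.naturality _ _
    have h2 := congr($(h1) x)
    change (σ₀ ≫ q).app (T.basicOpen g) (algebraMap Γ(T, ⊤) Γ(T, T.basicOpen g) x) =
      T₀.presheaf.map (homOfLE le_top).op (algebraMap Γ(T, ⊤) Γ(T₀, ⊤) x)
    rw [hRB]
    exact h2
  letI algABg : Algebra Γ(T', ⊤) Γ(T₀, (σ₀ ≫ q) ⁻¹ᵁ T.basicOpen g) :=
    ((algebraMap Γ(T₀, ⊤) Γ(T₀, (σ₀ ≫ q) ⁻¹ᵁ T.basicOpen g)).comp
      (algebraMap Γ(T', ⊤) Γ(T₀, ⊤))).toAlgebra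
  haveI tow3 : IsScalarTower Γ(T', ⊤) Γ(T₀, ⊤) Γ(T₀, (σ₀ ≫ q) ⁻¹ᵁ T.basicOpen g) :=
    IsScalarTower.of_algebraMap_eq (fun _ => rfl)
  refine exists_local_retraction (R := Γ(T, ⊤)) (A := Γ(T', ⊤)) (B := Γ(T₀, ⊤))
    (Rg := Γ(T, T.basicOpen g)) (Bg := Γ(T₀, (σ₀ ≫ q) ⁻¹ᵁ T.basicOpen g)) hsurj g θ.hom ?_ ?_
  · ext x
    have h2 := congr($(hθ1) x)
    change θ.hom (algebraMap Γ(T, ⊤) Γ(T', ⊤) x) = _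
    rw [hRA]
    exact h2
  · ext x
    have h2 := congr($(hθ2) x)
    change (σ₀ ≫ q).app (T.basicOpen g) (θ.hom x) =
      T₀.presheaf.map (homOfLE le_top).op (algebraMap Γ(T', ⊤) Γ(T₀, ⊤) x)
    rw [hAB]
    exact h2

end Groth.Agent.H87.LiftGeomC
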