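import Groth.Agent.H87.UnivThickE

/-!
# Universal first order thickenings: gluing the local thickenings
-/

set_option autoImplicit false
universe u

namespace Groth.Agent.H87.UnivThick

open AlgebraicGeometry CategoryTheory Limits OmegaSh

lemma isFirstOrderThickening_of_arrowIso {A B A' B' : Scheme.{u}} {f : A ⟶ B} {f' : A' ⟶ B'}
    (e : Arrow.mk f ≅ Arrow.mk f') (hf' : MoreMor.IsFirstOrderThickening f') :
    MoreMor.IsFirstOrderThickening f := by
  have sq : IsPullback f e.hom.left e.hom.right f' :=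
    IsPullback.of_vert_isIso ⟨(Arrow.w e.hom).symm⟩
  exact Groth.Agent.H49.isFirstOrderThickening_of_isPullback hf' sq

/-- Being a first order thickening is local on the target (pullback form). -/
theorem isFirstOrderThickening_of_cover_pullback {Z Z' : Scheme.{u}} (i : Z ⟶ Z')
    (𝒰 : Z'.OpenCover) (Zk : 𝒰.I₀ → Scheme.{u}) (ik : ∀ k, Zk k ⟶ 𝒰.X k) (wk : ∀ k, Zk k ⟶ Z)
    (sq : ∀ k, IsPullback (ik k) (wk k) (𝒰.f k) i)
    (H : ∀ k, MoreMor.IsFirstOrderThickening (ik k)) : MoreMor.IsFirstOrderThickening i := by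
  have hk : ∀ k, MoreMor.IsFirstOrderThickening (pullback.snd i (𝒰.f k)) := fun k => by
    rw [← (sq k).flip.isoPullback_inv_snd]
    exact isFirstOrderThickening_iso_comp _ (H k)
  have : IsClosedImmersion i :=
    IsZariskiLocalAtTarget.of_openCover (P := @IsClosedImmersion) 𝒰 (fun k => (hk k).1.1)
  refine isFirstOrderThickening_of_restrict i (fun k => (𝒰.f k).opensRange) 𝒰.iSup_opensRange
    (fun k => ?_)
  exact isFirstOrderThickening_of_arrowIso (morphismRestrictOpensRange i (𝒰.f k)) (hk k)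

variable {Z X : Scheme.{u}} (h : Z ⟶ X) [FormallyUnramified h]

/-- The cover of `Z` by the good opens. -/
noncomputable def cov : Z.OpenCover where
  I₀ := J h
  X W := W.1
  f W := W.1.ι
  mem₀ := by
    rw [Scheme.presieve₀_mem_precoverage_iff]
    refine ⟨fun z => ?_, fun W => inferInstance⟩
    obtain ⟨V, hV, hzV, -⟩ := exists_good h z ⊤ trivial
    exact ⟨⟨V, hV⟩, ⟨⟨z, hzV⟩, rfl⟩⟩

/-- The glued thickening. -/
noncomputable abbrev Zg : Scheme.{u} := colimit (F h)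

noncomputable def cι (W : J h) : T W ⟶ Zg h := colimit.ι (F h) W

instance cι_isOpenImmersion (W : J h) : IsOpenImmersion (cι h W) :=
  inferInstanceAs (IsOpenImmersion (colimit.ι (F h) W))

lemma tr_cι {W₁ W₂ : J h} (hle : W₁ ≤ W₂) : tr hle ≫ cι h W₂ = cι h W₁ :=
  colimit.w (F h) (homOfLE hle)

lemma homOfLE_inc_cι {W₁ W₂ : J h} (hle : W₁ ≤ W₂) :
    Z.homOfLE hle ≫ inc W₂ ≫ cι h W₂ = inc W₁ ≫ cι h W₁ := by
  rw [← Category.assoc, ← inc_tr, Category.assoc, tr_cι]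

lemma compat (W₁ W₂ : J h) :
    pullback.fst W₁.1.ι W₂.1.ι ≫ inc W₁ ≫ cι h W₁ =
      pullback.snd W₁.1.ι W₂.1.ι ≫ inc W₂ ≫ cι h W₂ := by
  let l : J h := ⟨W₁.1 ⊓ W₂.1, good_of_le h inf_le_left W₁.2⟩
  have hl1 : l ≤ W₁ := inf_le_left (a := W₁.1) (b := W₂.1)
  have hl2 : l ≤ W₂ := inf_le_right (a := W₁.1) (b := W₂.1)
  have sq : IsPullback (Z.homOfLE hl1) (Z.homOfLE hl2) W₁.1.ι W₂.1.ι :=
    isPullback_opens_inf W₁.1 W₂.1
  have key : Z.homOfLE hl1 ≫ inc W₁ ≫ cι h W₁ = Z.homOfLE hl2 ≫ inc W₂ ≫ cι h W₂ :=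
    (homOfLE_inc_cι h hl1).trans (homOfLE_inc_cι h hl2).symm
  have e1 : pullback.fst W₁.1.ι W₂.1.ι = sq.isoPullback.inv ≫ Z.homOfLE hl1 :=
    sq.isoPullback_inv_fst.symm
  have e2 : pullback.snd W₁.1.ι W₂.1.ι = sq.isoPullback.inv ≫ Z.homOfLE hl2 :=
    sq.isoPullback_inv_snd.symm
  rw [e1, e2, Category.assoc, Category.assoc, key]

/-- The glued closed immersion. -/
noncomputable def gi : Z ⟶ Zg h :=
  (cov h).glueMorphisms (fun W => inc W ≫ cι h W) (compat h)

lemma ι_gi (W : J h) : W.1.ι ≫ gi h = inc W ≫ cι h W :=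
  (cov h).ι_glueMorphisms _ _ W

/-- The glued structure map. -/
noncomputable def gh : Zg h ⟶ X :=
  colimit.desc (F h)
    { pt := X
      ι :=
        { app := str
          naturality := fun W₁ W₂ f => by
            change tr (leOfHom f) ≫ str W₂ = str W₁ ≫ 𝟙 X
            rw [tr_str, Category.comp_id] } }

lemma cι_gh (W : J h) : cι h W ≫ gh h = str W := colimit.ι_desc _ _

lemma gi_gh : gi h ≫ gh h = h := by
  refine (cov h).hom_ext _ _ fun W => ?_
  change W.1.ι ≫ _ = W.1.ι ≫ h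
  rw [← Category.assoc, ι_gi, Category.assoc, cι_gh, inc_str]

lemma gi_apply (W : J h) (z : (W.1 : Scheme.{u})) : gi h (W.1.ι z) = cι h W (inc W z) := by
  rw [← Scheme.Hom.comp_apply, ι_gi, Scheme.Hom.comp_apply]

lemma preimage_range (W : J h) : gi h ⁻¹ᵁ (cι h W).opensRange = W.1.ι.opensRange := by
  rw [Scheme.Opens.opensRange_ι]
  ext z
  constructor
  · rintro ⟨x, hx⟩
    obtain ⟨V, hV, hzV, -⟩ := exists_good h z ⊤ trivial
    let W₂ : J h := ⟨V, hV⟩
    let z₂ : (V : Scheme.{u}) := ⟨z, hzV⟩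
    have e1 : gi h z = cι h W₂ (inc W₂ z₂) := gi_apply h W₂ z₂
    have hx' : cι h W x = cι h W₂ (inc W₂ z₂) := hx.trans e1
    obtain ⟨k, f₁, f₂, y, hy1, hy2⟩ := (Scheme.IsLocallyDirected.ι_eq_ι_iff (F h)).mp hx'
    obtain ⟨zk, rfl⟩ := inc_surjective k y
    change tr (leOfHom f₂) (inc k zk) = inc W₂ z₂ at hy2
    rw [tr_inc_apply] at hy2
    have h3 := inc_injective W₂ hy2
    have h4 : k.1.ι zk = z := by
      rw [← homOfLE_ι_apply (leOfHom f₂), h3]
      rfl
    rw [← h4]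
    exact leOfHom f₁ zk.2
  · intro hz
    exact ⟨inc W ⟨z, hz⟩, (gi_apply h W ⟨z, hz⟩).symm⟩

lemma sq (W : J h) : IsPullback (inc W) W.1.ι (cι h W) (gi h) :=
  IsOpenImmersion.isPullback _ _ _ _ (ι_gi h W) (preimage_range h W)

theorem gi_thick : MoreMor.IsFirstOrderThickening (gi h) :=
  isFirstOrderThickening_of_cover_pullback (gi h) (Scheme.IsLocallyDirected.openCover (F h))
    (fun W => ((W : J h).1 : Scheme.{u})) (fun W => inc W) (fun W => (W : J h).1.ι) (sq h)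
    (fun W => (spec W).1)

theorem gh_unram : FormallyUnramified (gh h) := by
  refine IsZariskiLocalAtSource.of_openCover (P := @FormallyUnramified)
    (Scheme.IsLocallyDirected.openCover (F h)) (fun W => ?_)
  change FormallyUnramified (cι h W ≫ gh h)
  rw [cι_gh]
  have : FormallyUnramified ((W : J h).1.ι ≫ h) :=
    MorphismProperty.comp_mem _ _ _ inferInstance inferInstance
  exact Groth.Agent.S9732.result ((W : J h).1.ι ≫ h) (inc W) (str W) (spec W)

theorem main : ∃ (Z' : Scheme.{u}) (i : Z ⟶ Z') (h' : Z' ⟶ X), IsUnivThickening h i h' := by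
  refine ⟨Zg h, gi h, gh h, gi_thick h, gi_gh h, ?_⟩
  intro T₀ T' j b a hj hcomm
  have hfu : FormallyUnramified (gh h) := gh_unram h
  have hex : ∃ a' : T' ⟶ Zg h, j ≫ a' = a ≫ gi h ∧ a' ≫ gh h = b := by
    refine exists_lift_of_local (gh h) (gi h) j hj a b ?_
    intro t
    obtain ⟨q, rfl⟩ := Groth.Agent.H49.IsFirstOrderThickening.surjective hj t
    obtain ⟨V, hV, hzV, -⟩ := exists_good h (a q) ⊤ trivial
    let W : J h := ⟨V, hV⟩
    obtain ⟨O, hO⟩ := exists_open_preimage hj (a ⁻¹ᵁ V)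
    have hrange : Set.range ((j ⁻¹ᵁ O).ι ≫ a) ⊆ Set.range V.ι := by
      rintro _ ⟨x, rfl⟩
      rw [Scheme.Opens.range_ι]
      exact hO.le x.2
    let aP := IsOpenImmersion.lift V.ι ((j ⁻¹ᵁ O).ι ≫ a) hrange
    have haP : aP ≫ V.ι = (j ⁻¹ᵁ O).ι ≫ a := IsOpenImmersion.lift_fac _ _ _
    have hjP := Groth.Agent.H49.isFirstOrderThickening_morphismRestrict hj O
    have comm : (j ∣_ O) ≫ O.ι ≫ b = aP ≫ W.1.ι ≫ h := by
      rw [← Category.assoc, morphismRestrict_ι, Category.assoc, hcomm, ← Category.assoc, ← haP,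
        Category.assoc]
    let a'W := lift (spec W) (j ∣_ O) (O.ι ≫ b) aP hjP comm
    have hl1 : (j ∣_ O) ≫ a'W = aP ≫ inc W := lift_fac_left (spec W) _ _ _ hjP comm
    have hl2 : a'W ≫ str W = O.ι ≫ b := lift_fac_right (spec W) _ _ _ hjP comm
    refine ⟨_, _, j ∣_ O, (j ⁻¹ᵁ O).ι, O.ι, inferInstance, ?_,
      isPullback_morphismRestrict j O, a'W ≫ cι h W, ?_, ?_⟩
    · rw [Scheme.Opens.range_ι]
      have hq : q ∈ j ⁻¹ᵁ O := by
        rw [hO]
        exact hzV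
      exact hq
    · rw [← Category.assoc, hl1, Category.assoc, ← ι_gi h W, ← Category.assoc, haP,
        Category.assoc]
    · rw [Category.assoc, cι_gh, hl2]
  obtain ⟨a', h1, h2⟩ := hex
  refine ⟨a', ⟨h1, h2⟩, ?_⟩
  rintro a'' ⟨h1', h2'⟩
  exact hom_ext_of_unram hj (gh h) (h1'.trans h1.symm) (h2'.trans h2.symm)

end Groth.Agent.H87.UnivThick
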