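import Mathlib
import Groth.Agent.H87.LiftGeomB
import Groth.Agent.H87.LiftGeomC
import Groth.Agent.H87.LiftAlgMain
import Groth.Agent.H87.UnivThickF
import Groth.Agent.H87.ThickAffF

/-!
# Local lifts along an affine first order thickening glue to a global lift (helper87)
-/

set_option autoImplicit false
universe u
open CategoryTheory Limits AlgebraicGeometry OmegaSh TensorProduct TopologicalSpace

namespace Groth.Agent.H87.LiftGeomMain

open Groth.Agent.H87.UnivThick Groth.Agent.H87.LiftGeomA Groth.Agent.H87.LiftGeomB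
  Groth.Agent.H87.LiftGeomC Groth.Agent.H87.LiftAlgMain Groth.Agent.H44

/-- A local lift over `V ⊇ D(g)` gives a section of `X ×_S T → T` over `D(g)`. -/
theorem exists_section {S X T T₀ : Scheme.{u}} (f : X ⟶ S) (i : T₀ ⟶ T) [IsAffine T]
    [IsClosedImmersion i]
    (a : T ⟶ S) (a₀ : T₀ ⟶ X) (hsqr : a₀ ≫ f = i ≫ a)
    (V : T.Opens) (b : (↑V : Scheme.{u}) ⟶ X) (hb₁ : b ≫ f = V.ι ≫ a)
    (hb₂ : (i ∣_ V) ≫ b = (i ⁻¹ᵁ V).ι ≫ a₀) (g : Γ(T, ⊤)) (hle : T.basicOpen g ≤ V) :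
    ∃ β : Spec Γ(T, T.basicOpen g) ⟶ pullback f a,
      β ≫ pullback.snd f a = ((isAffineOpen_top T).basicOpen g).fromSpec ∧
      Spec.map (i.app (T.basicOpen g)) ≫ β =
        (((isAffineOpen_top T).basicOpen g).preimage i).fromSpec ≫ pullback.lift a₀ i hsqr := by
  have hD : IsAffineOpen (T.basicOpen g) := (isAffineOpen_top T).basicOpen g
  have hD₀ : IsAffineOpen (i ⁻¹ᵁ T.basicOpen g) := hD.preimage i
  have hrange : Set.range hD.fromSpec ⊆ Set.range V.ι := by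
    rw [hD.range_fromSpec, Scheme.Opens.range_ι]
    exact hle
  let c : Spec Γ(T, T.basicOpen g) ⟶ (↑V : Scheme.{u}) := IsOpenImmersion.lift V.ι hD.fromSpec hrange
  have hc : c ≫ V.ι = hD.fromSpec := IsOpenImmersion.lift_fac _ _ _
  have hrange₀ : Set.range hD₀.fromSpec ⊆ Set.range (i ⁻¹ᵁ V).ι := by
    rw [hD₀.range_fromSpec, Scheme.Opens.range_ι]
    exact i.preimage_mono hle
  let c₀ : Spec Γ(T₀, i ⁻¹ᵁ T.basicOpen g) ⟶ (↑(i ⁻¹ᵁ V) : Scheme.{u}) :=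
    IsOpenImmersion.lift (i ⁻¹ᵁ V).ι hD₀.fromSpec hrange₀
  have hc₀ : c₀ ≫ (i ⁻¹ᵁ V).ι = hD₀.fromSpec := IsOpenImmersion.lift_fac _ _ _
  have hsq : Spec.map (i.app (T.basicOpen g)) ≫ hD.fromSpec = hD₀.fromSpec ≫ i := by
    have := IsAffineOpen.SpecMap_appLE_fromSpec i hD hD₀ le_rfl
    rwa [Scheme.Hom.appLE_eq_app] at this
  have hcc : Spec.map (i.app (T.basicOpen g)) ≫ c = c₀ ≫ (i ∣_ V) := by
    rw [← cancel_mono V.ι, Category.assoc, hc, Category.assoc, morphismRestrict_ι,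
      ← Category.assoc, hc₀, hsq]
  have hcomm : (c ≫ b) ≫ f = hD.fromSpec ≫ a := by
    rw [Category.assoc, hb₁, ← Category.assoc, hc]
  refine ⟨pullback.lift (c ≫ b) hD.fromSpec hcomm, pullback.lift_snd _ _ _, ?_⟩
  apply pullback.hom_ext
  · rw [Category.assoc, pullback.lift_fst, Category.assoc, pullback.lift_fst, ← Category.assoc,
      hcc, Category.assoc, hb₂, ← Category.assoc, hc₀]
  · rw [Category.assoc, pullback.lift_snd, Category.assoc, pullback.lift_snd, hsq]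

theorem not_mem_of_mem_basicOpen {X : Scheme.{u}} [IsAffine X] (m : Ideal Γ(X, ⊤)) [hm : m.IsPrime]
    (s : Γ(X, ⊤))
    (h : (isAffineOpen_top X).fromSpec (⟨m, hm⟩ : PrimeSpectrum Γ(X, ⊤)) ∈ X.basicOpen s) :
    s ∉ m := by
  have h1 : (⟨m, hm⟩ : PrimeSpectrum Γ(X, ⊤)) ∈
      ((isAffineOpen_top X).fromSpec ⁻¹ᵁ X.basicOpen s : (Spec Γ(X, ⊤)).Opens) := h
  rw [IsAffineOpen.fromSpec_preimage_basicOpen] at h1
  exact h1

set_option maxHeartbeats 1600000 in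
/-- **Global sections from local sections**, for an affine first order thickening. -/
theorem exists_global_section {P T T₀ : Scheme.{u}} (q : P ⟶ T) [LocallyOfFinitePresentation q]
    (σ₀ : T₀ ⟶ P) [FormallyUnramified σ₀] [IsAffine T] [IsAffine T₀]
    (i : T₀ ⟶ T) (hσq : σ₀ ≫ q = i) [IsClosedImmersion i]
    (hi : MoreMor.IsFirstOrderThickening i)
    (Hsec : ∀ x : T, ∃ g : Γ(T, ⊤), x ∈ T.basicOpen g ∧
      ∃ β : Spec Γ(T, T.basicOpen g) ⟶ P,
        β ≫ q = ((isAffineOpen_top T).basicOpen g).fromSpec ∧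
        Spec.map (i.app (T.basicOpen g)) ≫ β =
          (((isAffineOpen_top T).basicOpen g).preimage i).fromSpec ≫ σ₀) :
    ∃ s : T ⟶ P, s ≫ q = 𝟙 T ∧ i ≫ s = σ₀ := by
  subst hσq
  obtain ⟨T', i', h', hu⟩ := Groth.Agent.H87.UnivThick.main σ₀
  haveI : IsClosedImmersion i' := hu.1.1.1
  haveI : IsAffine T' := Groth.Agent.H87.ThickAff.isAffine_of_thickening i' hu.1.1.2.surj
  have hT : IsAffineOpen (⊤ : T.Opens) := isAffineOpen_top T
  have hT' : IsAffineOpen (⊤ : T'.Opens) := isAffineOpen_top T'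
  have hT₀ : IsAffineOpen (⊤ : T₀.Opens) := isAffineOpen_top T₀
  have hσ : i' ≫ h' = σ₀ := hu.2.1
  have hcomp : (σ₀ ≫ q).appTop = (h' ≫ q).appTop ≫ i'.appTop := by
    rw [← Scheme.Hom.comp_appTop, ← Category.assoc, hσ]
  letI algRA : Algebra Γ(T, ⊤) Γ(T', ⊤) := (h' ≫ q).appTop.hom.toAlgebra
  letI algAB : Algebra Γ(T', ⊤) Γ(T₀, ⊤) := i'.appTop.hom.toAlgebra
  letI algRB : Algebra Γ(T, ⊤) Γ(T₀, ⊤) := (σ₀ ≫ q).appTop.hom.toAlgebra
  haveI tow : IsScalarTower Γ(T, ⊤) Γ(T', ⊤) Γ(T₀, ⊤) :=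
    IsScalarTower.of_algebraMap_eq (fun x => congr($(hcomp) x))
  have hRBsurj : Function.Surjective (algebraMap Γ(T, ⊤) Γ(T₀, ⊤)) :=
    (σ₀ ≫ q).app_surjective ⊤ hT
  have hsqR : ∀ x y : Γ(T, ⊤), algebraMap Γ(T, ⊤) Γ(T₀, ⊤) x = 0 →
      algebraMap Γ(T, ⊤) Γ(T₀, ⊤) y = 0 → x * y = 0 := fun x y hx hy =>
    Groth.Agent.H49.IsFirstOrderThickening.mul_eq_zero hi ⟨⊤, hT⟩ x y hx hy
  have hsqA : ∀ x y : Γ(T', ⊤), algebraMap Γ(T', ⊤) Γ(T₀, ⊤) x = 0 →
      algebraMap Γ(T', ⊤) Γ(T₀, ⊤) y = 0 → x * y = 0 := fun x y hx hy =>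
    Groth.Agent.H49.IsFirstOrderThickening.mul_eq_zero hu.1 ⟨⊤, hT'⟩ x y hx hy
  obtain ⟨r, hr1, hr2⟩ := exists_ring_retraction_of_local (R := Γ(T, ⊤)) (A := Γ(T', ⊤))
    (B := Γ(T₀, ⊤)) hRBsurj hsqR hsqA
    (fun m hm => by
      haveI := hm.isPrime
      obtain ⟨g, hxg, hfp⟩ := fp_local hu hi
        (hT₀.fromSpec (⟨m, hm.isPrime⟩ : PrimeSpectrum Γ(T₀, ⊤)))
      exact ⟨g, not_mem_of_mem_basicOpen m _ hxg, hfp⟩)
    (fun m hm => by
      haveI := hm.isPrime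
      obtain ⟨g, hxg, β, hβ₁, hβ₂⟩ := Hsec ((σ₀ ≫ q)
        (hT₀.fromSpec (⟨m, hm.isPrime⟩ : PrimeSpectrum Γ(T₀, ⊤))))
      refine ⟨g, not_mem_of_mem_basicOpen m _ ?_, loc_of_section rfl rfl rfl hu hi g β hβ₁ hβ₂⟩
      have h1 : hT₀.fromSpec (⟨m, hm.isPrime⟩ : PrimeSpectrum Γ(T₀, ⊤)) ∈
          (σ₀ ≫ q) ⁻¹ᵁ T.basicOpen g := hxg
      rw [Scheme.preimage_basicOpen] at h1
      exact h1)
  -- the section
  let s : T ⟶ T' := T.toSpecΓ ≫ Spec.map (CommRingCat.ofHom r) ≫ T'.isoSpec.inv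
  have hs : s.appTop = CommRingCat.ofHom r := by
    apply Spec.map_injective
    haveI : IsIso T.toSpecΓ := inferInstanceAs (IsIso T.isoSpec.hom)
    rw [← cancel_epi T.toSpecΓ, ← Scheme.toSpecΓ_naturality]
    have h1 : T'.toSpecΓ = T'.isoSpec.hom := rfl
    simp only [s, Category.assoc, h1, Iso.inv_hom_id, Category.comp_id]
  refine ⟨s ≫ h', ?_, ?_⟩
  · rw [Category.assoc]
    apply ext_of_isAffine
    rw [Scheme.Hom.comp_appTop, hs]
    ext x
    exact RingHom.congr_fun hr1 x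
  · have h1 : (σ₀ ≫ q) ≫ s = i' := by
      apply ext_of_isAffine
      rw [Scheme.Hom.comp_appTop, hs]
      ext x
      exact RingHom.congr_fun hr2 x
    rw [← Category.assoc, h1, hσ]

/-- **Local lifts along an affine first order thickening glue to a global lift.** -/
theorem main {S X T T₀ : Scheme.{u}} (f : X ⟶ S) [LocallyOfFinitePresentation f]
    (i : T₀ ⟶ T) [IsClosedImmersion i] [IsAffine T₀]
    (hsq : ∀ (U : T.affineOpens) (x y : Γ(T, U.1)),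
      x ∈ RingHom.ker (i.app U.1).hom → y ∈ RingHom.ker (i.app U.1).hom → x * y = 0)
    (a : T ⟶ S) (a₀ : T₀ ⟶ X) (hsqr : a₀ ≫ f = i ≫ a)
    (ι : Type u) (U : ι → T.Opens) (hU : iSup U = ⊤) (b : ∀ j, (↑(U j) : Scheme.{u}) ⟶ X)
    (hb₁ : ∀ j, b j ≫ f = (U j).ι ≫ a)
    (hb₂ : ∀ j, (i ∣_ U j) ≫ b j = (i ⁻¹ᵁ U j).ι ≫ a₀) :
    ∃ b' : T ⟶ X, b' ≫ f = a ∧ i ≫ b' = a₀ := by
  have hi : MoreMor.IsFirstOrderThickening i :=
    Groth.Agent.H49.isFirstOrderThickening_of_cover i (fun V : T.affineOpens => V)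
      (iSup_affineOpens_eq_top T) (fun V x y hx hy => hsq V x y hx hy)
  haveI : IsAffine T := Groth.Agent.H87.ThickAff.isAffine_of_thickening i hi.1.2.surj
  have hT := isAffineOpen_top T
  haveI : FormallyUnramified (pullback.lift a₀ i hsqr) := by
    haveI : FormallyUnramified (pullback.lift a₀ i hsqr ≫ pullback.snd f a) := by
      rw [pullback.lift_snd]
      infer_instance
    exact FormallyUnramified.of_comp _ (pullback.snd f a)
  obtain ⟨s, hs1, hs2⟩ := exists_global_section (pullback.snd f a) (pullback.lift a₀ i hsqr) i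
    (pullback.lift_snd _ _ _) hi (fun x => by
      obtain ⟨j, hj⟩ : ∃ j, x ∈ U j := by
        have : x ∈ iSup U := by rw [hU]; trivial
        exact Opens.mem_iSup.1 this
      obtain ⟨g, hgle, hxg⟩ := hT.exists_basicOpen_le (V := U j) ⟨x, hj⟩ trivial
      exact ⟨g, hxg, exists_section f i a a₀ hsqr (U j) (b j) (hb₁ j) (hb₂ j) g hgle⟩)
  refine ⟨s ≫ pullback.fst f a, ?_, ?_⟩
  · rw [Category.assoc, pullback.condition, ← Category.assoc, hs1, Category.id_comp]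
  · rw [← Category.assoc, hs2, pullback.lift_fst]

end Groth.Agent.H87.LiftGeomMain
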