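import Groth.Prelude.Def_Magnet

/-!
# Equivariance of a map glued along a jointly epimorphic pair (helper87)
-/

set_option autoImplicit false
universe v₁ u₁

open CategoryTheory MonoidalCategory CartesianMonoidalCategory MonObj

namespace Groth.Agent.H87.MagnetEqv

open Magnet

variable {C : Type u₁} [Category.{v₁} C] [CartesianMonoidalCategory C]

/-- The exchange map `B ⊗ (A ⊗ T) ⟶ A ⊗ (B ⊗ T)`. -/
def exch (A B T : C) : B ⊗ (A ⊗ T) ⟶ A ⊗ (B ⊗ T) :=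
  lift (snd B (A ⊗ T) ≫ fst A T) (lift (fst B (A ⊗ T)) (snd B (A ⊗ T) ≫ snd A T))

theorem exch_exch (A B T : C) : exch B A T ≫ exch A B T = 𝟙 _ := by
  unfold exch
  apply CartesianMonoidalCategory.hom_ext
  · simp
  · apply CartesianMonoidalCategory.hom_ext <;> simp

theorem exch_natural (A T : C) {B B' : C} (k : B ⟶ B') :
    (k ▷ (A ⊗ T)) ≫ exch A B' T = exch A B T ≫ (A ◁ (k ▷ T)) := by
  unfold exch
  apply CartesianMonoidalCategory.hom_ext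
  · simp
  · apply CartesianMonoidalCategory.hom_ext <;> simp

/-- Joint epimorphy transfers from `kᵢ ▷ (A ⊗ T)` to `A ◁ (kᵢ ▷ T)`. -/
theorem jointly_epi_whiskerLeft (A T : C) {B₁ B₂ B' X : C} (k₁ : B₁ ⟶ B') (k₂ : B₂ ⟶ B')
    (hje : ∀ u v : B' ⊗ (A ⊗ T) ⟶ X, (k₁ ▷ (A ⊗ T)) ≫ u = (k₁ ▷ (A ⊗ T)) ≫ v →
      (k₂ ▷ (A ⊗ T)) ≫ u = (k₂ ▷ (A ⊗ T)) ≫ v → u = v)
    (u v : A ⊗ (B' ⊗ T) ⟶ X) (h₁ : (A ◁ (k₁ ▷ T)) ≫ u = (A ◁ (k₁ ▷ T)) ≫ v)
    (h₂ : (A ◁ (k₂ ▷ T)) ≫ u = (A ◁ (k₂ ▷ T)) ≫ v) : u = v := by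
  have key : exch A B' T ≫ u = exch A B' T ≫ v := by
    apply hje
    · rw [← Category.assoc, exch_natural, Category.assoc, h₁, ← Category.assoc, ← exch_natural,
        Category.assoc]
    · rw [← Category.assoc, exch_natural, Category.assoc, h₂, ← Category.assoc, ← exch_natural,
        Category.assoc]
  calc u = (exch B' A T ≫ exch A B' T) ≫ u := by rw [exch_exch, Category.id_comp]
    _ = (exch B' A T ≫ exch A B' T) ≫ v := by rw [Category.assoc, key, Category.assoc]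
    _ = v := by rw [exch_exch, Category.id_comp]

variable {A : C} [MonObj A]

/-- `k ▷ T` is equivariant when `k` is. -/
theorem isEquivariant_whiskerRight {B B' : C} {ρ : MonAct A B} {ρ' : MonAct A B'} {k : B ⟶ B'}
    (hk : MonAct.IsEquivariant ρ ρ' k) (T : C) :
    MonAct.IsEquivariant (ρ.prod (MonAct.trivial A T)) (ρ'.prod (MonAct.trivial A T)) (k ▷ T) := by
  rw [MonAct.mem_eqvHom_iff]
  rw [MonAct.isEquivariant_iff] at hk
  intro T' g b t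
  rw [lift_whiskerRight, lift_whiskerRight, MonAct.lift_prod_act, MonAct.lift_trivial_act,
    Category.assoc, hk]

/-- A map out of `B' ⊗ T` is equivariant as soon as its restrictions along a pair of equivariant
maps `kᵢ ▷ T`, jointly epimorphic after `A ◁ -`, are. -/
theorem isEquivariant_of_jointly_epi {B₁ B₂ B' X T : C} {ρ₁ : MonAct A B₁} {ρ₂ : MonAct A B₂}
    {ρ' : MonAct A B'} {a : MonAct A X} {k₁ : B₁ ⟶ B'} {k₂ : B₂ ⟶ B'}
    (hk₁ : MonAct.IsEquivariant ρ₁ ρ' k₁) (hk₂ : MonAct.IsEquivariant ρ₂ ρ' k₂)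
    (hje : ∀ u v : B' ⊗ (A ⊗ T) ⟶ X, (k₁ ▷ (A ⊗ T)) ≫ u = (k₁ ▷ (A ⊗ T)) ≫ v →
      (k₂ ▷ (A ⊗ T)) ≫ u = (k₂ ▷ (A ⊗ T)) ≫ v → u = v)
    (ψ : B' ⊗ T ⟶ X)
    (h₁ : MonAct.IsEquivariant (ρ₁.prod (MonAct.trivial A T)) a ((k₁ ▷ T) ≫ ψ))
    (h₂ : MonAct.IsEquivariant (ρ₂.prod (MonAct.trivial A T)) a ((k₂ ▷ T) ≫ ψ)) :
    MonAct.IsEquivariant (ρ'.prod (MonAct.trivial A T)) a ψ := by
  have e₁ := isEquivariant_whiskerRight hk₁ T
  have e₂ := isEquivariant_whiskerRight hk₂ T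
  unfold MonAct.IsEquivariant at h₁ h₂ e₁ e₂ ⊢
  apply jointly_epi_whiskerLeft A T k₁ k₂ hje
  · rw [← Category.assoc, ← e₁, Category.assoc, h₁, MonoidalCategory.whiskerLeft_comp,
      Category.assoc]
  · rw [← Category.assoc, ← e₂, Category.assoc, h₂, MonoidalCategory.whiskerLeft_comp,
      Category.assoc]

end Groth.Agent.H87.MagnetEqv
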