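import Groth.Agent.H87.MagnetPushoutT
import Groth.Agent.H87.MagnetEqv

/-!
# The cartesian square of attractors attached to a face push-out (helper87)
-/

set_option autoImplicit false
universe u

open CategoryTheory Limits AlgebraicGeometry MonoidalCategory CartesianMonoidalCategory Opposite

namespace Groth.Agent.H87.MagnetAttrPullback

open Magnet

variable {S : Scheme.{u}} {M : Type} [AddCommMonoid M] {X : Over S}
  (a : MonAct (AMonS S M) X)
  {N N' L L' : AddSubmonoid M} (hNL : N ≤ L) (hN'L' : N' ≤ L') (hL : IsFace L' L)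
  (hN : IsFace N' N) (hdiff : (N' : Set M) = (L' : Set M) \ ((L : Set M) \ (N : Set M)))

theorem isEquivariant_mapS {N L : AddSubmonoid M} (h : N ≤ L) :
    MonAct.IsEquivariant (subAct S M L) (subAct S M N) (AMonS.map S (AddSubmonoid.inclusion h)) :=
  MonAct.isEquivariant_restrict_regular _ _ _ (by rw [← AMonS.map_comp]; rfl)

include hdiff in
theorem isPullback_attr :
    IsPullback (attrMap a hN'L') (attrFace a hN) (attrFace a hL) (attrMap a hNL) := by
  apply IsPullback.of_forall_isPullback_app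
  intro T
  have Q := MagnetPushoutT.isPushout_whiskerRight S (unop T) hNL hN'L' hL hN hdiff
  rw [Types.isPullback_iff]
  refine ⟨?_, ?_, ?_⟩
  · ext ψ
    apply Subtype.ext
    change (AMonS.faceMap S hL ▷ unop T) ≫ (AMonS.map S (AddSubmonoid.inclusion hN'L') ▷ unop T) ≫ ψ.1 =
      (AMonS.map S (AddSubmonoid.inclusion hNL) ▷ unop T) ≫ (AMonS.faceMap S hN ▷ unop T) ≫ ψ.1
    rw [← Category.assoc, Q.w, Category.assoc]
  · rintro ψ₁ ψ₂ ⟨h₁, h₂⟩
    apply Subtype.ext
    apply Q.hom_ext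
    · exact congrArg Subtype.val h₁
    · exact congrArg Subtype.val h₂
  · intro φ' φ hφ
    have hcomp : (AMonS.faceMap S hL ▷ unop T) ≫ φ'.1 =
        (AMonS.map S (AddSubmonoid.inclusion hNL) ▷ unop T) ≫ φ.1 := congrArg Subtype.val hφ
    have h₁ : (AMonS.map S (AddSubmonoid.inclusion hN'L') ▷ unop T) ≫ Q.desc φ'.1 φ.1 hcomp = φ'.1 :=
      Q.inl_desc _ _ _
    have h₂ : (AMonS.faceMap S hN ▷ unop T) ≫ Q.desc φ'.1 φ.1 hcomp = φ.1 :=
      Q.inr_desc _ _ _
    have Q' := MagnetPushoutT.isPushout_whiskerRight S (AMonS S M ⊗ unop T) hNL hN'L' hL hN hdiff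
    have heq : MonAct.IsEquivariant ((subAct S M N').prod (MonAct.trivial (AMonS S M) (unop T))) a
        (Q.desc φ'.1 φ.1 hcomp) := by
      refine MagnetEqv.isEquivariant_of_jointly_epi (isEquivariant_mapS hN'L')
        (isEquivariant_faceMapS S hN) (fun u v hu hv => Q'.hom_ext hu hv) _ ?_ ?_
      · rw [h₁]; exact φ'.2
      · rw [h₂]; exact φ.2
    exact ⟨⟨Q.desc φ'.1 φ.1 hcomp, heq⟩, Subtype.ext h₁, Subtype.ext h₂⟩

end Groth.Agent.H87.MagnetAttrPullback
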