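import Groth.Prelude.Def_Magnet4
import Groth.Agent.H42.MilnorGlue

/-!
# The Milnor square of monoid algebras attached to faces (helper87)

For submonoids `N ≤ L`, `N' ≤ L'` of `M` with `L` a face of `L'`, `N` a face of `N'` and
`N' = L' \ (L \ N)`, the square of monoid algebras `R[N'] → R[L'] → R[L]`, `R[N'] → R[N] → R[L]`
is a Milnor square.
-/

set_option autoImplicit false
universe u v

namespace Groth.Agent.H87.MagnetMilnor

open Magnet

variable (R : Type u) [CommRing R] {M : Type v} [AddCommMonoid M]

/-- The inclusion of monoid algebras as a ring hom. -/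
noncomputable abbrev inclHom {N L : AddSubmonoid M} (h : N ≤ L) :
    MonoidAlgebra R (Multiplicative ↥N) →+* MonoidAlgebra R (Multiplicative ↥L) :=
  (MonoidAlgebra.mapDomainBialgHom R
    (AddMonoidHom.toMultiplicative (AddSubmonoid.inclusion h))).toAlgHom.toRingHom

theorem inclHom_apply {N L : AddSubmonoid M} (h : N ≤ L) (x : MonoidAlgebra R (Multiplicative ↥N)) :
    inclHom R h x = MonoidAlgebra.mapDomain
      (AddMonoidHom.toMultiplicative (AddSubmonoid.inclusion h)) x := rfl

theorem inclFun_injective {N L : AddSubmonoid M} (h : N ≤ L) :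
    Function.Injective (AddMonoidHom.toMultiplicative (AddSubmonoid.inclusion h)) := by
  intro a b hab
  have : AddSubmonoid.inclusion h (Multiplicative.toAdd a) =
      AddSubmonoid.inclusion h (Multiplicative.toAdd b) := hab
  exact Multiplicative.toAdd.injective (AddSubmonoid.inclusion_injective h this)

theorem inclHom_injective {N L : AddSubmonoid M} (h : N ≤ L) :
    Function.Injective (inclHom R h) := by
  intro x y hxy
  rw [inclHom_apply, inclHom_apply] at hxy
  exact MonoidAlgebra.mapDomain_injective (inclFun_injective h) hxy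

/-- Coefficient formula for the face projection. -/
theorem faceAlgHom_coeff {N F : AddSubmonoid M} (hF : IsFace N F)
    (x : MonoidAlgebra R (Multiplicative ↥N)) (n : M) (hn : n ∈ F) :
    (faceAlgHom R hF x).coeff (Multiplicative.ofAdd (⟨n, hn⟩ : ↥F)) =
      x.coeff (Multiplicative.ofAdd (⟨n, hF.le hn⟩ : ↥N)) := by
  classical
  induction x using MonoidAlgebra.induction_on with
  | of m =>
    obtain ⟨m, rfl⟩ := Multiplicative.ofAdd.surjective m
    rw [MonoidAlgebra.of_apply]
    by_cases hm : (m : M) ∈ F
    · rw [faceAlgHom_single_of_mem R hF m hm, MonoidAlgebra.coeff_single, MonoidAlgebra.coeff_single,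
        Finsupp.single_apply, Finsupp.single_apply]
      congr 1
      apply propext
      constructor
      · intro h
        have : (m : M) = n := congrArg (fun z : Multiplicative ↥F => ((Multiplicative.toAdd z : ↥F) : M)) h
        exact congrArg Multiplicative.ofAdd (Subtype.ext this)
      · intro h
        have : (m : M) = n := congrArg (fun z : Multiplicative ↥N => ((Multiplicative.toAdd z : ↥N) : M)) h
        exact congrArg Multiplicative.ofAdd (Subtype.ext this)
    · rw [faceAlgHom_single_of_not_mem R hF m hm, MonoidAlgebra.coeff_single, Finsupp.single_apply,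
        if_neg]
      · rfl
      · intro h
        have : (m : M) = n := congrArg (fun z : Multiplicative ↥N => ((Multiplicative.toAdd z : ↥N) : M)) h
        exact hm (this ▸ hn)
  | add a b ha hb =>
    rw [map_add, MonoidAlgebra.coeff_add, MonoidAlgebra.coeff_add, Finsupp.add_apply,
      Finsupp.add_apply, ha, hb]
  | smul r a ha =>
    rw [map_smul, MonoidAlgebra.coeff_smul_apply, MonoidAlgebra.coeff_smul_apply, ha]

/-- Coefficient formula for the inclusion. -/
theorem inclHom_coeff {N L : AddSubmonoid M} (h : N ≤ L)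
    (x : MonoidAlgebra R (Multiplicative ↥N)) (n : M) (hn : n ∈ N) :
    (inclHom R h x).coeff (Multiplicative.ofAdd (⟨n, h hn⟩ : ↥L)) =
      x.coeff (Multiplicative.ofAdd (⟨n, hn⟩ : ↥N)) := by
  rw [inclHom_apply]
  exact Finsupp.mapDomain_apply (inclFun_injective h) x.coeff (Multiplicative.ofAdd (⟨n, hn⟩ : ↥N))

/-- Coefficients of the inclusion vanish outside the submonoid. -/
theorem inclHom_coeff_of_not_mem {N L : AddSubmonoid M} (h : N ≤ L)
    (x : MonoidAlgebra R (Multiplicative ↥N)) (l : ↥L) (hl : (l : M) ∉ N) :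
    (inclHom R h x).coeff (Multiplicative.ofAdd l) = 0 := by
  rw [inclHom_apply]
  apply Finsupp.mapDomain_of_notMem_range
  rintro ⟨a, ha⟩
  apply hl
  have : ((Multiplicative.toAdd a : ↥N) : M) = l :=
    congrArg (fun z : Multiplicative ↥L => ((Multiplicative.toAdd z : ↥L) : M)) ha
  rw [← this]
  exact (Multiplicative.toAdd a).2

theorem faceAlgHom_surjective {N F : AddSubmonoid M} (hF : IsFace N F) :
    Function.Surjective (faceAlgHom R hF) := by
  intro y
  refine ⟨inclHom R hF.le y, ?_⟩
  exact DFunLike.congr_fun (faceAlgHom_comp_mapDomain R hF) y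

variable {N N' L L' : AddSubmonoid M} (hNL : N ≤ L) (hN'L' : N' ≤ L') (hL : IsFace L' L)
  (hN : IsFace N' N) (hdiff : (N' : Set M) = (L' : Set M) \ ((L : Set M) \ (N : Set M)))

include hdiff in
theorem mem_N_of_mem_L {n : M} (hn' : n ∈ N') (hnL : n ∈ L) : n ∈ N := by
  have h1 : n ∈ (L' : Set M) \ ((L : Set M) \ (N : Set M)) := hdiff ▸ hn'
  by_contra hnN
  exact h1.2 ⟨hnL, hnN⟩

include hdiff in
theorem mem_N'_of_not_mem_L {n : M} (hn' : n ∈ L') (hnL : n ∉ L) : n ∈ N' := by
  have : n ∈ (N' : Set M) := by
    rw [hdiff]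
    exact ⟨hn', fun h => hnL h.1⟩
  exact this

include hdiff in
theorem mem_N'_of_mem_N {n : M} (hn' : n ∈ L') (hnN : n ∈ N) : n ∈ N' := by
  have : n ∈ (N' : Set M) := by
    rw [hdiff]
    exact ⟨hn', fun h => h.2 hnN⟩
  exact this

include hdiff in
/-- The square of monoid algebras commutes. -/
theorem comm_square :
    ((faceAlgHom R hL).toRingHom).comp (inclHom R hN'L') =
      (inclHom R hNL).comp (faceAlgHom R hN).toRingHom := by
  apply MonoidAlgebra.ringHom_ext
  · intro r
    have h0 : (0 : M) ∈ N := N.zero_mem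
    have e1 : MonoidAlgebra.single (1 : Multiplicative ↥N') r =
        MonoidAlgebra.single (Multiplicative.ofAdd (0 : ↥N')) r := rfl
    show (faceAlgHom R hL) ((MonoidAlgebra.mapDomainBialgHom R _) (MonoidAlgebra.single 1 r)) =
      (MonoidAlgebra.mapDomainBialgHom R _) ((faceAlgHom R hN) (MonoidAlgebra.single 1 r))
    rw [e1, faceAlgHom_single_of_mem R hN (0 : ↥N') h0, MonoidAlgebra.mapDomainBialgHom_single,
      MonoidAlgebra.mapDomainBialgHom_single]
    exact faceAlgHom_single_of_mem R hL _ (hNL h0) r
  · intro m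
    obtain ⟨m, rfl⟩ := Multiplicative.ofAdd.surjective m
    show (faceAlgHom R hL) ((MonoidAlgebra.mapDomainBialgHom R _) (MonoidAlgebra.single _ 1)) =
      (MonoidAlgebra.mapDomainBialgHom R _) ((faceAlgHom R hN) (MonoidAlgebra.single _ 1))
    rw [MonoidAlgebra.mapDomainBialgHom_single]
    by_cases hm : (m : M) ∈ N
    · rw [faceAlgHom_single_of_mem R hN m hm, MonoidAlgebra.mapDomainBialgHom_single]
      exact faceAlgHom_single_of_mem R hL _ (hNL hm) 1
    · rw [faceAlgHom_single_of_not_mem R hN m hm, map_zero]
      apply faceAlgHom_single_of_not_mem R hL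
      intro hmL
      exact hm (mem_N_of_mem_L hdiff m.2 hmL)

include hdiff in
/-- **The Milnor square of monoid algebras.** -/
theorem isMilnor :
    Groth.Agent.H42.MilnorGlue.IsMilnor (inclHom R hN'L') (faceAlgHom R hN).toRingHom
      (faceAlgHom R hL).toRingHom (inclHom R hNL) where
  comm p := DFunLike.congr_fun (comm_square R hNL hN'L' hL hN hdiff) p
  exists_lift a b hab := by
    have hsupp : (↑a.coeff.support : Set (Multiplicative ↥L')) ⊆
        Set.range (AddMonoidHom.toMultiplicative (AddSubmonoid.inclusion hN'L')) := by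
      intro l hl
      obtain ⟨l, rfl⟩ := Multiplicative.ofAdd.surjective l
      have hl0 : a.coeff (Multiplicative.ofAdd l) ≠ 0 := Finsupp.mem_support_iff.1 hl
      by_cases hlN' : (l : M) ∈ N'
      · exact ⟨Multiplicative.ofAdd ⟨l, hlN'⟩, rfl⟩
      · exfalso
        have hlL : (l : M) ∈ L := by
          by_contra hlL
          exact hlN' (mem_N'_of_not_mem_L hdiff l.2 hlL)
        have hlN : (l : M) ∉ N := fun hlN => hlN' (mem_N'_of_mem_N hdiff l.2 hlN)
        have h1 := faceAlgHom_coeff R hL a l hlL
        have h2 := inclHom_coeff_of_not_mem R hNL b ⟨l, hlL⟩ hlN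
        apply hl0
        have h3 : (faceAlgHom R hL a) = inclHom R hNL b := hab
        rw [h3] at h1
        rw [h2] at h1
        exact h1.symm
    refine ⟨MonoidAlgebra.comapDomain _ (inclFun_injective hN'L') a, ?_, ?_⟩
    · rw [inclHom_apply]
      exact MonoidAlgebra.mapDomain_comapDomain hsupp (inclFun_injective hN'L')
    · apply inclHom_injective R hNL
      have h4 := DFunLike.congr_fun (comm_square R hNL hN'L' hL hN hdiff)
        (MonoidAlgebra.comapDomain _ (inclFun_injective hN'L') a)
      rw [RingHom.comp_apply, RingHom.comp_apply, inclHom_apply R hN'L',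
        MonoidAlgebra.mapDomain_comapDomain hsupp (inclFun_injective hN'L')] at h4
      rw [← h4]
      exact hab
  inj p hp _ := by
    apply inclHom_injective R hN'L'
    rw [hp, map_zero]
  surj := faceAlgHom_surjective R hL

end Groth.Agent.H87.MagnetMilnor
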