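import Groth.Prelude.Def_Magnet
import Mathlib.CategoryTheory.Limits.Shapes.Pullback.IsPullback.Basic

/-!
# Actions on a push-out which stays a push-out after `A ⊗ -` and `(A ⊗ A) ⊗ -` (helper87)
-/

set_option autoImplicit false
universe v₁ u₁

open CategoryTheory MonoidalCategory CartesianMonoidalCategory MonObj Limits

namespace Groth.Agent.H87.MagnetPushAct

open Magnet

variable {C : Type u₁} [Category.{v₁} C] [CartesianMonoidalCategory C] {A : C} [MonObj A]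
  {Z X₁ X₂ P : C} {i : Z ⟶ X₁} {j : Z ⟶ X₂} {ν₁ : X₁ ⟶ P} {ν₂ : X₂ ⟶ P}

section

variable (hP : IsPushout i j ν₁ ν₂)
  (hA : IsPushout (A ◁ i) (A ◁ j) (A ◁ ν₁) (A ◁ ν₂))
  (hAA : IsPushout ((A ⊗ A) ◁ i) ((A ⊗ A) ◁ j) ((A ⊗ A) ◁ ν₁) ((A ⊗ A) ◁ ν₂))
  {ρZ : MonAct A Z} {ρ₁ : MonAct A X₁} {ρ₂ : MonAct A X₂}
  (hi : MonAct.IsEquivariant ρZ ρ₁ i) (hj : MonAct.IsEquivariant ρZ ρ₂ j)

include hP hi hj in
theorem act_compat : (A ◁ i) ≫ ρ₁.act ≫ ν₁ = (A ◁ j) ≫ ρ₂.act ≫ ν₂ := by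
  unfold MonAct.IsEquivariant at hi hj
  rw [← Category.assoc, ← hi, ← Category.assoc, ← hj, Category.assoc, Category.assoc, hP.w]

/-- The action morphism on the push-out. -/
noncomputable def actHom : A ⊗ P ⟶ P :=
  hA.desc (ρ₁.act ≫ ν₁) (ρ₂.act ≫ ν₂) (act_compat hP hi hj)

@[reassoc]
theorem inl_actHom : (A ◁ ν₁) ≫ actHom hP hA hi hj = ρ₁.act ≫ ν₁ := hA.inl_desc _ _ _

@[reassoc]
theorem inr_actHom : (A ◁ ν₂) ≫ actHom hP hA hi hj = ρ₂.act ≫ ν₂ := hA.inr_desc _ _ _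

/-- The action on the push-out. -/
noncomputable def act : MonAct A P where
  act := actHom hP hA hi hj
  one_act := by
    have key : (λ_ P).inv ≫ (η[A] ▷ P) ≫ actHom hP hA hi hj = 𝟙 P := by
      apply hP.hom_ext
      · rw [leftUnitor_inv_naturality_assoc, whisker_exchange_assoc, inl_actHom,
          ← Category.assoc (η[A] ▷ X₁), ρ₁.one_act, Iso.inv_hom_id_assoc, Category.comp_id]
      · rw [leftUnitor_inv_naturality_assoc, whisker_exchange_assoc, inr_actHom,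
          ← Category.assoc (η[A] ▷ X₂), ρ₂.one_act, Iso.inv_hom_id_assoc, Category.comp_id]
    calc (η[A] ▷ P) ≫ actHom hP hA hi hj
        = (λ_ P).hom ≫ (λ_ P).inv ≫ (η[A] ▷ P) ≫ actHom hP hA hi hj := by
          rw [Iso.hom_inv_id_assoc]
      _ = (λ_ P).hom := by rw [key, Category.comp_id]
  mul_act := by
    apply hAA.hom_ext
    · rw [whisker_exchange_assoc, inl_actHom, ← Category.assoc (μ[A] ▷ X₁), ρ₁.mul_act,
        associator_naturality_right_assoc, ← MonoidalCategory.whiskerLeft_comp_assoc,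
        inl_actHom, MonoidalCategory.whiskerLeft_comp_assoc, inl_actHom]
      simp only [Category.assoc]
    · rw [whisker_exchange_assoc, inr_actHom, ← Category.assoc (μ[A] ▷ X₂), ρ₂.mul_act,
        associator_naturality_right_assoc, ← MonoidalCategory.whiskerLeft_comp_assoc,
        inr_actHom, MonoidalCategory.whiskerLeft_comp_assoc, inr_actHom]
      simp only [Category.assoc]

theorem isEquivariant_inl : MonAct.IsEquivariant ρ₁ (act hP hA hAA hi hj) ν₁ :=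
  (inl_actHom hP hA hi hj).symm

theorem isEquivariant_inr : MonAct.IsEquivariant ρ₂ (act hP hA hAA hi hj) ν₂ :=
  (inr_actHom hP hA hi hj).symm

theorem isEquivariant_desc {X : C} (aX : MonAct A X) (f₁ : X₁ ⟶ X) (f₂ : X₂ ⟶ X)
    (w : i ≫ f₁ = j ≫ f₂) (h₁ : MonAct.IsEquivariant ρ₁ aX f₁)
    (h₂ : MonAct.IsEquivariant ρ₂ aX f₂) :
    MonAct.IsEquivariant (act hP hA hAA hi hj) aX (hP.desc f₁ f₂ w) := by
  unfold MonAct.IsEquivariant at h₁ h₂ ⊢
  apply hA.hom_ext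
  · change (A ◁ ν₁) ≫ actHom hP hA hi hj ≫ _ = _
    rw [inl_actHom_assoc, hP.inl_desc, h₁, ← MonoidalCategory.whiskerLeft_comp_assoc,
      hP.inl_desc]
  · change (A ◁ ν₂) ≫ actHom hP hA hi hj ≫ _ = _
    rw [inr_actHom_assoc, hP.inr_desc, h₂, ← MonoidalCategory.whiskerLeft_comp_assoc,
      hP.inr_desc]

end

/-- The first projection `B ⊗ T ⟶ B` is equivariant. -/
theorem isEquivariant_fst {B : C} (ρ : MonAct A B) (T : C) :
    MonAct.IsEquivariant (ρ.prod (MonAct.trivial A T)) ρ (fst B T) := by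
  rw [MonAct.isEquivariant_iff]
  intro T' g x
  rw [← lift_comp_fst_snd x, MonAct.lift_prod_act_assoc, lift_fst, lift_fst]

end Groth.Agent.H87.MagnetPushAct
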