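import Groth.Agent.H87.MagnetPushGeom
import Groth.Agent.H87.MagnetEqv
import Groth.Prelude.Def_MoreMor

/-!
# The equivariant push-out `A(F)_T ∪ A(N)_T̄` (helper87)
-/

set_option autoImplicit false
universe u

open CategoryTheory Limits AlgebraicGeometry MonoidalCategory CartesianMonoidalCategory

namespace Groth.Agent.H87.MagnetPushEqv

open Magnet

variable (T : Scheme.{u}) (M : Type) [AddCommMonoid M]

instance flat_AMonS_hom : Flat (AMonS T M).hom := by
  show Flat (pullback.snd (AMon (ULift.{u} ℤ) M).hom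
    (Limits.IsTerminal.from specULiftZIsTerminal T))
  infer_instance

instance flat_AMonS_tensor_hom : Flat (AMonS T M ⊗ AMonS T M).hom := by
  show Flat (pullback.fst (AMonS T M).hom (AMonS T M).hom ≫ (AMonS T M).hom)
  infer_instance

instance isAffine_AMonS_left [IsAffine T] : IsAffine (AMonS T M).left := by
  show IsAffine (pullback (AMon (ULift.{u} ℤ) M).hom
    (Limits.IsTerminal.from specULiftZIsTerminal T))
  have : IsAffine (AMon (ULift.{u} ℤ) M).left := inferInstanceAs (IsAffine (Spec _))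
  infer_instance

variable {M}

theorem isClosedImmersion_faceMapS_whiskerRight_left {N F : AddSubmonoid M} (hF : IsFace N F)
    (Tb : Over T) : IsClosedImmersion (AMonS.faceMap T hF ▷ Tb).left := by
  have hci : IsClosedImmersion (AMon.faceMap (ULift.{u} ℤ) hF).left :=
    MagnetPushout.isClosedImmersion_faceMap_left _ hF
  exact MorphismProperty.of_isPullback (P := @IsClosedImmersion)
    (MagnetPushoutT.isPullback_whiskerRight_left _ Tb (AMon.faceMap (ULift.{u} ℤ) hF)).flip hci

theorem main [IsAffine T] {N F : AddSubmonoid M} (hF : IsFace N F) (Tb : Over T)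
    [IsClosedImmersion Tb.hom] :
    ∃ (P : Over T) (ν₁ : AMonS T F ⟶ P) (ν₂ : AMonS T N ⊗ Tb ⟶ P)
      (hP : IsPushout (fst (AMonS T F) Tb) (AMonS.faceMap T hF ▷ Tb) ν₁ ν₂)
      (aP : MonAct (AMonS T M) P),
      IsAffine P.left ∧ MonAct.IsEquivariant (subAct T M F) aP ν₁ ∧
      MonAct.IsEquivariant ((subAct T M N).prod (MonAct.trivial (AMonS T M) Tb)) aP ν₂ ∧
      ∀ (X : Over T) (aX : MonAct (AMonS T M) X) (f₁ : AMonS T F ⟶ X)
        (f₂ : AMonS T N ⊗ Tb ⟶ X)
        (w : fst (AMonS T F) Tb ≫ f₁ = (AMonS.faceMap T hF ▷ Tb) ≫ f₂),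
        MonAct.IsEquivariant (subAct T M F) aX f₁ →
        MonAct.IsEquivariant ((subAct T M N).prod (MonAct.trivial (AMonS T M) Tb)) aX f₂ →
        MonAct.IsEquivariant aP aX (hP.desc f₁ f₂ w) := by
  have hci₁ : IsClosedImmersion (fst (AMonS T F) Tb).left := by
    show IsClosedImmersion (pullback.fst (AMonS T F).hom Tb.hom)
    infer_instance
  have hci₂ := isClosedImmersion_faceMapS_whiskerRight_left T hF Tb
  have hTb : IsAffine Tb.left := isAffine_of_isAffineHom Tb.hom
  have haff₂ : IsAffine (AMonS T N ⊗ Tb).left := by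
    show IsAffine (pullback (AMonS T N).hom Tb.hom)
    infer_instance
  obtain ⟨P, ν₁, ν₂, hP, hPaff⟩ := MagnetPushGeom.exists_isPushout_of_isAffine
    (fst (AMonS T F) Tb) (AMonS.faceMap T hF ▷ Tb)
  have hA := MagnetPushGeom.isPushout_whiskerLeft_of_flat (AMonS T M) hP
  have hAA := MagnetPushGeom.isPushout_whiskerLeft_of_flat (AMonS T M ⊗ AMonS T M) hP
  have hi := MagnetPushAct.isEquivariant_fst (subAct T M F) Tb
  have hj := MagnetEqv.isEquivariant_whiskerRight (isEquivariant_faceMapS T hF) Tb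
  refine ⟨P, ν₁, ν₂, hP, MagnetPushAct.act hP hA hAA hi hj, hPaff,
    MagnetPushAct.isEquivariant_inl hP hA hAA hi hj,
    MagnetPushAct.isEquivariant_inr hP hA hAA hi hj, ?_⟩
  intro X aX f₁ f₂ w h₁ h₂
  exact MagnetPushAct.isEquivariant_desc hP hA hAA hi hj aX f₁ f₂ w h₁ h₂

end Groth.Agent.H87.MagnetPushEqv
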