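import Groth.Agent.H87.MagnetPushoutT
import Groth.Agent.H87.MagnetPushAct
import Groth.Agent.H87.FerrIntegralBase
import Groth.Agent.H87.FerrFlatBC

/-!
# Push-outs of two closed immersions in `Over T`: existence and stability under `G ⊗ -` for flat `G`
(helper87)
-/

set_option autoImplicit false
universe u

open CategoryTheory Limits AlgebraicGeometry MonoidalCategory CartesianMonoidalCategory
  TopologicalSpace

namespace Groth.Agent.H87.MagnetPushGeom

open Groth.Agent.H87.FerrScheme

variable {T : Scheme.{u}}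

theorem isPullback_whiskerLeft_left (G : Over T) {A B : Over T} (k : A ⟶ B) :
    IsPullback (G ◁ k).left (snd G A).left (snd G B).left k.left := by
  have hcomm : (G ◁ k).left ≫ (snd G B).left = (snd G A).left ≫ k.left := by
    rw [← Over.comp_left, ← Over.comp_left, whiskerLeft_snd]
  have hfst : (G ◁ k).left ≫ (fst G B).left = (fst G A).left := by
    rw [← Over.comp_left, whiskerLeft_fst]
  have hout : IsPullback ((G ◁ k).left ≫ (fst G B).left) (snd G A).left G.hom
      (k.left ≫ B.hom) := by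
    rw [Over.w k, hfst]
    exact IsPullback.of_hasPullback G.hom A.hom
  exact IsPullback.of_right hout hcomm (IsPullback.of_hasPullback G.hom B.hom)

/-- `G ⊗ -` preserves push-outs of two closed immersions when `G` is flat over the base. -/
theorem isPushout_whiskerLeft_of_flat (G : Over T) [Flat G.hom] {Y X₁ X₂ X : Over T}
    {θ₁ : Y ⟶ X₁} {θ₂ : Y ⟶ X₂} [IsClosedImmersion θ₁.left] [IsClosedImmersion θ₂.left]
    {φ₁ : X₁ ⟶ X} {φ₂ : X₂ ⟶ X} (hX : IsPushout θ₁ θ₂ φ₁ φ₂) :
    IsPushout (G ◁ θ₁) (G ◁ θ₂) (G ◁ φ₁) (G ◁ φ₂) := by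
  have : PreservesColimitsOfSize.{0, 0} (Over.forget T) :=
    (Over.forgetAdjStar T).leftAdjoint_preservesColimits
  have hX' : IsPushout θ₁.left θ₂.left φ₁.left φ₂.left := hX.map (Over.forget T)
  have w : G ◁ θ₁ ≫ G ◁ φ₁ = G ◁ θ₂ ≫ G ◁ φ₂ := by
    rw [← MonoidalCategory.whiskerLeft_comp, ← MonoidalCategory.whiskerLeft_comp, hX.w]
  refine IsPushout.of_map (Over.forget T) w ?_
  have hflat : Flat (snd G X).left := by
    show Flat (pullback.snd G.hom X.hom)
    infer_instance
  exact isPushout_of_flat_baseChange hX' (isPullback_whiskerLeft_left G φ₁)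
    (isPullback_whiskerLeft_left G φ₂) (isPullback_whiskerLeft_left G θ₁)
    (isPullback_whiskerLeft_left G θ₂) (congrArg Over.Hom.left w)

/-- Existence of the push-out of two closed immersions of affine schemes over `T`. -/
theorem exists_isPushout_of_isAffine {Z X₁ X₂ : Over T} (i : Z ⟶ X₁) (j : Z ⟶ X₂)
    [IsClosedImmersion i.left] [IsClosedImmersion j.left] [IsAffine X₁.left] [IsAffine X₂.left] :
    ∃ (P : Over T) (ν₁ : X₁ ⟶ P) (ν₂ : X₂ ⟶ P), IsPushout i j ν₁ ν₂ ∧ IsAffine P.left := by
  have h := IsPushout.of_hasPushout i.left.toLRSHom j.left.toLRSHom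
  have hcov : Covered (pushout.inl i.left.toLRSHom j.left.toLRSHom)
      (pushout.inr i.left.toLRSHom j.left.toLRSHom) := fun p =>
    ⟨⊤, trivial, isAffineOpen_top X₁.left, isAffineOpen_top X₂.left⟩
  have hP := isPushout h hcov
  have haff : IsAffine (scheme h hcov) := by
    have h1 : IsAffineOpen (X := scheme h hcov) ⊤ :=
      isAffineOpen h hcov ⊤ (isAffineOpen_top X₁.left) (isAffineOpen_top X₂.left)
    have h2 : IsAffine (Scheme.Opens.toScheme (X := scheme h hcov) ⊤) := h1
    exact IsAffine.of_isIso (Scheme.topIso (scheme h hcov)).inv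
  have hw : i.left ≫ X₁.hom = j.left ≫ X₂.hom := by rw [Over.w, Over.w]
  refine ⟨Over.mk (hP.desc X₁.hom X₂.hom hw), Over.homMk (inl h hcov) (hP.inl_desc _ _ _),
    Over.homMk (inr h hcov) (hP.inr_desc _ _ _), ?_, haff⟩
  have : PreservesColimitsOfSize.{0, 0} (Over.forget T) :=
    (Over.forgetAdjStar T).leftAdjoint_preservesColimits
  refine IsPushout.of_map (Over.forget T) ?_ hP
  ext : 1
  exact hP.w

end Groth.Agent.H87.MagnetPushGeom
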