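import Groth.Agent.H87.MagnetMilnor
import Groth.Agent.H87.FerrRS

/-!
# Push-out of diagonalizable monoid schemes along faces (helper87)
-/

set_option autoImplicit false
universe u

open CategoryTheory Limits AlgebraicGeometry

namespace Groth.Agent.H87.MagnetPushout

open Magnet Groth.Agent.H42.MilnorGlue

section Spec

variable {P A B C₀ : Type u} [CommRing P] [CommRing A] [CommRing B] [CommRing C₀]
  {πA : P →+* A} {πB : P →+* B} {f : A →+* C₀} {g : B →+* C₀}

/-- A Milnor square of rings gives a push-out square of affine schemes, in the category of all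
schemes. -/
theorem isPushout_of_isMilnor (h : IsMilnor πA πB f g) :
    IsPushout (Spec.map (CommRingCat.ofHom f)) (Spec.map (CommRingCat.ofHom g))
      (Spec.map (CommRingCat.ofHom πA)) (Spec.map (CommRingCat.ofHom πB)) := by
  have w : Spec.map (CommRingCat.ofHom f) ≫ Spec.map (CommRingCat.ofHom πA) =
      Spec.map (CommRingCat.ofHom g) ≫ Spec.map (CommRingCat.ofHom πB) := by
    rw [← Spec.map_comp, ← Spec.map_comp]
    congr 1
    ext p
    exact h.comm p
  refine ⟨⟨w⟩, ⟨PushoutCocone.IsColimit.mk _
    (fun s => (h.exists_desc s.inl s.inr s.condition).choose) ?_ ?_ ?_⟩⟩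
  · intro s
    exact (h.exists_desc s.inl s.inr s.condition).choose_spec.1
  · intro s
    exact (h.exists_desc s.inl s.inr s.condition).choose_spec.2
  · intro s m hm₁ hm₂
    apply h.hom_ext
    · rw [hm₁]
      exact (h.exists_desc s.inl s.inr s.condition).choose_spec.1.symm
    · rw [hm₂]
      exact (h.exists_desc s.inl s.inr s.condition).choose_spec.2.symm

end Spec

section AMon

variable (R : Type u) [CommRing R] {M : Type} [AddCommMonoid M]
  {N N' L L' : AddSubmonoid M} (hNL : N ≤ L) (hN'L' : N' ≤ L') (hL : IsFace L' L)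
  (hN : IsFace N' N) (hdiff : (N' : Set M) = (L' : Set M) \ ((L : Set M) \ (N : Set M)))

include hdiff in
theorem isPushout_AMon_left :
    IsPushout (AMon.faceMap R hL).left (AMon.map R (AddSubmonoid.inclusion hNL)).left
      (AMon.map R (AddSubmonoid.inclusion hN'L')).left (AMon.faceMap R hN).left :=
  isPushout_of_isMilnor (MagnetMilnor.isMilnor R hNL hN'L' hL hN hdiff)

instance flat_AMon_hom (M : Type) [AddCommMonoid M] : Flat (AMon R M).hom := by
  have : Module.Free R (MonoidAlgebra R (Multiplicative M)) :=
    Module.Free.of_basis (MonoidAlgebra.basis (Multiplicative M) R)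
  show Flat (Spec.map (CommRingCat.ofHom (algebraMap R (MonoidAlgebra R (Multiplicative M)))))
  rw [HasRingHomProperty.Spec_iff (P := @Flat)]
  show (algebraMap R (MonoidAlgebra R (Multiplicative M))).Flat
  rw [RingHom.flat_algebraMap_iff]
  infer_instance

end AMon

section AMonS

open Groth.Agent.H87.FerrScheme

variable (S : Scheme.{u}) {M : Type} [AddCommMonoid M]
  {N N' L L' : AddSubmonoid M} (hNL : N ≤ L) (hN'L' : N' ≤ L') (hL : IsFace L' L)
  (hN : IsFace N' N) (hdiff : (N' : Set M) = (L' : Set M) \ ((L : Set M) \ (N : Set M)))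

theorem isClosedImmersion_faceMap_left (R : Type u) [CommRing R] {N F : AddSubmonoid M}
    (hF : IsFace N F) : IsClosedImmersion (AMon.faceMap R hF).left := by
  rw [AMon.faceMap_left]
  exact IsClosedImmersion.spec_of_surjective _ (MagnetMilnor.faceAlgHom_surjective R hF)

include hdiff in
set_option backward.isDefEq.respectTransparency.types false in
theorem isPushout_AMonS_left :
    IsPushout (AMonS.faceMap S hL).left (AMonS.map S (AddSubmonoid.inclusion hNL)).left
      (AMonS.map S (AddSubmonoid.inclusion hN'L')).left (AMonS.faceMap S hN).left := by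
  have hX := isPushout_AMon_left (ULift.{u} ℤ) hNL hN'L' hL hN hdiff
  have hci : IsClosedImmersion (AMon.faceMap (ULift.{u} ℤ) hL).left :=
    isClosedImmersion_faceMap_left _ hL
  have ha1 : IsAffineHom (AMon.map (ULift.{u} ℤ) (AddSubmonoid.inclusion hN'L')).left :=
    @isAffineHom_of_isAffine _ _ _ (inferInstanceAs (IsAffine (Spec _)))
      (inferInstanceAs (IsAffine (Spec _)))
  have ha2 : IsAffineHom (AMon.faceMap (ULift.{u} ℤ) hN).left :=
    @isAffineHom_of_isAffine _ _ _ (inferInstanceAs (IsAffine (Spec _)))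
      (inferInstanceAs (IsAffine (Spec _)))
  have h := IsPushout.of_hasPushout (AMon.faceMap (ULift.{u} ℤ) hL).left.toLRSHom
    (AMon.map (ULift.{u} ℤ) (AddSubmonoid.inclusion hNL)).left.toLRSHom
  have hcov := covered_of_isPushout_affine hX.w h
  have hfl : Flat ((AMon.faceMap (ULift.{u} ℤ) hL).left ≫
      (AMon.map (ULift.{u} ℤ) (AddSubmonoid.inclusion hN'L')).left ≫
      (AMon (ULift.{u} ℤ) ↥N').hom) := by
    rw [Over.w, Over.w]
    infer_instance
  have w' : (AMonS.faceMap S hL).left ≫ (AMonS.map S (AddSubmonoid.inclusion hN'L')).left =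
      (AMonS.map S (AddSubmonoid.inclusion hNL)).left ≫ (AMonS.faceMap S hN).left := by
    rw [← Over.comp_left, ← Over.comp_left]
    congr 1
    dsimp only [AMonS.faceMap, AMonS.map]
    rw [← Functor.map_comp, ← Functor.map_comp]
    congr 1
    ext : 1
    exact hX.w
  exact isPushout_of_baseChange_flat_corner h hcov hX (AMon (ULift.{u} ℤ) ↥N').hom
    (Limits.IsTerminal.from specULiftZIsTerminal S)
    (IsPullback.of_hasPullback _ _)
    (FerrOver.isPullback_map_left _ (AMon.map (ULift.{u} ℤ) (AddSubmonoid.inclusion hN'L')))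
    (FerrOver.isPullback_map_left _ (AMon.faceMap (ULift.{u} ℤ) hN))
    (FerrOver.isPullback_map_left _ (AMon.faceMap (ULift.{u} ℤ) hL))
    (FerrOver.isPullback_map_left _ (AMon.map (ULift.{u} ℤ) (AddSubmonoid.inclusion hNL)))
    w'

include hdiff in
/-- **Push-out of diagonalizable monoid schemes along faces, over any base.** -/
theorem isPushout_AMonS :
    IsPushout (AMonS.faceMap S hL) (AMonS.map S (AddSubmonoid.inclusion hNL))
      (AMonS.map S (AddSubmonoid.inclusion hN'L')) (AMonS.faceMap S hN) := by
  have : PreservesColimitsOfSize.{0, 0} (Over.forget S) :=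
    (Over.forgetAdjStar S).leftAdjoint_preservesColimits
  have w : AMonS.faceMap S hL ≫ AMonS.map S (AddSubmonoid.inclusion hN'L') =
      AMonS.map S (AddSubmonoid.inclusion hNL) ≫ AMonS.faceMap S hN := by
    ext : 1
    exact (isPushout_AMonS_left S hNL hN'L' hL hN hdiff).w
  exact IsPushout.of_map (Over.forget S) w (isPushout_AMonS_left S hNL hN'L' hL hN hdiff)

end AMonS

end Groth.Agent.H87.MagnetPushout
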