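import Groth.Agent.H87.MagnetPushout

/-!
# The face push-out of diagonalizable monoid schemes, multiplied by an arbitrary `T` over `S` (helper87)
-/

set_option autoImplicit false
universe u

open CategoryTheory Limits AlgebraicGeometry MonoidalCategory CartesianMonoidalCategory

namespace Groth.Agent.H87.MagnetPushoutT

open Magnet Groth.Agent.H87.FerrScheme

section General

variable {S₀ S : Scheme.{u}} (g₀ : S ⟶ S₀) (T : Over S)

/-- The projection `(A_S ⊗ T).left ⟶ A.left`. -/
noncomputable abbrev proj (A : Over S₀) : ((Over.pullback g₀).obj A ⊗ T).left ⟶ A.left :=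
  pullback.fst ((Over.pullback g₀).obj A).hom T.hom ≫ pullback.fst A.hom g₀

theorem isPullback_proj (A : Over S₀) :
    IsPullback (proj g₀ T A) (pullback.snd ((Over.pullback g₀).obj A).hom T.hom) A.hom
      (T.hom ≫ g₀) :=
  (IsPullback.of_hasPullback ((Over.pullback g₀).obj A).hom T.hom).paste_horiz
    (IsPullback.of_hasPullback A.hom g₀)

theorem isPullback_whiskerRight_left {A B : Over S₀} (k : A ⟶ B) :
    IsPullback (((Over.pullback g₀).map k) ▷ T).left (proj g₀ T A) (proj g₀ T B) k.left := by
  have hcomm : (((Over.pullback g₀).map k) ▷ T).left ≫ proj g₀ T B = proj g₀ T A ≫ k.left := by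
    rw [Over.whiskerRight_left]
    simp only [proj, pullback.map, pullback.lift_fst_assoc, Category.assoc]
    congr 1
    exact pullback.lift_fst _ _ _
  have hout : IsPullback ((((Over.pullback g₀).map k) ▷ T).left ≫
      pullback.snd ((Over.pullback g₀).obj B).hom T.hom) (proj g₀ T A) (T.hom ≫ g₀)
      (k.left ≫ B.hom) := by
    rw [Over.w k]
    have : (((Over.pullback g₀).map k) ▷ T).left ≫
        pullback.snd ((Over.pullback g₀).obj B).hom T.hom =
        pullback.snd ((Over.pullback g₀).obj A).hom T.hom := by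
      rw [Over.whiskerRight_left]
      simp only [pullback.map]
      rw [pullback.lift_snd]
      exact Category.comp_id _
    rw [this]
    exact (isPullback_proj g₀ T A).flip
  exact IsPullback.of_right hout hcomm (isPullback_proj g₀ T B).flip

end General

section AMonS

variable (S : Scheme.{u}) (T : Over S) {M : Type} [AddCommMonoid M]
  {N N' L L' : AddSubmonoid M} (hNL : N ≤ L) (hN'L' : N' ≤ L') (hL : IsFace L' L)
  (hN : IsFace N' N) (hdiff : (N' : Set M) = (L' : Set M) \ ((L : Set M) \ (N : Set M)))

include hdiff in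
set_option backward.isDefEq.respectTransparency.types false in
theorem isPushout_whiskerRight_left :
    IsPushout (AMonS.faceMap S hL ▷ T).left (AMonS.map S (AddSubmonoid.inclusion hNL) ▷ T).left
      (AMonS.map S (AddSubmonoid.inclusion hN'L') ▷ T).left (AMonS.faceMap S hN ▷ T).left := by
  have hX := MagnetPushout.isPushout_AMon_left (ULift.{u} ℤ) hNL hN'L' hL hN hdiff
  have hci : IsClosedImmersion (AMon.faceMap (ULift.{u} ℤ) hL).left :=
    MagnetPushout.isClosedImmersion_faceMap_left _ hL
  have ha1 : IsAffineHom (AMon.map (ULift.{u} ℤ) (AddSubmonoid.inclusion hN'L')).left :=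
    @isAffineHom_of_isAffine _ _ _ (inferInstanceAs (IsAffine (Spec _)))
      (inferInstanceAs (IsAffine (Spec _)))
  have ha2 : IsAffineHom (AMon.faceMap (ULift.{u} ℤ) hN).left :=
    @isAffineHom_of_isAffine _ _ _ (inferInstanceAs (IsAffine (Spec _)))
      (inferInstanceAs (IsAffine (Spec _)))
  have h := IsPushout.of_hasPushout (AMon.faceMap (ULift.{u} ℤ) hL).left.toLRSHom
    (AMon.map (ULift.{u} ℤ) (AddSubmonoid.inclusion hNL)).left.toLRSHom
  have hcov := covered_of_isPushout_affine hX.w h
  have hfl : Flat ((AMon.faceMap (ULift.{u} ℤ) hL).left ≫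
      (AMon.map (ULift.{u} ℤ) (AddSubmonoid.inclusion hN'L')).left ≫
      (AMon (ULift.{u} ℤ) ↥N').hom) := by
    rw [Over.w, Over.w]
    infer_instance
  have w' : (AMonS.faceMap S hL ▷ T).left ≫
      (AMonS.map S (AddSubmonoid.inclusion hN'L') ▷ T).left =
      (AMonS.map S (AddSubmonoid.inclusion hNL) ▷ T).left ≫ (AMonS.faceMap S hN ▷ T).left := by
    rw [← Over.comp_left, ← Over.comp_left, ← MonoidalCategory.comp_whiskerRight,
      ← MonoidalCategory.comp_whiskerRight,
      (MagnetPushout.isPushout_AMonS S hNL hN'L' hL hN hdiff).w]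
  exact isPushout_of_baseChange_flat_corner h hcov hX (AMon (ULift.{u} ℤ) ↥N').hom
    (T.hom ≫ Limits.IsTerminal.from specULiftZIsTerminal S)
    (isPullback_proj _ T _)
    (isPullback_whiskerRight_left _ T (AMon.map (ULift.{u} ℤ) (AddSubmonoid.inclusion hN'L')))
    (isPullback_whiskerRight_left _ T (AMon.faceMap (ULift.{u} ℤ) hN))
    (isPullback_whiskerRight_left _ T (AMon.faceMap (ULift.{u} ℤ) hL))
    (isPullback_whiskerRight_left _ T (AMon.map (ULift.{u} ℤ) (AddSubmonoid.inclusion hNL)))
    w'

include hdiff in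
/-- **Push-out of diagonalizable monoid schemes along faces, times `T`.** -/
theorem isPushout_whiskerRight :
    IsPushout (AMonS.faceMap S hL ▷ T) (AMonS.map S (AddSubmonoid.inclusion hNL) ▷ T)
      (AMonS.map S (AddSubmonoid.inclusion hN'L') ▷ T) (AMonS.faceMap S hN ▷ T) := by
  have : PreservesColimitsOfSize.{0, 0} (Over.forget S) :=
    (Over.forgetAdjStar S).leftAdjoint_preservesColimits
  have w : AMonS.faceMap S hL ▷ T ≫ AMonS.map S (AddSubmonoid.inclusion hN'L') ▷ T =
      AMonS.map S (AddSubmonoid.inclusion hNL) ▷ T ≫ AMonS.faceMap S hN ▷ T := by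
    rw [← MonoidalCategory.comp_whiskerRight, ← MonoidalCategory.comp_whiskerRight,
      (MagnetPushout.isPushout_AMonS S hNL hN'L' hL hN hdiff).w]
  exact IsPushout.of_map (Over.forget S) w
    (isPushout_whiskerRight_left S T hNL hN'L' hL hN hdiff)

end AMonS

end Groth.Agent.H87.MagnetPushoutT
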