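import Groth.Agent.H87.Mil5

/-!
# Milnor squares, part 8: the fibre product ring `X ×_Z Y` and the relative finiteness of glueing
-/

set_option autoImplicit false
universe u
open TensorProduct Function

namespace Groth.Agent.H87.Mil

section Pb
variable (R X Y Z : Type u) [CommRing R] [CommRing X] [CommRing Y] [CommRing Z]
  [Algebra R X] [Algebra R Y] [Algebra X Z] [Algebra Y Z] [Algebra R Z]
  [IsScalarTower R X Z] [IsScalarTower R Y Z]

/-- the fibre product ring `X ×_Z Y` as an `R`-subalgebra of `X × Y` -/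
def Pb : Subalgebra R (X × Y) :=
  AlgHom.equalizer ((IsScalarTower.toAlgHom R X Z).comp (AlgHom.fst R X Y))
    ((IsScalarTower.toAlgHom R Y Z).comp (AlgHom.snd R X Y))

theorem mem_Pb (p : X × Y) : p ∈ Pb R X Y Z ↔ algebraMap X Z p.1 = algebraMap Y Z p.2 := Iff.rfl

/-- first projection -/
def pbFst : Pb R X Y Z →ₐ[R] X := (AlgHom.fst R X Y).comp (Pb R X Y Z).val
/-- second projection -/
def pbSnd : Pb R X Y Z →ₐ[R] Y := (AlgHom.snd R X Y).comp (Pb R X Y Z).val

theorem pbFst_apply (p : Pb R X Y Z) : pbFst R X Y Z p = (p : X × Y).1 := rfl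
theorem pbSnd_apply (p : Pb R X Y Z) : pbSnd R X Y Z p = (p : X × Y).2 := rfl

theorem pb_cond (p : Pb R X Y Z) : algebraMap X Z (p : X × Y).1 = algebraMap Y Z (p : X × Y).2 := p.2

/-- algebra structures -/
noncomputable abbrev pbAlgX : Algebra (Pb R X Y Z) X := (pbFst R X Y Z).toRingHom.toAlgebra
noncomputable abbrev pbAlgY : Algebra (Pb R X Y Z) Y := (pbSnd R X Y Z).toRingHom.toAlgebra
noncomputable abbrev pbAlgZ : Algebra (Pb R X Y Z) Z :=
  ((algebraMap X Z).comp (pbFst R X Y Z).toRingHom).toAlgebra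

attribute [local instance] pbAlgX pbAlgY pbAlgZ

theorem pb_algebraMap_X (p : Pb R X Y Z) : algebraMap (Pb R X Y Z) X p = (p : X × Y).1 := rfl
theorem pb_algebraMap_Y (p : Pb R X Y Z) : algebraMap (Pb R X Y Z) Y p = (p : X × Y).2 := rfl
theorem pb_algebraMap_Z (p : Pb R X Y Z) :
    algebraMap (Pb R X Y Z) Z p = algebraMap X Z (p : X × Y).1 := rfl

theorem pb_towerX : IsScalarTower (Pb R X Y Z) X Z :=
  IsScalarTower.of_algebraMap_eq (fun _ => rfl)

theorem pb_towerY : IsScalarTower (Pb R X Y Z) Y Z :=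
  IsScalarTower.of_algebraMap_eq (fun p => pb_cond R X Y Z p)

theorem pb_isFibreSquare (hYZ : Surjective (algebraMap Y Z)) :
    EtMil.IsFibreSquare (Pb R X Y Z) X Y Z := by
  refine ⟨hYZ, fun x y hxy => ⟨⟨(x, y), hxy⟩, ⟨rfl, rfl⟩, ?_⟩⟩
  rintro q ⟨h1, h2⟩
  exact Subtype.ext (Prod.ext h1 h2)

section modules
variable (N M' : Type u) [AddCommGroup N] [Module X N] [AddCommGroup M'] [Module Y M']

/-- module structure by restriction along the first projection -/
noncomputable abbrev pbModX : Module (Pb R X Y Z) N := Module.compHom N (pbFst R X Y Z).toRingHom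
/-- module structure by restriction along the second projection -/
noncomputable abbrev pbModY : Module (Pb R X Y Z) M' := Module.compHom M' (pbSnd R X Y Z).toRingHom

attribute [local instance] pbModX pbModY

theorem pb_smulX (p : Pb R X Y Z) (n : N) : p • n = (p : X × Y).1 • n := rfl
theorem pb_smulY (p : Pb R X Y Z) (m : M') : p • m = (p : X × Y).2 • m := rfl

theorem pb_towerModX : IsScalarTower (Pb R X Y Z) X N :=
  ⟨fun p x n => by
    change ((p : X × Y).1 * x) • n = (p : X × Y).1 • (x • n)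
    rw [mul_smul]⟩

theorem pb_towerModY : IsScalarTower (Pb R X Y Z) Y M' :=
  ⟨fun p y m => by
    change ((p : X × Y).2 * y) • m = (p : X × Y).2 • (y • m)
    rw [mul_smul]⟩

theorem pb_towerRX [Module R N] [IsScalarTower R X N] : IsScalarTower R (Pb R X Y Z) N :=
  ⟨fun r p n => by
    rw [pb_smulX, pb_smulX]
    change (r • (p : X × Y).1) • n = _
    rw [smul_assoc]⟩

theorem pb_towerRY [Module R M'] [IsScalarTower R Y M'] : IsScalarTower R (Pb R X Y Z) M' :=
  ⟨fun r p m => by
    rw [pb_smulY, pb_smulY]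
    change (r • (p : X × Y).2) • m = _
    rw [smul_assoc]⟩

end modules
end Pb

section rel
variable {R X Y Z : Type u} [CommRing R] [CommRing X] [CommRing Y] [CommRing Z]
  [Algebra R X] [Algebra R Y] [Algebra X Z] [Algebra Y Z] [Algebra R Z]
  [IsScalarTower R X Z] [IsScalarTower R Y Z]
  {N M' : Type u} [AddCommGroup N] [Module X N] [Module R N] [IsScalarTower R X N]
  [AddCommGroup M'] [Module Y M'] [Module R M'] [IsScalarTower R Y M']

attribute [local instance] pbAlgX pbAlgY pbAlgZ pbModX pbModY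

/-- If `R → X ×_Z Y` is surjective (and `Y → Z` is surjective), glueing finite modules gives a
finite `R`-module. -/
theorem glue_finite_rel (hYZ : Surjective (algebraMap Y Z))
    (hsurj : ∀ (x : X) (y : Y), algebraMap X Z x = algebraMap Y Z y →
      ∃ r : R, algebraMap R X r = x ∧ algebraMap R Y r = y)
    (φ : Z ⊗[X] N ≃ₗ[Z] Z ⊗[Y] M') [Module.Finite X N] [Module.Finite Y M'] :
    Module.Finite R ↥(EtMil.glue R φ) := by
  haveI := pb_towerX R X Y Z
  haveI := pb_towerY R X Y Z
  haveI := pb_towerModX R X Y Z N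
  haveI := pb_towerModY R X Y Z M'
  haveI := pb_towerRX R X Y Z N
  haveI := pb_towerRY R X Y Z M'
  have hfs := pb_isFibreSquare R X Y Z hYZ
  haveI hfin : Module.Finite (Pb R X Y Z) ↥(EtMil.glue (Pb R X Y Z) φ) := glue_finite φ hfs
  haveI : Module.Finite R (Pb R X Y Z) := by
    refine Module.Finite.of_surjective (Algebra.linearMap R (Pb R X Y Z)) ?_
    rintro ⟨⟨x, y⟩, hxy⟩
    obtain ⟨r, hr1, hr2⟩ := hsurj x y hxy
    refine ⟨r, Subtype.ext ?_⟩
    change algebraMap R (X × Y) r = (x, y)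
    rw [Prod.algebraMap_apply, hr1, hr2]
  haveI : IsScalarTower R (Pb R X Y Z) ↥(EtMil.glue (Pb R X Y Z) φ) :=
    ⟨fun r p x => Subtype.ext (smul_assoc r p (x : N × M'))⟩
  haveI : Module.Finite R ↥(EtMil.glue (Pb R X Y Z) φ) :=
    Module.Finite.trans (Pb R X Y Z) _
  let e : ↥(EtMil.glue (Pb R X Y Z) φ) ≃ₗ[R] ↥(EtMil.glue R φ) :=
    { toFun := fun x => ⟨x.1, x.2⟩
      invFun := fun x => ⟨x.1, x.2⟩
      left_inv := fun _ => rfl
      right_inv := fun _ => rfl
      map_add' := fun _ _ => rfl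
      map_smul' := fun _ _ => rfl }
  exact Module.Finite.equiv e

end rel

end Groth.Agent.H87.Mil
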