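import Groth.Agent.H87.Mil8
import Groth.Agent.S6921

/-!
# Milnor squares, part 10: finite presentation of glued modules in the relative situation
-/

set_option autoImplicit false
universe u
open TensorProduct Function

namespace Groth.Agent.H87.Mil10

section general

/-- If `0 → K → F → L → 0` is exact, `S ⊗ K → S ⊗ F` is injective, `F` is finite, and `S ⊗ L` is
finitely presented over `S`, then `S ⊗ K` is finite over `S`. -/
theorem finite_baseChange_ker' {R S : Type u} [CommRing R] [CommRing S] [Algebra R S]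
    {F L : Type u} [AddCommGroup F] [AddCommGroup L] [Module R F] [Module R L]
    [Module.Finite R F] [Module.FinitePresentation S (S ⊗[R] L)]
    (p : F →ₗ[R] L) (hp : Surjective p)
    (hinj : Injective ((LinearMap.ker p).subtype.baseChange S)) :
    Module.Finite S (S ⊗[R] LinearMap.ker p) := by
  have hex : Function.Exact ((LinearMap.ker p).subtype.baseChange S) (p.baseChange S) :=
    lTensor_exact S (LinearMap.exact_subtype_ker_map p) hp
  have hfg : (LinearMap.ker (p.baseChange S)).FG :=
    Module.FinitePresentation.fg_ker (p.baseChange S) (LinearMap.lTensor_surjective S hp)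
  rw [LinearMap.exact_iff.1 hex] at hfg
  have : Module.Finite S ↥(LinearMap.range ((LinearMap.ker p).subtype.baseChange S)) :=
    Module.Finite.iff_fg.2 hfg
  exact Module.Finite.equiv (LinearEquiv.ofInjective _ hinj).symm

variable (R S A B : Type u) [CommRing R] [CommRing S] [CommRing A] [CommRing B]
  [Algebra R S] [Algebra R A] [Algebra R B] [Algebra A B] [Algebra S B]
  [IsScalarTower R A B] [IsScalarTower R S B] [Algebra.IsPushout R S A B]

/-- naturality of `Algebra.IsPushout.cancelBaseChange` -/
theorem cancel_symm_natural {M M' : Type u} [AddCommGroup M] [AddCommGroup M'] [Module R M]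
    [Module A M] [IsScalarTower R A M] [Module R M'] [Module A M'] [IsScalarTower R A M']
    (f : M →ₗ[A] M') (y : S ⊗[R] M) :
    (f.lTensor B) ((Algebra.IsPushout.cancelBaseChange R S A B M).symm y) =
      (Algebra.IsPushout.cancelBaseChange R S A B M').symm (((f.restrictScalars R).lTensor S) y) := by
  induction y using TensorProduct.induction_on with
  | zero => simp
  | add x y hx hy => simp only [map_add, hx, hy]
  | tmul s m =>
    rw [Algebra.IsPushout.cancelBaseChange_symm_tmul, LinearMap.lTensor_tmul,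
      LinearMap.lTensor_tmul, Algebra.IsPushout.cancelBaseChange_symm_tmul]
    rfl

end general

theorem tower_of_mid (R S₁ S₂ T : Type u) [CommRing R] [CommRing S₁] [CommRing S₂] [CommRing T]
    [Algebra R S₁] [Algebra R S₂] [Algebra S₁ S₂] [Algebra R T] [Algebra S₁ T] [Algebra S₂ T]
    [IsScalarTower R S₁ S₂] [IsScalarTower R S₁ T] [IsScalarTower S₁ S₂ T] : IsScalarTower R S₂ T :=
  IsScalarTower.of_algebraMap_eq fun x => by
    rw [IsScalarTower.algebraMap_apply R S₁ T, IsScalarTower.algebraMap_apply S₁ S₂ T,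
      ← IsScalarTower.algebraMap_apply R S₁ S₂]

theorem pushout_right (R S T R' S' T' : Type u) [CommRing R] [CommRing S] [CommRing T]
    [CommRing R'] [CommRing S'] [CommRing T']
    [Algebra R S] [Algebra R T] [Algebra S T] [IsScalarTower R S T]
    [Algebra R R'] [Algebra S S'] [Algebra R' S'] [Algebra R S'] [IsScalarTower R S S']
    [IsScalarTower R R' S']
    [Algebra R T'] [Algebra S' T'] [Algebra S T'] [Algebra T T'] [Algebra R' T']
    [IsScalarTower R T T'] [IsScalarTower S T T'] [IsScalarTower S S' T']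
    [IsScalarTower R R' T'] [IsScalarTower R' S' T']
    [Algebra.IsPushout R S R' S'] [Algebra.IsPushout R T R' T'] : Algebra.IsPushout S T S' T' := by
  have : IsScalarTower R S' T' := tower_of_mid R R' S' T'
  exact (Algebra.IsPushout.comp_iff R S R' (S' := S') (T := T) (T' := T')).1 inferInstance

section relfin
variable {B' B A' A : Type u} [CommRing B'] [CommRing B] [CommRing A'] [CommRing A]
  [Algebra B' B] [Algebra B' A'] [Algebra B A] [Algebra A' A] [Algebra B' A]
  [IsScalarTower B' B A] [IsScalarTower B' A' A]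
  {D' D C' : Type u} [CommRing D'] [CommRing D] [CommRing C']
  [Algebra B' D'] [Algebra B D] [Algebra A' C']
  [Algebra D' D] [Algebra B' D] [IsScalarTower B' B D] [IsScalarTower B' D' D]
  [Algebra.IsPushout B' B D' D]
  [Algebra D' C'] [Algebra B' C'] [IsScalarTower B' A' C'] [IsScalarTower B' D' C']
  [Algebra.IsPushout B' A' D' C']

/-- relative finiteness descent -/
theorem rel_finite (hsq : EtMil.IsFibreSquare B' B A' A)
    (K : Type u) [AddCommGroup K] [Module D' K] [Module B' K] [IsScalarTower B' D' K]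
    [Module.Finite D (D ⊗[D'] K)] [Module.Finite C' (C' ⊗[D'] K)] : Module.Finite D' K := by
  classical
  obtain ⟨T₁, hT₁⟩ := Groth.Agent.H74.Milnor.exists_finset_span_tmul D' D K
  obtain ⟨T₂, hT₂⟩ := Groth.Agent.H74.Milnor.exists_finset_span_tmul D' C' K
  have h1 : Submodule.span D ((fun m : K => ((1 : D) ⊗ₜ[D'] m : D ⊗[D'] K)) ''
      ((T₁ ∪ T₂ : Finset K) : Set K)) = ⊤ := by
    rw [eq_top_iff, ← hT₁]
    apply Submodule.span_mono
    apply Set.image_mono
    simp
  have h2 : Submodule.span C' ((fun m : K => ((1 : C') ⊗ₜ[D'] m : C' ⊗[D'] K)) ''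
      ((T₁ ∪ T₂ : Finset K) : Set K)) = ⊤ := by
    rw [eq_top_iff, ← hT₂]
    apply Submodule.span_mono
    apply Set.image_mono
    simp
  haveI := Groth.Agent.H74.Milnor.subsingleton_tensor_quot D' D K _ h1
  haveI := Groth.Agent.H74.Milnor.subsingleton_tensor_quot D' C' K _ h2
  haveI : Subsingleton (B ⊗[B'] (K ⧸ Submodule.span D' ((T₁ ∪ T₂ : Finset K) : Set K))) :=
    (Algebra.IsPushout.cancelBaseChange B' B D' D
      (K ⧸ Submodule.span D' ((T₁ ∪ T₂ : Finset K) : Set K))).symm.injective.subsingleton
  haveI : Subsingleton (A' ⊗[B'] (K ⧸ Submodule.span D' ((T₁ ∪ T₂ : Finset K) : Set K))) :=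
    (Algebra.IsPushout.cancelBaseChange B' A' D' C'
      (K ⧸ Submodule.span D' ((T₁ ∪ T₂ : Finset K) : Set K))).symm.injective.subsingleton
  have hQ := Groth.Agent.H74.Milnor.subsingleton_of_tensor hsq
    (K ⧸ Submodule.span D' ((T₁ ∪ T₂ : Finset K) : Set K))
  have htop : Submodule.span D' ((T₁ ∪ T₂ : Finset K) : Set K) = ⊤ :=
    Submodule.Quotient.subsingleton_iff.1 hQ
  exact ⟨⟨T₁ ∪ T₂, htop⟩⟩

end relfin

section phi

variable {B A' A D C' C : Type u} [CommRing B] [CommRing A'] [CommRing A]
  [CommRing D] [CommRing C'] [CommRing C]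
  [Algebra B A] [Algebra A' A] [Algebra B D] [Algebra A' C'] [Algebra A C]
  [Algebra D C] [Algebra B C] [IsScalarTower B A C] [IsScalarTower B D C]
  [Algebra C' C] [Algebra A' C] [IsScalarTower A' A C] [IsScalarTower A' C' C]
  [Algebra.IsPushout B A D C] [Algebra.IsPushout A' A C' C]
  {N M' : Type u} [AddCommGroup N] [Module D N] [Module B N] [IsScalarTower B D N]
  [AddCommGroup M'] [Module C' M'] [Module A' M'] [IsScalarTower A' C' M']

/-- the glueing isomorphism over `A` induced by one over `C` -/
noncomputable def phiBase (φ : C ⊗[D] N ≃ₗ[C] C ⊗[C'] M') : A ⊗[B] N ≃ₗ[A] A ⊗[A'] M' :=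
  (Algebra.IsPushout.cancelBaseChange B A D C N).symm ≪≫ₗ (φ.restrictScalars A) ≪≫ₗ
    (Algebra.IsPushout.cancelBaseChange A' A C' C M')

theorem phiBase_one_tmul (φ : C ⊗[D] N ≃ₗ[C] C ⊗[C'] M') (n : N) :
    phiBase φ ((1 : A) ⊗ₜ[B] n) =
      Algebra.IsPushout.cancelBaseChange A' A C' C M' (φ ((1 : C) ⊗ₜ[D] n)) := by
  unfold phiBase
  rw [LinearEquiv.trans_apply, LinearEquiv.trans_apply,
    Algebra.IsPushout.cancelBaseChange_symm_tmul, map_one]
  rfl

theorem phiBase_iff (φ : C ⊗[D] N ≃ₗ[C] C ⊗[C'] M') (n : N) (m' : M') :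
    phiBase φ ((1 : A) ⊗ₜ[B] n) = (1 : A) ⊗ₜ[A'] m' ↔
      φ ((1 : C) ⊗ₜ[D] n) = (1 : C) ⊗ₜ[C'] m' := by
  rw [phiBase_one_tmul]
  constructor
  · intro h
    have := congrArg (Algebra.IsPushout.cancelBaseChange A' A C' C M').symm h
    rw [LinearEquiv.symm_apply_apply, Algebra.IsPushout.cancelBaseChange_symm_tmul, map_one] at this
    exact this
  · intro h
    rw [h, Algebra.IsPushout.cancelBaseChange_tmul]

end phi

section main

variable {B' B A' A : Type u} [CommRing B'] [CommRing B] [CommRing A'] [CommRing A]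
  [Algebra B' B] [Algebra B' A'] [Algebra B A] [Algebra A' A] [Algebra B' A]
  [IsScalarTower B' B A] [IsScalarTower B' A' A]
  {D' D C' C : Type u} [CommRing D'] [CommRing D] [CommRing C'] [CommRing C]
  [Algebra B' D'] [Algebra B D] [Algebra A' C'] [Algebra A C]
  [Algebra D' D] [Algebra B' D] [IsScalarTower B' B D] [IsScalarTower B' D' D]
  [Algebra.IsPushout B' B D' D]
  [Algebra D' C'] [Algebra B' C'] [IsScalarTower B' A' C'] [IsScalarTower B' D' C']
  [Algebra.IsPushout B' A' D' C']
  [Algebra D' C] [Algebra B' C] [IsScalarTower B' A C] [IsScalarTower B' D' C]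
  [Algebra.IsPushout B' A D' C]
  [Algebra D C] [IsScalarTower D' D C] [Algebra B C] [IsScalarTower B A C] [IsScalarTower B D C]
  [Algebra C' C] [IsScalarTower D' C' C] [Algebra A' C] [IsScalarTower A' A C]
  [IsScalarTower A' C' C]
  {N M' : Type u} [AddCommGroup N] [Module D N] [Module D' N] [IsScalarTower D' D N]
  [AddCommGroup M'] [Module C' M'] [Module D' M'] [IsScalarTower D' C' M']
  [Module B N] [IsScalarTower B D N] [Module A' M'] [IsScalarTower A' C' M']
  [Module B' N] [IsScalarTower B' B N] [IsScalarTower B' D' N]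
  [Module B' M'] [IsScalarTower B' A' M'] [IsScalarTower B' D' M']

theorem rel_fp (hsq : EtMil.IsFibreSquare B' B A' A) (φ : C ⊗[D] N ≃ₗ[C] C ⊗[C'] M')
    [Module.FinitePresentation D N] [Module.Flat B N] [Module.FinitePresentation C' M']
    [Module.Flat A' M'] :
    Module.FinitePresentation D' ↥(EtMil.glue D' φ) := by
  have : Algebra.IsPushout B A D C := pushout_right B' B A D' D C
  have : Algebra.IsPushout A' A C' C := pushout_right B' A' A D' C' C
  -- the identification with the glued module over the base square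
  let ψ : A ⊗[B] N ≃ₗ[A] A ⊗[A'] M' := phiBase φ
  let ι : ↥(EtMil.glue D' φ) ≃ₗ[B'] ↥(EtMil.glue B' ψ) :=
    { toFun := fun x => ⟨x.1, (phiBase_iff φ _ _).2 x.2⟩
      invFun := fun x => ⟨x.1, (phiBase_iff φ _ _).1 x.2⟩
      left_inv := fun _ => rfl
      right_inv := fun _ => rfl
      map_add' := fun _ _ => rfl
      map_smul' := fun _ _ => rfl }
  have hιfst : ∀ g : ↥(EtMil.glue D' φ), ((ι g : ↥(EtMil.glue B' ψ)) : N × M').1 = (g : N × M').1 :=
    fun _ => rfl
  have hιsnd : ∀ g : ↥(EtMil.glue D' φ), ((ι g : ↥(EtMil.glue B' ψ)) : N × M').2 = (g : N × M').2 :=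
    fun _ => rfl
  haveI : Module.Flat B' ↥(EtMil.glue B' ψ) := Groth.Agent.H87.Mil.glue_flat ψ hsq
  haveI : Module.Flat B' ↥(EtMil.glue D' φ) := Module.Flat.of_linearEquiv ι
  haveI : Module.Finite D' ↥(EtMil.glue D' φ) := Groth.Agent.S6921.result B' B A' A hsq D' D C' C φ
  -- `D ⊗ G → N` is bijective
  have hbijD : Bijective (LinearMap.liftBaseChange D (EtMil.glueFst D' φ)) := by
    have key : ∀ y : B ⊗[B'] ↥(EtMil.glue D' φ),
        LinearMap.liftBaseChange D (EtMil.glueFst D' φ)
          ((Algebra.IsPushout.cancelBaseChange B' B D' D ↥(EtMil.glue D' φ)).symm y) =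
        LinearMap.liftBaseChange B (EtMil.glueFst B' ψ) ((ι.toLinearMap.lTensor B) y) := by
      intro y
      induction y using TensorProduct.induction_on with
      | zero => simp
      | add x y hx hy => simp only [map_add, hx, hy]
      | tmul b g =>
        rw [Algebra.IsPushout.cancelBaseChange_symm_tmul, LinearMap.liftBaseChange_tmul,
          LinearMap.lTensor_tmul, LinearMap.liftBaseChange_tmul]
        change algebraMap B D b • (g : N × M').1 = b • (g : N × M').1
        rw [algebraMap_smul]
    have h1 : Bijective (fun y : B ⊗[B'] ↥(EtMil.glue D' φ) =>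
        LinearMap.liftBaseChange B (EtMil.glueFst B' ψ) ((ι.toLinearMap.lTensor B) y)) :=
      (Groth.Agent.H87.Mil.glueFst_bijective ψ hsq).comp (ι.lTensor B).bijective
    have h2 : (LinearMap.liftBaseChange D (EtMil.glueFst D' φ) : D ⊗[D'] ↥(EtMil.glue D' φ) → N) =
        (fun y : B ⊗[B'] ↥(EtMil.glue D' φ) =>
          LinearMap.liftBaseChange B (EtMil.glueFst B' ψ) ((ι.toLinearMap.lTensor B) y)) ∘
        (Algebra.IsPushout.cancelBaseChange B' B D' D ↥(EtMil.glue D' φ)) := by
      funext x
      rw [Function.comp_apply, ← key, LinearEquiv.symm_apply_apply]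
    rw [h2]
    exact h1.comp (LinearEquiv.bijective _)
  -- `C' ⊗ G → M'` is bijective
  have hbijC' : Bijective (LinearMap.liftBaseChange C' (EtMil.glueSnd D' φ)) := by
    have key : ∀ y : A' ⊗[B'] ↥(EtMil.glue D' φ),
        LinearMap.liftBaseChange C' (EtMil.glueSnd D' φ)
          ((Algebra.IsPushout.cancelBaseChange B' A' D' C' ↥(EtMil.glue D' φ)).symm y) =
        LinearMap.liftBaseChange A' (EtMil.glueSnd B' ψ) ((ι.toLinearMap.lTensor A') y) := by
      intro y
      induction y using TensorProduct.induction_on with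
      | zero => simp
      | add x y hx hy => simp only [map_add, hx, hy]
      | tmul b g =>
        rw [Algebra.IsPushout.cancelBaseChange_symm_tmul, LinearMap.liftBaseChange_tmul,
          LinearMap.lTensor_tmul, LinearMap.liftBaseChange_tmul]
        change algebraMap A' C' b • (g : N × M').2 = b • (g : N × M').2
        rw [algebraMap_smul]
    have h1 : Bijective (fun y : A' ⊗[B'] ↥(EtMil.glue D' φ) =>
        LinearMap.liftBaseChange A' (EtMil.glueSnd B' ψ) ((ι.toLinearMap.lTensor A') y)) :=
      (Groth.Agent.H87.Mil.glueSnd_bijective ψ hsq).comp (ι.lTensor A').bijective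
    have h2 : (LinearMap.liftBaseChange C' (EtMil.glueSnd D' φ) :
          C' ⊗[D'] ↥(EtMil.glue D' φ) → M') =
        (fun y : A' ⊗[B'] ↥(EtMil.glue D' φ) =>
          LinearMap.liftBaseChange A' (EtMil.glueSnd B' ψ) ((ι.toLinearMap.lTensor A') y)) ∘
        (Algebra.IsPushout.cancelBaseChange B' A' D' C' ↥(EtMil.glue D' φ)) := by
      funext x
      rw [Function.comp_apply, ← key, LinearEquiv.symm_apply_apply]
    rw [h2]
    exact h1.comp (LinearEquiv.bijective _)
  haveI : Module.FinitePresentation D (D ⊗[D'] ↥(EtMil.glue D' φ)) :=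
    Module.FinitePresentation.of_equiv (LinearEquiv.ofBijective _ hbijD).symm
  haveI : Module.FinitePresentation C' (C' ⊗[D'] ↥(EtMil.glue D' φ)) :=
    Module.FinitePresentation.of_equiv (LinearEquiv.ofBijective _ hbijC').symm
  -- a finite presentation
  obtain ⟨n, p, hp⟩ := Module.Finite.exists_fin' D' ↥(EtMil.glue D' φ)
  -- injectivity after base change to `B` and `A'` over `B'`
  have hex : Function.Exact ((LinearMap.ker p).subtype.restrictScalars B') (p.restrictScalars B') :=
    LinearMap.exact_subtype_ker_map p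
  have hinjB : Injective (((LinearMap.ker p).subtype.restrictScalars B').lTensor B) :=
    LinearMap.lTensor_injective_of_exact_of_flat (p.restrictScalars B') hp
      ((LinearMap.ker p).subtype.restrictScalars B') (Submodule.injective_subtype _) hex B
  have hinjA' : Injective (((LinearMap.ker p).subtype.restrictScalars B').lTensor A') :=
    LinearMap.lTensor_injective_of_exact_of_flat (p.restrictScalars B') hp
      ((LinearMap.ker p).subtype.restrictScalars B') (Submodule.injective_subtype _) hex A'
  have hinjD : Injective ((LinearMap.ker p).subtype.baseChange D) := by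
    intro x y hxy
    obtain ⟨x, rfl⟩ := (Algebra.IsPushout.cancelBaseChange B' B D' D ↥(LinearMap.ker p)).symm.surjective x
    obtain ⟨y, rfl⟩ := (Algebra.IsPushout.cancelBaseChange B' B D' D ↥(LinearMap.ker p)).symm.surjective y
    have hxy' : ((LinearMap.ker p).subtype.lTensor D)
          ((Algebra.IsPushout.cancelBaseChange B' B D' D ↥(LinearMap.ker p)).symm x) =
        ((LinearMap.ker p).subtype.lTensor D)
          ((Algebra.IsPushout.cancelBaseChange B' B D' D ↥(LinearMap.ker p)).symm y) := hxy
    rw [cancel_symm_natural, cancel_symm_natural] at hxy'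
    rw [hinjB ((LinearEquiv.injective _) hxy')]
  have hinjC' : Injective ((LinearMap.ker p).subtype.baseChange C') := by
    intro x y hxy
    obtain ⟨x, rfl⟩ := (Algebra.IsPushout.cancelBaseChange B' A' D' C' ↥(LinearMap.ker p)).symm.surjective x
    obtain ⟨y, rfl⟩ := (Algebra.IsPushout.cancelBaseChange B' A' D' C' ↥(LinearMap.ker p)).symm.surjective y
    have hxy' : ((LinearMap.ker p).subtype.lTensor C')
          ((Algebra.IsPushout.cancelBaseChange B' A' D' C' ↥(LinearMap.ker p)).symm x) =
        ((LinearMap.ker p).subtype.lTensor C')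
          ((Algebra.IsPushout.cancelBaseChange B' A' D' C' ↥(LinearMap.ker p)).symm y) := hxy
    rw [cancel_symm_natural, cancel_symm_natural] at hxy'
    rw [hinjA' ((LinearEquiv.injective _) hxy')]
  haveI : Module.Finite D (D ⊗[D'] ↥(LinearMap.ker p)) := finite_baseChange_ker' p hp hinjD
  haveI : Module.Finite C' (C' ⊗[D'] ↥(LinearMap.ker p)) := finite_baseChange_ker' p hp hinjC'
  haveI : Module.Finite D' ↥(LinearMap.ker p) := rel_finite (D := D) (C' := C') hsq ↥(LinearMap.ker p)
  exact Module.finitePresentation_of_surjective p hp (Module.Finite.iff_fg.1 inferInstance)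

end main

end Groth.Agent.H87.Mil10
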