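import Groth.Agent.H87.Mil10
import Groth.Agent.H87.Mil9
import Mathlib.RingTheory.Smooth.Fiber
import Mathlib.RingTheory.Etale.Descent

set_option autoImplicit false
universe u
open TensorProduct Function

namespace Groth.Agent.H87.Mil11

section general

variable (R S M : Type u) [CommRing R] [CommRing S] [Algebra R S] [CommRing M] [Algebra R M]

/-- a finite set of elements of `M` generating the base change as an algebra -/
theorem exists_finset_adjoin_tmul [Algebra.FiniteType S (S ⊗[R] M)] :
    ∃ T : Finset M, Algebra.adjoin S ((fun m : M => ((1 : S) ⊗ₜ[R] m : S ⊗[R] M)) '' (T : Set M)) = ⊤ := by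
  classical
  obtain ⟨G, hG⟩ := (Algebra.FiniteType.out : (⊤ : Subalgebra S (S ⊗[R] M)).FG)
  have h : ∀ g ∈ G, ∃ T : Finset M,
      g ∈ Submodule.span S ((fun m : M => ((1 : S) ⊗ₜ[R] m : S ⊗[R] M)) '' (T : Set M)) := by
    intro g _
    have hg : g ∈ Submodule.span S (Set.range fun m : M => ((1 : S) ⊗ₜ[R] m : S ⊗[R] M)) := by
      rw [Groth.Agent.H74.Milnor.span_one_tmul_eq_top]; exact Submodule.mem_top
    obtain ⟨T', hT', hgT'⟩ := Submodule.mem_span_finite_of_mem_span hg
    choose f hf using fun (t : T') => hT' t.2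
    refine ⟨Finset.univ.image f, ?_⟩
    refine Submodule.span_mono ?_ hgT'
    intro t ht
    refine ⟨f ⟨t, ht⟩, ?_, hf ⟨t, ht⟩⟩
    simp
  choose T hT using h
  refine ⟨G.attach.biUnion fun g => T g.1 g.2, ?_⟩
  rw [eq_top_iff, ← hG, Algebra.adjoin_le_iff]
  intro g hg
  have h1 := hT g hg
  have h2 : Submodule.span S ((fun m : M => ((1 : S) ⊗ₜ[R] m : S ⊗[R] M)) '' (T g hg : Set M)) ≤
      Subalgebra.toSubmodule (Algebra.adjoin S ((fun m : M => ((1 : S) ⊗ₜ[R] m : S ⊗[R] M)) ''
        ((G.attach.biUnion fun g => T g.1 g.2 : Finset M) : Set M))) := by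
    rw [Submodule.span_le]
    refine Set.Subset.trans ?_ Algebra.subset_adjoin
    apply Set.image_mono
    intro m hm
    simp only [Finset.coe_biUnion, Set.mem_iUnion]
    exact ⟨⟨g, hg⟩, by simp, hm⟩
  exact h2 h1

/-- the quotient of `M` by a subalgebra whose base change is everything has trivial base change -/
theorem subsingleton_tensor_quot_subalgebra (E : Subalgebra R M)
    (hE : Algebra.adjoin S ((fun m : M => ((1 : S) ⊗ₜ[R] m : S ⊗[R] M)) '' (E : Set M)) = ⊤) :
    Subsingleton (S ⊗[R] (M ⧸ Subalgebra.toSubmodule E)) := by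
  have hsurj : Function.Surjective ((Subalgebra.toSubmodule E).mkQ.baseChange S) :=
    LinearMap.lTensor_surjective S (Submodule.mkQ_surjective _)
  let ρ : S ⊗[R] E →ₐ[S] S ⊗[R] M := Algebra.TensorProduct.map (AlgHom.id S S) E.val
  have hρ : ρ.range = ⊤ := by
    rw [eq_top_iff, ← hE, Algebra.adjoin_le_iff]
    rintro _ ⟨m, hm, rfl⟩
    exact ⟨(1 : S) ⊗ₜ[R] (⟨m, hm⟩ : E), by simp [ρ]⟩
  have hzero : ∀ x : S ⊗[R] M, (Subalgebra.toSubmodule E).mkQ.baseChange S x = 0 := by
    intro x
    have hx : x ∈ ρ.range := by rw [hρ]; exact Algebra.mem_top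
    obtain ⟨y, rfl⟩ := (AlgHom.mem_range ρ).1 hx
    clear hx
    induction y using TensorProduct.induction_on with
    | zero => simp
    | add a b ha hb => rw [map_add, map_add, ha, hb, add_zero]
    | tmul s e =>
      have : ρ (s ⊗ₜ[R] e) = s ⊗ₜ[R] (e : M) := by simp [ρ]
      rw [this, LinearMap.baseChange_tmul]
      have : (Subalgebra.toSubmodule E).mkQ (e : M) = 0 := by
        rw [Submodule.mkQ_apply, Submodule.Quotient.mk_eq_zero]
        exact e.2
      rw [this, TensorProduct.tmul_zero]
  refine ⟨fun x y => ?_⟩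
  obtain ⟨x', rfl⟩ := hsurj x
  obtain ⟨y', rfl⟩ := hsurj y
  rw [hzero, hzero]

end general

variable {B' B A' A : Type u} [CommRing B'] [CommRing B] [CommRing A'] [CommRing A]
  [Algebra B' B] [Algebra B' A'] [Algebra B A] [Algebra A' A] [Algebra B' A]
  [IsScalarTower B' B A] [IsScalarTower B' A' A]

/-- **Descent of finite type along a Milnor square.** -/
theorem ft_descent (hsq : EtMil.IsFibreSquare B' B A' A) (D' : Type u) [CommRing D'] [Algebra B' D']
    [Algebra.FiniteType B (B ⊗[B'] D')] [Algebra.FiniteType A' (A' ⊗[B'] D')] :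
    Algebra.FiniteType B' D' := by
  classical
  obtain ⟨T₁, hT₁⟩ := exists_finset_adjoin_tmul B' B D'
  obtain ⟨T₂, hT₂⟩ := exists_finset_adjoin_tmul B' A' D'
  set E : Subalgebra B' D' := Algebra.adjoin B' ((T₁ ∪ T₂ : Finset D') : Set D') with hE
  have h1 : Algebra.adjoin B ((fun m : D' => ((1 : B) ⊗ₜ[B'] m : B ⊗[B'] D')) '' (E : Set D')) = ⊤ := by
    rw [eq_top_iff, ← hT₁]
    apply Algebra.adjoin_mono
    apply Set.image_mono
    intro t ht
    exact Algebra.subset_adjoin (by simp [ht])
  have h2 : Algebra.adjoin A' ((fun m : D' => ((1 : A') ⊗ₜ[B'] m : A' ⊗[B'] D')) '' (E : Set D')) = ⊤ := by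
    rw [eq_top_iff, ← hT₂]
    apply Algebra.adjoin_mono
    apply Set.image_mono
    intro t ht
    exact Algebra.subset_adjoin (by simp [ht])
  haveI := subsingleton_tensor_quot_subalgebra B' B D' E h1
  haveI := subsingleton_tensor_quot_subalgebra B' A' D' E h2
  have hQ := Groth.Agent.H74.Milnor.subsingleton_of_tensor hsq (D' ⧸ Subalgebra.toSubmodule E)
  have htop : Subalgebra.toSubmodule E = ⊤ := Submodule.Quotient.subsingleton_iff.1 hQ
  have htop' : E = ⊤ := by
    rw [eq_top_iff]
    intro x _
    have : x ∈ Subalgebra.toSubmodule E := by rw [htop]; exact Submodule.mem_top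
    exact this
  exact ⟨⟨T₁ ∪ T₂, htop'⟩⟩

section fp

attribute [local instance] MvPolynomial.algebraMvPolynomial


section aux

variable {R S P' P D' : Type u} [CommRing R] [CommRing S] [CommRing P'] [CommRing P] [CommRing D']
  [Algebra R S] [Algebra R P'] [Algebra R P] [Algebra P' P] [Algebra S P]
  [IsScalarTower R P' P] [IsScalarTower R S P] [Algebra.IsPushout R S P' P]
  [Algebra R D'] [Algebra P' D'] [IsScalarTower R P' D']

/-- If `P' → D'` is surjective, `P` is a finitely presented `S`-algebra and `S ⊗[R] D'` is a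
finitely presented `S`-algebra, then `P ⊗[P'] D'` is a finitely presented `P`-module. -/
theorem fp_module_baseChange (hsurj : Surjective (algebraMap P' D'))
    [Algebra.FinitePresentation S P] [Algebra.FinitePresentation S (S ⊗[R] D')] :
    Module.FinitePresentation P (P ⊗[P'] D') := by
  let eB : P ⊗[P'] D' ≃ₐ[S] S ⊗[R] D' := Algebra.IsPushout.cancelBaseChangeAlg R S P' P D'
  haveI : Algebra.FinitePresentation S (P ⊗[P'] D') := Algebra.FinitePresentation.equiv eB.symm
  let ψ : P →ₐ[S] P ⊗[P'] D' := IsScalarTower.toAlgHom S P (P ⊗[P'] D')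
  have hψ : Surjective ψ := by
    intro x
    induction x using TensorProduct.induction_on with
    | zero => exact ⟨0, map_zero _⟩
    | add a b ha hb =>
      obtain ⟨a', rfl⟩ := ha
      obtain ⟨b', rfl⟩ := hb
      exact ⟨a' + b', map_add _ _ _⟩
    | tmul p d =>
      obtain ⟨q, rfl⟩ := hsurj d
      refine ⟨q • p, ?_⟩
      change algebraMap P (P ⊗[P'] D') (q • p) = _
      rw [Algebra.TensorProduct.algebraMap_apply, Algebra.algebraMap_self_apply,
        Algebra.algebraMap_eq_smul_one, TensorProduct.smul_tmul]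
  have hker : (RingHom.ker ψ.toRingHom).FG := Algebra.FinitePresentation.ker_fG_of_surjective ψ hψ
  have hsurj' : Surjective (Algebra.linearMap P (P ⊗[P'] D')) := hψ
  exact Module.finitePresentation_of_surjective (Algebra.linearMap P (P ⊗[P'] D')) hsurj' hker

end aux

section aux2

/-- injectivity of `P ⊗[P'] ker p → P ⊗[P'] X` when the target of `p` is flat over `R` -/
theorem injective_baseChange_ker (R S : Type u) {P' P : Type u} [CommRing R] [CommRing S]
    [CommRing P'] [CommRing P]
    [Algebra R S] [Algebra R P'] [Algebra R P] [Algebra P' P] [Algebra S P]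
    [IsScalarTower R P' P] [IsScalarTower R S P] [Algebra.IsPushout R S P' P]
    {X G : Type u} [AddCommGroup X] [AddCommGroup G] [Module P' X] [Module P' G] [Module R X]
    [Module R G] [IsScalarTower R P' X] [IsScalarTower R P' G]
    [Module.Flat R G] (p : X →ₗ[P'] G) (hp : Surjective p) :
    Injective ((LinearMap.ker p).subtype.baseChange P) := by
  have hex : Function.Exact ((LinearMap.ker p).subtype.restrictScalars R) (p.restrictScalars R) :=
    LinearMap.exact_subtype_ker_map p
  have hinjS : Injective (((LinearMap.ker p).subtype.restrictScalars R).lTensor S) :=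
    LinearMap.lTensor_injective_of_exact_of_flat (p.restrictScalars R) hp
      ((LinearMap.ker p).subtype.restrictScalars R) (Submodule.injective_subtype _) hex S
  intro x y hxy
  obtain ⟨x, rfl⟩ := (Algebra.IsPushout.cancelBaseChange R S P' P ↥(LinearMap.ker p)).symm.surjective x
  obtain ⟨y, rfl⟩ := (Algebra.IsPushout.cancelBaseChange R S P' P ↥(LinearMap.ker p)).symm.surjective y
  have hxy' : ((LinearMap.ker p).subtype.lTensor P)
        ((Algebra.IsPushout.cancelBaseChange R S P' P ↥(LinearMap.ker p)).symm x) =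
      ((LinearMap.ker p).subtype.lTensor P)
        ((Algebra.IsPushout.cancelBaseChange R S P' P ↥(LinearMap.ker p)).symm y) := hxy
  rw [Groth.Agent.H87.Mil10.cancel_symm_natural, Groth.Agent.H87.Mil10.cancel_symm_natural] at hxy'
  rw [hinjS ((LinearEquiv.injective _) hxy')]

end aux2

/-- **Descent of finite presentation for flat algebras along a Milnor square.** -/
theorem fp_alg_descent (hsq : EtMil.IsFibreSquare B' B A' A) (D' : Type u) [CommRing D']
    [Algebra B' D'] [Module.Flat B' D'] [Algebra.FiniteType B' D']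
    [Algebra.FinitePresentation B (B ⊗[B'] D')] [Algebra.FinitePresentation A' (A' ⊗[B'] D')] :
    Algebra.FinitePresentation B' D' := by
  obtain ⟨n, f, hf⟩ := Algebra.FiniteType.iff_quotient_mvPolynomial''.1
    (inferInstance : Algebra.FiniteType B' D')
  letI : Algebra (MvPolynomial (Fin n) B') D' := f.toRingHom.toAlgebra
  haveI : IsScalarTower B' (MvPolynomial (Fin n) B') D' :=
    IsScalarTower.of_algebraMap_eq fun x => (f.commutes x).symm
  have hsurj : Surjective (algebraMap (MvPolynomial (Fin n) B') D') := hf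
  let p : MvPolynomial (Fin n) B' →ₗ[MvPolynomial (Fin n) B'] D' :=
    Algebra.linearMap (MvPolynomial (Fin n) B') D'
  have hp : Surjective p := hf
  haveI : Module.FinitePresentation (MvPolynomial (Fin n) B)
      (MvPolynomial (Fin n) B ⊗[MvPolynomial (Fin n) B'] D') :=
    fp_module_baseChange (R := B') (S := B) hsurj
  haveI : Module.FinitePresentation (MvPolynomial (Fin n) A')
      (MvPolynomial (Fin n) A' ⊗[MvPolynomial (Fin n) B'] D') :=
    fp_module_baseChange (R := B') (S := A') hsurj
  haveI : Module.Finite (MvPolynomial (Fin n) B)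
      (MvPolynomial (Fin n) B ⊗[MvPolynomial (Fin n) B'] ↥(LinearMap.ker p)) :=
    Groth.Agent.H87.Mil10.finite_baseChange_ker' p hp
      (injective_baseChange_ker B' B p hp)
  haveI : Module.Finite (MvPolynomial (Fin n) A')
      (MvPolynomial (Fin n) A' ⊗[MvPolynomial (Fin n) B'] ↥(LinearMap.ker p)) :=
    Groth.Agent.H87.Mil10.finite_baseChange_ker' p hp
      (injective_baseChange_ker B' A' p hp)
  haveI : Module.Finite (MvPolynomial (Fin n) B') ↥(LinearMap.ker p) :=
    Groth.Agent.H87.Mil10.rel_finite (D := MvPolynomial (Fin n) B) (C' := MvPolynomial (Fin n) A')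
      hsq ↥(LinearMap.ker p)
  have hker : (RingHom.ker f.toRingHom).FG := Module.Finite.iff_fg.1 ‹_›
  exact Algebra.FinitePresentation.of_surjective hf hker


end fp

section smooth

theorem formallySmooth_fiber_of_smooth_baseChange {R R₁ S' : Type u} [CommRing R] [CommRing R₁]
    [CommRing S'] [Algebra R R₁] [Algebra R S'] (p' : Ideal R) [p'.IsPrime] (q : Ideal R₁)
    [q.IsPrime] (h : p' = q.comap (algebraMap R R₁)) [Algebra.Smooth R₁ (R₁ ⊗[R] S')] :
    Algebra.FormallySmooth p'.ResidueField (p'.Fiber S') := by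
  letI : Algebra p'.ResidueField q.ResidueField :=
    (Ideal.ResidueField.map p' q (algebraMap R R₁) h).toAlgebra
  haveI : IsScalarTower R p'.ResidueField q.ResidueField :=
    IsScalarTower.of_algebraMap_eq fun x => by
      rw [RingHom.algebraMap_toAlgebra, Ideal.ResidueField.map_algebraMap,
        ← IsScalarTower.algebraMap_apply]
  let e1 : q.ResidueField ⊗[p'.ResidueField] (p'.ResidueField ⊗[R] S') ≃ₐ[q.ResidueField]
      q.ResidueField ⊗[R] S' :=
    Algebra.TensorProduct.cancelBaseChange R p'.ResidueField q.ResidueField q.ResidueField S'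
  let e2 : q.ResidueField ⊗[R₁] (R₁ ⊗[R] S') ≃ₐ[q.ResidueField] q.ResidueField ⊗[R] S' :=
    Algebra.TensorProduct.cancelBaseChange R R₁ q.ResidueField q.ResidueField S'
  haveI : Algebra.Smooth q.ResidueField (q.ResidueField ⊗[R₁] (R₁ ⊗[R] S')) := inferInstance
  haveI : Algebra.Smooth q.ResidueField
      (q.ResidueField ⊗[p'.ResidueField] (p'.ResidueField ⊗[R] S')) :=
    Algebra.Smooth.of_equiv (e2.trans e1.symm)
  haveI : Algebra.Smooth p'.ResidueField (p'.ResidueField ⊗[R] S') :=
    Algebra.Smooth.of_smooth_tensorProduct_of_faithfullyFlat q.ResidueField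
  exact inferInstance


/-- **Descent of smoothness along a Milnor square.** -/
theorem smooth_descent (hsq : EtMil.IsFibreSquare B' B A' A) (D' : Type u) [CommRing D']
    [Algebra B' D'] [Algebra.Smooth B (B ⊗[B'] D')] [Algebra.Smooth A' (A' ⊗[B'] D')] :
    Algebra.Smooth B' D' := by
  haveI : Module.Flat B' D' := Groth.Agent.H87.Mil.flat_descent D' hsq
  haveI : Algebra.FiniteType B' D' := ft_descent hsq D'
  haveI : Algebra.FinitePresentation B' D' := fp_alg_descent hsq D'
  refine Algebra.Smooth.of_formallySmooth_fiber (fun p' hp' => ?_)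
  by_cases hJ : ∀ j : B', algebraMap B' B j = 0 → j ∈ p'
  · obtain ⟨p, hp⟩ := Groth.Agent.H87.Mil9.mem_range_comapB hsq ⟨p', hp'⟩ hJ
    have h : p' = p.asIdeal.comap (algebraMap B' B) := by
      rw [← PrimeSpectrum.comap_asIdeal, hp]
    exact formallySmooth_fiber_of_smooth_baseChange p' p.asIdeal h
  · push Not at hJ
    obtain ⟨j, hj, hjp⟩ := hJ
    obtain ⟨q', hq'⟩ := Groth.Agent.H87.Mil9.mem_range_comapA' hsq ⟨p', hp'⟩ j hj hjp
    have h : p' = q'.asIdeal.comap (algebraMap B' A') := by
      rw [← PrimeSpectrum.comap_asIdeal, hq']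
    exact formallySmooth_fiber_of_smooth_baseChange p' q'.asIdeal h

/-- **Descent of étaleness along a Milnor square.** -/
theorem etale_descent (hsq : EtMil.IsFibreSquare B' B A' A) (D' : Type u) [CommRing D']
    [Algebra B' D'] [Algebra.Etale B (B ⊗[B'] D')] [Algebra.Etale A' (A' ⊗[B'] D')] :
    Algebra.Etale B' D' := by
  haveI : Algebra.Smooth B' D' := smooth_descent hsq D'
  haveI : Algebra.FormallyUnramified B' D' := by
    constructor
    haveI : Subsingleton (B ⊗[B'] Ω[D'⁄B']) := by
      let _ : Algebra D' (B ⊗[B'] D') := Algebra.TensorProduct.rightAlgebra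
      exact (KaehlerDifferential.tensorKaehlerEquivBase B' B D' (B ⊗[B'] D')).subsingleton
    haveI : Subsingleton (A' ⊗[B'] Ω[D'⁄B']) := by
      let _ : Algebra D' (A' ⊗[B'] D') := Algebra.TensorProduct.rightAlgebra
      exact (KaehlerDifferential.tensorKaehlerEquivBase B' A' D' (A' ⊗[B'] D')).subsingleton
    exact Groth.Agent.H74.Milnor.subsingleton_of_tensor hsq Ω[D'⁄B']
  exact Algebra.Etale.of_formallyUnramified_of_flat


end smooth

end Groth.Agent.H87.Mil11
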