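import Mathlib
import Groth.Agent.H72.LDLes

/-!
# `L₁F(g)` epi iff `F(f)` mono, for a short exact sequence and a right exact functor
-/

set_option autoImplicit false
universe v u v' u'

open CategoryTheory CategoryTheory.Limits

namespace Groth.Agent.H87.Mil13

variable {A : Type u} [Category.{v} A] [Abelian A] [EnoughProjectives A]
variable {B : Type u'} [Category.{v'} B] [Abelian B] (F : A ⥤ B) [F.Additive]

theorem epi_leftDerived_one_iff [PreservesFiniteColimits F] (S : ShortComplex A)
    (hS : S.ShortExact) :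
    Epi ((F.leftDerived 1).map S.g) ↔ Mono (F.map S.f) := by
  obtain ⟨-, -, δ, hδ⟩ := Groth.Agent.H72.LDLes.exists_les F S hS
  obtain ⟨w₁, w₂, ex₁, ex₂⟩ := hδ 0
  have hnat : (F.leftDerived 0).map S.f ≫ F.leftDerivedZeroIsoSelf.hom.app S.X₂ =
      F.leftDerivedZeroIsoSelf.hom.app S.X₁ ≫ F.map S.f :=
    F.leftDerivedZeroIsoSelf.hom.naturality S.f
  have hmono : Mono ((F.leftDerived 0).map S.f) ↔ Mono (F.map S.f) := by
    constructor
    · intro h
      have h1 : F.map S.f = F.leftDerivedZeroIsoSelf.inv.app S.X₁ ≫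
          ((F.leftDerived 0).map S.f ≫ F.leftDerivedZeroIsoSelf.hom.app S.X₂) := by
        rw [hnat, ← Category.assoc, ← NatTrans.comp_app, Iso.inv_hom_id, NatTrans.id_app,
          Category.id_comp]
      rw [h1]
      infer_instance
    · intro h
      have h1 : (F.leftDerived 0).map S.f = (F.leftDerivedZeroIsoSelf.hom.app S.X₁ ≫ F.map S.f) ≫
          F.leftDerivedZeroIsoSelf.inv.app S.X₂ := by
        rw [← hnat, Category.assoc, ← NatTrans.comp_app, Iso.hom_inv_id, NatTrans.id_app,
          Category.comp_id]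
      rw [h1]
      infer_instance
  rw [← hmono]
  constructor
  · intro h
    have hδ0 : δ 0 = 0 := by
      rw [← cancel_epi ((F.leftDerived (0 + 1)).map S.g), w₁, comp_zero]
    exact ex₂.mono_g hδ0
  · intro h
    have hδ0 : δ 0 = 0 := by
      rw [← cancel_mono ((F.leftDerived 0).map S.f), w₂, zero_comp]
    exact ex₁.epi_f hδ0

section ModuleCat

open MonoidalCategory

variable {R : Type u} [CommRing R]

attribute [local instance] preservesBinaryBiproducts_of_preservesBiproducts

/-- For a short exact sequence `0 → N₀ → N₁ × N₂ → N₃ → 0` of `R`-modules, the map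
`Tor₁(X, N₁) ⊕ Tor₁(X, N₂) → Tor₁(X, N₃)` is epi iff `X ⊗ N₀ → X ⊗ (N₁ × N₂)` is injective. -/
theorem epi_tor_desc_iff (X N₀ N₁ N₂ N₃ : Type u) [AddCommGroup X] [Module R X]
    [AddCommGroup N₀] [Module R N₀] [AddCommGroup N₁] [Module R N₁]
    [AddCommGroup N₂] [Module R N₂] [AddCommGroup N₃] [Module R N₃]
    (ι : N₀ →ₗ[R] N₁ × N₂) (u₁ : N₁ →ₗ[R] N₃) (u₂ : N₂ →ₗ[R] N₃)
    (hι : Function.Injective ι) (hex : Function.Exact ι (u₁.coprod u₂))
    (hsurj : Function.Surjective (u₁.coprod u₂)) :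
    Epi (biprod.desc
      (((Tor (ModuleCat.{u} R) 1).obj (ModuleCat.of R X)).map (ModuleCat.ofHom u₁))
      (((Tor (ModuleCat.{u} R) 1).obj (ModuleCat.of R X)).map (ModuleCat.ofHom u₂))) ↔
    Function.Injective (LinearMap.lTensor X ι) := by
  let F : ModuleCat.{u} R ⥤ ModuleCat.{u} R := (tensoringLeft (ModuleCat.{u} R)).obj (ModuleCat.of R X)
  have hF : PreservesFiniteColimits F :=
    inferInstanceAs (PreservesFiniteColimits (tensorLeft (ModuleCat.of R X)))
  let T : ModuleCat.{u} R ⥤ ModuleCat.{u} R := F.leftDerived 1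
  have hT : T.Additive := Groth.Agent.H72.LDLes.leftDerived_additive F 1
  let S : ShortComplex (ModuleCat.{u} R) :=
    ShortComplex.mk (ModuleCat.ofHom ι) (ModuleCat.ofHom (u₁.coprod u₂)) (by
      ext x
      exact hex.apply_apply_eq_zero x)
  have hS : S.ShortExact := by
    refine ShortComplex.ShortExact.mk' ?_ ?_ ?_
    · rw [ShortComplex.ShortExact.moduleCat_exact_iff_function_exact]
      exact hex
    · exact (ModuleCat.mono_iff_injective _).2 hι
    · exact (ModuleCat.epi_iff_surjective _).2 hsurj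
  have key := epi_leftDerived_one_iff F S hS
  have h1 : Mono (F.map S.f) ↔ Function.Injective (LinearMap.lTensor X ι) := by
    rw [ModuleCat.mono_iff_injective]
    rfl
  rw [← h1, ← key]
  -- identify the two maps
  let e := ModuleCat.biprodIsoProd (ModuleCat.of R N₁) (ModuleCat.of R N₂)
  have he : e.hom ≫ S.g = biprod.desc (ModuleCat.ofHom u₁) (ModuleCat.ofHom u₂) := by
    rw [← Iso.eq_inv_comp]
    have h2 : biprod.desc (ModuleCat.ofHom u₁) (ModuleCat.ofHom u₂) =
        biprod.fst ≫ ModuleCat.ofHom u₁ + biprod.snd ≫ ModuleCat.ofHom u₂ :=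
      biprod.desc_eq
    rw [h2, Preadditive.comp_add, ← Category.assoc, ← Category.assoc,
      ModuleCat.biprodIsoProd_inv_comp_fst, ModuleCat.biprodIsoProd_inv_comp_snd]
    ext x <;> simp [S]
  have hdesc : biprod.desc
      (((Tor (ModuleCat.{u} R) 1).obj (ModuleCat.of R X)).map (ModuleCat.ofHom u₁))
      (((Tor (ModuleCat.{u} R) 1).obj (ModuleCat.of R X)).map (ModuleCat.ofHom u₂)) =
      (T.mapBiprod _ _).inv ≫ T.map e.hom ≫ T.map S.g := by
    rw [← T.map_comp, he]
    exact (biprod.mapBiprod_inv_map_desc T _ _ _ _).symm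
  rw [hdesc]
  constructor
  · intro h
    have h3 : Epi ((T.mapBiprod _ _).hom ≫ (T.mapBiprod _ _).inv ≫ T.map e.hom ≫ T.map S.g) :=
      @epi_comp _ _ _ _ _ _ inferInstance _ h
    rw [Iso.hom_inv_id_assoc] at h3
    have h4 : Epi (T.map e.inv ≫ T.map e.hom ≫ T.map S.g) :=
      @epi_comp _ _ _ _ _ _ inferInstance _ h3
    rw [← Category.assoc, ← T.map_comp, Iso.inv_hom_id, T.map_id, Category.id_comp] at h4
    exact h4
  · intro h
    have h5 : Epi (T.map e.hom ≫ T.map S.g) := @epi_comp _ _ _ _ _ _ inferInstance _ h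
    exact @epi_comp _ _ _ _ _ _ inferInstance _ h5

end ModuleCat

end Groth.Agent.H87.Mil13
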