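import Groth.Agent.H87.Mil3

set_option autoImplicit false
universe u
open TensorProduct Function

namespace Groth.Agent.H87.Mil

section general

variable {R S : Type u} [CommRing R] [CommRing S] [Algebra R S]

theorem tmul_one_surjective (hS : Surjective (algebraMap R S)) (M : Type u) [AddCommGroup M]
    [Module R M] : Surjective (fun m : M => ((1 : S) ⊗ₜ[R] m : S ⊗[R] M)) := by
  intro x
  induction x using TensorProduct.induction_on with
  | zero => exact ⟨0, by simp⟩
  | tmul s m =>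
    obtain ⟨r, rfl⟩ := hS s
    refine ⟨r • m, ?_⟩
    show (1 : S) ⊗ₜ[R] (r • m) = algebraMap R S r ⊗ₜ[R] m
    rw [← TensorProduct.smul_tmul, Algebra.smul_def, mul_one]
  | add x y hx hy =>
    obtain ⟨a, ha⟩ := hx
    obtain ⟨b, hb⟩ := hy
    refine ⟨a + b, ?_⟩
    show (1 : S) ⊗ₜ[R] (a + b) = x + y
    rw [TensorProduct.tmul_add]
    exact congrArg₂ (· + ·) ha hb

theorem tmul_eq_zero_of_mem_smul (M : Type u) [AddCommGroup M] [Module R M] (x : M)
    (hx : x ∈ (RingHom.ker (algebraMap R S)) • (⊤ : Submodule R M)) :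
    ((1 : S) ⊗ₜ[R] x : S ⊗[R] M) = 0 := by
  refine Submodule.smul_induction_on hx ?_ ?_
  · intro j hj m _
    rw [← TensorProduct.smul_tmul, Algebra.smul_def, mul_one, (RingHom.mem_ker).1 hj,
      TensorProduct.zero_tmul]
  · intro x y hx hy
    rw [TensorProduct.tmul_add, hx, hy, add_zero]

theorem mem_smul_top_of_tmul_eq_zero (hS : Surjective (algebraMap R S)) (M : Type u)
    [AddCommGroup M] [Module R M] (m : M) (h : ((1 : S) ⊗ₜ[R] m : S ⊗[R] M) = 0) :
    m ∈ (RingHom.ker (algebraMap R S)) • (⊤ : Submodule R M) := by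
  have hS' : Surjective (Algebra.ofId R S) := hS
  have hker : RingHom.ker (Algebra.ofId R S) = RingHom.ker (algebraMap R S) :=
    Ideal.ext fun _ => Iff.rfl
  let e : S ⊗[R] M ≃ₗ[R] M ⧸ (RingHom.ker (Algebra.ofId R S) • (⊤ : Submodule R M)) :=
    (TensorProduct.congr
      ((Ideal.quotientKerAlgEquivOfSurjective hS').symm.toLinearEquiv)
      (LinearEquiv.refl R M)) ≪≫ₗ
    TensorProduct.quotTensorEquivQuotSMul M (RingHom.ker (Algebra.ofId R S))
  have he : e ((1 : S) ⊗ₜ[R] m) = Submodule.Quotient.mk m := by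
    simp only [e, LinearEquiv.trans_apply, TensorProduct.congr_tmul, LinearEquiv.refl_apply]
    have : ((Ideal.quotientKerAlgEquivOfSurjective hS').symm.toLinearEquiv) (1 : S) =
        Ideal.Quotient.mk _ 1 := by
      simp
    rw [this, map_one]
    exact TensorProduct.quotTensorEquivQuotSMul_mk_one_tmul (RingHom.ker (Algebra.ofId R S)) m
  rw [h, map_zero] at he
  rw [← hker]
  exact (Submodule.Quotient.mk_eq_zero _).1 he.symm

end general


section glue

variable {B' B A' A : Type u} [CommRing B'] [CommRing B] [CommRing A'] [CommRing A]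
  [Algebra B' B] [Algebra B' A'] [Algebra B A] [Algebra A' A] [Algebra B' A]
  [IsScalarTower B' B A] [IsScalarTower B' A' A]
variable {N M' : Type u} [AddCommGroup N] [Module B N] [Module B' N] [IsScalarTower B' B N]
  [AddCommGroup M'] [Module A' M'] [Module B' M'] [IsScalarTower B' A' M']
  (φ : A ⊗[B] N ≃ₗ[A] A ⊗[A'] M')

theorem mem_glue_iff (x : N × M') :
    x ∈ EtMil.glue B' φ ↔ φ ((1 : A) ⊗ₜ[B] x.1) = (1 : A) ⊗ₜ[A'] x.2 := Iff.rfl

/-- every `n` is the first component of an element of the glued module -/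
theorem exists_snd (hsq : EtMil.IsFibreSquare B' B A' A) (n : N) :
    ∃ m' : M', (n, m') ∈ EtMil.glue B' φ := by
  obtain ⟨m', hm'⟩ := tmul_one_surjective hsq.1 M' (φ ((1 : A) ⊗ₜ[B] n))
  exact ⟨m', hm'.symm⟩

theorem zero_mem_glue (r : M') (hr : ((1 : A) ⊗ₜ[A'] r : A ⊗[A'] M') = 0) :
    ((0 : N), r) ∈ EtMil.glue B' φ := by
  rw [mem_glue_iff]
  simp [hr]

/-- the `A'`-span of the image of the second projection is everything -/
theorem span_range_glueSnd (hsq : EtMil.IsFibreSquare B' B A' A) :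
    Submodule.span A' (LinearMap.range (EtMil.glueSnd B' φ) : Set M') = ⊤ := by
  have key : ∀ t : A ⊗[B] N, ∃ w ∈ Submodule.span A' (LinearMap.range (EtMil.glueSnd B' φ) : Set M'),
      φ t = (1 : A) ⊗ₜ[A'] w := by
    intro t
    induction t using TensorProduct.induction_on with
    | zero => exact ⟨0, Submodule.zero_mem _, by simp⟩
    | tmul a n =>
      obtain ⟨a', rfl⟩ := hsq.1 a
      obtain ⟨m', hm'⟩ := exists_snd φ hsq n
      refine ⟨a' • m', Submodule.smul_mem _ _ (Submodule.subset_span ⟨⟨(n, m'), hm'⟩, rfl⟩), ?_⟩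
      have h1 : (algebraMap A' A a' ⊗ₜ[B] n : A ⊗[B] N) = algebraMap A' A a' • ((1 : A) ⊗ₜ[B] n) := by
        rw [TensorProduct.smul_tmul', smul_eq_mul, mul_one]
      rw [h1, map_smul, (mem_glue_iff φ (n, m')).1 hm', TensorProduct.smul_tmul', smul_eq_mul,
        mul_one, ← TensorProduct.smul_tmul, Algebra.smul_def, mul_one]
    | add x y hx hy =>
      obtain ⟨a, ha, ha'⟩ := hx
      obtain ⟨b, hb, hb'⟩ := hy
      exact ⟨a + b, Submodule.add_mem _ ha hb, by rw [map_add, ha', hb', TensorProduct.tmul_add]⟩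
  rw [eq_top_iff]
  intro m' _
  obtain ⟨w, hw, hw'⟩ := key (φ.symm ((1 : A) ⊗ₜ[A'] m'))
  rw [LinearEquiv.apply_symm_apply] at hw'
  have h0 : ((1 : A) ⊗ₜ[A'] (m' - w) : A ⊗[A'] M') = 0 := by
    rw [TensorProduct.tmul_sub, hw', sub_self]
  have h1 : m' - w ∈ Submodule.span A' (LinearMap.range (EtMil.glueSnd B' φ) : Set M') :=
    Submodule.subset_span ⟨⟨(0, m' - w), zero_mem_glue φ _ h0⟩, rfl⟩
  have := Submodule.add_mem _ h1 hw
  rwa [sub_add_cancel] at this


/-- for `j ∈ J`, `(0, ĵ • m')` lies in `J • N'` -/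
theorem exists_mem_smul (hsq : EtMil.IsFibreSquare B' B A' A) (m' : M') :
    ∀ j : B', algebraMap B' B j = 0 →
      ∃ x ∈ (RingHom.ker (algebraMap B' B)) • (⊤ : Submodule B' (EtMil.glue B' φ)),
        (x : N × M') = (0, algebraMap B' A' j • m') := by
  have hm' : m' ∈ Submodule.span A' (LinearMap.range (EtMil.glueSnd B' φ) : Set M') := by
    rw [span_range_glueSnd φ hsq]
    trivial
  induction hm' using Submodule.span_induction with
  | mem m' h =>
    obtain ⟨n', rfl⟩ := h
    intro j hj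
    refine ⟨j • n', Submodule.smul_mem_smul hj Submodule.mem_top, ?_⟩
    apply Prod.ext
    · show j • (n' : N × M').1 = 0
      rw [← IsScalarTower.algebraMap_smul B j, hj, zero_smul]
    · show j • (n' : N × M').2 = algebraMap B' A' j • (n' : N × M').2
      rw [← IsScalarTower.algebraMap_smul A' j]
  | zero =>
    intro j _
    exact ⟨0, Submodule.zero_mem _, by simp only [smul_zero]; rfl⟩
  | add x y _ _ hx hy =>
    intro j hj
    obtain ⟨a, ha, ha'⟩ := hx j hj
    obtain ⟨b, hb, hb'⟩ := hy j hj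
    refine ⟨a + b, Submodule.add_mem _ ha hb, ?_⟩
    rw [Submodule.coe_add, ha', hb', smul_add]
    simp
  | smul c y _ hy =>
    intro j hj
    obtain ⟨j', hj', hj'2⟩ := exists_star hsq c j hj
    obtain ⟨x, hx, hx'⟩ := hy j' hj'
    refine ⟨x, hx, ?_⟩
    rw [hx', hj'2, mul_comm, mul_smul]

theorem exists_mem_smul' (hsq : EtMil.IsFibreSquare B' B A' A) (m' : M')
    (hm' : m' ∈ (RingHom.ker (algebraMap A' A)) • (⊤ : Submodule A' M')) :
    ∃ x ∈ (RingHom.ker (algebraMap B' B)) • (⊤ : Submodule B' (EtMil.glue B' φ)),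
      (x : N × M') = (0, m') := by
  refine Submodule.smul_induction_on hm' ?_ ?_
  · intro i hi m _
    have h : algebraMap B A 0 = algebraMap A' A i := by
      rw [map_zero, (RingHom.mem_ker).1 hi]
    obtain ⟨x, hx, hx'⟩ := exists_mem_smul φ hsq m (lift hsq 0 i h) (lift_fst hsq _ _ h)
    exact ⟨x, hx, by rw [hx', lift_snd]⟩
  · intro x y hx hy
    obtain ⟨a, ha, ha'⟩ := hx
    obtain ⟨b, hb, hb'⟩ := hy
    refine ⟨a + b, Submodule.add_mem _ ha hb, ?_⟩
    rw [Submodule.coe_add, ha', hb']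
    simp

theorem fst_eq_zero_of_mem_smul (x : EtMil.glue B' φ)
    (hx : x ∈ (RingHom.ker (algebraMap B' B)) • (⊤ : Submodule B' (EtMil.glue B' φ))) :
    (x : N × M').1 = 0 := by
  refine Submodule.smul_induction_on hx ?_ ?_
  · intro j hj n' _
    show j • (n' : N × M').1 = 0
    rw [← IsScalarTower.algebraMap_smul B j, (RingHom.mem_ker).1 hj, zero_smul]
  · intro x y hx hy
    rw [Submodule.coe_add, Prod.fst_add, hx, hy, add_zero]

/-- **Claim 1**: `B ⊗ N' → N` is bijective. -/
theorem glueFst_bijective (hsq : EtMil.IsFibreSquare B' B A' A) :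
    Bijective (LinearMap.liftBaseChange B (EtMil.glueFst B' φ)) := by
  constructor
  · rw [injective_iff_map_eq_zero]
    intro x hx
    obtain ⟨n', rfl⟩ := tmul_one_surjective (surj_fst hsq) _ x
    rw [LinearMap.liftBaseChange_tmul, one_smul] at hx
    have h1 : (n' : N × M').1 = 0 := hx
    have h2 : ((1 : A) ⊗ₜ[A'] (n' : N × M').2 : A ⊗[A'] M') = 0 := by
      rw [← (mem_glue_iff φ _).1 n'.2, h1]
      simp
    have h3 := mem_smul_top_of_tmul_eq_zero hsq.1 M' _ h2
    obtain ⟨y, hy, hy'⟩ := exists_mem_smul' φ hsq _ h3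
    have : n' = y := Subtype.ext (by rw [hy']; exact Prod.ext h1 rfl)
    rw [this]
    exact tmul_eq_zero_of_mem_smul _ y hy
  · intro n
    obtain ⟨m', hm'⟩ := exists_snd φ hsq n
    exact ⟨1 ⊗ₜ ⟨(n, m'), hm'⟩, by simp [EtMil.glueFst]⟩


/-- the iso `A ⊗[B'] N' → A ⊗[B] N`, `a ⊗ n' ↦ a ⊗ n'.1` (as an injective map) -/
noncomputable def thetaAux (hsq : EtMil.IsFibreSquare B' B A' A) :
    A ⊗[B'] (EtMil.glue B' φ) →ₗ[B] A ⊗[B] N :=
  ((LinearEquiv.ofBijective (LinearMap.liftBaseChange B (EtMil.glueFst B' φ))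
      (glueFst_bijective φ hsq)).toLinearMap.lTensor A) ∘ₗ
    ((AlgebraTensorModule.cancelBaseChange B' B B A (EtMil.glue B' φ)).symm.toLinearMap)

theorem thetaAux_tmul (hsq : EtMil.IsFibreSquare B' B A' A) (a : A) (n' : EtMil.glue B' φ) :
    thetaAux φ hsq (a ⊗ₜ[B'] n') = a ⊗ₜ[B] (n' : N × M').1 := by
  simp [thetaAux, EtMil.glueFst]

theorem thetaAux_injective (hsq : EtMil.IsFibreSquare B' B A' A) :
    Injective (thetaAux φ hsq) := by
  unfold thetaAux
  rw [LinearMap.coe_comp]
  refine Injective.comp ?_ (LinearEquiv.injective _)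
  exact (LinearEquiv.lTensor A (LinearEquiv.ofBijective
    (LinearMap.liftBaseChange B (EtMil.glueFst B' φ)) (glueFst_bijective φ hsq))).injective

theorem phi_theta (hsq : EtMil.IsFibreSquare B' B A' A) (x : A' ⊗[B'] (EtMil.glue B' φ)) :
    φ (thetaAux φ hsq (((IsScalarTower.toAlgHom B' A' A).toLinearMap.rTensor _) x)) =
      (1 : A) ⊗ₜ[A'] (LinearMap.liftBaseChange A' (EtMil.glueSnd B' φ) x) := by
  induction x using TensorProduct.induction_on with
  | zero => simp
  | add x y hx hy => simp only [map_add, hx, hy, TensorProduct.tmul_add]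
  | tmul a' n' =>
    rw [LinearMap.rTensor_tmul, thetaAux_tmul, LinearMap.liftBaseChange_tmul]
    have h1 : ((IsScalarTower.toAlgHom B' A' A).toLinearMap a' ⊗ₜ[B] (n' : N × M').1 : A ⊗[B] N) =
        algebraMap A' A a' • ((1 : A) ⊗ₜ[B] (n' : N × M').1) := by
      rw [TensorProduct.smul_tmul', smul_eq_mul, mul_one]
      rfl
    rw [h1, map_smul, (mem_glue_iff φ _).1 n'.2, TensorProduct.smul_tmul', smul_eq_mul,
      mul_one, ← TensorProduct.smul_tmul, Algebra.smul_def, mul_one]
    rfl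

theorem exists_of_ker (hsq : EtMil.IsFibreSquare B' B A' A)
    (z : ↥(RingHom.ker (algebraMap A' A)) ⊗[B'] (EtMil.glue B' φ)) :
    ∃ y ∈ (RingHom.ker (algebraMap B' B)) • (⊤ : Submodule B' (EtMil.glue B' φ)),
      (((RingHom.ker (algebraMap A' A)).subtype.restrictScalars B').rTensor _) z =
        (1 : A') ⊗ₜ[B'] y := by
  induction z using TensorProduct.induction_on with
  | zero => exact ⟨0, Submodule.zero_mem _, by simp⟩
  | add x y hx hy =>
    obtain ⟨a, ha, ha'⟩ := hx
    obtain ⟨b, hb, hb'⟩ := hy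
    exact ⟨a + b, Submodule.add_mem _ ha hb, by rw [map_add, ha', hb', TensorProduct.tmul_add]⟩
  | tmul i n' =>
    have h : algebraMap B A 0 = algebraMap A' A i.1 := by
      rw [map_zero, (RingHom.mem_ker).1 i.2]
    refine ⟨lift hsq 0 i.1 h • n', Submodule.smul_mem_smul (lift_fst hsq _ _ h) Submodule.mem_top, ?_⟩
    rw [LinearMap.rTensor_tmul, ← TensorProduct.smul_tmul, Algebra.smul_def, mul_one, lift_snd]
    rfl

/-- **Claim 2**: `A' ⊗ N' → M'` is bijective. -/
theorem glueSnd_bijective (hsq : EtMil.IsFibreSquare B' B A' A) :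
    Bijective (LinearMap.liftBaseChange A' (EtMil.glueSnd B' φ)) := by
  constructor
  · rw [injective_iff_map_eq_zero]
    intro x hx
    have h1 := phi_theta φ hsq x
    rw [hx, TensorProduct.tmul_zero] at h1
    have h2 : ((IsScalarTower.toAlgHom B' A' A).toLinearMap.rTensor (EtMil.glue B' φ)) x = 0 := by
      apply thetaAux_injective φ hsq
      rw [map_zero]
      apply φ.injective
      rw [map_zero]
      exact h1
    have hex : Function.Exact ((RingHom.ker (algebraMap A' A)).subtype.restrictScalars B')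
        (IsScalarTower.toAlgHom B' A' A).toLinearMap := by
      intro a
      constructor
      · intro ha
        exact ⟨⟨a, ha⟩, rfl⟩
      · rintro ⟨y, rfl⟩
        exact y.2
    have hsurj : Surjective (IsScalarTower.toAlgHom B' A' A).toLinearMap := hsq.1
    obtain ⟨z, rfl⟩ := (rTensor_exact (EtMil.glue B' φ) hex hsurj x).1 h2
    obtain ⟨y, hy, hy'⟩ := exists_of_ker φ hsq z
    rw [hy'] at hx ⊢
    rw [LinearMap.liftBaseChange_tmul, one_smul] at hx
    have : y = 0 := Subtype.ext (Prod.ext (fst_eq_zero_of_mem_smul φ y hy) hx)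
    rw [this, TensorProduct.tmul_zero]
  · rw [← LinearMap.range_eq_top, LinearMap.range_liftBaseChange, span_range_glueSnd φ hsq]

end glue

end Groth.Agent.H87.Mil
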