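import Groth.Agent.H87.Mil5
import Groth.Agent.H97.FFDescent

set_option autoImplicit false
universe u
open TensorProduct Function

namespace Groth.Agent.H87.Mil

variable {B' B A' A : Type u} [CommRing B'] [CommRing B] [CommRing A'] [CommRing A]
  [Algebra B' B] [Algebra B' A'] [Algebra B A] [Algebra A' A] [Algebra B' A]
  [IsScalarTower B' B A] [IsScalarTower B' A' A]

/-- a map from a flat module which becomes bijective after both base changes is bijective -/
theorem bijective_of_pair (hsq : EtMil.IsFibreSquare B' B A' A) {P Q : Type u} [AddCommGroup P]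
    [AddCommGroup Q] [Module B' P] [Module B' Q] [Module.Flat B' P] (f : P →ₗ[B'] Q)
    (h1 : Bijective (f.lTensor B)) (h2 : Bijective (f.lTensor A')) : Bijective f := by
  constructor
  · rw [injective_iff_map_eq_zero]
    intro x hx
    have e1 : ((1 : B) ⊗ₜ[B'] x : B ⊗[B'] P) = 0 := by
      apply h1.1
      rw [LinearMap.lTensor_tmul, hx, map_zero, TensorProduct.tmul_zero]
    have e2 : ((1 : A') ⊗ₜ[B'] x : A' ⊗[B'] P) = 0 := by
      apply h2.1
      rw [LinearMap.lTensor_tmul, hx, map_zero, TensorProduct.tmul_zero]
    apply pair_injective hsq P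
    simp only [e1, e2, TensorProduct.tmul_zero]
  · rw [← LinearMap.range_eq_top]
    have key : ∀ (S : Type u) [CommRing S] [Algebra B' S], Surjective (f.lTensor S) →
        Subsingleton (S ⊗[B'] (Q ⧸ LinearMap.range f)) := by
      intro S _ _ hf
      refine ⟨fun x y => ?_⟩
      have h0 : ∀ z : S ⊗[B'] (Q ⧸ LinearMap.range f), z = 0 := by
        intro z
        obtain ⟨z', rfl⟩ := LinearMap.lTensor_surjective S
          (Submodule.mkQ_surjective (LinearMap.range f)) z
        obtain ⟨z'', rfl⟩ := hf z'
        rw [← LinearMap.comp_apply, ← LinearMap.lTensor_comp]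
        have : (LinearMap.range f).mkQ ∘ₗ f = 0 := LinearMap.range_mkQ_comp f
        rw [this, LinearMap.lTensor_zero, LinearMap.zero_apply]
      rw [h0 x, h0 y]
    haveI := key B h1.2
    haveI := key A' h2.2
    haveI : Subsingleton (Q ⧸ LinearMap.range f) :=
      Groth.Agent.H74.Milnor.subsingleton_of_tensor hsq _
    exact Submodule.Quotient.subsingleton_iff.mp inferInstance

/-- `S ⊗ mulLeftRight` is bijective when the base change is Azumaya -/
theorem lTensor_mulLeftRight_bijective {R S : Type u} [CommRing R] [CommRing S] [Algebra R S]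
    (D : Type u) [Ring D] [Algebra R D] [Module.Finite R D] [Module.Projective R D]
    [IsAzumaya S (S ⊗[R] D)] :
    Bijective ((AlgHom.mulLeftRight R D).toLinearMap.lTensor S) := by
  obtain ⟨E, G, hEG⟩ := Groth.Agent.H97.FFDescent.mulLeftRight_square R S D
  have hbijS : Bijective (AlgHom.mulLeftRight S (S ⊗[R] D)) := IsAzumaya.bij
  have h1 : Bijective
      (fun x => G (LinearMap.lTensor S (AlgHom.mulLeftRight R D).toLinearMap x)) := by
    have : (fun x => G (LinearMap.lTensor S (AlgHom.mulLeftRight R D).toLinearMap x)) =
        (AlgHom.mulLeftRight S (S ⊗[R] D)) ∘ E := by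
      funext x
      exact (hEG x).symm
    rw [this]
    exact hbijS.comp E.bijective
  have : (fun x => G (LinearMap.lTensor S (AlgHom.mulLeftRight R D).toLinearMap x)) =
      G ∘ (LinearMap.lTensor S (AlgHom.mulLeftRight R D).toLinearMap) := rfl
  rw [this] at h1
  exact (Function.Bijective.of_comp_iff' G.bijective _).mp h1

/-- **Azumaya algebras descend along a Milnor square.** -/
theorem azumaya_of_pair (hsq : EtMil.IsFibreSquare B' B A' A) (D' : Type u) [Ring D']
    [Algebra B' D'] [IsAzumaya B (B ⊗[B'] D')] [IsAzumaya A' (A' ⊗[B'] D')] :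
    IsAzumaya B' D' := by
  haveI : Module.FinitePresentation B (B ⊗[B'] D') := Module.finitePresentation_of_projective _ _
  haveI : Module.FinitePresentation A' (A' ⊗[B'] D') :=
    Module.finitePresentation_of_projective _ _
  haveI : Module.Flat B' D' := flat_descent D' hsq
  haveI : Module.FinitePresentation B' D' := fp_descent hsq D'
  haveI : Module.Projective B' D' := Module.Flat.projective_of_finitePresentation
  haveI : Module.Finite B' D' := inferInstance
  have hfaith : FaithfulSMul B' D' := by
    refine ⟨fun {r₁ r₂} h => ?_⟩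
    have hS : ∀ (S : Type u) [CommRing S] [Algebra B' S] (x : S ⊗[B'] D'),
        algebraMap B' S r₁ • x = algebraMap B' S r₂ • x := by
      intro S _ _ x
      induction x using TensorProduct.induction_on with
      | zero => simp
      | add x y hx hy => rw [smul_add, smul_add, hx, hy]
      | tmul s b =>
        rw [algebraMap_smul, algebraMap_smul, TensorProduct.smul_tmul', TensorProduct.smul_tmul',
          TensorProduct.smul_tmul, TensorProduct.smul_tmul, h b]
    exact inj hsq (FaithfulSMul.eq_of_smul_eq_smul (α := B ⊗[B'] D') (hS B))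
      (FaithfulSMul.eq_of_smul_eq_smul (α := A' ⊗[B'] D') (hS A'))
  haveI : Module.Flat B' D'ᵐᵒᵖ :=
    Module.Flat.of_linearEquiv (MulOpposite.opLinearEquiv B' (M := D')).symm
  refine { bij := ?_ }
  exact bijective_of_pair hsq (AlgHom.mulLeftRight B' D').toLinearMap
    (lTensor_mulLeftRight_bijective D') (lTensor_mulLeftRight_bijective D')

end Groth.Agent.H87.Mil
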