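import Groth.Agent.H87.Mil6

set_option autoImplicit false
universe u
open TensorProduct Function

namespace Groth.Agent.H87.Mil

variable {B' B A' A : Type u} [CommRing B'] [CommRing B] [CommRing A'] [CommRing A]
  [Algebra B' B] [Algebra B' A'] [Algebra B A] [Algebra A' A] [Algebra B' A]
  [IsScalarTower B' B A] [IsScalarTower B' A' A]

theorem liftBaseChange_comp_bijective {R S : Type u} [CommRing R] [CommRing S] [Algebra R S]
    {D X N : Type u} [AddCommGroup D] [AddCommGroup X] [AddCommGroup N] [Module R D] [Module R X]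
    [Module R N] [Module S N] [IsScalarTower R S N] (e : D →ₗ[R] X) (he : Bijective e)
    (l : X →ₗ[R] N) (hl : Bijective (LinearMap.liftBaseChange S l)) :
    Bijective (LinearMap.liftBaseChange S (l ∘ₗ e)) := by
  have h : ⇑(LinearMap.liftBaseChange S (l ∘ₗ e)) =
      (LinearMap.liftBaseChange S l) ∘ ((LinearEquiv.ofBijective e he).lTensor S) := by
    funext x
    induction x using TensorProduct.induction_on with
    | zero => simp
    | add x y hx hy => simp only [map_add, hx, hy, Function.comp_apply]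
    | tmul s d => simp
  rw [h]
  exact hl.comp (LinearEquiv.bijective _)

variable (N : Type u) [Ring N] [Algebra B N] [Algebra B' N] [IsScalarTower B' B N]
  (M' : Type u) [Ring M'] [Algebra A' M'] [Algebra B' M'] [IsScalarTower B' A' M']
  (φ : A ⊗[B] N ≃ₐ[A] A ⊗[A'] M')
  (D' : Type u) [Ring D'] [Algebra B' D'] (π₁ : D' →ₐ[B'] N) (π₂ : D' →ₐ[B'] M')

/-- **The glued algebra of Azumaya algebras is Azumaya.** -/
theorem azumaya_glue (hsq : EtMil.IsFibreSquare B' B A' A) [IsAzumaya B N] [IsAzumaya A' M']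
    (hinj : ∀ d : D', π₁ d = 0 → π₂ d = 0 → d = 0)
    (himg : ∀ (n : N) (m' : M'), φ ((1 : A) ⊗ₜ[B] n) = (1 : A) ⊗ₜ[A'] m' ↔
      ∃ d : D', π₁ d = n ∧ π₂ d = m') :
    IsAzumaya B' D' := by
  -- the comparison `D' ≃ glue`
  let eD : D' →ₗ[B'] ↥(EtMil.glue B' φ.toLinearEquiv) :=
    LinearMap.codRestrict (EtMil.glue B' φ.toLinearEquiv)
      (LinearMap.prod π₁.toLinearMap π₂.toLinearMap)
      (fun d => (himg (π₁ d) (π₂ d)).2 ⟨d, rfl, rfl⟩)
  have heD : Bijective eD := by
    constructor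
    · rw [injective_iff_map_eq_zero]
      intro d hd
      have h := congrArg Subtype.val hd
      exact hinj d (congrArg Prod.fst h) (congrArg Prod.snd h)
    · rintro ⟨⟨n, m'⟩, h⟩
      obtain ⟨d, rfl, rfl⟩ := (himg n m').1 h
      exact ⟨d, rfl⟩
  have h1 : Bijective (LinearMap.liftBaseChange B π₁.toLinearMap) :=
    liftBaseChange_comp_bijective eD heD (EtMil.glueFst B' φ.toLinearEquiv)
      (glueFst_bijective φ.toLinearEquiv hsq)
  have h2 : Bijective (LinearMap.liftBaseChange A' π₂.toLinearMap) :=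
    liftBaseChange_comp_bijective eD heD (EtMil.glueSnd B' φ.toLinearEquiv)
      (glueSnd_bijective φ.toLinearEquiv hsq)
  haveI : IsAzumaya B (B ⊗[B'] D') :=
    IsAzumaya.of_AlgEquiv B N (B ⊗[B'] D')
      (AlgEquiv.ofBijective (AlgHom.liftEquiv B' B D' N π₁) h1).symm
  haveI : IsAzumaya A' (A' ⊗[B'] D') :=
    IsAzumaya.of_AlgEquiv A' M' (A' ⊗[B'] D')
      (AlgEquiv.ofBijective (AlgHom.liftEquiv B' A' D' M' π₂) h2).symm
  exact azumaya_of_pair hsq D'

end Groth.Agent.H87.Mil
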