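import Mathlib

/-!
# Étale algebras are locally open in a monogenic standard étale algebra (helper87)

`ring_core`: if `S` is an étale `R`-algebra and `q` a prime of `S`, there are `f ∉ q` and a monic
`p : R[X]` such that every localization `B` of `S` away from `f` is (as an `R`-algebra) a
localization away from one element of `T = (R[X]/p)[1/p']`.
-/

set_option autoImplicit false

namespace Groth.Agent.H87.MonoCore

open Polynomial

universe u

theorem ring_core {R S : Type u} [CommRing R] [CommRing S] [Algebra R S] [Algebra.Etale R S]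
    (q : Ideal S) [q.IsPrime] :
    ∃ (f : S) (_ : f ∉ q) (p : R[X]) (_ : p.Monic),
      ∀ (B : Type u) [CommRing B] [Algebra S B] [Algebra R B] [IsScalarTower R S B]
        [IsLocalization.Away f B],
        ∃ (χ : Localization.Away (AdjoinRoot.mk p (derivative p)) →ₐ[R] B)
          (t : Localization.Away (AdjoinRoot.mk p (derivative p))),
          @IsLocalization.Away _ _ t B _ χ.toRingHom.toAlgebra := by
  have : Algebra.IsEtaleAt R q := inferInstance
  obtain ⟨f, hfq, hstd⟩ := Algebra.IsEtaleAt.exists_isStandardEtale (R := R) q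
  obtain ⟨Pr⟩ := hstd.nonempty_standardEtalePresentation
  refine ⟨f, hfq, Pr.P.f, Pr.P.monic_f, ?_⟩
  intro B _ _ _ _ _
  -- notation
  let P := Pr.P
  let A := AdjoinRoot P.f
  let a : A := AdjoinRoot.mk P.f (derivative P.f)
  let b : A := AdjoinRoot.mk P.f P.g
  let T := Localization.Away a
  let L := Localization.Away b
  let T' := Localization.Away (algebraMap A T b)
  -- `a` is a unit in `L`
  have hmap : P.HasMap (algebraMap A L (AdjoinRoot.root P.f)) := by
    refine ⟨?_, ?_⟩
    · rw [aeval_algebraMap_apply, AdjoinRoot.aeval_eq, AdjoinRoot.mk_self, map_zero]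
    · rw [aeval_algebraMap_apply, AdjoinRoot.aeval_eq]
      exact IsLocalization.Away.algebraMap_isUnit ..
  have ha : IsUnit (algebraMap A L a) := by
    have := hmap.isUnit_derivative_f
    rwa [aeval_algebraMap_apply, AdjoinRoot.aeval_eq] at this
  have hL : IsLocalization.Away (a * b) L := IsLocalization.Away.mul_of_isUnit' a b ha
  have hT' : IsLocalization.Away (a * b) T' := inferInstance
  let e₃ : T' ≃ₐ[A] L := IsLocalization.algEquiv (Submonoid.powers (a * b)) T' L
  let e₂ : P.Ring ≃ₐ[R] L := P.equivAwayAdjoinRoot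
  let e₁ : Localization.Away f ≃ₐ[R] P.Ring := Pr.equivRing
  let e₀ : Localization.Away f ≃ₐ[S] B := IsLocalization.algEquiv (Submonoid.powers f) _ _
  let Θ : T' ≃ₐ[R] B :=
    (e₃.restrictScalars R).trans (e₂.symm.trans (e₁.symm.trans (e₀.restrictScalars R)))
  let χ : T →ₐ[R] B := Θ.toAlgHom.comp (IsScalarTower.toAlgHom R T T')
  refine ⟨χ, algebraMap A T b, ?_⟩
  let _ : Algebra T B := χ.toRingHom.toAlgebra
  let h : T' ≃ₐ[T] B := { Θ.toRingEquiv with commutes' := fun y => rfl }
  exact IsLocalization.isLocalization_of_algEquiv (Submonoid.powers (algebraMap A T b)) h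

end Groth.Agent.H87.MonoCore
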