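import Mathlib.NumberTheory.Multiplicity
import Mathlib.NumberTheory.Padics.PadicVal.Basic
import Mathlib.Data.Nat.Factorization.Basic
import Mathlib.Data.Nat.Factorial.BigOperators
import Mathlib.Algebra.Order.BigOperators.Group.Finset

set_option autoImplicit false

namespace Groth.Agent.H87.NT

open Finset

/-- the product `∏_{a=1}^g (ℓ^{2a} - 1)` -/
def Pi (g ℓ : ℕ) : ℕ := ∏ a ∈ Icc 1 g, (ℓ ^ (2 * a) - 1)

/-- the exponent of an odd prime `p` -/
def E (g p : ℕ) : ℕ := (2 * g) / (p - 1) + ∑ i ∈ Icc 1 ((2 * g) / (p - 1)), padicValNat p i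

/-- the number `N(g)` -/
def N (g : ℕ) : ℕ := 2 ^ (3 * g + padicValNat 2 g.factorial) *
  ∏ p ∈ (Icc 3 (2 * g + 1)).filter Nat.Prime, p ^ E g p

theorem factor_ne_zero {ℓ a : ℕ} (hℓ : 2 ≤ ℓ) (ha : 1 ≤ a) : ℓ ^ (2 * a) - 1 ≠ 0 := by
  have h1 : 2 ^ (2 * a) ≤ ℓ ^ (2 * a) := Nat.pow_le_pow_left hℓ _
  have h2 : 2 ^ 1 ≤ 2 ^ (2 * a) := Nat.pow_le_pow_right (by norm_num) (by omega)
  omega

theorem Pi_ne_zero {g ℓ : ℕ} (hℓ : 2 ≤ ℓ) : Pi g ℓ ≠ 0 := by
  unfold Pi
  rw [Finset.prod_ne_zero_iff]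
  intro a ha
  exact factor_ne_zero hℓ (Finset.mem_Icc.mp ha).1

theorem val_Pi {g ℓ p : ℕ} (hp : p.Prime) (hℓ : 2 ≤ ℓ) :
    padicValNat p (Pi g ℓ) = ∑ a ∈ Icc 1 g, padicValNat p (ℓ ^ (2 * a) - 1) := by
  unfold Pi
  rw [← Nat.factorization_def _ hp, Nat.factorization_prod]
  · rw [Finsupp.finsetSum_apply]
    refine Finset.sum_congr rfl fun a _ => ?_
    rw [Nat.factorization_def _ hp]
  · intro a ha
    exact factor_ne_zero hℓ (Finset.mem_Icc.mp ha).1

theorem sum_val_factorial (p g : ℕ) (hp : p.Prime) :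
    ∑ a ∈ Icc 1 g, padicValNat p a = padicValNat p g.factorial := by
  have : Fact p.Prime := ⟨hp⟩
  induction g with
  | zero => simp
  | succ g ih =>
    rw [Finset.sum_Icc_succ_top (by omega), ih, Nat.factorial_succ,
      padicValNat.mul (by omega) (Nat.factorial_ne_zero g), add_comm]

theorem prodOdd_ne_zero (g : ℕ) :
    ∏ p ∈ (Icc 3 (2 * g + 1)).filter Nat.Prime, p ^ E g p ≠ 0 := by
  rw [Finset.prod_ne_zero_iff]
  intro q hq
  have := (Finset.mem_filter.mp hq).2
  exact pow_ne_zero _ this.ne_zero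

theorem N_ne_zero (g : ℕ) : N g ≠ 0 := by
  unfold N
  exact mul_ne_zero (pow_ne_zero _ (by norm_num)) (prodOdd_ne_zero g)

theorem val_prodOdd (g p : ℕ) (hp : p.Prime) :
    padicValNat p (∏ q ∈ (Icc 3 (2 * g + 1)).filter Nat.Prime, q ^ E g q) =
      if p ∈ (Icc 3 (2 * g + 1)).filter Nat.Prime then E g p else 0 := by
  classical
  rw [← Nat.factorization_def _ hp, Nat.factorization_prod]
  · rw [Finsupp.finsetSum_apply]
    have : ∀ q ∈ (Icc 3 (2 * g + 1)).filter Nat.Prime,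
        (q ^ E g q).factorization p = if q = p then E g p else 0 := by
      intro q hq
      have hqp := (Finset.mem_filter.mp hq).2
      rw [Nat.factorization_pow, Finsupp.smul_apply, hqp.factorization, Finsupp.single_apply]
      by_cases h : q = p
      · simp [h]
      · simp [h]
    rw [Finset.sum_congr rfl this, Finset.sum_ite_eq']
  · intro q hq
    have := (Finset.mem_filter.mp hq).2
    exact pow_ne_zero _ this.ne_zero

theorem E_eq_zero_of_lt {g p : ℕ} (h : 2 * g + 1 < p) : E g p = 0 := by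
  unfold E
  have : 2 * g / (p - 1) = 0 := Nat.div_eq_of_lt (by omega)
  rw [this]
  simp

theorem val_N_two (g : ℕ) : padicValNat 2 (N g) = 3 * g + padicValNat 2 g.factorial := by
  have : Fact (Nat.Prime 2) := ⟨Nat.prime_two⟩
  unfold N
  rw [padicValNat.mul (pow_ne_zero _ (by norm_num)) (prodOdd_ne_zero g), padicValNat.prime_pow,
    val_prodOdd g 2 Nat.prime_two]
  have : 2 ∉ (Icc 3 (2 * g + 1)).filter Nat.Prime := by
    intro h
    have := (Finset.mem_Icc.mp (Finset.mem_filter.mp h).1).1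
    omega
  rw [if_neg this, add_zero]

theorem val_N_odd (g p : ℕ) (hp : p.Prime) (hp2 : p ≠ 2) : padicValNat p (N g) = E g p := by
  have : Fact (Nat.Prime p) := ⟨hp⟩
  unfold N
  rw [padicValNat.mul (pow_ne_zero _ (by norm_num)) (prodOdd_ne_zero g), padicValNat.pow,
    val_prodOdd g p hp]
  have h2 : padicValNat p 2 = 0 := by
    apply padicValNat.eq_zero_of_not_dvd
    intro h
    have := (Nat.prime_dvd_prime_iff_eq hp Nat.prime_two).mp h
    exact hp2 this
  rw [h2, mul_zero, zero_add]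
  by_cases hmem : p ∈ (Icc 3 (2 * g + 1)).filter Nat.Prime
  · rw [if_pos hmem]
  · rw [if_neg hmem]
    have hge : 3 ≤ p := by
      have := hp.two_le
      omega
    have : 2 * g + 1 < p := by
      by_contra hcon
      push Not at hcon
      exact hmem (Finset.mem_filter.mpr ⟨Finset.mem_Icc.mpr ⟨hge, hcon⟩, hp⟩)
    rw [E_eq_zero_of_lt this]

/-- reindexing multiples of `h` -/
theorem sum_Icc_dvd (g h : ℕ) (hh : 1 ≤ h) (F : ℕ → ℕ) :
    ∑ a ∈ Icc 1 g, (if h ∣ a then F (a / h) else 0) = ∑ i ∈ Icc 1 (g / h), F i := by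
  rw [← Finset.sum_filter]
  symm
  refine Finset.sum_nbij' (fun i => h * i) (fun a => a / h) ?_ ?_ ?_ ?_ ?_
  · intro i hi
    rw [Finset.mem_Icc] at hi
    rw [Finset.mem_filter, Finset.mem_Icc]
    refine ⟨⟨?_, ?_⟩, Dvd.intro _ rfl⟩
    · exact Nat.one_le_iff_ne_zero.mpr (Nat.mul_ne_zero (by omega) (by omega))
    · calc h * i ≤ h * (g / h) := Nat.mul_le_mul_left _ hi.2
        _ ≤ g := Nat.mul_div_le g h
  · intro a ha
    rw [Finset.mem_filter, Finset.mem_Icc] at ha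
    obtain ⟨⟨h1, h2⟩, k, rfl⟩ := ha
    rw [Finset.mem_Icc, Nat.mul_div_cancel_left _ (by omega : 0 < h)]
    refine ⟨?_, ?_⟩
    · rcases Nat.eq_zero_or_pos k with rfl | hk
      · simp at h1
      · exact hk
    · rw [Nat.le_div_iff_mul_le (by omega : 0 < h), mul_comm]
      exact h2
  · intro i _
    exact Nat.mul_div_cancel_left _ (by omega : 0 < h)
  · intro a ha
    rw [Finset.mem_filter] at ha
    exact Nat.mul_div_cancel' ha.2
  · intro i _
    rw [Nat.mul_div_cancel_left _ (by omega : 0 < h)]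

end Groth.Agent.H87.NT
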