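import Groth.Agent.H87.NT1
import Mathlib.FieldTheory.Finite.Basic

set_option autoImplicit false

namespace Groth.Agent.H87.NT

open Finset

/-! ### the prime 2 -/

theorem val_two_mul (a : ℕ) (ha : 1 ≤ a) : padicValNat 2 (2 * a) = 1 + padicValNat 2 a := by
  haveI : Fact (Nat.Prime 2) := ⟨Nat.prime_two⟩
  rw [padicValNat.mul (by norm_num) (by omega), padicValNat_self]

theorem lb_two {ℓ a : ℕ} (hℓ : 1 < ℓ) (hodd : ¬ 2 ∣ ℓ) (ha : 1 ≤ a) :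
    3 + padicValNat 2 a ≤ padicValNat 2 (ℓ ^ (2 * a) - 1) := by
  have := padicValNat.pow_two_sub_one_ge hℓ hodd (n := 2 * a) (by omega) (even_two_mul a)
  rw [val_two_mul a ha] at this
  omega

theorem ub_two {ℓ a : ℕ} (hℓ : ℓ % 8 = 3) (ha : 1 ≤ a) :
    padicValNat 2 (ℓ ^ (2 * a) - 1) = 3 + padicValNat 2 a := by
  haveI : Fact (Nat.Prime 2) := ⟨Nat.prime_two⟩
  have h1 : 1 < ℓ := by omega
  have hodd : ¬ 2 ∣ ℓ := by omega
  have := padicValNat.pow_two_sub_one h1 hodd (n := 2 * a) (by omega) (even_two_mul a)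
  rw [val_two_mul a ha] at this
  obtain ⟨q, hq⟩ : ∃ q, ℓ = 8 * q + 3 := ⟨ℓ / 8, by omega⟩
  have hv1 : padicValNat 2 (ℓ + 1) = 2 := by
    have : ℓ + 1 = 2 ^ 2 * (2 * q + 1) := by rw [hq]; ring
    rw [this, padicValNat.mul (by norm_num) (by omega), padicValNat.prime_pow,
      padicValNat.eq_zero_of_not_dvd (by omega)]
  have hv2 : padicValNat 2 (ℓ - 1) = 1 := by
    have : ℓ - 1 = 2 ^ 1 * (4 * q + 1) := by rw [hq]; omega
    rw [this, padicValNat.mul (by norm_num) (by omega), padicValNat.prime_pow,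
      padicValNat.eq_zero_of_not_dvd (by omega)]
  rw [hv1, hv2] at this
  omega

/-! ### odd primes -/

section odd

variable {p : ℕ} [hp : Fact p.Prime]

theorem fermat_dvd {ℓ : ℕ} (hpl : ¬ p ∣ ℓ) : p ∣ ℓ ^ (p - 1) - 1 := by
  have h0 : (ℓ : ZMod p) ≠ 0 := by
    rw [Ne, ZMod.natCast_eq_zero_iff]
    exact hpl
  have h1 := ZMod.pow_card_sub_one_eq_one h0
  rw [← ZMod.natCast_eq_zero_iff, Nat.cast_sub (Nat.one_le_pow _ _ (Nat.pos_of_ne_zero (by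
    rintro rfl; exact hpl (dvd_zero p)))), Nat.cast_pow, h1, Nat.cast_one, sub_self]

theorem one_lt_pow_of {ℓ k : ℕ} (hℓ : 2 ≤ ℓ) (hk : 1 ≤ k) : 1 < ℓ ^ k := by
  calc 1 < 2 ^ 1 := by norm_num
    _ ≤ 2 ^ k := Nat.pow_le_pow_right (by norm_num) hk
    _ ≤ ℓ ^ k := Nat.pow_le_pow_left hℓ k

theorem lte_one {x i : ℕ} (hp2 : Odd p) (hx1 : 1 < x) (hdvd : p ∣ x - 1) (hi : i ≠ 0) :
    padicValNat p (x ^ i - 1) = padicValNat p (x - 1) + padicValNat p i := by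
  have hx : ¬ p ∣ x := by
    intro h
    have h2 : p ∣ x - (x - 1) := Nat.dvd_sub h hdvd
    have h3 : x - (x - 1) = 1 := by omega
    rw [h3] at h2
    exact hp.out.one_lt.ne' (Nat.dvd_one.mp h2)
  have := padicValNat.pow_sub_pow hp2 hx1 (by simpa using hdvd) hx hi
  simpa using this

theorem lb_odd {ℓ i : ℕ} (hp2 : Odd p) (hℓ : 2 ≤ ℓ) (hpl : ¬ p ∣ ℓ) (hi : 1 ≤ i) :
    1 + padicValNat p i ≤ padicValNat p (ℓ ^ ((p - 1) * i) - 1) := by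
  have hp1 : 1 ≤ p - 1 := by have := hp.out.two_le; omega
  have hx1 : 1 < ℓ ^ (p - 1) := one_lt_pow_of hℓ hp1
  rw [pow_mul, lte_one hp2 hx1 (fermat_dvd hpl) (by omega)]
  have : 1 ≤ padicValNat p (ℓ ^ (p - 1) - 1) :=
    one_le_padicValNat_of_dvd (by omega) (fermat_dvd hpl)
  omega

/-- the generator hypothesis -/
def IsGen (p ℓ : ℕ) : Prop := ∀ k, p ^ 2 ∣ ℓ ^ k - 1 → p * (p - 1) ∣ k

theorem val_fermat_eq_one {ℓ : ℕ} (hℓ : 2 ≤ ℓ) (hpl : ¬ p ∣ ℓ) (hgen : IsGen p ℓ) :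
    padicValNat p (ℓ ^ (p - 1) - 1) = 1 := by
  have hp1 : 1 ≤ p - 1 := by have := hp.out.two_le; omega
  have hx1 : 1 < ℓ ^ (p - 1) := one_lt_pow_of hℓ hp1
  have hne : ℓ ^ (p - 1) - 1 ≠ 0 := by omega
  have h1 : 1 ≤ padicValNat p (ℓ ^ (p - 1) - 1) :=
    one_le_padicValNat_of_dvd hne (fermat_dvd hpl)
  by_contra hcon
  have h2 : 2 ≤ padicValNat p (ℓ ^ (p - 1) - 1) := by omega
  have h3 : p ^ 2 ∣ ℓ ^ (p - 1) - 1 := (padicValNat_dvd_iff_le hne).mpr h2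
  have h4 := hgen _ h3
  have h5 : p * (p - 1) ≤ p - 1 := Nat.le_of_dvd (by omega) h4
  have h6 : 2 * (p - 1) ≤ p * (p - 1) := Nat.mul_le_mul_right _ hp.out.two_le
  omega

theorem dvd_of_dvd_pow_sub_one {ℓ k : ℕ} (hp2 : Odd p) (hℓ : 2 ≤ ℓ) (hgen : IsGen p ℓ)
    (hk : 1 ≤ k) (hdvd : p ∣ ℓ ^ k - 1) : (p - 1) ∣ k := by
  have hx1 : 1 < ℓ ^ k := one_lt_pow_of hℓ hk
  have hne : ℓ ^ k - 1 ≠ 0 := by omega
  have h1 := lte_one hp2 hx1 hdvd (i := p) hp.out.ne_zero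
  rw [padicValNat_self] at h1
  have h2 : 1 ≤ padicValNat p (ℓ ^ k - 1) := one_le_padicValNat_of_dvd hne hdvd
  have hx2 : 1 < (ℓ ^ k) ^ p := one_lt_pow_of (by omega) hp.out.one_lt.le
  have h3 : p ^ 2 ∣ (ℓ ^ k) ^ p - 1 := (padicValNat_dvd_iff_le (by omega)).mpr (by omega)
  rw [← pow_mul] at h3
  have h4 := hgen _ h3
  rw [mul_comm k p] at h4
  exact (Nat.mul_dvd_mul_iff_left hp.out.pos).mp h4

theorem ub_odd {ℓ a h : ℕ} (hph : p = 2 * h + 1) (hh : 1 ≤ h) (hℓ : 2 ≤ ℓ) (hpl : ¬ p ∣ ℓ)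
    (hgen : IsGen p ℓ) (ha : 1 ≤ a) :
    padicValNat p (ℓ ^ (2 * a) - 1) = if h ∣ a then 1 + padicValNat p (a / h) else 0 := by
  have hp2 : Odd p := ⟨h, hph⟩
  have hp1 : p - 1 = 2 * h := by omega
  by_cases hdvd : h ∣ a
  · rw [if_pos hdvd]
    obtain ⟨i, rfl⟩ := hdvd
    have hi : 1 ≤ i := by
      rcases Nat.eq_zero_or_pos i with rfl | hi
      · simp at ha
      · exact hi
    rw [Nat.mul_div_cancel_left _ (by omega : 0 < h)]
    have : 2 * (h * i) = (p - 1) * i := by rw [hp1]; ring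
    rw [this, pow_mul, lte_one hp2 (one_lt_pow_of hℓ (by omega)) (fermat_dvd hpl) (by omega),
      val_fermat_eq_one hℓ hpl hgen]
  · rw [if_neg hdvd]
    apply padicValNat.eq_zero_of_not_dvd
    intro hcon
    have h1 := dvd_of_dvd_pow_sub_one hp2 hℓ hgen (k := 2 * a) (by omega) hcon
    rw [hp1] at h1
    exact hdvd ((Nat.mul_dvd_mul_iff_left (by norm_num : 0 < 2)).mp h1)

end odd

/-! ### sums -/

theorem E_eq_sum {g p h : ℕ} (hph : p = 2 * h + 1) (hh : 1 ≤ h) :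
    E g p = ∑ i ∈ Icc 1 (g / h), (1 + padicValNat p i) := by
  unfold E
  have : 2 * g / (p - 1) = g / h := by
    have : p - 1 = 2 * h := by omega
    rw [this, Nat.mul_div_mul_left _ _ (by norm_num : 0 < 2)]
  rw [this, Finset.sum_add_distrib, Finset.sum_const, Nat.card_Icc, smul_eq_mul, mul_one,
    Nat.add_sub_cancel]

theorem sum_lb_two {g ℓ : ℕ} (hℓ : 1 < ℓ) (hodd : 1 ≤ g → ¬ 2 ∣ ℓ) :
    3 * g + padicValNat 2 g.factorial ≤ ∑ a ∈ Icc 1 g, padicValNat 2 (ℓ ^ (2 * a) - 1) := by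
  rw [← sum_val_factorial 2 g Nat.prime_two]
  have : 3 * g + ∑ a ∈ Icc 1 g, padicValNat 2 a = ∑ a ∈ Icc 1 g, (3 + padicValNat 2 a) := by
    rw [Finset.sum_add_distrib, Finset.sum_const, Nat.card_Icc, smul_eq_mul, Nat.add_sub_cancel,
      mul_comm]
  rw [this]
  refine Finset.sum_le_sum fun a ha => ?_
  rw [Finset.mem_Icc] at ha
  exact lb_two hℓ (hodd (by omega)) ha.1

theorem sum_ub_two {g ℓ : ℕ} (hℓ : ℓ % 8 = 3) :
    ∑ a ∈ Icc 1 g, padicValNat 2 (ℓ ^ (2 * a) - 1) = 3 * g + padicValNat 2 g.factorial := by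
  rw [← sum_val_factorial 2 g Nat.prime_two]
  have : 3 * g + ∑ a ∈ Icc 1 g, padicValNat 2 a = ∑ a ∈ Icc 1 g, (3 + padicValNat 2 a) := by
    rw [Finset.sum_add_distrib, Finset.sum_const, Nat.card_Icc, smul_eq_mul, Nat.add_sub_cancel,
      mul_comm]
  rw [this]
  refine Finset.sum_congr rfl fun a ha => ?_
  rw [Finset.mem_Icc] at ha
  exact ub_two hℓ ha.1

theorem sum_lb_odd {g p ℓ : ℕ} [hp : Fact p.Prime] (hp2 : p ≠ 2) (hℓ : 2 ≤ ℓ)
    (hpl : p ≤ 2 * g + 1 → ¬ p ∣ ℓ) :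
    E g p ≤ ∑ a ∈ Icc 1 g, padicValNat p (ℓ ^ (2 * a) - 1) := by
  obtain ⟨h, hph⟩ : Odd p := hp.out.odd_of_ne_two hp2
  have hh : 1 ≤ h := by have := hp.out.two_le; omega
  rw [E_eq_sum hph hh, ← sum_Icc_dvd g h hh]
  refine Finset.sum_le_sum fun a ha => ?_
  rw [Finset.mem_Icc] at ha
  by_cases hdvd : h ∣ a
  · rw [if_pos hdvd]
    have hle : h ≤ a := Nat.le_of_dvd (by omega) hdvd
    obtain ⟨i, rfl⟩ := hdvd
    have hi : 1 ≤ i := by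
      rcases Nat.eq_zero_or_pos i with rfl | hi
      · simp at ha
      · exact hi
    rw [Nat.mul_div_cancel_left _ (by omega : 0 < h)]
    have : 2 * (h * i) = (p - 1) * i := by
      have : p - 1 = 2 * h := by omega
      rw [this]; ring
    rw [this]
    exact lb_odd ⟨h, hph⟩ hℓ (hpl (by omega)) hi
  · rw [if_neg hdvd]
    exact Nat.zero_le _

theorem sum_ub_odd {g p ℓ : ℕ} [hp : Fact p.Prime] (hp2 : p ≠ 2) (hℓ : 2 ≤ ℓ)
    (hpl : ¬ p ∣ ℓ) (hgen : IsGen p ℓ) :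
    ∑ a ∈ Icc 1 g, padicValNat p (ℓ ^ (2 * a) - 1) = E g p := by
  obtain ⟨h, hph⟩ : Odd p := hp.out.odd_of_ne_two hp2
  have hh : 1 ≤ h := by have := hp.out.two_le; omega
  rw [E_eq_sum hph hh, ← sum_Icc_dvd g h hh]
  refine Finset.sum_congr rfl fun a ha => ?_
  rw [Finset.mem_Icc] at ha
  exact ub_odd hph hh hℓ hpl hgen ha.1

end Groth.Agent.H87.NT
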