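import Groth.Agent.H87.NT2
import Mathlib.NumberTheory.LSeries.PrimesInAP
import Mathlib.RingTheory.ZMod.UnitsCyclic

set_option autoImplicit false

namespace Groth.Agent.H87.NT

open Finset

theorem exists_ell_two (B : ℕ) : ∃ ℓ > B, ℓ.Prime ∧ ℓ % 8 = 3 := by
  have hu : IsUnit ((3 : ℕ) : ZMod 8) := (ZMod.isUnit_iff_coprime 3 8).mpr (by norm_num)
  obtain ⟨ℓ, hℓB, hℓp, hℓ⟩ := Nat.forall_exists_prime_gt_and_eq_mod hu B
  refine ⟨ℓ, hℓB, hℓp, ?_⟩
  have := (ZMod.natCast_eq_natCast_iff ℓ 3 8).mp hℓ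
  exact this

theorem exists_ell_odd (p : ℕ) [hp : Fact p.Prime] (hp2 : p ≠ 2) (B : ℕ) :
    ∃ ℓ > B, ℓ.Prime ∧ ¬ p ∣ ℓ ∧ IsGen p ℓ := by
  have hcyc : IsCyclic (ZMod (p ^ 2))ˣ := ZMod.isCyclic_units_of_prime_pow p hp.out hp2 2
  obtain ⟨γ, hγ⟩ := hcyc.exists_generator
  have hne : NeZero (p ^ 2) := ⟨pow_ne_zero _ hp.out.ne_zero⟩
  have hord : orderOf γ = p * (p - 1) := by
    rw [orderOf_eq_card_of_forall_mem_zpowers hγ, Nat.card_eq_fintype_card,
      ZMod.card_units_eq_totient, Nat.totient_prime_pow hp.out (by norm_num)]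
    simp
  obtain ⟨ℓ, hℓB, hℓp, hℓ⟩ := Nat.forall_exists_prime_gt_and_eq_mod (q := p ^ 2)
    (a := (γ : ZMod (p ^ 2))) γ.isUnit (max B p)
  have hℓB' : B < ℓ := lt_of_le_of_lt (le_max_left _ _) hℓB
  have hℓp' : p < ℓ := lt_of_le_of_lt (le_max_right _ _) hℓB
  refine ⟨ℓ, hℓB', hℓp, ?_, ?_⟩
  · intro hdvd
    have := (Nat.prime_dvd_prime_iff_eq hp.out hℓp).mp hdvd
    omega
  · intro k hk
    rw [← hord]
    apply orderOf_dvd_of_pow_eq_one
    apply Units.ext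
    rw [Units.val_pow_eq_pow_val, Units.val_one, ← hℓ]
    have h1 : 1 ≤ ℓ ^ k := Nat.one_le_pow _ _ hℓp.pos
    have h2 := (ZMod.natCast_eq_zero_iff (ℓ ^ k - 1) (p ^ 2)).mpr hk
    rw [Nat.cast_sub h1, Nat.cast_pow, Nat.cast_one, sub_eq_zero] at h2
    exact h2

theorem main (g B d : ℕ) (hB : 2 * g + 1 ≤ B) :
    (∀ ℓ : ℕ, ℓ.Prime → B < ℓ → d ∣ Pi g ℓ) ↔ d ∣ N g := by
  constructor
  · intro hall
    obtain ⟨ℓ₀, hℓ₀B, hℓ₀p⟩ := Nat.exists_infinite_primes (B + 1)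
    have hd : d ≠ 0 := by
      rintro rfl
      have := hall ℓ₀ hℓ₀p (by omega)
      rw [zero_dvd_iff] at this
      exact Pi_ne_zero hℓ₀p.two_le this
    rw [← Nat.factorization_prime_le_iff_dvd hd (N_ne_zero g)]
    intro p hp
    haveI : Fact p.Prime := ⟨hp⟩
    by_cases hp2 : p = 2
    · subst hp2
      obtain ⟨ℓ, hℓB, hℓp, hℓ8⟩ := exists_ell_two B
      have hdvd := hall ℓ hℓp hℓB
      have h1 := (Nat.factorization_le_iff_dvd hd (Pi_ne_zero hℓp.two_le)).mpr hdvd 2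
      rw [Nat.factorization_def _ Nat.prime_two, Nat.factorization_def _ Nat.prime_two] at *
      rw [val_N_two, ← sum_ub_two hℓ8, ← val_Pi Nat.prime_two hℓp.two_le]
      exact h1
    · obtain ⟨ℓ, hℓB, hℓp, hpl, hgen⟩ := exists_ell_odd p hp2 B
      have hdvd := hall ℓ hℓp hℓB
      have h1 := (Nat.factorization_le_iff_dvd hd (Pi_ne_zero hℓp.two_le)).mpr hdvd p
      rw [Nat.factorization_def _ hp, Nat.factorization_def _ hp] at *
      rw [val_N_odd g p hp hp2, ← sum_ub_odd hp2 hℓp.two_le hpl hgen, ← val_Pi hp hℓp.two_le]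
      exact h1
  · intro hdN ℓ hℓp hℓB
    refine hdN.trans ?_
    rw [← Nat.factorization_prime_le_iff_dvd (N_ne_zero g) (Pi_ne_zero hℓp.two_le)]
    intro p hp
    haveI : Fact p.Prime := ⟨hp⟩
    rw [Nat.factorization_def _ hp, Nat.factorization_def _ hp, val_Pi hp hℓp.two_le]
    by_cases hp2 : p = 2
    · subst hp2
      rw [val_N_two]
      apply sum_lb_two hℓp.one_lt
      intro hg hdvd
      have := (Nat.prime_dvd_prime_iff_eq Nat.prime_two hℓp).mp hdvd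
      omega
    · rw [val_N_odd g p hp hp2]
      apply sum_lb_odd hp2 hℓp.two_le
      intro hple hdvd
      have := (Nat.prime_dvd_prime_iff_eq hp hℓp).mp hdvd
      omega

end Groth.Agent.H87.NT
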