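import Mathlib

set_option autoImplicit false
set_option linter.unusedSectionVars false
universe u

namespace Groth.Agent.H87.ProjPlane

open Matrix

variable {A : Type u} [CommRing A] [IsLocalRing A]

/-- the cross product, by hand -/
def cr (x y : Fin 3 → A) : Fin 3 → A :=
  ![x 1 * y 2 - x 2 * y 1, x 2 * y 0 - x 0 * y 2, x 0 * y 1 - x 1 * y 0]

@[simp] theorem cr0 (x y : Fin 3 → A) : cr x y 0 = x 1 * y 2 - x 2 * y 1 := rfl
@[simp] theorem cr1 (x y : Fin 3 → A) : cr x y 1 = x 2 * y 0 - x 0 * y 2 := rfl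
@[simp] theorem cr2 (x y : Fin 3 → A) : cr x y 2 = x 0 * y 1 - x 1 * y 0 := rfl

theorem dot3 (x y : Fin 3 → A) : x ⬝ᵥ y = x 0 * y 0 + x 1 * y 1 + x 2 * y 2 := by
  simp [dotProduct, Fin.sum_univ_three]

theorem line (x y w n : Fin 3 → A) (hn : ∃ i, IsUnit (n i)) (hx : x ⬝ᵥ n = 0) (hy : y ⬝ᵥ n = 0)
    (hw : w ⬝ᵥ n = 0) (hc : ∃ i, IsUnit (cr x y i)) : cr x y ⬝ᵥ w = 0 := by
  rw [dot3] at hx hy hw ⊢
  -- proportionality of `n` and `cr x y`
  have h01 : cr x y 0 * n 1 = cr x y 1 * n 0 := by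
    rw [cr0, cr1]
    linear_combination (y 2) * hx - (x 2) * hy
  have h02 : cr x y 0 * n 2 = cr x y 2 * n 0 := by
    rw [cr0, cr2]
    linear_combination (-(y 1)) * hx + (x 1) * hy
  have h12 : cr x y 1 * n 2 = cr x y 2 * n 1 := by
    rw [cr1, cr2]
    linear_combination (y 0) * hx - (x 0) * hy
  have prop : ∀ i j, cr x y i * n j = cr x y j * n i := by
    intro i j
    fin_cases i <;> fin_cases j
    · rfl
    · exact h01
    · exact h02
    · exact h01.symm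
    · rfl
    · exact h12
    · exact h02.symm
    · exact h12.symm
    · rfl
  obtain ⟨i, hi⟩ := hc
  have hni : IsUnit (n i) := by
    obtain ⟨j, hj⟩ := hn
    have h1 : IsUnit (cr x y i * n j) := hi.mul hj
    rw [prop i j] at h1
    exact isUnit_of_mul_isUnit_right h1
  have key : n i * (cr x y 0 * w 0 + cr x y 1 * w 1 + cr x y 2 * w 2) = 0 := by
    linear_combination (cr x y i) * hw - w 0 * prop i 0 - w 1 * prop i 1 - w 2 * prop i 2
  exact (hni.mul_right_eq_zero).mp key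

section Core

variable (p : ℕ) [Fact p.Prime] (r : (Fin 3 → ZMod p) → (Fin 3 → A))

theorem col
    (hcol : ∀ u v w : Fin 3 → ZMod p, u ≠ 0 → v ≠ 0 → w ≠ 0 →
      Matrix.det (Matrix.of ![u, v, w]) = 0 →
      ∃ n : Fin 3 → A, (∃ i, IsUnit (n i)) ∧
        dotProduct (r u) n = 0 ∧ dotProduct (r v) n = 0 ∧ dotProduct (r w) n = 0)
    (u v w : Fin 3 → ZMod p) (hu : u ≠ 0) (hv : v ≠ 0) (hw : w ≠ 0)
    (hdet : Matrix.det (Matrix.of ![u, v, w]) = 0) (hc : ∃ i, IsUnit (cr (r u) (r v) i)) :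
    cr (r u) (r v) ⬝ᵥ r w = 0 := by
  obtain ⟨n, hn, h1, h2, h3⟩ := hcol u v w hu hv hw hdet
  exact line _ _ _ n hn h1 h2 h3 hc

theorem vec_ne_zero (a b c : ZMod p) (h : a ≠ 0 ∨ b ≠ 0 ∨ c ≠ 0) : (![a, b, c] : Fin 3 → ZMod p) ≠ 0 := by
  intro h0
  rcases h with h | h | h
  · exact h (by simpa using congrFun h0 0)
  · exact h (by simpa using congrFun h0 1)
  · exact h (by simpa using congrFun h0 2)

theorem core
    (hpt : ∀ v : Fin 3 → ZMod p, v ≠ 0 → ∃ i, IsUnit (r v i))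
    (hcol : ∀ u v w : Fin 3 → ZMod p, u ≠ 0 → v ≠ 0 → w ≠ 0 →
      Matrix.det (Matrix.of ![u, v, w]) = 0 →
      ∃ n : Fin 3 → A, (∃ i, IsUnit (n i)) ∧
        dotProduct (r u) n = 0 ∧ dotProduct (r v) n = 0 ∧ dotProduct (r w) n = 0)
    {α β γ : A} (hα : IsUnit α) (hβ : IsUnit β) (hγ : IsUnit γ)
    (hE1 : r ![1, 0, 0] = ![α, 0, 0]) (hE2 : r ![0, 1, 0] = ![0, β, 0])
    (hE3 : r ![0, 0, 1] = ![0, 0, γ]) (hU : r ![1, 1, 1] = ![1, 1, 1]) : (p : A) = 0 := by
  have one_ne : (1 : ZMod p) ≠ 0 := one_ne_zero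
  have nE1 : (![1, 0, 0] : Fin 3 → ZMod p) ≠ 0 := vec_ne_zero p _ _ _ (Or.inl one_ne)
  have nE2 : (![0, 1, 0] : Fin 3 → ZMod p) ≠ 0 := vec_ne_zero p _ _ _ (Or.inr (Or.inl one_ne))
  have nE3 : (![0, 0, 1] : Fin 3 → ZMod p) ≠ 0 := vec_ne_zero p _ _ _ (Or.inr (Or.inr one_ne))
  have nU : (![1, 1, 1] : Fin 3 → ZMod p) ≠ 0 := vec_ne_zero p _ _ _ (Or.inl one_ne)
  have nW1 : (![1, 1, 0] : Fin 3 → ZMod p) ≠ 0 := vec_ne_zero p _ _ _ (Or.inl one_ne)
  have nW2 : (![0, 1, 1] : Fin 3 → ZMod p) ≠ 0 := vec_ne_zero p _ _ _ (Or.inr (Or.inl one_ne))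
  have ntA : Nontrivial A := inferInstance
  -- the point `W1 = (1:1:0)`
  have hW1a : r ![1, 1, 0] 2 = 0 := by
    have h := col p r hcol ![1, 0, 0] ![0, 1, 0] ![1, 1, 0] nE1 nE2 nW1
      (by simp [Matrix.det_fin_three]) ⟨2, by simpa [hE1, hE2] using hα.mul hβ⟩
    rw [dot3] at h
    simp [hE1, hE2] at h
    exact ((hα.mul hβ).mul_right_eq_zero).mp h
  have hW1b : r ![1, 1, 0] 0 = r ![1, 1, 0] 1 := by
    have h := col p r hcol ![0, 0, 1] ![1, 1, 1] ![1, 1, 0] nE3 nU nW1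
      (by simp [Matrix.det_fin_three]) ⟨0, by simpa [hE3, hU] using hγ⟩
    rw [dot3] at h
    simp [hE3, hU] at h
    have h' : γ * (r ![1, 1, 0] 1 - r ![1, 1, 0] 0) = 0 := by linear_combination h
    have := (hγ.mul_right_eq_zero).mp h'
    exact (sub_eq_zero.mp this).symm
  have hs1 : IsUnit (r ![1, 1, 0] 1) := by
    obtain ⟨i, hi⟩ := hpt _ nW1
    fin_cases i
    · rw [← hW1b]; exact hi
    · exact hi
    · exfalso
      have : IsUnit (r ![1, 1, 0] 2) := hi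
      rw [hW1a] at this
      exact not_isUnit_zero this
  -- the point `W2 = (0:1:1)`
  have hW2a : r ![0, 1, 1] 0 = 0 := by
    have h := col p r hcol ![0, 1, 0] ![0, 0, 1] ![0, 1, 1] nE2 nE3 nW2
      (by simp [Matrix.det_fin_three]) ⟨0, by simpa [hE2, hE3] using hβ.mul hγ⟩
    rw [dot3] at h
    simp [hE2, hE3] at h
    exact ((hβ.mul hγ).mul_right_eq_zero).mp h
  have hW2b : r ![0, 1, 1] 1 = r ![0, 1, 1] 2 := by
    have h := col p r hcol ![1, 0, 0] ![1, 1, 1] ![0, 1, 1] nE1 nU nW2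
      (by simp [Matrix.det_fin_three]) ⟨2, by simpa [hE1, hU] using hα⟩
    rw [dot3] at h
    simp [hE1, hU] at h
    have h' : α * (r ![0, 1, 1] 2 - r ![0, 1, 1] 1) = 0 := by linear_combination h
    have := (hα.mul_right_eq_zero).mp h'
    exact (sub_eq_zero.mp this).symm
  have hs2 : IsUnit (r ![0, 1, 1] 2) := by
    obtain ⟨i, hi⟩ := hpt _ nW2
    fin_cases i
    · exfalso
      have : IsUnit (r ![0, 1, 1] 0) := hi
      rw [hW2a] at this
      exact not_isUnit_zero this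
    · rw [← hW2b]; exact hi
    · exact hi
  -- the chain of points `P n = (-n:0:1)`
  have chain : ∀ n : ℕ, r ![-(n : ZMod p), 0, 1] 1 = 0 ∧
      r ![-(n : ZMod p), 0, 1] 0 = -(n : A) * r ![-(n : ZMod p), 0, 1] 2 := by
    intro n
    induction n with
    | zero => simp [hE3]
    | succ n ih =>
      obtain ⟨hS1, hS0⟩ := ih
      have nP : (![-(n : ZMod p), 0, 1] : Fin 3 → ZMod p) ≠ 0 :=
        vec_ne_zero p _ _ _ (Or.inr (Or.inr one_ne))
      have nQ : (![-(n : ZMod p), 1, 1] : Fin 3 → ZMod p) ≠ 0 :=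
        vec_ne_zero p _ _ _ (Or.inr (Or.inr one_ne))
      have nP' : (![-((n + 1 : ℕ) : ZMod p), 0, 1] : Fin 3 → ZMod p) ≠ 0 :=
        vec_ne_zero p _ _ _ (Or.inr (Or.inr one_ne))
      set P := r ![-(n : ZMod p), 0, 1] with hP
      set Q := r ![-(n : ZMod p), 1, 1] with hQ
      set P' := r ![-((n + 1 : ℕ) : ZMod p), 0, 1] with hP'
      have hz : IsUnit (P 2) := by
        obtain ⟨i, hi⟩ := hpt _ nP
        fin_cases i
        · have : IsUnit (P 0) := hi
          rw [hS0] at this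
          exact isUnit_of_mul_isUnit_right this
        · exfalso
          have : IsUnit (P 1) := hi
          rw [hS1] at this
          exact not_isUnit_zero this
        · exact hi
      have hQa : Q 0 = -(n : A) * Q 2 := by
        have h := col p r hcol ![-(n : ZMod p), 0, 1] ![0, 1, 0] ![-(n : ZMod p), 1, 1] nP nE2 nQ
          (by simp [Matrix.det_fin_three]) ⟨0, by
            rw [← hP, hE2]
            simpa [hS1] using hz.mul hβ⟩
        rw [dot3, ← hP, ← hQ, hE2] at h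
        simp [hS1] at h
        have h' : (P 2 * β) * (Q 0 + (n : A) * Q 2) = 0 := by
          linear_combination (-1 : A) * h + (β * Q 2) * hS0
        have := ((hz.mul hβ).mul_right_eq_zero).mp h'
        linear_combination this
      have hQb : Q 1 = Q 2 := by
        have h := col p r hcol ![1, 0, 0] ![0, 1, 1] ![-(n : ZMod p), 1, 1] nE1 nW2 nQ
          (by simp [Matrix.det_fin_three]) ⟨2, by
            rw [hE1]
            simpa using hα.mul (hW2b ▸ hs2)⟩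
        rw [dot3, ← hQ, hE1] at h
        simp [hW2a] at h
        have h' : (α * r ![0, 1, 1] 2) * (Q 2 - Q 1) = 0 := by
          linear_combination h - (α * Q 2) * hW2b
        have := ((hα.mul hs2).mul_right_eq_zero).mp h'
        exact (sub_eq_zero.mp this).symm
      have ht : IsUnit (Q 2) := by
        obtain ⟨i, hi⟩ := hpt _ nQ
        fin_cases i
        · have : IsUnit (Q 0) := hi
          rw [hQa] at this
          exact isUnit_of_mul_isUnit_right this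
        · rw [← hQb]; exact hi
        · exact hi
      have hP'a : P' 1 = 0 := by
        have h := col p r hcol ![1, 0, 0] ![0, 0, 1] ![-((n + 1 : ℕ) : ZMod p), 0, 1] nE1 nE3 nP'
          (by simp [Matrix.det_fin_three]) ⟨1, by simpa [hE1, hE3] using hα.mul hγ⟩
        rw [dot3, ← hP', hE1, hE3] at h
        simp at h
        exact ((hα.mul hγ).mul_right_eq_zero).mp h
      have hP'b : P' 0 = -((n + 1 : ℕ) : A) * P' 2 := by
        have h := col p r hcol ![-(n : ZMod p), 1, 1] ![1, 1, 0] ![-((n + 1 : ℕ) : ZMod p), 0, 1]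
          nQ nW1 nP'
          (by simp [Matrix.det_fin_three]; ring) ⟨1, by
            rw [← hQ]
            simpa [hW1a, hW1b] using ht.mul hs1⟩
        rw [dot3, ← hQ, ← hP'] at h
        simp [hW1a, hW1b, hP'a] at h
        have h' : (Q 2 * r ![1, 1, 0] 1) * (P' 0 + ((n + 1 : ℕ) : A) * P' 2) = 0 := by
          push_cast
          linear_combination (-1 : A) * h + (r ![1, 1, 0] 1 * P' 2) * hQa
            - (r ![1, 1, 0] 1 * P' 2) * hQb
        have := ((ht.mul hs1).mul_right_eq_zero).mp h'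
        linear_combination this
      exact ⟨hP'a, hP'b⟩
  obtain ⟨-, h0⟩ := chain p
  have hp0 : ((p : ℕ) : ZMod p) = 0 := ZMod.natCast_self p
  rw [hp0, neg_zero, hE3] at h0
  simp at h0
  have h' : γ * (p : A) = 0 := by linear_combination h0
  exact (hγ.mul_right_eq_zero).mp h'

end Core

section Normalize

theorem det_of3 (x y z : Fin 3 → A) : Matrix.det (Matrix.of ![x, y, z]) =
    x 0 * y 1 * z 2 - x 0 * y 2 * z 1 - x 1 * y 0 * z 2 + x 1 * y 2 * z 0 + x 2 * y 0 * z 1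
      - x 2 * y 1 * z 0 := by
  rw [Matrix.det_fin_three]; rfl

theorem unitCoord_mulVec (M : Matrix (Fin 3) (Fin 3) A) (hM : IsUnit M.det) (n : Fin 3 → A)
    (hn : ∃ i, IsUnit (n i)) : ∃ i, IsUnit ((M *ᵥ n) i) := by
  by_contra hcon
  push Not at hcon
  obtain ⟨i, hi⟩ := hn
  have h1 : M⁻¹ *ᵥ (M *ᵥ n) = n := by
    rw [Matrix.mulVec_mulVec, Matrix.nonsing_inv_mul _ hM, Matrix.one_mulVec]
  have h2 : n i ∈ IsLocalRing.maximalIdeal A := by
    rw [← h1]
    simp only [Matrix.mulVec, dotProduct]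
    refine Ideal.sum_mem _ (fun j _ => Ideal.mul_mem_left _ _ ?_)
    rw [IsLocalRing.mem_maximalIdeal, mem_nonunits_iff]
    exact hcon j
  rw [IsLocalRing.mem_maximalIdeal, mem_nonunits_iff] at h2
  exact h2 hi

theorem main (p : ℕ) [Fact p.Prime]
    (ρ : (Fin 3 → ZMod p) → (Fin 3 → A))
    (hpt : ∀ v : Fin 3 → ZMod p, v ≠ 0 → ∃ i, IsUnit (ρ v i))
    (hcol : ∀ u v w : Fin 3 → ZMod p, u ≠ 0 → v ≠ 0 → w ≠ 0 →
      Matrix.det (Matrix.of ![u, v, w]) = 0 →
      ∃ n : Fin 3 → A, (∃ i, IsUnit (n i)) ∧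
        dotProduct (ρ u) n = 0 ∧ dotProduct (ρ v) n = 0 ∧ dotProduct (ρ w) n = 0)
    (hgen : IsUnit (Matrix.det (Matrix.of ![ρ (Pi.single 0 1), ρ (Pi.single 1 1), ρ (Pi.single 2 1)])) ∧
      IsUnit (Matrix.det (Matrix.of ![ρ (Pi.single 0 1), ρ (Pi.single 1 1), ρ (fun _ => 1)])) ∧
      IsUnit (Matrix.det (Matrix.of ![ρ (Pi.single 0 1), ρ (Pi.single 2 1), ρ (fun _ => 1)])) ∧
      IsUnit (Matrix.det (Matrix.of ![ρ (Pi.single 1 1), ρ (Pi.single 2 1), ρ (fun _ => 1)]))) :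
    (p : A) = 0 := by
  have e1 : (Pi.single 0 1 : Fin 3 → ZMod p) = ![1, 0, 0] := by
    ext i; fin_cases i <;> simp
  have e2 : (Pi.single 1 1 : Fin 3 → ZMod p) = ![0, 1, 0] := by
    ext i; fin_cases i <;> simp
  have e3 : (Pi.single 2 1 : Fin 3 → ZMod p) = ![0, 0, 1] := by
    ext i; fin_cases i <;> simp
  have eU : ((fun _ => 1) : Fin 3 → ZMod p) = ![1, 1, 1] := by
    ext i; fin_cases i <;> simp
  rw [e1, e2, e3, eU] at hgen
  obtain ⟨hM, hg1, hg2, hg3⟩ := hgen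
  set M : Matrix (Fin 3) (Fin 3) A := Matrix.of ![ρ ![1, 0, 0], ρ ![0, 1, 0], ρ ![0, 0, 1]] with hMdef
  set x : (Fin 3 → ZMod p) → (Fin 3 → A) := fun v => ρ v ᵥ* M⁻¹ with hx
  have hρx : ∀ v, ρ v = x v ᵥ* M := by
    intro v
    rw [hx]
    simp only
    rw [Matrix.vecMul_vecMul, Matrix.nonsing_inv_mul _ hM, Matrix.vecMul_one]
  have hρx' : ∀ v i, ρ v i = x v 0 * ρ ![1, 0, 0] i + x v 1 * ρ ![0, 1, 0] i
      + x v 2 * ρ ![0, 0, 1] i := by
    intro v i
    conv_lhs => rw [hρx v]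
    simp [Matrix.vecMul, dotProduct, Fin.sum_univ_three, hMdef]
  have hxE : ∀ i : Fin 3, M i ᵥ* M⁻¹ = Pi.single i 1 := by
    intro i
    rw [← Matrix.mul_apply_eq_vecMul, Matrix.mul_nonsing_inv _ hM]
    ext j
    simp [Matrix.one_apply, Pi.single_apply, eq_comm]
  have hx1 : x ![1, 0, 0] = ![1, 0, 0] := by
    have := hxE 0
    rw [hx]; simp only
    have hM0 : M 0 = ρ ![1, 0, 0] := rfl
    rw [← hM0, this]
    ext i; fin_cases i <;> simp
  have hx2 : x ![0, 1, 0] = ![0, 1, 0] := by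
    have := hxE 1
    rw [hx]; simp only
    have hM1 : M 1 = ρ ![0, 1, 0] := rfl
    rw [← hM1, this]
    ext i; fin_cases i <;> simp
  have hx3 : x ![0, 0, 1] = ![0, 0, 1] := by
    have := hxE 2
    rw [hx]; simp only
    have hM2 : M 2 = ρ ![0, 0, 1] := rfl
    rw [← hM2, this]
    ext i; fin_cases i <;> simp
  set a := x ![1, 1, 1] 0 with ha
  set b := x ![1, 1, 1] 1 with hb
  set c := x ![1, 1, 1] 2 with hc
  have hdetM : M.det = Matrix.det (Matrix.of ![ρ ![1, 0, 0], ρ ![0, 1, 0], ρ ![0, 0, 1]]) := rfl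
  have hc' : IsUnit c := by
    have : Matrix.det (Matrix.of ![ρ ![1, 0, 0], ρ ![0, 1, 0], ρ ![1, 1, 1]]) = c * M.det := by
      rw [hdetM, det_of3, det_of3, hρx' ![1, 1, 1] 0, hρx' ![1, 1, 1] 1, hρx' ![1, 1, 1] 2]
      ring
    rw [this] at hg1
    exact isUnit_of_mul_isUnit_left hg1
  have hb' : IsUnit b := by
    have : Matrix.det (Matrix.of ![ρ ![1, 0, 0], ρ ![0, 0, 1], ρ ![1, 1, 1]]) = (-b) * M.det := by
      rw [hdetM, det_of3, det_of3, hρx' ![1, 1, 1] 0, hρx' ![1, 1, 1] 1, hρx' ![1, 1, 1] 2]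
      ring
    rw [this] at hg2
    simpa using isUnit_of_mul_isUnit_left hg2
  have ha' : IsUnit a := by
    have : Matrix.det (Matrix.of ![ρ ![0, 1, 0], ρ ![0, 0, 1], ρ ![1, 1, 1]]) = a * M.det := by
      rw [hdetM, det_of3, det_of3, hρx' ![1, 1, 1] 0, hρx' ![1, 1, 1] 1, hρx' ![1, 1, 1] 2]
      ring
    rw [this] at hg3
    exact isUnit_of_mul_isUnit_left hg3
  set d : Fin 3 → A := ![↑ha'.unit⁻¹, ↑hb'.unit⁻¹, ↑hc'.unit⁻¹] with hd
  set dinv : Fin 3 → A := ![a, b, c] with hdinv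
  have hdd : ∀ i, d i * dinv i = 1 := by
    intro i
    fin_cases i
    · exact IsUnit.val_inv_mul ha'
    · exact IsUnit.val_inv_mul hb'
    · exact IsUnit.val_inv_mul hc'
  have hdu : ∀ i, IsUnit (d i) := by
    intro i
    fin_cases i
    · exact (ha'.unit⁻¹).isUnit
    · exact (hb'.unit⁻¹).isUnit
    · exact (hc'.unit⁻¹).isUnit
  have hdinvu : ∀ i, IsUnit (dinv i) := by
    intro i
    fin_cases i
    · exact ha'
    · exact hb'
    · exact hc'
  set r : (Fin 3 → ZMod p) → (Fin 3 → A) := fun v i => x v i * d i with hr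
  have hxunit : ∀ v : Fin 3 → ZMod p, v ≠ 0 → ∃ i, IsUnit (x v i) := by
    intro v hv
    have h1 : x v = (M⁻¹)ᵀ *ᵥ ρ v := by rw [Matrix.mulVec_transpose]
    rw [h1]
    apply unitCoord_mulVec _ _ _ (hpt v hv)
    rw [Matrix.det_transpose, Matrix.isUnit_nonsing_inv_det_iff]
    exact hM
  refine core p r ?_ ?_ (ha'.unit⁻¹).isUnit (hb'.unit⁻¹).isUnit (hc'.unit⁻¹).isUnit ?_ ?_ ?_ ?_
  · intro v hv
    obtain ⟨i, hi⟩ := hxunit v hv
    exact ⟨i, hi.mul (hdu i)⟩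
  · intro u v w hu hv hw hdet
    obtain ⟨n, hn, h1, h2, h3⟩ := hcol u v w hu hv hw hdet
    set n' : Fin 3 → A := fun i => dinv i * (M *ᵥ n) i with hn'
    have key : ∀ t : Fin 3 → ZMod p, r t ⬝ᵥ n' = ρ t ⬝ᵥ n := by
      intro t
      rw [hρx t, ← Matrix.dotProduct_mulVec]
      simp only [dotProduct]
      apply Finset.sum_congr rfl
      intro i _
      simp only [hr, hn']
      linear_combination (x t i * (M *ᵥ n) i) * hdd i
    refine ⟨n', ?_, ?_, ?_, ?_⟩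
    · obtain ⟨i, hi⟩ := unitCoord_mulVec M hM n hn
      exact ⟨i, (hdinvu i).mul hi⟩
    · rw [key, h1]
    · rw [key, h2]
    · rw [key, h3]
  · ext i
    fin_cases i <;> simp [hr, hx1, hd]
  · ext i
    fin_cases i <;> simp [hr, hx2, hd]
  · ext i
    fin_cases i <;> simp [hr, hx3, hd]
  · ext i
    fin_cases i
    · exact IsUnit.mul_val_inv ha'
    · exact IsUnit.mul_val_inv hb'
    · exact IsUnit.mul_val_inv hc'

end Normalize

end Groth.Agent.H87.ProjPlane
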