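import Mathlib

/-!
# Semilinear lifts out of a formally smooth algebra along a nilpotent thickening
-/

set_option autoImplicit false
universe u

namespace Groth.Agent.H87.SemiLift

/-- `B` with the `R`-algebra structure twisted by `σ`. -/
def Tw {R : Type u} [CommRing R] (_σ : R →+* R) (B : Type u) : Type u := B

section

variable {R : Type u} [CommRing R] (σ : R →+* R) (B : Type u) [CommRing B] [Algebra R B]

instance : CommRing (Tw σ B) := inferInstanceAs (CommRing B)

instance : Algebra R (Tw σ B) := ((algebraMap R B).comp σ).toAlgebra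

theorem algebraMap_tw (r : R) : algebraMap R (Tw σ B) r = algebraMap R B (σ r) := rfl

end

/-- Let `B` be a formally smooth `R`-algebra, `σ` an endomorphism of `R`, `π : B → A'` a surjection
with nilpotent kernel and `φ : B → A'` a ring map which is `σ`-semilinear over `π`. Then `φ` lifts to
a `σ`-semilinear endomorphism of `B`. -/
theorem exists_semilinear_lift {R : Type u} [CommRing R] (σ : R →+* R) (B : Type u) [CommRing B]
    [Algebra R B] [Algebra.FormallySmooth R B] (A' : Type u) [CommRing A'] (π : B →+* A')
    (hπ : Function.Surjective π) (hnil : IsNilpotent (RingHom.ker π)) (φ : B →+* A')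
    (hφ : ∀ r, φ (algebraMap R B r) = π (algebraMap R B (σ r))) :
    ∃ Φ : B →+* B, (∀ r, Φ (algebraMap R B r) = algebraMap R B (σ r)) ∧ ∀ b, π (Φ b) = φ b := by
  let _ : Algebra R A' := (π.comp ((algebraMap R B).comp σ)).toAlgebra
  let g : Tw σ B →ₐ[R] A' := { π with commutes' := fun r => rfl }
  let f : B →ₐ[R] A' := { φ with commutes' := fun r => hφ r }
  have hg : Function.Surjective g := hπ
  have hg' : IsNilpotent (RingHom.ker (g : Tw σ B →+* A')) := hnil
  let Φ₀ : B →ₐ[R] Tw σ B := Algebra.FormallySmooth.liftOfSurjective f g hg hg'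
  have hΦ₀ : ∀ b, g (Φ₀ b) = f b := fun b =>
    Algebra.FormallySmooth.liftOfSurjective_apply f g hg hg' b
  refine ⟨(Φ₀ : B →+* Tw σ B), fun r => ?_, fun b => hΦ₀ b⟩
  exact Φ₀.commutes r

end Groth.Agent.H87.SemiLift
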