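import Mathlib.Algebra.Lie.Sl2
import Mathlib.Algebra.Lie.Semisimple.Defs
import Mathlib.Algebra.Lie.Weights.Basic
import Mathlib.LinearAlgebra.Trace
import Mathlib.LinearAlgebra.Eigenspace.Basic
import Mathlib.FieldTheory.IsAlgClosed.Basic
import Mathlib.Data.Nat.Choose.Basic

set_option autoImplicit false

namespace Groth.Agent.H87

open LieModule Module

universe u v w

variable (k : Type u) [Field k] [IsAlgClosed k] [CharZero k]
  (L : Type v) [LieRing L] [LieAlgebra k L]
  {h e f : L} (t : IsSl2Triple h e f) (hspan : t.toLieSubalgebra k = ⊤)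
  (W : Type w) [AddCommGroup W] [Module k W] [LieRingModule L W] [LieModule k L W]
  [FiniteDimensional k W] [LieModule.IsIrreducible k L W]

include hspan in
/-- structure of irreducible `sl₂`-modules: a basis of `h`-eigenvectors with eigenvalues
`n, n - 2, …, -n`. -/
theorem exists_basis_sl2 : ∃ (n : ℕ) (b : Basis (Fin (n + 1)) k W),
    ∀ i : Fin (n + 1), ⁅h, b i⁆ = ((n : k) - 2 * ((i : ℕ) : k)) • b i := by
  classical
  have hnt : Nontrivial W := (LieSubmodule.nontrivial_iff (R := k) (L := L) (M := W)).mp inferInstance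
  obtain ⟨μ, m, hm0, P⟩ := t.exists_hasPrimitiveVectorWith (R := k) (M := W)
  obtain ⟨n, hn⟩ := P.exists_nat
  let ψ : ℕ → W := fun i => ((toEnd k L W f) ^ i) m
  have hψh : ∀ i, ⁅h, ψ i⁆ = ((n : k) - 2 * (i : k)) • ψ i := by
    intro i
    rw [← hn]
    exact P.lie_h_pow_toEnd_f i
  have hψf : ∀ i, ⁅f, ψ i⁆ = ψ (i + 1) := fun i => P.lie_f_pow_toEnd_f i
  have hψe : ∀ i, ⁅e, ψ (i + 1)⁆ = (((i : k) + 1) * (μ - i)) • ψ i := fun i =>
    P.lie_e_pow_succ_toEnd_f i
  have hψe0 : ⁅e, ψ 0⁆ = 0 := by simpa [ψ] using P.lie_e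
  have hψne : ∀ i, i ≤ n → ψ i ≠ 0 := fun i hi => P.pow_toEnd_f_ne_zero_of_eq_nat hn hi
  have hψz : ψ (n + 1) = 0 := P.pow_toEnd_f_eq_zero_of_eq_nat hn
  let v : Fin (n + 1) → W := fun i => ψ i
  have hli : LinearIndependent k v := by
    apply Module.End.eigenvectors_linearIndependent' (toEnd k L W h)
      (fun i : Fin (n + 1) => (n : k) - 2 * ((i : ℕ) : k))
    · intro i j hij
      simp only [sub_right_inj, mul_eq_mul_left_iff, Nat.cast_inj, OfNat.ofNat_ne_zero,
        or_false] at hij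
      exact Fin.ext hij
    · intro i
      refine ⟨?_, hψne i (Nat.lt_succ_iff.mp i.2)⟩
      rw [Module.End.mem_eigenspace_iff, toEnd_apply_apply]
      exact hψh i
  -- the span is a Lie submodule
  let U : Submodule k W := Submodule.span k (Set.range v)
  have hvU : ∀ i, i ≤ n → ψ i ∈ U := fun i hi =>
    Submodule.subset_span ⟨⟨i, Nat.lt_succ_iff.mpr hi⟩, rfl⟩
  have hUh : ∀ u ∈ U, ⁅h, u⁆ ∈ U := by
    intro u hu
    refine Submodule.span_induction ?_ ?_ ?_ ?_ hu
    · rintro _ ⟨i, rfl⟩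
      show ⁅h, ψ i⁆ ∈ U
      rw [hψh]
      exact Submodule.smul_mem _ _ (hvU i (Nat.lt_succ_iff.mp i.2))
    · simp
    · intro x y _ _ hx hy
      rw [lie_add]; exact Submodule.add_mem _ hx hy
    · intro a x _ hx
      rw [lie_smul]; exact Submodule.smul_mem _ a hx
  have hUf : ∀ u ∈ U, ⁅f, u⁆ ∈ U := by
    intro u hu
    refine Submodule.span_induction ?_ ?_ ?_ ?_ hu
    · rintro _ ⟨i, rfl⟩
      show ⁅f, ψ i⁆ ∈ U
      rw [hψf]
      by_cases hi : (i : ℕ) + 1 ≤ n
      · exact hvU _ hi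
      · have : (i : ℕ) + 1 = n + 1 := by have := i.2; omega
        rw [this, hψz]
        exact Submodule.zero_mem _
    · simp
    · intro x y _ _ hx hy
      rw [lie_add]; exact Submodule.add_mem _ hx hy
    · intro a x _ hx
      rw [lie_smul]; exact Submodule.smul_mem _ a hx
  have hUe : ∀ u ∈ U, ⁅e, u⁆ ∈ U := by
    intro u hu
    refine Submodule.span_induction ?_ ?_ ?_ ?_ hu
    · rintro _ ⟨i, rfl⟩
      show ⁅e, ψ i⁆ ∈ U
      obtain ⟨i, hi⟩ := i
      cases i with
      | zero => rw [hψe0]; exact Submodule.zero_mem _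
      | succ j =>
        rw [hψe]
        exact Submodule.smul_mem _ _ (hvU j (by omega))
    · simp
    · intro x y _ _ hx hy
      rw [lie_add]; exact Submodule.add_mem _ hx hy
    · intro a x _ hx
      rw [lie_smul]; exact Submodule.smul_mem _ a hx
  let N : LieSubmodule k L W :=
    { U with
      lie_mem := by
        intro x u hu
        have hx : x ∈ t.toLieSubalgebra k := by rw [hspan]; trivial
        obtain ⟨c₁, c₂, c₃, rfl⟩ := IsSl2Triple.mem_toLieSubalgebra_iff.mp hx
        rw [t.lie_e_f, add_lie, add_lie, smul_lie, smul_lie, smul_lie]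
        exact Submodule.add_mem _ (Submodule.add_mem _ (Submodule.smul_mem _ _ (hUe u hu))
          (Submodule.smul_mem _ _ (hUf u hu))) (Submodule.smul_mem _ _ (hUh u hu)) }
  have hNne : N ≠ ⊥ := by
    intro hN
    have h0 : ψ 0 ∈ N := hvU 0 (Nat.zero_le n)
    rw [hN, LieSubmodule.mem_bot] at h0
    exact hψne 0 (Nat.zero_le n) h0
  have hNtop : N = ⊤ := (IsSimpleOrder.eq_bot_or_eq_top N).resolve_left hNne
  have hsp : ⊤ ≤ Submodule.span k (Set.range v) := by
    intro x _
    have : x ∈ N := by rw [hNtop]; trivial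
    exact this
  refine ⟨n, Basis.mk hli hsp, fun i => ?_⟩
  rw [Basis.mk_apply]
  exact hψh i

include hspan in
theorem exists_trace_sl2 : ∃ n : ℕ, Module.finrank k W = n + 1 ∧
    LinearMap.trace k W ((toEnd k L W h) ^ 2) =
      ∑ i : Fin (n + 1), ((n : k) - 2 * ((i : ℕ) : k)) ^ 2 := by
  classical
  obtain ⟨n, b, hb⟩ := exists_basis_sl2 k L t hspan W
  refine ⟨n, ?_, ?_⟩
  · rw [Module.finrank_eq_card_basis b, Fintype.card_fin]
  · rw [LinearMap.trace_eq_matrix_trace k b, Matrix.trace]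
    refine Finset.sum_congr rfl fun i _ => ?_
    rw [Matrix.diag_apply, LinearMap.toMatrix_apply]
    have : ((toEnd k L W h) ^ 2) (b i) = (((n : k) - 2 * ((i : ℕ) : k)) ^ 2) • b i := by
      rw [pow_two, Module.End.mul_apply, toEnd_apply_apply, toEnd_apply_apply, hb, lie_smul, hb,
        smul_smul, pow_two]
    rw [this, map_smul, Finsupp.smul_apply, Basis.repr_self, Finsupp.single_eq_same, smul_eq_mul,
      mul_one]

end Groth.Agent.H87
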