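import Groth.Agent.H3.EtaleLiftMain
import Groth.Agent.H3.MultiHensel

/-!
# Lifting points of smooth algebras over henselian pairs

* `multi_hensel_pair`: the multi-dimensional Hensel lemma for a henselian pair.
* `exists_eval_eq_zero`: the "nearest point projection" argument: if `J ⊆ A[x₁..xₙ]` is a f.g.
  ideal, `h i ∈ J` are such that `f ≡ ∑ ∂ᵢf · hᵢ mod J²` for all `f ∈ J` (this is what formal
  smoothness of `A[x]/J` gives), then any approximate zero `a` of `J` modulo `I` can be corrected
  to an actual zero, for `(A, I)` henselian.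
* `exists_lift_of_smooth`: sections of smooth algebras lift over henselian pairs.
-/

set_option autoImplicit false
universe u

namespace Groth.Agent.H87.SmoothHens

open MvPolynomial Groth.Agent.H3

section MultiHensel

variable {A : Type u} [CommRing A] {I : Ideal A} {n : ℕ}

/-- The multi-dimensional Hensel lemma for a henselian pair. -/
theorem multi_hensel_pair (hens : HenselianRing A I)
    (P : Fin n → MvPolynomial (Fin n) A) (a₀ : Fin n → A)
    (h₀ : ∀ i, MvPolynomial.eval a₀ (P i) ∈ I)
    (hJ : IsUnit (Matrix.of (fun i j => MvPolynomial.eval a₀ (MvPolynomial.pderiv j (P i)))).det) :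
    ∃ a : Fin n → A, (∀ i, MvPolynomial.eval a (P i) = 0) ∧ ∀ j, a j - a₀ j ∈ I := by
  classical
  let ev₀ : MvPolynomial (Fin n) A →ₐ[A] A ⧸ I :=
    MvPolynomial.aeval (fun i => Ideal.Quotient.mk I (a₀ i))
  have hev₀ : ∀ p, ev₀ p = Ideal.Quotient.mk I (MvPolynomial.eval a₀ p) := by
    intro p
    have h1 : (ev₀ : MvPolynomial (Fin n) A →+* A ⧸ I) =
        (Ideal.Quotient.mk I).comp (MvPolynomial.eval a₀) := by
      apply MvPolynomial.ringHom_ext
      · intro r; simp [ev₀]
      · intro i; simp [ev₀]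
    exact congrArg (fun f : MvPolynomial (Fin n) A →+* A ⧸ I => f p) h1
  have hker : ∀ p ∈ Ideal.span (Set.range P), ev₀ p = 0 := by
    intro p hp
    refine Submodule.span_induction ?_ ?_ ?_ ?_ hp
    · rintro _ ⟨i, rfl⟩
      rw [hev₀]
      exact Ideal.Quotient.eq_zero_iff_mem.mpr (h₀ i)
    · exact map_zero _
    · intro x y _ _ hx hy; rw [map_add, hx, hy, add_zero]
    · intro c x _ hx; rw [smul_eq_mul, map_mul, hx, mul_zero]
  let σ₁ : MHQuot P →ₐ[A] A ⧸ I := Ideal.Quotient.liftₐ _ ev₀ hker
  have hσ₁ : ∀ p, σ₁ (Ideal.Quotient.mk _ p) = ev₀ p := fun p => rfl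
  have hdet : IsUnit (σ₁ ((mhPres P).jacobian)) := by
    rw [mhPres_jacobian, hσ₁, hev₀, mhDet, RingHom.map_det]
    have h1 : (MvPolynomial.eval a₀).mapMatrix (Matrix.of fun i j => pderiv j (P i)) =
        Matrix.of (fun i j => MvPolynomial.eval a₀ (MvPolynomial.pderiv j (P i))) := by
      ext i j; rfl
    rw [h1]
    exact hJ.map (Ideal.Quotient.mk I)
  let σ₀ : MHLoc P →ₐ[A] A ⧸ I :=
    IsLocalization.liftAlgHom (M := Submonoid.powers ((mhPres P).jacobian)) (f := σ₁) (by
      rintro ⟨_, k, rfl⟩
      rw [map_pow]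
      exact hdet.pow k)
  have hσ₀ : ∀ x : MHQuot P, σ₀ (algebraMap (MHQuot P) (MHLoc P) x) = σ₁ x := by
    intro x
    exact IsLocalization.lift_eq _ x
  obtain ⟨f, hf⟩ := EtaleLift.exists_lift_of_etale hens σ₀
  let ι : MvPolynomial (Fin n) A →ₐ[A] MHLoc P :=
    (IsScalarTower.toAlgHom A (MHQuot P) (MHLoc P)).comp (Ideal.Quotient.mkₐ A _)
  have hι : ∀ p, ι p = algebraMap (MHQuot P) (MHLoc P) (Ideal.Quotient.mk _ p) := fun p => rfl
  refine ⟨fun j => f (ι (X j)), ?_, ?_⟩
  · intro i
    have h1 : ∀ p : MvPolynomial (Fin n) A,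
        MvPolynomial.eval (fun j => f (ι (X j))) p = f (ι p) := by
      intro p
      have h2 : (MvPolynomial.aeval (fun j => f (ι (X j))) : MvPolynomial (Fin n) A →ₐ[A] A) =
          f.comp ι := by
        apply MvPolynomial.algHom_ext
        intro j
        simp
      have h3 := congrArg (fun g : MvPolynomial (Fin n) A →ₐ[A] A => g p) h2
      exact h3
    rw [h1, hι]
    have : Ideal.Quotient.mk (Ideal.span (Set.range P)) (P i) = 0 :=
      Ideal.Quotient.eq_zero_iff_mem.mpr (Ideal.subset_span ⟨i, rfl⟩)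
    rw [this, map_zero, map_zero]
  · intro j
    have h1 := congrArg (fun g : MHLoc P →ₐ[A] A ⧸ I => g (ι (X j))) hf
    simp only [AlgHom.comp_apply] at h1
    rw [hι, hσ₀, hσ₁] at h1
    have h2 : ev₀ (X j) = Ideal.Quotient.mk I (a₀ j) := by simp [ev₀]
    rw [h2] at h1
    have h3 : Ideal.Quotient.mk I (f (ι (X j)) - a₀ j) = 0 := by
      rw [map_sub, sub_eq_zero]
      exact h1
    exact Ideal.Quotient.eq_zero_iff_mem.mp h3

end MultiHensel


section Core

variable {A : Type u} [CommRing A] {I : Ideal A} {n : ℕ}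

theorem pderiv_mem_of_mem_sq (J : Ideal (MvPolynomial (Fin n) A)) {p : MvPolynomial (Fin n) A}
    (hp : p ∈ J ^ 2) (l : Fin n) : pderiv l p ∈ J := by
  rw [pow_two] at hp
  refine Submodule.mul_induction_on hp ?_ ?_
  · intro x hx y hy
    rw [Derivation.leibniz, smul_eq_mul, smul_eq_mul]
    exact J.add_mem (J.mul_mem_right _ hx) (J.mul_mem_right _ hy)
  · intro x y hx hy
    rw [map_add]
    exact J.add_mem hx hy

theorem eval_sub_eval_mem {a b : Fin n → A} (hab : ∀ i, b i - a i ∈ I)
    (p : MvPolynomial (Fin n) A) : MvPolynomial.eval b p - MvPolynomial.eval a p ∈ I := by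
  have h1 : (Ideal.Quotient.mk I).comp (MvPolynomial.eval b) =
      (Ideal.Quotient.mk I).comp (MvPolynomial.eval a) := by
    apply MvPolynomial.ringHom_ext
    · intro r; simp
    · intro i
      simp only [RingHom.comp_apply, MvPolynomial.eval_X]
      exact Ideal.Quotient.eq.mpr (hab i)
  have h2 := congrArg (fun f : MvPolynomial (Fin n) A →+* A ⧸ I => f p) h1
  simp only [RingHom.comp_apply] at h2
  exact Ideal.Quotient.eq.mp h2

/-- The nearest point projection argument. -/
theorem exists_eval_eq_zero (hens : HenselianRing A I) (J : Ideal (MvPolynomial (Fin n) A))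
    (hJfg : J.FG) (h : Fin n → MvPolynomial (Fin n) A) (hh : ∀ i, h i ∈ J)
    (H : ∀ f ∈ J, f - ∑ i, pderiv i f * h i ∈ J ^ 2)
    (a : Fin n → A) (ha : ∀ f ∈ J, MvPolynomial.eval a f ∈ I) :
    ∃ b : Fin n → A, (∀ i, b i - a i ∈ I) ∧ ∀ f ∈ J, MvPolynomial.eval b f = 0 := by
  classical
  let E : Fin n → Fin n → MvPolynomial (Fin n) A := fun k l => pderiv l (h k)
  have hEE : ∀ k l, E k l - ∑ i, E k i * E i l ∈ J := by
    intro k l
    have h1 := pderiv_mem_of_mem_sq J (H (h k) (hh k)) l
    have h2 : pderiv l (h k - ∑ i, pderiv i (h k) * h i) =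
        (E k l - ∑ i, E k i * E i l) - ∑ i, pderiv l (pderiv i (h k)) * h i := by
      rw [map_sub, map_sum, sub_sub, ← Finset.sum_add_distrib]
      congr 1
      apply Finset.sum_congr rfl
      intro i _
      rw [Derivation.leibniz, smul_eq_mul, smul_eq_mul]
      ring
    have h3 : ∑ i, pderiv l (pderiv i (h k)) * h i ∈ J :=
      J.sum_mem (fun i _ => J.mul_mem_left _ (hh i))
    have h4 := J.add_mem h1 h3
    rw [h2, sub_add_cancel] at h4
    exact h4
  let F : Fin n → MvPolynomial (Fin n) A := fun k =>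
    h k + ∑ l, (C (if k = l then (1 : A) else 0) - E k l) * (X l - C (a l))
  have hF0 : ∀ k, MvPolynomial.eval a (F k) = MvPolynomial.eval a (h k) := by
    intro k
    simp [F]
  have hFd : ∀ k m, MvPolynomial.eval a (pderiv m (F k)) = if k = m then 1 else 0 := by
    intro k m
    have key : pderiv m (F k) = E k m + ∑ l, ((C (if k = l then (1 : A) else 0) - E k l) *
        C (if l = m then (1 : A) else 0) +
          (X l - C (a l)) * pderiv m (C (if k = l then (1 : A) else 0) - E k l)) := by
      simp only [F, map_add, map_sum]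
      congr 1
      apply Finset.sum_congr rfl
      intro l _
      rw [Derivation.leibniz, smul_eq_mul, smul_eq_mul, map_sub, pderiv_X, pderiv_C, sub_zero]
      congr 2
      simp only [Pi.single_apply]
      by_cases hlm : l = m
      · simp [hlm]
      · simp [hlm]
    rw [key]
    simp only [map_add, map_sum, map_mul, map_sub, MvPolynomial.eval_X, MvPolynomial.eval_C,
      sub_self, zero_mul, add_zero]
    simp only [mul_ite, mul_one, mul_zero, Finset.sum_ite_eq', Finset.mem_univ, if_true]
    ring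
  obtain ⟨b, hb0, hba⟩ := multi_hensel_pair hens F a
    (fun k => by rw [hF0]; exact ha _ (hh k))
    (by
      have : (Matrix.of fun i j => MvPolynomial.eval a (pderiv j (F i))) = (1 : Matrix (Fin n) (Fin n) A) := by
        ext i j
        rw [Matrix.of_apply, hFd, Matrix.one_apply]
      rw [this, Matrix.det_one]
      exact isUnit_one)
  refine ⟨b, hba, ?_⟩
  let ev : MvPolynomial (Fin n) A →+* A := MvPolynomial.eval b
  let jj : Ideal A := J.map ev
  have hjfg : jj.FG := hJfg.map ev
  have hmem : ∀ f ∈ J, ev f ∈ jj := fun f hf => Ideal.mem_map_of_mem ev hf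
  have hjI : jj ≤ I := by
    rw [Ideal.map_le_iff_le_comap]
    intro f hf
    rw [Ideal.mem_comap]
    have h1 := eval_sub_eval_mem hba f
    have h2 := ha f hf
    have h3 : ev f = (MvPolynomial.eval b f - MvPolynomial.eval a f) + MvPolynomial.eval a f := by
      simp only [ev]; ring
    rw [h3]
    exact I.add_mem h1 h2
  have hsq : ∀ p ∈ J ^ 2, ev p ∈ I * jj := by
    intro p hp
    have h1 : ev p ∈ (J ^ 2).map ev := Ideal.mem_map_of_mem ev hp
    rw [Ideal.map_pow, pow_two] at h1
    exact Ideal.mul_mono_left hjI h1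
  let u : Fin n → A := fun k => ev (h k)
  let w : Fin n → A := fun l => b l - a l
  have hu1 : ∀ k, u k = - ∑ l, ((if k = l then 1 else 0) - ev (E k l)) * w l := by
    intro k
    have h1 := hb0 k
    simp only [F, map_add, map_sum, map_mul, map_sub, MvPolynomial.eval_X,
      MvPolynomial.eval_C] at h1
    exact eq_neg_of_add_eq_zero_left h1
  have hu2 : ∀ k, ∑ i, ev (E k i) * u i ∈ I * jj := by
    intro k
    have h1 : ∑ i, ev (E k i) * u i = - ∑ l, ev (E k l - ∑ i, E k i * E i l) * w l := by
      simp only [hu1, mul_neg, Finset.sum_neg_distrib, neg_inj, Finset.mul_sum]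
      rw [Finset.sum_comm]
      apply Finset.sum_congr rfl
      intro l _
      rw [map_sub, map_sum, sub_mul, Finset.sum_mul]
      simp only [map_mul, sub_mul, mul_sub, Finset.sum_sub_distrib]
      congr 1
      · simp only [ite_mul, one_mul, zero_mul, mul_ite, mul_zero, Finset.sum_ite_eq',
          Finset.mem_univ, if_true]
      · apply Finset.sum_congr rfl
        intro i _
        ring
    rw [h1]
    refine (I * jj).neg_mem (Ideal.sum_mem _ fun l _ => ?_)
    have h2 : w l * ev (E k l - ∑ i, E k i * E i l) ∈ I * jj :=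
      Ideal.mul_mem_mul (hba l) (hmem _ (hEE k l))
    rwa [mul_comm (w l)] at h2
  have hu3 : ∀ k, u k ∈ I * jj := by
    intro k
    have h1 := hsq _ (H (h k) (hh k))
    rw [map_sub, map_sum] at h1
    simp only [map_mul] at h1
    have h2 := Ideal.add_mem _ h1 (hu2 k)
    rwa [sub_add_cancel] at h2
  have hle : jj ≤ I • jj := by
    rw [Ideal.map_le_iff_le_comap]
    intro f hf
    rw [Ideal.mem_comap, smul_eq_mul]
    have h1 := hsq _ (H f hf)
    rw [map_sub, map_sum] at h1
    simp only [map_mul] at h1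
    have h2 : ∑ i, ev (pderiv i f) * ev (h i) ∈ I * jj :=
      Ideal.sum_mem _ (fun i _ => Ideal.mul_mem_left _ _ (hu3 i))
    have h3 := Ideal.add_mem _ h1 h2
    rwa [sub_add_cancel] at h3
  have hbot : jj = ⊥ :=
    Submodule.eq_bot_of_le_smul_of_le_jacobson_bot I jj hjfg hle hens.jac
  intro f hf
  have h1 := hmem f hf
  rw [hbot] at h1
  exact h1

end Core

section Smooth

open TensorProduct

variable {A : Type u} [CommRing A]

/-- Formal smoothness of `A[x]/K` produces the "Newton correction" `h`. -/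
theorem exists_h_of_formallySmooth {B : Type u} [CommRing B] [Algebra A B] {n : ℕ}
    (f : MvPolynomial (Fin n) A →ₐ[A] B) (hf : Function.Surjective f)
    [Algebra.FormallySmooth A B] :
    ∃ h : Fin n → MvPolynomial (Fin n) A, (∀ i, h i ∈ RingHom.ker f.toRingHom) ∧
      ∀ p ∈ RingHom.ker f.toRingHom,
        p - ∑ i, pderiv i p * h i ∈ RingHom.ker f.toRingHom ^ 2 := by
  classical
  let P := MvPolynomial (Fin n) A
  let _ : Algebra P B := f.toAlgebra
  have hst : IsScalarTower A P B := IsScalarTower.of_algebraMap_eq' f.comp_algebraMap.symm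
  have hsurj : Function.Surjective (algebraMap P B) := hf
  obtain ⟨l, hl⟩ := (Algebra.FormallySmooth.iff_split_injection (R := A) (P := P) (A := B)
    hsurj).mp inferInstance
  let K : Ideal P := RingHom.ker (algebraMap P B)
  choose h hh using fun i : Fin n => Ideal.toCotangent_surjective K
    (l ((1 : B) ⊗ₜ[P] KaehlerDifferential.D A P (X i)))
  refine ⟨fun i => (h i : P), fun i => (h i).2, ?_⟩
  intro p hp
  have hp' : p ∈ K := hp
  have h1 : K.toCotangent ⟨p, hp'⟩ = ∑ i, pderiv i p • K.toCotangent (h i) := by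
    have h2 := congrArg (fun g => g (K.toCotangent ⟨p, hp'⟩)) hl
    simp only [LinearMap.comp_apply, LinearMap.id_apply] at h2
    rw [← h2, KaehlerDifferential.kerCotangentToTensor_toCotangent]
    have h3 : KaehlerDifferential.D A P p = ∑ i, pderiv i p • KaehlerDifferential.D A P (X i) := by
      have h4 := (KaehlerDifferential.mvPolynomialBasis A (Fin n)).sum_repr
        (KaehlerDifferential.D A P p)
      rw [← h4]
      apply Finset.sum_congr rfl
      intro i _
      rw [KaehlerDifferential.mvPolynomialBasis_repr_apply,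
        KaehlerDifferential.mvPolynomialBasis_apply]
    rw [h3, TensorProduct.tmul_sum, map_sum]
    apply Finset.sum_congr rfl
    intro i _
    rw [TensorProduct.tmul_smul, map_smul, hh]
  have h5 : K.toCotangent (⟨p, hp'⟩ - ∑ i, pderiv i p • h i) = 0 := by
    rw [map_sub, map_sum, h1, sub_eq_zero]
    apply Finset.sum_congr rfl
    intro i _
    rw [map_smul]
  rw [Ideal.toCotangent_eq_zero] at h5
  have h6 : ((⟨p, hp'⟩ - ∑ i, pderiv i p • h i : K) : P) = p - ∑ i, pderiv i p * (h i : P) := by
    simp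
  rw [h6] at h5
  exact h5

/-- Sections of smooth algebras lift over henselian pairs. -/
theorem exists_lift_of_smooth {I : Ideal A} (hens : HenselianRing A I)
    (B : Type u) [CommRing B] [Algebra A B] [Algebra.Smooth A B] (σ : B →ₐ[A] A ⧸ I) :
    ∃ τ : B →ₐ[A] A, (Ideal.Quotient.mkₐ A I).comp τ = σ := by
  classical
  obtain ⟨n, f, hf, hfg⟩ := Algebra.FinitePresentation.out (R := A) (A := B)
  obtain ⟨h, hh, H⟩ := exists_h_of_formallySmooth f hf
  -- approximate point
  choose a ha using fun i : Fin n => Ideal.Quotient.mk_surjective (σ (f (X i)))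
  have hev : ∀ p : MvPolynomial (Fin n) A,
      Ideal.Quotient.mk I (MvPolynomial.eval a p) = σ (f p) := by
    intro p
    have h1 : (Ideal.Quotient.mk I).comp (MvPolynomial.eval a) =
        (σ.comp f : MvPolynomial (Fin n) A →ₐ[A] A ⧸ I).toRingHom := by
      apply MvPolynomial.ringHom_ext
      · intro r
        simp
      · intro i
        simp [ha]
    exact congrArg (fun g : MvPolynomial (Fin n) A →+* A ⧸ I => g p) h1
  obtain ⟨b, hba, hb⟩ := exists_eval_eq_zero hens (RingHom.ker f.toRingHom) hfg h hh H a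
    (fun p hp => by
      rw [← Ideal.Quotient.eq_zero_iff_mem, hev]
      have : f p = 0 := hp
      rw [this, map_zero])
  -- the lift
  let τ₀ : MvPolynomial (Fin n) A →ₐ[A] A := MvPolynomial.aeval b
  have hτ₀ : ∀ p, τ₀ p = MvPolynomial.eval b p := fun p => by
    simp only [τ₀]
    rw [MvPolynomial.aeval_def, MvPolynomial.eval, Algebra.algebraMap_self]
    rfl
  have hker : ∀ p, f p = 0 → τ₀ p = 0 := fun p hp => by
    rw [hτ₀]
    exact hb p hp
  let τ : B →ₐ[A] A := AlgHom.liftOfSurjective f hf τ₀ (fun p hp => hker p hp)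
  have hτ : ∀ p, τ (f p) = τ₀ p := fun p => AlgHom.liftOfSurjective_apply f hf τ₀ _ p
  refine ⟨τ, ?_⟩
  apply AlgHom.ext
  intro x
  obtain ⟨p, rfl⟩ := hf x
  rw [AlgHom.comp_apply, hτ, hτ₀, Ideal.Quotient.mkₐ_eq_mk, ← hev]
  exact Ideal.Quotient.eq.mpr (eval_sub_eval_mem hba p)

end Smooth

end Groth.Agent.H87.SmoothHens
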