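import Mathlib

/-!
# Smoothness of a quotient via a derivation splitting the conormal map
-/

set_option autoImplicit false
universe u

namespace Groth.Agent.H87.SmoothQuot

section DerExt

variable (R S T : Type u) [CommRing R] [CommRing S] [CommRing T] [Algebra R S] [Algebra R T]
  [Algebra S T] [IsScalarTower R S T] [Algebra.FormallyEtale S T]
variable {N : Type u} [AddCommGroup N] [Module R N] [Module S N] [Module T N]
  [IsScalarTower R S N] [IsScalarTower R T N] [IsScalarTower S T N]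

theorem compDer_apply' {R A M N : Type u} [CommRing R] [CommRing A] [Algebra R A]
    [AddCommGroup M] [AddCommGroup N] [Module A M] [Module R M] [Module A N] [Module R N]
    [IsScalarTower R A M] [IsScalarTower R A N] (f : M →ₗ[A] N) (D : Derivation R A M) (a : A) :
    f.compDer D a = f (D a) := rfl

/-- Derivations extend along formally étale maps. -/
theorem exists_derivation_extension (d : Derivation R S N) :
    ∃ D : Derivation R T N, ∀ s, D (algebraMap S T s) = d s := by
  have h := KaehlerDifferential.isBaseChange_of_formallyEtale R S T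
  refine ⟨(h.lift d.liftKaehlerDifferential).compDer (KaehlerDifferential.D R T), fun s => ?_⟩
  rw [compDer_apply', ← KaehlerDifferential.map_D R R S T, h.lift_eq]
  exact d.liftKaehlerDifferential_comp_D s

end DerExt

section Core

variable {R T A : Type u} [CommRing R] [CommRing T] [CommRing A] [Algebra R T] [Algebra R A]
  [Algebra.FormallySmooth R T] (f : T →ₐ[R] A)

local notation "𝔎" => RingHom.ker (AlgHom.toRingHom f)

/-- If `f : T → A` is surjective with kernel `K`, `T` is formally smooth and there is a derivation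
`δ : T → K/K²` restricting to the canonical map on `K`, then `A` is formally smooth. -/
theorem formallySmooth_of_derivation_ker (hf : Function.Surjective f)
    (δ : Derivation R T (𝔎).Cotangent)
    (hδ : ∀ k : 𝔎, δ k = (𝔎).toCotangent k) :
    Algebra.FormallySmooth R A := by
  have hsq : (𝔎).cotangentIdeal ^ 2 = ⊥ := Ideal.cotangentIdeal_square 𝔎
  let d' : Derivation R T (𝔎).cotangentIdeal :=
    ((𝔎).cotangentEquivIdeal.toLinearMap).compDer (-δ)
  let s : T →ₐ[R] T ⧸ 𝔎 ^ 2 := liftOfDerivationToSquareZero (𝔎).cotangentIdeal hsq d'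
  have hs : ∀ t, s t = - (𝔎).cotangentToQuotientSquare (δ t) + Ideal.Quotient.mk (𝔎 ^ 2) t := by
    intro t
    rw [liftOfDerivationToSquareZero_apply]
    rw [compDer_apply']
    simp only [LinearEquiv.coe_coe, Derivation.neg_apply, map_neg, Submodule.coe_neg,
      Ideal.cotangentEquivIdeal_apply]
    rfl
  have hsK : ∀ k ∈ 𝔎, s k = 0 := by
    intro k hk
    rw [hs, hδ ⟨k, hk⟩, Ideal.toCotangent_to_quotient_square]
    exact neg_add_cancel _
  let g : A →ₐ[R] T ⧸ 𝔎 ^ 2 :=
    (Ideal.Quotient.liftₐ 𝔎 s hsK).comp (Ideal.quotientKerAlgEquivOfSurjective hf).symm.toAlgHom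
  refine Algebra.FormallySmooth.of_split f g ?_
  ext a
  obtain ⟨t, rfl⟩ := hf a
  have h1 : g (f t) = s t := by
    change Ideal.Quotient.liftₐ 𝔎 s hsK ((Ideal.quotientKerAlgEquivOfSurjective hf).symm (f t)) = _
    rw [Ideal.quotientKerAlgEquivOfSurjective_symm_apply]
    rfl
  rw [AlgHom.comp_apply, h1, hs, map_add, map_neg, AlgHom.kerSquareLift_mk]
  obtain ⟨k, hk⟩ := (𝔎).toCotangent_surjective (δ t)
  rw [← hk, Ideal.toCotangent_to_quotient_square]
  have h2 : f.kerSquareLift (Ideal.Quotient.mk (𝔎 ^ 2) k.1) = f k.1 :=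
    AlgHom.kerSquareLift_mk f k.1
  change - f.kerSquareLift (Ideal.Quotient.mk (𝔎 ^ 2) k.1) + f t = _
  rw [h2]
  have h3 : f k.1 = 0 := k.2
  rw [h3]
  simp

/-- Version for the quotient by an ideal. -/
theorem formallySmooth_quotient_of_derivation (K : Ideal T) (δ : Derivation R T K.Cotangent)
    (hδ : ∀ k : K, δ k = K.toCotangent k) : Algebra.FormallySmooth R (T ⧸ K) := by
  have key : ∀ (K' : Ideal T) (_ : K' = K), ∃ δ' : Derivation R T K'.Cotangent,
      ∀ k : K', δ' k = K'.toCotangent k := by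
    rintro K' rfl
    exact ⟨δ, hδ⟩
  obtain ⟨δ', hδ'⟩ := key (RingHom.ker (Ideal.Quotient.mkₐ R K).toRingHom)
    (Ideal.Quotient.mkₐ_ker R K)
  exact formallySmooth_of_derivation_ker (Ideal.Quotient.mkₐ R K)
    (Ideal.Quotient.mkₐ_surjective R K) δ' hδ'

end Core

section Mat

theorem exists_beta {Q : Type u} [CommRing Q] {n : ℕ} (Θ E : Matrix (Fin n) (Fin n) Q)
    (hE : E * E = E) (hΘ : Θ * E = Θ) (hdet : IsUnit (E * Θ * E + (1 - E)).det) :
    ∃ β : Matrix (Fin n) (Fin n) Q, β * Θ = E := by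
  have hu : IsUnit (E * Θ * E + (1 - E)) := (Matrix.isUnit_iff_isUnit_det _).mpr hdet
  obtain ⟨u, hu⟩ := hu
  refine ⟨(↑u⁻¹ : Matrix (Fin n) (Fin n) Q) * E, ?_⟩
  have h1 : E * Θ = (u : Matrix (Fin n) (Fin n) Q) * E := by
    rw [hu, add_mul, sub_mul, one_mul, hE, sub_self, add_zero, Matrix.mul_assoc,
      Matrix.mul_assoc, hE, hΘ]
  rw [Matrix.mul_assoc, h1, ← Matrix.mul_assoc, Units.inv_mul, one_mul]

variable {R T : Type u} [CommRing R] [CommRing T] [Algebra R T] [Algebra.FormallySmooth R T]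
  {n : ℕ} (k : Fin n → T)

local notation "𝔨" => Ideal.span (Set.range k)

theorem formallySmooth_quotient_of_beta (E : Matrix (Fin n) (Fin n) T)
    (hkE : Matrix.vecMul k E = k)
    (D : Derivation R T (Fin n → T ⧸ 𝔨)) (β : Matrix (Fin n) (Fin n) (T ⧸ 𝔨))
    (hβ : ∀ i l, ∑ m, β i m * D (k l) m = Ideal.Quotient.mk 𝔨 (E i l)) :
    Algebra.FormallySmooth R (T ⧸ 𝔨) := by
  have hk : ∀ i, k i ∈ 𝔨 := fun i => Ideal.subset_span ⟨i, rfl⟩
  let c : Fin n → (𝔨).Cotangent := fun i => (𝔨).toCotangent ⟨k i, hk i⟩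
  let ν : (Fin n → T ⧸ 𝔨) →ₗ[T] (𝔨).Cotangent :=
    ∑ i, (LinearMap.proj i : (Fin n → T ⧸ 𝔨) →ₗ[T] T ⧸ 𝔨).smulRight (c i)
  let βL : (Fin n → T ⧸ 𝔨) →ₗ[T] (Fin n → T ⧸ 𝔨) := (Matrix.mulVecLin β).restrictScalars T
  let δ : Derivation R T (𝔨).Cotangent := (ν ∘ₗ βL).compDer D
  have hδ : ∀ t, δ t = ∑ i, (∑ m, β i m * D t m) • c i := by
    intro t
    change ν (βL (D t)) = _
    simp only [ν, LinearMap.sum_apply, LinearMap.smulRight_apply, LinearMap.proj_apply]
    rfl
  refine formallySmooth_quotient_of_derivation 𝔨 δ ?_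
  have key : ∀ x (hx : x ∈ 𝔨), δ x = (𝔨).toCotangent ⟨x, hx⟩ := by
    intro x hx
    induction hx using Submodule.span_induction with
    | mem x hx =>
      obtain ⟨l, rfl⟩ := hx
      rw [hδ]
      have h1 : ∀ i, (∑ m, β i m * D (k l) m) • c i = (E i l) • c i := by
        intro i
        rw [hβ]
        exact (algebraMap_smul (T ⧸ 𝔨) (E i l) (c i))
      rw [Finset.sum_congr rfl fun i _ => h1 i]
      simp only [c, ← map_smul, ← map_sum]
      congr 1
      apply Subtype.ext
      rw [Submodule.coe_sum]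
      simp only [SetLike.val_smul, smul_eq_mul]
      conv_rhs => rw [← hkE]
      rw [Matrix.vecMul, dotProduct]
      exact Finset.sum_congr rfl fun i _ => mul_comm _ _
    | zero =>
      rw [map_zero]
      exact (map_zero _).symm
    | add x y hx hy hx' hy' =>
      rw [map_add, hx', hy', ← map_add]
      rfl
    | smul a x hx hx' =>
      have h2 : (𝔨).toCotangent ⟨a • x, Submodule.smul_mem _ a hx⟩ =
          a • (𝔨).toCotangent ⟨x, hx⟩ := by
        rw [← map_smul]
        rfl
      rw [h2, ← hx']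
      change δ (a * x) = _
      rw [Derivation.leibniz, Ideal.Cotangent.smul_eq_zero_of_mem hx, add_zero]
  exact fun k' => key k'.1 k'.2

theorem formallySmooth_quotient_of_matrix (E : Matrix (Fin n) (Fin n) T)
    (hkE : Matrix.vecMul k E = k) (hE : E * E = E)
    (D : Derivation R T (Fin n → T ⧸ 𝔨))
    (hdet : IsUnit ((E.map (Ideal.Quotient.mk 𝔨)) * (Matrix.of fun i l => D (k l) i) *
      (E.map (Ideal.Quotient.mk 𝔨)) + (1 - E.map (Ideal.Quotient.mk 𝔨))).det) :
    Algebra.FormallySmooth R (T ⧸ 𝔨) := by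
  have hk : ∀ i, k i ∈ 𝔨 := fun i => Ideal.subset_span ⟨i, rfl⟩
  have hE' : E.map (Ideal.Quotient.mk 𝔨) * E.map (Ideal.Quotient.mk 𝔨) =
      E.map (Ideal.Quotient.mk 𝔨) := by
    rw [← Matrix.map_mul, hE]
  have hΘ : (Matrix.of fun i l => D (k l) i) * E.map (Ideal.Quotient.mk 𝔨) =
      (Matrix.of fun i l => D (k l) i) := by
    ext m l
    rw [Matrix.mul_apply]
    simp only [Matrix.of_apply, Matrix.map_apply]
    have h1 : D (k l) = ∑ i, ((k i) • D (E i l) + (E i l) • D (k i)) := by
      have h0 : k l = ∑ i, k i * E i l := (congrFun hkE l).symm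
      rw [h0, map_sum]
      exact Finset.sum_congr rfl fun i _ => Derivation.leibniz D _ _
    rw [h1, Finset.sum_apply]
    refine Finset.sum_congr rfl fun i _ => ?_
    rw [Pi.add_apply, Pi.smul_apply, Pi.smul_apply, Algebra.smul_def, Algebra.smul_def,
      Ideal.Quotient.algebraMap_eq, Ideal.Quotient.eq_zero_iff_mem.mpr (hk i), zero_mul, zero_add,
      mul_comm]
  obtain ⟨β, hβ⟩ := exists_beta _ _ hE' hΘ hdet
  refine formallySmooth_quotient_of_beta k E hkE D β fun i l => ?_
  have := congrFun (congrFun hβ i) l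
  rw [Matrix.mul_apply] at this
  simpa only [Matrix.of_apply, Matrix.map_apply] using this

end Mat

end Groth.Agent.H87.SmoothQuot
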