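import Groth.Agent.H87.SmoothQuotA

/-!
# Smoothness of a quotient of a formally étale algebra over a polynomial ring: Jacobian criterion
with an idempotent matrix
-/

set_option autoImplicit false
universe u

namespace Groth.Agent.H87.SmoothQuot

open MvPolynomial

section PartII

variable {R : Type u} [CommRing R] {n : ℕ} {T : Type u} [CommRing T] [Algebra R T]
  [Algebra (MvPolynomial (Fin n) R) T] [IsScalarTower R (MvPolynomial (Fin n) R) T]
  [Algebra.FormallyEtale (MvPolynomial (Fin n) R) T]

theorem formallySmooth_quotient_of_jacobian (J₀ : Ideal (MvPolynomial (Fin n) R))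
    (hunit : ∀ t : T, t - 1 ∈ J₀.map (algebraMap (MvPolynomial (Fin n) R) T) → IsUnit t)
    (j : Fin n → MvPolynomial (Fin n) R) (hj : ∀ l, j l ∈ J₀)
    (E : Matrix (Fin n) (Fin n) T) (hE : E * E = E)
    (hEG : ∀ i l, E i l - algebraMap (MvPolynomial (Fin n) R) T (pderiv i (j l)) ∈
      J₀.map (algebraMap (MvPolynomial (Fin n) R) T)) :
    Algebra.FormallySmooth R (T ⧸ Ideal.span (Set.range
      (Matrix.vecMul (fun m => algebraMap (MvPolynomial (Fin n) R) T (j m)) E))) := by
  classical
  have : Algebra.FormallySmooth R T :=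
    Algebra.FormallySmooth.comp R (MvPolynomial (Fin n) R) T
  obtain ⟨k, hk⟩ : ∃ k : Fin n → T,
      k = Matrix.vecMul (fun m => algebraMap (MvPolynomial (Fin n) R) T (j m)) E := ⟨_, rfl⟩
  rw [← hk]
  have hkE : Matrix.vecMul k E = k := by rw [hk, Matrix.vecMul_vecMul, hE]
  have hkl : ∀ l, k l = ∑ m, algebraMap (MvPolynomial (Fin n) R) T (j m) * E m l := by
    intro l
    rw [hk]
    rfl
  have hkJT : ∀ l, k l ∈ J₀.map (algebraMap (MvPolynomial (Fin n) R) T) := by
    intro l
    rw [hkl]
    exact Ideal.sum_mem _ fun m _ => Ideal.mul_mem_right _ _ (Ideal.mem_map_of_mem _ (hj m))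
  have hKJT : Ideal.span (Set.range k) ≤ J₀.map (algebraMap (MvPolynomial (Fin n) R) T) := by
    rw [Ideal.span_le]
    rintro _ ⟨l, rfl⟩
    exact hkJT l
  let d₀ : Derivation R (MvPolynomial (Fin n) R) (Fin n → T ⧸ Ideal.span (Set.range k)) :=
    mkDerivation R (fun i => Pi.single i 1)
  have hd₀ : ∀ p i, d₀ p i =
      algebraMap (MvPolynomial (Fin n) R) (T ⧸ Ideal.span (Set.range k)) (pderiv i p) := by
    intro p i
    have h1 : (LinearMap.proj i : (Fin n → T ⧸ Ideal.span (Set.range k)) →ₗ[MvPolynomial (Fin n) R]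
        T ⧸ Ideal.span (Set.range k)).compDer d₀ =
        (Algebra.linearMap (MvPolynomial (Fin n) R) (T ⧸ Ideal.span (Set.range k))).compDer
          (pderiv i) := by
      apply MvPolynomial.derivation_ext
      intro m
      rw [compDer_apply', compDer_apply', mkDerivation_X, pderiv_X]
      simp only [LinearMap.proj_apply, Algebra.linearMap_apply, Pi.single_apply]
      by_cases h : i = m
      · subst h; simp
      · rw [if_neg h, if_neg (Ne.symm h), map_zero]
    exact congrArg (fun δ => δ p) h1
  obtain ⟨D, hD⟩ := exists_derivation_extension R (MvPolynomial (Fin n) R) T d₀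
  refine formallySmooth_quotient_of_matrix k E hkE hE D ?_
  have hentry : ∀ i l, D (k l) i - Ideal.Quotient.mk (Ideal.span (Set.range k)) (E i l) ∈
      (J₀.map (algebraMap (MvPolynomial (Fin n) R) T)).map
        (Ideal.Quotient.mk (Ideal.span (Set.range k))) := by
    intro i l
    have h1 : D (k l) = ∑ m, (algebraMap (MvPolynomial (Fin n) R) T (j m) • D (E m l) +
        E m l • D (algebraMap (MvPolynomial (Fin n) R) T (j m))) := by
      rw [hkl, map_sum]
      exact Finset.sum_congr rfl fun m _ => Derivation.leibniz D _ _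
    have h2 : Ideal.Quotient.mk (Ideal.span (Set.range k)) (E i l) =
        ∑ m, Ideal.Quotient.mk (Ideal.span (Set.range k)) (E m l) *
          Ideal.Quotient.mk (Ideal.span (Set.range k)) (E i m) := by
      conv_lhs => rw [← hE]
      rw [Matrix.mul_apply, map_sum]
      exact Finset.sum_congr rfl fun m _ => by rw [map_mul, mul_comm]
    rw [h1, Finset.sum_apply, h2, ← Finset.sum_sub_distrib]
    refine Ideal.sum_mem _ fun m _ => ?_
    rw [Pi.add_apply, Pi.smul_apply, Pi.smul_apply, hD, hd₀, Algebra.smul_def, Algebra.smul_def,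
      Ideal.Quotient.algebraMap_eq, add_sub_assoc, ← mul_sub]
    refine Ideal.add_mem _ (Ideal.mul_mem_right _ _
      (Ideal.mem_map_of_mem _ (Ideal.mem_map_of_mem _ (hj m)))) (Ideal.mul_mem_left _ _ ?_)
    have h3 : algebraMap (MvPolynomial (Fin n) R) (T ⧸ Ideal.span (Set.range k))
        (pderiv i (j m)) = Ideal.Quotient.mk (Ideal.span (Set.range k))
          (algebraMap (MvPolynomial (Fin n) R) T (pderiv i (j m))) := rfl
    rw [h3, ← map_sub]
    apply Ideal.mem_map_of_mem
    have h4 := hEG i m
    rwa [← neg_sub, neg_mem_iff]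
  have hΘπ : (Matrix.of fun i l => D (k l) i).map
      (Ideal.Quotient.mk ((J₀.map (algebraMap (MvPolynomial (Fin n) R) T)).map
        (Ideal.Quotient.mk (Ideal.span (Set.range k))))) =
      (E.map (Ideal.Quotient.mk (Ideal.span (Set.range k)))).map
      (Ideal.Quotient.mk ((J₀.map (algebraMap (MvPolynomial (Fin n) R) T)).map
        (Ideal.Quotient.mk (Ideal.span (Set.range k))))) := by
    ext i l
    simp only [Matrix.map_apply, Matrix.of_apply]
    exact Ideal.Quotient.eq.mpr (hentry i l)
  have hE' : E.map (Ideal.Quotient.mk (Ideal.span (Set.range k))) *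
      E.map (Ideal.Quotient.mk (Ideal.span (Set.range k))) =
      E.map (Ideal.Quotient.mk (Ideal.span (Set.range k))) := by
    rw [← Matrix.map_mul, hE]
  have hdetπ : Ideal.Quotient.mk ((J₀.map (algebraMap (MvPolynomial (Fin n) R) T)).map
        (Ideal.Quotient.mk (Ideal.span (Set.range k))))
      ((E.map (Ideal.Quotient.mk (Ideal.span (Set.range k)))) *
      (Matrix.of fun i l => D (k l) i) *
      (E.map (Ideal.Quotient.mk (Ideal.span (Set.range k)))) +
      (1 - E.map (Ideal.Quotient.mk (Ideal.span (Set.range k))))).det = 1 := by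
    rw [RingHom.map_det, map_add, map_mul, map_mul, map_sub, map_one]
    simp only [RingHom.mapMatrix_apply]
    rw [hΘπ, ← Matrix.map_mul, ← Matrix.map_mul, hE', hE', add_sub_cancel, Matrix.det_one]
  obtain ⟨t, ht⟩ := Ideal.Quotient.mk_surjective
    ((E.map (Ideal.Quotient.mk (Ideal.span (Set.range k)))) *
      (Matrix.of fun i l => D (k l) i) *
      (E.map (Ideal.Quotient.mk (Ideal.span (Set.range k)))) +
      (1 - E.map (Ideal.Quotient.mk (Ideal.span (Set.range k))))).det
  rw [← ht] at hdetπ ⊢
  have h5 : Ideal.Quotient.mk (Ideal.span (Set.range k)) (t - 1) ∈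
      (J₀.map (algebraMap (MvPolynomial (Fin n) R) T)).map
        (Ideal.Quotient.mk (Ideal.span (Set.range k))) := by
    rw [map_sub, map_one]
    rw [← map_one (Ideal.Quotient.mk ((J₀.map (algebraMap (MvPolynomial (Fin n) R) T)).map
        (Ideal.Quotient.mk (Ideal.span (Set.range k)))))] at hdetπ
    exact Ideal.Quotient.eq.mp hdetπ
  obtain ⟨x, hx, hxt⟩ := (Ideal.mem_map_iff_of_surjective _ Ideal.Quotient.mk_surjective).mp h5
  have h6 : t - 1 ∈ J₀.map (algebraMap (MvPolynomial (Fin n) R) T) := by
    have h7 : x - (t - 1) ∈ Ideal.span (Set.range k) := Ideal.Quotient.eq.mp hxt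
    have h8 : t - 1 = x - (x - (t - 1)) := by ring
    rw [h8]
    exact Ideal.sub_mem _ hx (hKJT h7)
  exact (hunit t h6).map _

end PartII

end Groth.Agent.H87.SmoothQuot
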