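import Groth.Agent.H87.SmoothHens
import Mathlib

/-!
# Sections of smooth algebras / schemes over strictly henselian local rings
-/

set_option autoImplicit false
universe u

namespace Groth.Agent.H87.SmoothSection

open IsLocalRing

/-- A smooth algebra over a henselian local ring with algebraically closed residue field whose
special fibre is nonempty has an `R`-point. -/
theorem exists_algHom_of_prime (R : Type u) [CommRing R] [HenselianLocalRing R]
    [IsAlgClosed (ResidueField R)] (B : Type u) [CommRing B] [Algebra R B] [Algebra.Smooth R B]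
    (P : Ideal B) [P.IsPrime] (hP : (maximalIdeal R).map (algebraMap R B) ≤ P) :
    Nonempty (B →ₐ[R] R) := by
  classical
  let k := R ⧸ maximalIdeal R
  let _ : Field k := Ideal.Quotient.field (maximalIdeal R)
  have hkalg : IsAlgClosed k := ‹IsAlgClosed (ResidueField R)›
  let mB : Ideal B := (maximalIdeal R).map (algebraMap R B)
  have hne : mB ≠ ⊤ := fun h => (Ideal.IsPrime.ne_top ‹P.IsPrime›) (top_le_iff.mp (h ▸ hP))
  have hnt : Nontrivial (B ⧸ mB) := Ideal.Quotient.nontrivial_iff.mpr hne
  obtain ⟨n, hn⟩ := Ideal.exists_maximal (B ⧸ mB)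
  let K := (B ⧸ mB) ⧸ n
  let _ : Field K := Ideal.Quotient.field n
  have hft1 : Algebra.FiniteType R K := by
    have h1 : Algebra.FiniteType R (B ⧸ mB) :=
      Algebra.FiniteType.of_surjective (Ideal.Quotient.mkₐ R mB) Ideal.Quotient.mk_surjective
    exact Algebra.FiniteType.of_surjective (Ideal.Quotient.mkₐ R n) Ideal.Quotient.mk_surjective
  have hst : IsScalarTower R k K := by
    refine IsScalarTower.of_algebraMap_eq fun x => ?_
    rfl
  have hft : Algebra.FiniteType k K := Algebra.FiniteType.of_restrictScalars_finiteType R k K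
  have hfin : Module.Finite k K := finite_of_finite_type_of_isJacobsonRing k K
  have halg : Algebra.IsAlgebraic k K := Algebra.IsAlgebraic.of_finite k K
  let ψ : K →ₐ[k] k := IsAlgClosed.lift
  let σ₀ : B →ₐ[R] R ⧸ maximalIdeal R :=
    (ψ.restrictScalars R).comp ((Ideal.Quotient.mkₐ R n).comp (Ideal.Quotient.mkₐ R mB))
  obtain ⟨τ, -⟩ := Groth.Agent.H87.SmoothHens.exists_lift_of_smooth
    (inferInstance : HenselianRing R (maximalIdeal R)) B σ₀
  exact ⟨τ⟩

open AlgebraicGeometry CategoryTheory

/-- Sections of a smooth morphism to the spectrum of a strictly henselian local ring hit every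
open set meeting the special fibre. -/
theorem exists_section_mem (R : Type u) [CommRing R] [HenselianLocalRing R]
    [IsAlgClosed (ResidueField R)] {X : Scheme.{u}} (p : X ⟶ Spec (CommRingCat.of R)) [Smooth p]
    (x : X) (hx : p.base x = closedPoint R) (U : X.Opens) (hxU : x ∈ U) :
    ∃ s : Spec (CommRingCat.of R) ⟶ X, s ≫ p = 𝟙 _ ∧ s.base (closedPoint R) ∈ U := by
  obtain ⟨W, hW, hxW, hWU⟩ : ∃ W : X.Opens, IsAffineOpen W ∧ x ∈ W ∧ W ≤ U :=
    (TopologicalSpace.Opens.isBasis_iff_nbhd.mp X.isBasis_affineOpens) hxU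
  have e : W ≤ p ⁻¹ᵁ ⊤ := le_top
  let ρ : R →+* Γ(X, W) :=
    (p.appLE ⊤ W e).hom.comp (Scheme.ΓSpecIso (CommRingCat.of R)).inv.hom
  have hρ : ρ.Smooth := by
    have h1 := Smooth.smooth_appLE p (isAffineOpen_top _) hW e
    exact (RingHom.Smooth.respectsIso.cancel_left_isIso
      (Scheme.ΓSpecIso (CommRingCat.of R)).inv (p.appLE ⊤ W e)).mpr h1
  let _ : Algebra R Γ(X, W) := ρ.toAlgebra
  have hsm : Algebra.Smooth R Γ(X, W) := hρ
  have key : hW.fromSpec ≫ p = Spec.map (CommRingCat.ofHom ρ) := by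
    rw [← IsAffineOpen.SpecMap_appLE_fromSpec p (isAffineOpen_top _) hW e,
      IsAffineOpen.fromSpec_top, Scheme.isoSpec_Spec_inv, ← Spec.map_comp]
    rfl
  let y : ↥(Spec Γ(X, W)) := hW.primeIdealOf ⟨x, hxW⟩
  have hy : hW.fromSpec.base y = x := hW.fromSpec_primeIdealOf ⟨x, hxW⟩
  have hcomap : Ideal.comap ρ y.asIdeal = maximalIdeal R := by
    have h1 : (Spec.map (CommRingCat.ofHom ρ)).base y = closedPoint R := by
      rw [← key]
      change p.base (hW.fromSpec.base y) = _
      rw [hy, hx]
    have h2 := congrArg PrimeSpectrum.asIdeal h1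
    exact h2
  have hle : (maximalIdeal R).map (algebraMap R Γ(X, W)) ≤ y.asIdeal := by
    rw [Ideal.map_le_iff_le_comap]
    exact hcomap.ge
  obtain ⟨τ⟩ := exists_algHom_of_prime R Γ(X, W) y.asIdeal hle
  refine ⟨Spec.map (CommRingCat.ofHom τ.toRingHom) ≫ hW.fromSpec, ?_, ?_⟩
  · rw [Category.assoc, key, ← Spec.map_comp]
    have h1 : CommRingCat.ofHom ρ ≫ CommRingCat.ofHom τ.toRingHom = 𝟙 _ := by
      ext r
      exact τ.commutes r
    rw [h1, Spec.map_id]
  · apply hWU
    change hW.fromSpec.base ((Spec.map (CommRingCat.ofHom τ.toRingHom)).base (closedPoint R)) ∈ W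
    have h1 := hW.range_fromSpec
    have h2 : hW.fromSpec.base ((Spec.map (CommRingCat.ofHom τ.toRingHom)).base (closedPoint R)) ∈
        Set.range hW.fromSpec.base := ⟨_, rfl⟩
    rw [h1] at h2
    exact h2

end Groth.Agent.H87.SmoothSection
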