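import Mathlib

/-!
# Universal algebra of `n` roots of a monic polynomial (finite free), helper for S9703
-/

namespace Groth.Agent.H87.SplitCover

open Polynomial

universe u

/-- The universal algebra generated by `n` roots of a monic polynomial `P` over `R`: it is finite
free over `R`, generated by the roots, and maps to any `R`-algebra with `n` chosen roots of `P`. -/
theorem exists_tower {R : Type u} [CommRing R] (P : R[X]) (hP : P.Monic) (n : ℕ) :
    ∃ (C : Type u) (_ : CommRing C) (_ : Algebra R C), Module.Finite R C ∧ Module.Free R C ∧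
      ∃ x : Fin n → C, (∀ i, aeval (x i) P = 0) ∧ Algebra.adjoin R (Set.range x) = ⊤ ∧
        ∀ (D : Type u) [CommRing D] [Algebra R D] (y : Fin n → D), (∀ i, aeval (y i) P = 0) →
          ∃ φ : C →ₐ[R] D, ∀ i, φ (x i) = y i := by
  induction n with
  | zero =>
    refine ⟨R, inferInstance, inferInstance, inferInstance, inferInstance, Fin.elim0,
      fun i => i.elim0, ?_, ?_⟩
    · exact Subsingleton.elim _ _
    · intro D _ _ y hy
      exact ⟨Algebra.ofId R D, fun i => i.elim0⟩
  | succ n ih =>
    obtain ⟨C, _, _, hfin, hfree, x, hx, hadj, huniv⟩ := ih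
    have hQ : (P.map (algebraMap R C)).Monic := hP.map _
    have hfin' : Module.Finite C (AdjoinRoot (P.map (algebraMap R C))) := hQ.finite_adjoinRoot
    have hfree' : Module.Free C (AdjoinRoot (P.map (algebraMap R C))) := hQ.free_adjoinRoot
    refine ⟨AdjoinRoot (P.map (algebraMap R C)), inferInstance, inferInstance,
      Module.Finite.trans C _, Module.Free.trans (S := C),
      Fin.snoc (fun i => algebraMap C (AdjoinRoot (P.map (algebraMap R C))) (x i))
        (AdjoinRoot.root (P.map (algebraMap R C))), ?_, ?_, ?_⟩
    · intro i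
      refine Fin.lastCases ?_ (fun j => ?_) i
      · rw [Fin.snoc_last, ← Polynomial.aeval_map_algebraMap C, AdjoinRoot.aeval_eq,
          AdjoinRoot.mk_self]
      · rw [Fin.snoc_castSucc, Polynomial.aeval_algebraMap_apply, hx j, map_zero]
    · rw [eq_top_iff]
      rintro z -
      obtain ⟨p, rfl⟩ := AdjoinRoot.mk_surjective z
      induction p using Polynomial.induction_on with
      | C c =>
        have hc : c ∈ Algebra.adjoin R (Set.range x) := hadj ▸ Algebra.mem_top
        rw [AdjoinRoot.mk_C]
        induction hc using Algebra.adjoin_induction with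
        | mem a ha =>
          obtain ⟨j, rfl⟩ := ha
          refine Algebra.subset_adjoin ⟨j.castSucc, ?_⟩
          rw [Fin.snoc_castSucc]
          rfl
        | algebraMap r =>
          rw [← AdjoinRoot.algebraMap_eq, ← IsScalarTower.algebraMap_apply]
          exact Subalgebra.algebraMap_mem _ r
        | add a b _ _ ha hb => rw [map_add]; exact Subalgebra.add_mem _ ha hb
        | mul a b _ _ ha hb => rw [map_mul]; exact Subalgebra.mul_mem _ ha hb
      | add p q hp hq => rw [map_add]; exact Subalgebra.add_mem _ hp hq
      | monomial k c h =>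
        rw [pow_succ, ← mul_assoc, map_mul, AdjoinRoot.mk_X]
        refine Subalgebra.mul_mem _ h (Algebra.subset_adjoin ⟨Fin.last n, ?_⟩)
        rw [Fin.snoc_last]
    · intro D _ _ y hy
      obtain ⟨φ, hφ⟩ := huniv D (fun i => y i.castSucc) (fun i => hy _)
      have h0 : (P.map (algebraMap R C)).eval₂ (φ : C →+* D) (y (Fin.last n)) = 0 := by
        rw [Polynomial.eval₂_map, φ.comp_algebraMap, ← Polynomial.aeval_def]
        exact hy _
      refine ⟨{ AdjoinRoot.lift (φ : C →+* D) (y (Fin.last n)) h0 with
        commutes' := fun r => ?_ }, fun i => ?_⟩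
      · change AdjoinRoot.lift (φ : C →+* D) (y (Fin.last n)) h0 _ = _
        rw [IsScalarTower.algebraMap_apply R C, AdjoinRoot.algebraMap_eq, AdjoinRoot.lift_of]
        exact φ.commutes r
      · change AdjoinRoot.lift (φ : C →+* D) (y (Fin.last n)) h0 _ = _
        refine Fin.lastCases ?_ (fun j => ?_) i
        · rw [Fin.snoc_last, AdjoinRoot.lift_root]
        · rw [Fin.snoc_castSucc, AdjoinRoot.algebraMap_eq, AdjoinRoot.lift_of]
          exact hφ j

end Groth.Agent.H87.SplitCover
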