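import Mathlib
import Groth.Agent.H87.SplitCoverA

/-!
# Algebraic core of S9703: splitting cover of a finite algebra
-/

namespace Groth.Agent.H87.SplitCover

open Polynomial TensorProduct

universe u

/-- A monic polynomial splits into linear factors over some finite free algebra with surjective
`Spec`. (No nontriviality assumption.) -/
theorem exists_split {A : Type u} [CommRing A] (P : A[X]) (hP : P.Monic) :
    ∃ (A' : Type u) (_ : CommRing A') (_ : Algebra A A'), Module.Finite A A' ∧ Module.Free A A' ∧
      Function.Surjective (PrimeSpectrum.comap (algebraMap A A')) ∧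
      ∃ m : Multiset A', P.map (algebraMap A A') = (m.map (fun a => X - C a)).prod := by
  rcases subsingleton_or_nontrivial A with h | h
  · refine ⟨A, inferInstance, inferInstance, inferInstance, inferInstance, ?_, 0,
      Subsingleton.elim _ _⟩
    intro p
    exact (p.isPrime.ne_top ((Ideal.eq_top_iff_one _).2
      (by rw [Subsingleton.elim (1 : A) 0]; exact zero_mem _))).elim
  · obtain ⟨S, _, _, hfin, hfree, hnt, hS⟩ := hP.exists_splits_map
    refine ⟨S, inferInstance, inferInstance, hfin, hfree,
      PrimeSpectrum.comap_surjective_of_faithfullyFlat, ?_⟩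
    obtain ⟨m, hm⟩ := splits_iff_exists_multiset.1 hS
    refine ⟨m, ?_⟩
    rw [(hP.map _).leadingCoeff, C_1, one_mul] at hm
    exact hm

/-- Algebraic core of S9703. -/
theorem core (A B : Type u) [CommRing A] [CommRing B] [Algebra A B] [Module.Finite A B] :
    ∃ (A' : Type u) (_ : CommRing A') (_ : Algebra A A') (C : Type u) (_ : CommRing C)
      (_ : Algebra A' C) (π : C →+* B ⊗[A] A'),
      Module.Finite A A' ∧ Module.Free A A' ∧
      Function.Surjective (PrimeSpectrum.comap (algebraMap A A')) ∧
      Module.Finite A' C ∧ Module.Free A' C ∧ Function.Surjective π ∧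
      π.comp (algebraMap A' C) =
        (Algebra.TensorProduct.includeRight : A' →ₐ[A] B ⊗[A] A').toRingHom ∧
      ∃ (m : ℕ) (σ : Fin m → (C →+* A')), (∀ j, (σ j).comp (algebraMap A' C) = RingHom.id A') ∧
        ∀ q : Ideal C, q.IsPrime → ∃ j, RingHom.ker (σ j) ≤ q := by
  classical
  obtain ⟨n, s, hs⟩ := Module.Finite.exists_fin (R := A) (M := B)
  have hint : ∀ i, ∃ p : A[X], p.Monic ∧ aeval (s i) p = 0 := fun i =>
    Algebra.IsIntegral.isIntegral (R := A) (s i)
  choose p hpm hp0 using hint
  have hPm : (∏ i, p i).Monic := monic_prod_of_monic _ _ (fun i _ => hpm i)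
  have hP0 : ∀ i, aeval (s i) (∏ i, p i) = 0 := fun i => by
    rw [map_prod]
    exact Finset.prod_eq_zero (Finset.mem_univ i) (hp0 i)
  obtain ⟨A', _, _, hfin, hfree, hsurj, m, hm⟩ := exists_split _ hPm
  obtain ⟨C, _, _, hCfin, hCfree, x, hx, hadj, huniv⟩ :=
    exists_tower ((∏ i, p i).map (algebraMap A A')) (hPm.map _) n
  let _ : Algebra A' (B ⊗[A] A') := Algebra.TensorProduct.rightAlgebra
  have hy : ∀ i, aeval (s i ⊗ₜ[A] (1 : A')) ((∏ i, p i).map (algebraMap A A')) = 0 := fun i => by
    rw [aeval_map_algebraMap]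
    have : s i ⊗ₜ[A] (1 : A') = (Algebra.TensorProduct.includeLeft : B →ₐ[A] B ⊗[A] A') (s i) := rfl
    rw [this, aeval_algHom_apply, hP0 i, map_zero]
  obtain ⟨φ, hφ⟩ := huniv (B ⊗[A] A') (fun i => s i ⊗ₜ[A] (1 : A')) hy
  refine ⟨A', inferInstance, inferInstance, C, inferInstance, inferInstance, φ.toRingHom,
    hfin, hfree, hsurj, hCfin, hCfree, ?_, ?_, ?_⟩
  · -- surjectivity
    intro z
    change z ∈ φ.range
    induction z using TensorProduct.induction_on with
    | zero => exact zero_mem _
    | add a b ha hb => exact add_mem ha hb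
    | tmul b a' =>
      have hb1 : b ⊗ₜ[A] (1 : A') ∈ φ.range := by
        have hb : b ∈ Submodule.span A (Set.range s) := hs ▸ Submodule.mem_top
        induction hb using Submodule.span_induction with
        | mem b hb =>
          obtain ⟨i, rfl⟩ := hb
          exact ⟨x i, hφ i⟩
        | zero => rw [TensorProduct.zero_tmul]; exact zero_mem _
        | add a b _ _ ha hb => rw [TensorProduct.add_tmul]; exact add_mem ha hb
        | smul a b _ hb =>
          rw [← TensorProduct.smul_tmul', ← algebraMap_smul A' a]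
          exact Subalgebra.smul_mem _ hb _
      have h1 : b ⊗ₜ[A] a' = (b ⊗ₜ[A] (1 : A')) * ((1 : B) ⊗ₜ[A] a') := by
        rw [Algebra.TensorProduct.tmul_mul_tmul, mul_one, one_mul]
      rw [h1]
      exact mul_mem hb1 ⟨algebraMap A' C a', φ.commutes a'⟩
  · exact RingHom.ext fun a => φ.commutes a
  · -- sections
    have hk : ∀ k : Fin n → m.toFinset, ∀ i,
        aeval ((k i : A')) ((∏ i, p i).map (algebraMap A A')) = 0 := fun k i => by
      rw [hm, coe_aeval_eq_eval, eval_multiset_prod]
      refine Multiset.prod_eq_zero ?_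
      simp only [Multiset.map_map, Multiset.mem_map, Function.comp]
      exact ⟨(k i : A'), Multiset.mem_toFinset.1 (k i).2, by simp⟩
    choose σ hσ using fun k : Fin n → m.toFinset => huniv A' (fun i => (k i : A')) (hk k)
    refine ⟨Fintype.card (Fin n → m.toFinset),
      fun j => (σ ((Fintype.equivFin (Fin n → m.toFinset)).symm j)).toRingHom,
      fun j => RingHom.ext fun a => (σ _).commutes a, ?_⟩
    intro q hq
    have hex : ∀ i, ∃ a ∈ m, x i - algebraMap A' C a ∈ q := fun i => by
      have h := hx i
      rw [hm, map_multiset_prod, Multiset.map_map] at h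
      have h2 : (m.map (fun a => x i - algebraMap A' C a)).prod ∈ q := by
        have : (m.map (fun a => x i - algebraMap A' C a)).prod = 0 := by
          rw [← h]
          congr 1
          refine Multiset.map_congr rfl (fun a _ => ?_)
          simp
        rw [this]; exact zero_mem _
      obtain ⟨z, hz, hzq⟩ := (hq.multiset_prod_mem_iff_exists_mem _).1 h2
      obtain ⟨a, ha, rfl⟩ := Multiset.mem_map.1 hz
      exact ⟨a, ha, hzq⟩
    choose a ha haq using hex
    refine ⟨Fintype.equivFin _ (fun i => ⟨a i, Multiset.mem_toFinset.2 (ha i)⟩), ?_⟩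
    intro c hc
    rw [RingHom.mem_ker] at hc
    simp only [Equiv.symm_apply_apply] at hc
    set k : Fin n → m.toFinset := fun i => ⟨a i, Multiset.mem_toFinset.2 (ha i)⟩ with hkdef
    have heq : Ideal.Quotient.mkₐ A' q =
        (Ideal.Quotient.mkₐ A' q).comp ((Algebra.ofId A' C).comp (σ k)) := by
      refine AlgHom.ext_of_adjoin_eq_top hadj ?_
      rintro _ ⟨i, rfl⟩
      simp only [AlgHom.comp_apply, Ideal.Quotient.mkₐ_eq_mk, hσ k i, Algebra.ofId_apply]
      exact Ideal.Quotient.eq.2 (haq i)
    have h3 := DFunLike.congr_fun heq c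
    simp only [AlgHom.comp_apply, Ideal.Quotient.mkₐ_eq_mk, Algebra.ofId_apply] at h3
    have hc' : σ k c = 0 := hc
    rw [hc', map_zero, map_zero] at h3
    exact Ideal.Quotient.eq_zero_iff_mem.1 h3

end Groth.Agent.H87.SplitCover
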