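import Mathlib
import Groth.Prelude.Def_Mor2
import Groth.Agent.H87.SplitCoverB

/-!
# S9703: scheme-level translation of the splitting cover
-/

namespace Groth.Agent.H87.SplitCover

open CategoryTheory CategoryTheory.Limits AlgebraicGeometry TensorProduct

universe u

theorem isFinLocFree_specMap (R S : Type u) [CommRing R] [CommRing S] [Algebra R S]
    [Module.Finite R S] [Module.Free R S] :
    Mor2.IsFinLocFree (Spec.map (CommRingCat.ofHom (algebraMap R S))) := by
  refine ⟨?_, ?_, ?_⟩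
  · rw [IsFinite.SpecMap_iff]
    change (algebraMap R S).Finite
    rw [RingHom.finite_algebraMap]
    infer_instance
  · rw [Flat.SpecMap_iff]
    change (algebraMap R S).Flat
    rw [RingHom.flat_algebraMap_iff]
    infer_instance
  · rw [LocallyOfFinitePresentation.SpecMap_iff]
    change (algebraMap R S).FinitePresentation
    rw [RingHom.finitePresentation_algebraMap]
    have : Module.FinitePresentation R S := Module.finitePresentation_of_projective R S
    infer_instance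

theorem spec_case (A B : Type u) [CommRing A] [CommRing B] [Algebra A B] [Module.Finite A B] :
    ∃ (X' : Scheme.{u}) (b : X' ⟶ Spec (.of A)) (Z' : Scheme.{u}) (c : Z' ⟶ X')
      (i : pullback (Spec.map (CommRingCat.ofHom (algebraMap A B))) b ⟶ Z'),
      Mor2.IsFinLocFree b ∧ Surjective b ∧ Mor2.IsFinLocFree c ∧ IsClosedImmersion i ∧
      i ≫ c = pullback.snd _ b ∧
      ∃ (m : ℕ) (Zj : Fin m → Scheme.{u}) (ιj : ∀ j, Zj j ⟶ Z'),
        (∀ j, IsClosedImmersion (ιj j)) ∧ (∀ j, IsIso (ιj j ≫ c)) ∧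
        (⋃ j, Set.range (ιj j).base) = Set.univ := by
  obtain ⟨A', _, _, C, _, _, π, hfin, hfree, hsurj, hCfin, hCfree, hπ, hπc, m, σ, hσ, hcov⟩ :=
    core A B
  refine ⟨Spec (.of A'), Spec.map (CommRingCat.ofHom (algebraMap A A')), Spec (.of C),
    Spec.map (CommRingCat.ofHom (algebraMap A' C)),
    (pullbackSpecIso A B A').hom ≫ Spec.map (CommRingCat.ofHom π),
    isFinLocFree_specMap A A', ⟨hsurj⟩, isFinLocFree_specMap A' C, ?_, ?_, ?_⟩
  · have : IsClosedImmersion (Spec.map (CommRingCat.ofHom π)) :=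
      IsClosedImmersion.spec_of_surjective _ hπ
    infer_instance
  · rw [Category.assoc, ← Spec.map_comp, ← CommRingCat.ofHom_comp, hπc]
    exact pullbackSpecIso_hom_snd A B A'
  · refine ⟨m, fun _ => Spec (.of A'), fun j => Spec.map (CommRingCat.ofHom (σ j)),
      fun j => ?_, fun j => ?_, ?_⟩
    · refine IsClosedImmersion.spec_of_surjective _ (fun a => ⟨algebraMap A' C a, ?_⟩)
      exact DFunLike.congr_fun (hσ j) a
    · rw [← Spec.map_comp, ← CommRingCat.ofHom_comp, hσ j]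
      change IsIso (Spec.map (𝟙 _))
      rw [Spec.map_id]
      infer_instance
    · rw [Set.eq_univ_iff_forall]
      intro x
      obtain ⟨j, hj⟩ := hcov x.asIdeal x.isPrime
      refine Set.mem_iUnion.2 ⟨j, ?_⟩
      have hs : Function.Surjective (σ j) := fun a =>
        ⟨algebraMap A' C a, DFunLike.congr_fun (hσ j) a⟩
      change x ∈ Set.range (PrimeSpectrum.comap (σ j))
      rw [_root_.range_comap_of_surjective _ _ hs]
      exact (PrimeSpectrum.mem_zeroLocus (x : PrimeSpectrum C) _).2 hj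

theorem main {X Y : Scheme.{u}} [IsAffine X] (f : Y ⟶ X) [IsFinite f] :
    ∃ (X' : Scheme.{u}) (b : X' ⟶ X) (Z' : Scheme.{u}) (c : Z' ⟶ X') (i : pullback f b ⟶ Z'),
      Mor2.IsFinLocFree b ∧ Surjective b ∧ Mor2.IsFinLocFree c ∧ IsClosedImmersion i ∧
      i ≫ c = pullback.snd f b ∧
      ∃ (m : ℕ) (Zj : Fin m → Scheme.{u}) (ιj : ∀ j, Zj j ⟶ Z'),
        (∀ j, IsClosedImmersion (ιj j)) ∧ (∀ j, IsIso (ιj j ≫ c)) ∧
        (⋃ j, Set.range (ιj j).base) = Set.univ := by
  have hY : IsAffine Y := isAffine_of_isAffineHom f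
  let _ : Algebra Γ(X, ⊤) Γ(Y, ⊤) := f.appTop.hom.toAlgebra
  have hfinite : Module.Finite Γ(X, ⊤) Γ(Y, ⊤) :=
    IsFinite.finite_app f ⊤ (isAffineOpen_top X)
  obtain ⟨X', b₀, Z', c, i₀, hb, hbs, hc, hi, hic, rest⟩ := spec_case Γ(X, ⊤) Γ(Y, ⊤)
  have h1 : f ≫ X.isoSpec.hom =
      Y.isoSpec.hom ≫ Spec.map (CommRingCat.ofHom (algebraMap Γ(X, ⊤) Γ(Y, ⊤))) :=
    Scheme.toSpecΓ_naturality f
  have h2 : (b₀ ≫ X.isoSpec.inv) ≫ X.isoSpec.hom = 𝟙 X' ≫ b₀ := by
    rw [Category.assoc, Iso.inv_hom_id, Category.comp_id, Category.id_comp]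
  have hb1 := hb.1
  have hb2 := hb.2.1
  have hb3 := hb.2.2
  refine ⟨X', b₀ ≫ X.isoSpec.inv, Z', c,
    pullback.map f (b₀ ≫ X.isoSpec.inv) _ b₀ Y.isoSpec.hom (𝟙 X') X.isoSpec.hom h1 h2 ≫ i₀,
    ⟨inferInstance, inferInstance, inferInstance⟩, inferInstance, hc, inferInstance, ?_, rest⟩
  rw [Category.assoc, hic, pullback.lift_snd, Category.comp_id]

end Groth.Agent.H87.SplitCover
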