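import Groth.Agent.H18.STL.AmplePow

/-!
# Base loci of tensor powers of an invertible module
-/

set_option autoImplicit false
universe u
open CategoryTheory AlgebraicGeometry TopologicalSpace

namespace Groth.Agent.H87.StableBase

open Groth.Agent.H18 Groth.Agent.H18.STL

variable {X : Scheme.{u}}

/-- The base locus of (the complete linear series of) `M`. -/
def Bs (M : X.Modules) : Set X :=
  {x | ∀ s : Coh.structureModule X ⟶ M, x ∉ CohB1.genLocus M s}

theorem isClosed_bs (M : X.Modules) : IsClosed (Bs M) := by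
  have h : Bs M = (⋃ s : Coh.structureModule X ⟶ M, (CohB1.genLocus M s : Set X))ᶜ := by
    ext x
    simp only [Bs, Set.mem_ofPred_eq, Set.mem_compl_iff, Set.mem_iUnion, not_exists]
    rfl
  rw [h]
  exact (isOpen_iUnion fun s => (CohB1.genLocus M s).isOpen).isClosed_compl

/-- Modules of the same weight have the same base locus. -/
theorem bs_eq_of_hasWeight {L : X.Modules} {𝔄 : Atlas L} {M M' : X.Modules} {N : ℕ}
    {β : ∀ i, Γ(M, 𝔄.W i)} {β' : ∀ i, Γ(M', 𝔄.W i)}
    (h : HasWeight 𝔄 M N β) (h' : HasWeight 𝔄 M' N β') : Bs M = Bs M' := by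
  ext x
  constructor
  · intro hx s hxs
    obtain ⟨a, -, ha⟩ := h'.exists_transfer h s
    exact hx a (ha ▸ hxs)
  · intro hx s hxs
    obtain ⟨a, -, ha⟩ := h.exists_transfer h' s
    exact hx a (ha ▸ hxs)

theorem bs_tensorPow_tensorPow {L : X.Modules} (hL : PicF.IsInvertible L) (p m : ℕ) :
    Bs (CohB1.tensorPow (CohB1.tensorPow L p) m) = Bs (CohB1.tensorPow L (p * m)) := by
  obtain ⟨𝔄⟩ := nonempty_atlas hL
  exact bs_eq_of_hasWeight ((hasWeight_tensorPow 𝔄 p).lpow m) (hasWeight_tensorPow 𝔄 (p * m))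

theorem bs_mul_subset {L : X.Modules} (hL : PicF.IsInvertible L) (m k : ℕ) (hk : 0 < k) :
    Bs (CohB1.tensorPow L (m * k)) ⊆ Bs (CohB1.tensorPow L m) := by
  rw [← bs_tensorPow_tensorPow hL m k]
  intro x hx s hxs
  apply hx (SecTwist.powHom s k)
  rw [genLocus_powHom (isInvertible_tensorPow hL m) s hk]
  exact hxs

theorem bs_mul_subset' {L : X.Modules} (hL : PicF.IsInvertible L) (m k : ℕ) (hk : 0 < k) :
    Bs (CohB1.tensorPow L (k * m)) ⊆ Bs (CohB1.tensorPow L m) := by
  rw [mul_comm]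
  exact bs_mul_subset hL m k hk

/-- On a Noetherian space the base loci `Bs(L^m)`, `m ≥ 1`, have a smallest member, which is the
stable base locus; it is `Bs(L^{k n₀})` for all `k ≥ 1`. -/
theorem exists_stable [NoetherianSpace X] {L : X.Modules} (hL : PicF.IsInvertible L) :
    ∃ n₀ : ℕ, 0 < n₀ ∧ ∀ k : ℕ, 0 < k →
      {x : X | ∀ m : ℕ, 0 < m → x ∈ Bs (CohB1.tensorPow L m)} =
        Bs (CohB1.tensorPow L (k * n₀)) := by
  classical
  -- a minimal member of the family of closed sets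
  let F : Set (Closeds X) :=
    {Z | ∃ m : ℕ, 0 < m ∧ (Z : Set X) = Bs (CohB1.tensorPow L m)}
  have hF : F.Nonempty := ⟨⟨Bs (CohB1.tensorPow L 1), isClosed_bs _⟩, 1, one_pos, rfl⟩
  have hwf : WellFoundedLT (Closeds X) :=
    ((noetherianSpace_TFAE (α := X)).out 0 1).mp ‹NoetherianSpace X›
  obtain ⟨Z, ⟨n₀, hn₀, hZ⟩, hmin⟩ := hwf.wf.has_min F hF
  have hmin' : ∀ m : ℕ, 0 < m → Bs (CohB1.tensorPow L m) ⊆ Bs (CohB1.tensorPow L n₀) →
      Bs (CohB1.tensorPow L m) = Bs (CohB1.tensorPow L n₀) := by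
    intro m hm hsub
    by_contra hne
    have hlt : (⟨Bs (CohB1.tensorPow L m), isClosed_bs _⟩ : Closeds X) < Z := by
      rw [lt_iff_le_and_ne]
      refine ⟨?_, ?_⟩
      · intro x hx
        change x ∈ (Z : Set X)
        rw [hZ]
        exact hsub hx
      · intro heq
        apply hne
        rw [← hZ, ← heq]
        rfl
    exact hmin _ ⟨m, hm, rfl⟩ hlt
  have hle : ∀ m : ℕ, 0 < m → Bs (CohB1.tensorPow L n₀) ⊆ Bs (CohB1.tensorPow L m) := by
    intro m hm
    have h1 := hmin' (n₀ * m) (Nat.mul_pos hn₀ hm) (bs_mul_subset hL n₀ m hm)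
    rw [← h1]
    exact bs_mul_subset' hL m n₀ hn₀
  have hB : {x : X | ∀ m : ℕ, 0 < m → x ∈ Bs (CohB1.tensorPow L m)} =
      Bs (CohB1.tensorPow L n₀) := by
    ext x
    constructor
    · intro hx
      exact hx n₀ hn₀
    · intro hx m hm
      exact hle m hm hx
  refine ⟨n₀, hn₀, fun k hk => ?_⟩
  rw [hB]
  exact (hmin' (k * n₀) (Nat.mul_pos hk hn₀) (bs_mul_subset' hL n₀ k hk)).symm

theorem noetherianSpace_of_finiteType_quasiCompact {Y : Scheme.{u}} (f : X ⟶ Y) [IsNoetherian Y]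
    [LocallyOfFiniteType f] [QuasiCompact f] : NoetherianSpace X := by
  have h1 : IsLocallyNoetherian X := LocallyOfFiniteType.isLocallyNoetherian f
  have h2 : CompactSpace X := QuasiCompact.compactSpace_of_compactSpace f
  have : IsNoetherian X := { }
  infer_instance

end Groth.Agent.H87.StableBase
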