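import Mathlib.GroupTheory.FiniteAbelian.Duality
import Mathlib.RingTheory.RootsOfUnity.AlgebraicallyClosed

set_option autoImplicit false

namespace Groth.Agent.H87.Theta

open MonoidHom

section Abstract

variable {G : Type*} [CommGroup G] [Finite G] {M : Type*} [CommMonoid M]
  [HasEnoughRootsOfUnity M (Monoid.exponent G)]

/-- an injective pairing on a finite abelian group is perfect -/
theorem pairing_bijective (B : G →* G →* Mˣ) (hB : Function.Injective B) :
    Function.Bijective B := by
  refine Function.Injective.bijective_of_nat_card_le hB ?_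
  rw [CommGroup.card_monoidHom_of_hasEnoughRootsOfUnity]

/-- the orthogonal of a subgroup -/
def orth (B : G →* G →* Mˣ) (H : Subgroup G) : Subgroup G :=
  ((MonoidHom.domRestrictHom H Mˣ).comp B).ker

theorem mem_orth (B : G →* G →* Mˣ) (H : Subgroup G) (x : G) :
    x ∈ orth B H ↔ ∀ y ∈ H, B x y = 1 := by
  unfold orth
  rw [MonoidHom.mem_ker, MonoidHom.comp_apply]
  constructor
  · intro hx y hy
    have := DFunLike.congr_fun hx ⟨y, hy⟩
    simpa using this
  · intro hx
    ext ⟨y, hy⟩
    simpa using congrArg Units.val (hx y hy)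

theorem card_mul_card_orth (B : G →* G →* Mˣ) (hB : Function.Injective B) (H : Subgroup G) :
    Nat.card H * Nat.card (orth B H) = Nat.card G := by
  have hs : Function.Surjective ((MonoidHom.domRestrictHom H Mˣ).comp B) := by
    rw [MonoidHom.coe_comp]
    exact (MonoidHom.domRestrict_surjective (M := M) H).comp (pairing_bijective B hB).2
  have h1 := Subgroup.card_mul_index (orth B H)
  have h2 : (orth B H).index = Nat.card (H →* Mˣ) := by
    unfold orth
    rw [Subgroup.index_ker, MonoidHom.range_eq_top.mpr hs]
    exact Nat.card_congr Subgroup.topEquiv.toEquiv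
  have : HasEnoughRootsOfUnity M (Monoid.exponent H) :=
    HasEnoughRootsOfUnity.of_dvd M (Monoid.exponent_submonoid_dvd H.toSubmonoid)
  rw [h2, CommGroup.card_monoidHom_of_hasEnoughRootsOfUnity] at h1
  rw [mul_comm]; exact h1

end Abstract

end Groth.Agent.H87.Theta
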