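import Groth.Agent.H87.Theta0
import Mathlib.GroupTheory.Abelianization.Defs
import Mathlib.GroupTheory.QuotientGroup.Basic
import Mathlib.GroupTheory.Index
import Mathlib.GroupTheory.Subgroup.Centralizer

set_option autoImplicit false

namespace Groth.Agent.H87.Theta

open scoped commutatorElement

variable {k : Type*} [Field k] {Γ : Type*} [Group Γ]

/-- the data of (the points of) a non-degenerate theta group -/
structure IsTheta (ι : kˣ →* Γ) : Prop where
  inj : Function.Injective ι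
  cent : ι.range = Subgroup.center Γ
  comm : commutator Γ ≤ ι.range

namespace IsTheta

variable {ι : kˣ →* Γ} (h : IsTheta ι)
include h

lemma central (z : kˣ) (g : Γ) : ι z * g = g * ι z := by
  have hz : ι z ∈ Subgroup.center Γ := h.cent ▸ ⟨z, rfl⟩
  exact (Subgroup.mem_center_iff.mp hz g).symm

lemma normal : (ι.range).Normal := by
  rw [h.cent]; infer_instance

lemma comm_mem (x y : Γ) : ⁅x, y⁆ ∈ ι.range :=
  h.comm (Subgroup.commutator_mem_commutator (Subgroup.mem_top x) (Subgroup.mem_top y))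

/-- the commutator pairing -/
noncomputable def e (x y : Γ) : kˣ := Classical.choose (h.comm_mem x y)

lemma ι_e (x y : Γ) : ι (h.e x y) = ⁅x, y⁆ := Classical.choose_spec (h.comm_mem x y)

lemma mul_eq (x y : Γ) : x * y = ι (h.e x y) * (y * x) := by
  rw [h.ι_e, commutatorElement_def]; group

lemma e_mul_left (x x' y : Γ) : h.e (x * x') y = h.e x y * h.e x' y := by
  apply h.inj
  rw [map_mul, h.ι_e, h.ι_e]
  have h1 : ⁅x * x', y⁆ = x * ⁅x', y⁆ * x⁻¹ * ⁅x, y⁆ := by
    simp only [commutatorElement_def]; group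
  rw [h1, ← h.ι_e x' y, ← h.central (h.e x' y) x, mul_inv_cancel_right]
  exact h.central _ _

lemma e_mul_right (x y y' : Γ) : h.e x (y * y') = h.e x y * h.e x y' := by
  apply h.inj
  rw [map_mul, h.ι_e, h.ι_e]
  have h1 : ⁅x, y * y'⁆ = ⁅x, y⁆ * (y * ⁅x, y'⁆ * y⁻¹) := by
    simp only [commutatorElement_def]; group
  rw [h1, ← h.ι_e x y', ← h.central (h.e x y') y, mul_inv_cancel_right]

lemma e_eq_one_iff (x y : Γ) : h.e x y = 1 ↔ x * y = y * x := by
  rw [← h.inj.eq_iff, h.ι_e, map_one, commutatorElement_eq_one_iff_mul_comm]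

lemma e_self (x : Γ) : h.e x x = 1 := (h.e_eq_one_iff x x).mpr rfl

lemma e_ι_left (z : kˣ) (y : Γ) : h.e (ι z) y = 1 :=
  (h.e_eq_one_iff _ _).mpr (h.central z y)

lemma e_ι_right (x : Γ) (z : kˣ) : h.e x (ι z) = 1 :=
  (h.e_eq_one_iff _ _).mpr (h.central z x).symm

lemma e_swap (x y : Γ) : h.e y x = (h.e x y)⁻¹ := by
  apply h.inj
  rw [map_inv, h.ι_e, h.ι_e, commutatorElement_inv]

lemma e_one_left (y : Γ) : h.e 1 y = 1 := (h.e_eq_one_iff _ _).mpr (by simp)

lemma e_one_right (x : Γ) : h.e x 1 = 1 := (h.e_eq_one_iff _ _).mpr (by simp)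

lemma e_inv_left (x y : Γ) : h.e x⁻¹ y = (h.e x y)⁻¹ := by
  rw [eq_inv_iff_mul_eq_one, ← h.e_mul_left, inv_mul_cancel, h.e_one_left]

lemma e_inv_right (x y : Γ) : h.e x y⁻¹ = (h.e x y)⁻¹ := by
  rw [eq_inv_iff_mul_eq_one, ← h.e_mul_right, inv_mul_cancel, h.e_one_right]

lemma mem_range_of_forall_e (x : Γ) (hx : ∀ y, h.e x y = 1) : x ∈ ι.range := by
  rw [h.cent, Subgroup.mem_center_iff]
  intro y
  exact ((h.e_eq_one_iff x y).mp (hx y)).symm

/-- `e x ·` as a homomorphism -/
noncomputable def eL (x : Γ) : Γ →* kˣ := MonoidHom.mk' (fun y => h.e x y) (h.e_mul_right x)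

/-- `e · y` as a homomorphism -/
noncomputable def eR (y : Γ) : Γ →* kˣ := MonoidHom.mk' (fun x => h.e x y) (fun x x' => h.e_mul_left x x' y)

@[simp] lemma eL_apply (x y : Γ) : h.eL x y = h.e x y := rfl
@[simp] lemma eR_apply (x y : Γ) : h.eR y x = h.e x y := rfl

lemma eR_injective_mod {x y : Γ} (hxy : h.eR x = h.eR y) : x⁻¹ * y ∈ ι.range := by
  apply h.mem_range_of_forall_e
  intro g
  have := DFunLike.congr_fun hxy g
  simp only [eR_apply] at this
  rw [h.e_swap, h.e_mul_right, h.e_inv_right, this, inv_mul_cancel, inv_one]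

end IsTheta

end Groth.Agent.H87.Theta
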