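import Groth.Agent.H87.Theta1
import Mathlib.Algebra.CharP.Basic
import Mathlib.Algebra.CharP.Lemmas
import Mathlib.FieldTheory.IsAlgClosed.Basic

set_option autoImplicit false

namespace Groth.Agent.H87.Theta

open scoped commutatorElement

lemma natCast_ne_zero_of_coprime (k : Type*) [Field k] {n m : ℕ} (hn : n ≠ 0)
    (hcop : n.Coprime (ringExpChar k)) (hm : m ∣ n) : (m : k) ≠ 0 := by
  have hE : ExpChar k (ringExpChar k) := inferInstance
  generalize ringExpChar k = p at hE hcop
  cases hE with
  | zero =>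
    have : m ≠ 0 := fun h0 => hn (by rw [h0] at hm; exact Nat.eq_zero_of_zero_dvd hm)
    exact_mod_cast this
  | prime hp =>
    intro h0
    have h1 : p ∣ m := (CharP.cast_eq_zero_iff k p m).mp h0
    have h2 : p ∣ n := h1.trans hm
    have := Nat.Coprime.eq_one_of_dvd hcop.symm h2
    exact hp.one_lt.ne' this

variable {k : Type*} [Field k] {Γ : Type*} [Group Γ]

namespace IsTheta

variable {ι : kˣ →* Γ} (h : IsTheta ι)
include h

/-- commutative group structure on `K = Γ/kˣ` -/
@[reducible] noncomputable def commGroupK [hn : (ι.range).Normal] : CommGroup (Γ ⧸ ι.range) :=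
  { QuotientGroup.Quotient.group ι.range with
    mul_comm := by
      intro a b
      induction a using QuotientGroup.induction_on with
      | H a =>
      induction b using QuotientGroup.induction_on with
      | H b =>
      rw [← QuotientGroup.mk_mul, ← QuotientGroup.mk_mul, h.mul_eq a b, QuotientGroup.mk_mul,
        (QuotientGroup.eq_one_iff (ι (h.e a b))).mpr (MonoidHom.mem_range.mpr ⟨_, rfl⟩),
        one_mul] }

/-- the pairing on `K` -/
noncomputable def Bbar [hn : (ι.range).Normal] : (Γ ⧸ ι.range) →* (Γ ⧸ ι.range) →* kˣ :=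
  QuotientGroup.lift ι.range
    ({ toFun := fun x => QuotientGroup.lift ι.range (h.eL x)
          (by rintro _ ⟨z, rfl⟩; exact h.e_ι_right x z)
       map_one' := by
          ext y
          simp [h.e_one_left]
       map_mul' := by
          intro x x'
          ext y
          simp [h.e_mul_left] } : Γ →* ((Γ ⧸ ι.range) →* kˣ))
    (by
      rintro _ ⟨z, rfl⟩
      ext y
      simp [h.e_ι_left])

@[simp] lemma Bbar_mk [hn : (ι.range).Normal] (x y : Γ) :
    h.Bbar (x : Γ ⧸ ι.range) (y : Γ ⧸ ι.range) = h.e x y := rfl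

lemma Bbar_injective [hn : (ι.range).Normal] : Function.Injective h.Bbar := by
  rw [injective_iff_map_eq_one]
  intro a ha
  induction a using QuotientGroup.induction_on with
  | H a =>
  rw [QuotientGroup.eq_one_iff]
  apply h.mem_range_of_forall_e
  intro y
  have := DFunLike.congr_fun ha (y : Γ ⧸ ι.range)
  simpa using this

section Dual

variable [IsAlgClosed k] [Finite (Γ ⧸ ι.range)]

lemma card_pos : 0 < Nat.card (Γ ⧸ ι.range) := Nat.card_pos

omit h in
lemma hasEnough [hn : (ι.range).Normal]
    (hcop : (Nat.card (Γ ⧸ ι.range)).Coprime (ringExpChar k)) :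
    HasEnoughRootsOfUnity k (Monoid.exponent (Γ ⧸ ι.range)) := by
  have : NeZero ((Monoid.exponent (Γ ⧸ ι.range) : ℕ) : k) :=
    ⟨natCast_ne_zero_of_coprime k Nat.card_pos.ne' hcop Group.exponent_dvd_nat_card⟩
  infer_instance

/-- every character of `Γ` trivial on `kˣ` is of the form `e y ·` -/
theorem exists_eq_e (hcop : (Nat.card (Γ ⧸ ι.range)).Coprime (ringExpChar k))
    (χ : Γ →* kˣ) (hχ : ∀ z, χ (ι z) = 1) : ∃ y, ∀ g, χ g = h.e y g := by
  have := h.normal
  let _ : CommGroup (Γ ⧸ ι.range) := h.commGroupK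
  have : HasEnoughRootsOfUnity k (Monoid.exponent (Γ ⧸ ι.range)) := hasEnough hcop
  obtain ⟨ybar, hy⟩ := (pairing_bijective h.Bbar h.Bbar_injective).2
    (QuotientGroup.lift ι.range χ (by rintro _ ⟨z, rfl⟩; exact hχ z))
  induction ybar using QuotientGroup.induction_on with
  | H y =>
  refine ⟨y, fun g => ?_⟩
  have := DFunLike.congr_fun hy (g : Γ ⧸ ι.range)
  simpa using this.symm

/-- `|H/kˣ| · |C(H)/kˣ| = |K|` -/
theorem relIndex_mul_relIndex_centralizer
    (hcop : (Nat.card (Γ ⧸ ι.range)).Coprime (ringExpChar k))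
    (H : Subgroup Γ) (hH : ι.range ≤ H) :
    ι.range.relIndex H * ι.range.relIndex (Subgroup.centralizer (H : Set Γ)) = ι.range.index := by
  have := h.normal
  let _ : CommGroup (Γ ⧸ ι.range) := h.commGroupK
  have : HasEnoughRootsOfUnity k (Monoid.exponent (Γ ⧸ ι.range)) := hasEnough hcop
  have key := card_mul_card_orth h.Bbar h.Bbar_injective (H.map (QuotientGroup.mk' ι.range))
  have hker : (QuotientGroup.mk' ι.range).ker = ι.range := QuotientGroup.ker_mk' _
  have h1 : ι.range.relIndex H = Nat.card (H.map (QuotientGroup.mk' ι.range)) := by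
    conv_lhs => rw [← hker]
    exact Subgroup.relIndex_ker _ (QuotientGroup.mk' ι.range)
  have h2 : ι.range.relIndex (Subgroup.centralizer (H : Set Γ)) =
      Nat.card ((Subgroup.centralizer (H : Set Γ)).map (QuotientGroup.mk' ι.range)) := by
    conv_lhs => rw [← hker]
    exact Subgroup.relIndex_ker _ (QuotientGroup.mk' ι.range)
  have h3 : (Subgroup.centralizer (H : Set Γ)).map (QuotientGroup.mk' ι.range) =
      orth h.Bbar (H.map (QuotientGroup.mk' ι.range)) := by
    ext x
    induction x using QuotientGroup.induction_on with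
    | H x =>
    rw [mem_orth]
    constructor
    · rintro ⟨x', hx', hxx'⟩ y ⟨y', hy', rfl⟩
      rw [← hxx']
      change h.e x' y' = 1
      rw [h.e_eq_one_iff]
      exact (Subgroup.mem_centralizer_iff.mp hx' y' hy').symm
    · intro hx
      refine ⟨x, ?_, rfl⟩
      rw [SetLike.mem_coe, Subgroup.mem_centralizer_iff]
      intro y hy
      have := hx (y : Γ ⧸ ι.range) ⟨y, hy, rfl⟩
      change h.e x y = 1 at this
      exact ((h.e_eq_one_iff _ _).mp this).symm
  rw [h1, h2, h3, key]
  rfl

end Dual

end IsTheta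

end Groth.Agent.H87.Theta
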