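import Groth.Agent.H87.Theta2
import Groth.Agent.H87.Burnside
import Mathlib.LinearAlgebra.FreeModule.Finite.Matrix
import Mathlib.RepresentationTheory.Irreducible
import Mathlib.RepresentationTheory.Semisimple
import Mathlib.FieldTheory.Fixed
import Mathlib.LinearAlgebra.Dual.Lemmas
import Mathlib.LinearAlgebra.FiniteDimensional.Lemmas

set_option autoImplicit false

namespace Groth.Agent.H87.Theta

open scoped commutatorElement

variable {k : Type*} [Field k] {Γ : Type*} [Group Γ]

/-- weight one representations -/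
def IsW1 (ι : kˣ →* Γ) {V : Type*} [AddCommMonoid V] [Module k V] (ρ : Representation k Γ V) :
    Prop :=
  ∀ (z : kˣ) (v : V), ρ (ι z) v = (z : k) • v

namespace IsTheta

variable {ι : kˣ →* Γ} (h : IsTheta ι)
variable {V : Type*} [AddCommGroup V] [Module k V] (ρ : Representation k Γ V)
include h

lemma rho_comm (hw : IsW1 ι ρ) (g x : Γ) (v : V) :
    ρ g (ρ x v) = ((h.e g x : kˣ) : k) • ρ x (ρ g v) := by
  rw [← Module.End.mul_apply, ← map_mul, h.mul_eq g x, map_mul, Module.End.mul_apply, hw, map_mul,
    Module.End.mul_apply]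

lemma rho_conj (hw : IsW1 ι ρ) (g x : Γ) (v : V) :
    ρ g (ρ x (ρ g⁻¹ v)) = ((h.e g x : kˣ) : k) • ρ x v := by
  rw [h.rho_comm ρ hw, ← Module.End.mul_apply (ρ g), ← map_mul, mul_inv_cancel, map_one,
    Module.End.one_apply]

omit h in
lemma rho_inv_apply (g : Γ) (v : V) : ρ g⁻¹ (ρ g v) = v := by
  rw [← Module.End.mul_apply, ← map_mul, inv_mul_cancel, map_one, Module.End.one_apply]

omit h in
lemma rho_apply_inv (g : Γ) (v : V) : ρ g (ρ g⁻¹ v) = v := by
  rw [← Module.End.mul_apply, ← map_mul, mul_inv_cancel, map_one, Module.End.one_apply]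

/-- operators `ρ(x i)` for a family `x i` of elements pairwise distinct mod `kˣ` are linearly
independent -/
theorem linearIndependent_of_injective_mod [Nontrivial V] (hw : IsW1 ι ρ)
    {I : Type*} (x : I → Γ) (hx : ∀ i j, (x i)⁻¹ * x j ∈ ι.range → i = j) :
    LinearIndependent k (fun i : I => ρ (x i)) := by
  classical
  rw [linearIndependent_iff']
  intro s a ha q0 hq0
  let χ : I → (Γ →* k) := fun q => (Units.coeHom k).comp (h.eR (x q))
  have hχinj : Function.Injective χ := by
    intro q q' hqq'
    have h1 : h.eR (x q) = h.eR (x q') := by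
      ext g
      have := DFunLike.congr_fun hqq' g
      simpa [χ] using this
    exact hx _ _ (h.eR_injective_mod h1)
  have hli := (linearIndependent_monoidHom Γ k).comp χ hχinj
  rw [linearIndependent_iff'] at hli
  by_contra hne
  obtain ⟨v, hv⟩ := exists_ne (0 : V)
  have hv' : ρ (x q0) v ≠ 0 := by
    intro h0
    apply hv
    have := congrArg (ρ (x q0)⁻¹) h0
    rwa [rho_inv_apply, map_zero] at this
  obtain ⟨φ, hφ⟩ : ∃ φ : Module.Dual k V, φ (ρ (x q0) v) ≠ 0 := by
    by_contra hall
    push Not at hall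
    exact hv' ((Module.forall_dual_apply_eq_zero_iff k _).mp hall)
  have key := hli s (fun q => a q * φ (ρ (x q) v)) ?_ q0 hq0
  · rcases mul_eq_zero.mp key with h0 | h0
    · exact hne h0
    · exact hφ h0
  · ext g
    have h3 := congrArg (fun T : Module.End k V => φ (ρ g (T (ρ g⁻¹ v)))) ha
    simp only [LinearMap.sum_apply, LinearMap.smul_apply, map_sum, map_smul,
      LinearMap.zero_apply, map_zero] at h3
    simp only [Function.comp_apply, Finset.sum_apply, Pi.smul_apply, Pi.zero_apply, smul_eq_mul]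
    rw [← h3]
    refine Finset.sum_congr rfl fun q _ => ?_
    rw [h.rho_conj ρ hw, map_smul, smul_eq_mul]
    simp only [χ, MonoidHom.coe_comp, Function.comp_apply, eR_apply, Units.coeHom_apply]
    ring

/-- the operators `ρ(x̃)` for `x̄ ∈ K` are linearly independent -/
theorem linearIndependent_out [Nontrivial V] (hw : IsW1 ι ρ) :
    LinearIndependent k (fun q : Γ ⧸ ι.range => ρ (Quotient.out q)) := by
  apply h.linearIndependent_of_injective_mod ρ hw
  intro q q' hqq'
  rw [← QuotientGroup.eq] at hqq'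
  simpa using hqq'

/-- the operators `ρ(x̃)` span `End V` for irreducible `V` -/
theorem span_out_eq_top [FiniteDimensional k V] [IsAlgClosed k] [ρ.IsIrreducible]
    (hw : IsW1 ι ρ) :
    Submodule.span k (Set.range (fun q : Γ ⧸ ι.range => ρ (Quotient.out q))) = ⊤ := by
  rw [← span_range_eq_top ρ]
  apply le_antisymm
  · exact Submodule.span_mono (by rintro _ ⟨q, rfl⟩; exact ⟨_, rfl⟩)
  · rw [Submodule.span_le]
    rintro _ ⟨g, rfl⟩
    obtain ⟨⟨n, z, rfl⟩, hn⟩ := QuotientGroup.mk_out_eq_mul ι.range g
    have h1 : ρ g = ((z⁻¹ : kˣ) : k) • ρ (Quotient.out (g : Γ ⧸ ι.range)) := by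
      ext v
      rw [hn, LinearMap.smul_apply]
      simp only [map_mul, Module.End.mul_apply]
      rw [hw, map_smul, smul_smul, Units.val_inv_eq_inv_val, inv_mul_cancel₀ z.ne_zero, one_smul]
    rw [h1]
    exact Submodule.smul_mem _ _ (Submodule.subset_span ⟨_, rfl⟩)

omit h in
lemma nontrivial_of_irreducible [hirr : ρ.IsIrreducible] : Nontrivial V := by
  by_contra hnt
  rw [not_nontrivial_iff_subsingleton] at hnt
  have : (⊥ : Subrepresentation ρ) = ⊤ := by
    apply Subrepresentation.toSubmodule_injective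
    exact Subsingleton.elim _ _
  exact bot_ne_top this

/-- `(dim V)² = |K|` for an irreducible weight one representation -/
theorem finrank_sq [FiniteDimensional k V] [IsAlgClosed k] [ρ.IsIrreducible]
    [Finite (Γ ⧸ ι.range)] (hw : IsW1 ι ρ) :
    Module.finrank k V ^ 2 = Nat.card (Γ ⧸ ι.range) := by
  have := Fintype.ofFinite (Γ ⧸ ι.range)
  have := nontrivial_of_irreducible ρ
  let b := Module.Basis.mk (h.linearIndependent_out ρ hw) (h.span_out_eq_top ρ hw).ge
  have h1 := Module.finrank_eq_card_basis b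
  rw [Module.finrank_linearMap k k V V] at h1
  rw [sq, h1, Nat.card_eq_fintype_card]

end IsTheta

end Groth.Agent.H87.Theta
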