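import Groth.Agent.H87.Theta3
import Groth.Agent.H87.CommEigen

set_option autoImplicit false

namespace Groth.Agent.H87.Theta

open scoped commutatorElement

variable {k : Type*} [Field k] {Γ : Type*} [Group Γ]

namespace IsTheta

variable {ι : kˣ →* Γ} (h : IsTheta ι)
variable {V : Type*} [AddCommGroup V] [Module k V] (ρV : Representation k Γ V)
variable {W : Type*} [AddCommGroup W] [Module k W] (ρW : Representation k Γ W)
include h

omit h in
lemma linHom_ι (hV : IsW1 ι ρV) (hW : IsW1 ι ρW) (z : kˣ) :
    Representation.linHom ρV ρW (ι z) = 1 := by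
  ext f v
  rw [Representation.linHom_apply, LinearMap.comp_apply, LinearMap.comp_apply, ← map_inv, hV, hW,
    map_smul, smul_smul, Units.val_inv_eq_inv_val, mul_inv_cancel₀ z.ne_zero, one_smul]
  rfl

lemma linHom_comm (hV : IsW1 ι ρV) (hW : IsW1 ι ρW) (g g' : Γ) :
    Representation.linHom ρV ρW g * Representation.linHom ρV ρW g' =
      Representation.linHom ρV ρW g' * Representation.linHom ρV ρW g := by
  rw [← map_mul, h.mul_eq g g', map_mul, linHom_ι ρV ρW hV hW, one_mul, map_mul]

/-- uniqueness of the irreducible weight one representation -/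
theorem exists_equiv [IsAlgClosed k] [Finite (Γ ⧸ ι.range)]
    (hcop : (Nat.card (Γ ⧸ ι.range)).Coprime (ringExpChar k))
    [FiniteDimensional k V] [FiniteDimensional k W]
    [ρV.IsIrreducible] [ρW.IsIrreducible] (hV : IsW1 ι ρV) (hW : IsW1 ι ρW) :
    Nonempty (Representation.Equiv ρV ρW) := by
  have hVnt := nontrivial_of_irreducible ρV
  have hWnt := nontrivial_of_irreducible ρW
  have hEnt : Nontrivial (V →ₗ[k] W) := by
    apply Module.nontrivial_of_finrank_pos (R := k)
    rw [Module.finrank_linearMap k k V W]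
    exact Nat.mul_pos Module.finrank_pos Module.finrank_pos
  set σ := Representation.linHom ρV ρW with hσ
  obtain ⟨T, hT0, hT⟩ := exists_common_eigenvector (Set.range σ) (by
    rintro _ ⟨g, rfl⟩ _ ⟨g', rfl⟩
    exact h.linHom_comm ρV ρW hV hW g g')
  have hT' : ∀ g, ∃ c : k, σ g T = c • T := fun g => hT _ ⟨g, rfl⟩
  choose c hc using hT'
  have hinj : Function.Injective (fun a : k => a • T) := smul_left_injective k hT0
  have hc1 : c 1 = 1 := by
    apply hinj
    simp only
    rw [← hc, map_one, Module.End.one_apply, one_smul]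
  have hcmul : ∀ g g', c (g * g') = c g * c g' := by
    intro g g'
    apply hinj
    simp only
    rw [← hc, map_mul, Module.End.mul_apply, hc, map_smul, hc, smul_smul, mul_comm]
  let cHom : Γ →* k := ⟨⟨c, hc1⟩, hcmul⟩
  let χ : Γ →* kˣ := cHom.toHomUnits
  have hχ : ∀ g, ((χ g : kˣ) : k) = c g := fun g => rfl
  have hχι : ∀ z, χ (ι z) = 1 := by
    intro z
    apply Units.ext
    rw [hχ, Units.val_one]
    apply hinj
    simp only
    rw [← hc, hσ, linHom_ι ρV ρW hV hW, Module.End.one_apply, one_smul]
  obtain ⟨y, hy⟩ := h.exists_eq_e hcop χ hχι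
  -- (*) ρW g (T u) = c g • T (ρV g u)
  have hstar : ∀ g u, ρW g (T u) = c g • T (ρV g u) := by
    intro g u
    have h1 := LinearMap.congr_fun (hc g) (ρV g u)
    rw [hσ, Representation.linHom_apply, LinearMap.comp_apply, LinearMap.comp_apply,
      rho_inv_apply, LinearMap.smul_apply] at h1
    exact h1
  let T' : V →ₗ[k] W := T ∘ₗ ρV y
  have hint : ∀ g v, T' (ρV g v) = ρW g (T' v) := by
    intro g v
    change T (ρV y (ρV g v)) = ρW g (T (ρV y v))
    rw [h.rho_comm ρV hV, map_smul, hstar, ← hχ, hy]
  have hT'0 : T' ≠ 0 := by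
    intro h0
    apply hT0
    ext v
    have := LinearMap.congr_fun h0 (ρV y⁻¹ v)
    change T (ρV y (ρV y⁻¹ v)) = 0 at this
    rwa [rho_apply_inv] at this
  let f : Representation.IntertwiningMap ρV ρW :=
    T'.intertwiningMap_of_isIntertwiningMap ρV ρW hint
  rcases Representation.IsIrreducible.bijective_or_eq_zero f with hb | h0
  · exact ⟨f.ofBijective hb⟩
  · exfalso
    apply hT'0
    have := congrArg Representation.IntertwiningMap.toLinearMap h0
    exact this

end IsTheta

end Groth.Agent.H87.Theta
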