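import Groth.Agent.H87.Theta4
import Groth.Agent.H87.SubIrr

set_option autoImplicit false

namespace Groth.Agent.H87.Theta

variable {k : Type*} [Field k] {Γ : Type*} [Group Γ]

/-- right regular representation on functions -/
def funRep (k : Type*) [Field k] (Γ : Type*) [Group Γ] : Representation k Γ (Γ → k) where
  toFun g := LinearMap.funLeft k k (fun x => x * g)
  map_one' := by ext f x; simp [LinearMap.funLeft_apply]
  map_mul' g g' := by ext f x; simp [LinearMap.funLeft_apply, mul_assoc]

@[simp] lemma funRep_apply (g : Γ) (f : Γ → k) (x : Γ) : funRep k Γ g f x = f (x * g) := rfl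

/-- the weight one functions -/
def W1sub (ι : kˣ →* Γ) : Subrepresentation (funRep k Γ) where
  toSubmodule :=
    { carrier := {f | ∀ (z : kˣ) (g : Γ), f (ι z * g) = (z : k) * f g}
      add_mem' := by
        intro a b ha hb z g
        simp only [Pi.add_apply, ha z g, hb z g, mul_add]
      zero_mem' := by intro z g; simp
      smul_mem' := by
        intro c a ha z g
        simp only [Pi.smul_apply, smul_eq_mul, ha z g]
        ring }
  apply_mem_toSubmodule := by
    intro g f hf z x
    simp only [funRep_apply]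
    rw [mul_assoc, hf z (x * g)]

lemma mem_W1sub (ι : kˣ →* Γ) (f : Γ → k) :
    f ∈ (W1sub ι).toSubmodule ↔ ∀ (z : kˣ) (g : Γ), f (ι z * g) = (z : k) * f g := Iff.rfl

lemma isW1_sub {ι : kˣ →* Γ} {V : Type*} [AddCommGroup V] [Module k V] {ρ : Representation k Γ V}
    (hw : IsW1 ι ρ) (S : Subrepresentation ρ) : IsW1 ι S.toRepresentation := by
  intro z v
  apply Subtype.ext
  exact hw z v

namespace IsTheta

variable {ι : kˣ →* Γ} (h : IsTheta ι)
include h

lemma isW1_W1sub : IsW1 ι (W1sub (k := k) ι).toRepresentation := by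
  intro z f
  apply Subtype.ext
  funext x
  change (f : Γ → k) (x * ι z) = (z : k) * (f : Γ → k) x
  rw [← h.central z x]
  exact f.2 z x

lemma finite_W1sub [Finite (Γ ⧸ ι.range)] :
    FiniteDimensional k (W1sub (k := k) ι).toSubmodule := by
  let Φ : (W1sub (k := k) ι).toSubmodule →ₗ[k] ((Γ ⧸ ι.range) → k) :=
    (LinearMap.funLeft k k (fun q : Γ ⧸ ι.range => Quotient.out q)) ∘ₗ
      (W1sub (k := k) ι).toSubmodule.subtype
  have hΦ : Function.Injective Φ := by
    rw [injective_iff_map_eq_zero]
    intro f hf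
    apply Subtype.ext
    funext g
    obtain ⟨⟨n, z, rfl⟩, hn⟩ := QuotientGroup.mk_out_eq_mul ι.range g
    have h1 : (f : Γ → k) (Quotient.out (g : Γ ⧸ ι.range)) = 0 := congrFun hf (g : Γ ⧸ ι.range)
    rw [hn] at h1
    change (f : Γ → k) (g * ι z) = 0 at h1
    rw [← h.central z g, f.2 z g] at h1
    rcases mul_eq_zero.mp h1 with h0 | h0
    · exact absurd h0 z.ne_zero
    · exact h0
  exact Module.Finite.of_injective Φ hΦ

lemma nontrivial_W1sub : Nontrivial (W1sub (k := k) ι).toSubmodule := by
  classical
  let f0 : Γ → k := fun g => if hg : g ∈ ι.range then ((Classical.choose hg : kˣ) : k) else 0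
  have hf0 : ∀ z : kˣ, f0 (ι z) = z := by
    intro z
    have hz : ι z ∈ ι.range := ⟨z, rfl⟩
    simp only [f0, dif_pos hz]
    exact congrArg Units.val (h.inj (Classical.choose_spec hz))
  have hmem : f0 ∈ (W1sub (k := k) ι).toSubmodule := by
    intro z g
    by_cases hg : g ∈ ι.range
    · obtain ⟨w, rfl⟩ := hg
      rw [← map_mul, hf0, hf0, Units.val_mul]
    · have hg' : ι z * g ∉ ι.range := by
        intro hmem
        apply hg
        have := ι.range.mul_mem (ι.range.inv_mem ⟨z, rfl⟩) hmem
        rwa [inv_mul_cancel_left] at this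
      simp only [f0, dif_neg hg, dif_neg hg', mul_zero]
  refine ⟨⟨⟨f0, hmem⟩, 0, ?_⟩⟩
  intro h0
  have h1 := congrFun (congrArg Subtype.val h0) (ι 1)
  change f0 (ι 1) = 0 at h1
  rw [hf0] at h1
  simp at h1

/-- existence of an irreducible weight one representation -/
theorem exists_irr [Finite (Γ ⧸ ι.range)] :
    ∃ S : Subrepresentation (W1sub (k := k) ι).toRepresentation,
      Representation.IsIrreducible (k := k) (G := Γ) (V := S.toSubmodule) S.toRepresentation ∧
        IsW1 ι S.toRepresentation ∧
        FiniteDimensional k S.toSubmodule := by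
  have := h.finite_W1sub (k := k)
  have := h.nontrivial_W1sub (k := k)
  obtain ⟨S, hS0, hS⟩ := exists_atom_subrep (W1sub (k := k) ι).toRepresentation
  exact ⟨S, isIrreducible_of_atom _ S hS0 hS, isW1_sub h.isW1_W1sub S, inferInstance⟩

end IsTheta

end Groth.Agent.H87.Theta
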