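import Groth.Agent.H87.Theta5
import Mathlib.LinearAlgebra.Projection
import Mathlib.GroupTheory.GroupAction.Quotient

set_option autoImplicit false

namespace Groth.Agent.H87.Theta

variable {k : Type*} [Field k] {Γ : Type*} [Group Γ]

namespace IsTheta

variable {ι : kˣ →* Γ} (h : IsTheta ι)
variable {W : Type*} [AddCommGroup W] [Module k W] (ρ : Representation k Γ W)
include h

omit h in
lemma conjF_ι (hw : IsW1 ι ρ) (π : W →ₗ[k] W) (x : Γ) (z : kˣ) :
    ρ (x * ι z) ∘ₗ π ∘ₗ ρ (x * ι z)⁻¹ = ρ x ∘ₗ π ∘ₗ ρ x⁻¹ := by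
  ext w
  simp only [LinearMap.comp_apply]
  rw [mul_inv_rev, map_mul, map_mul, Module.End.mul_apply, Module.End.mul_apply, ← map_inv, hw, hw]
  simp only [map_smul, smul_smul]
  rw [Units.val_inv_eq_inv_val, mul_inv_cancel₀ z.ne_zero, one_smul]

/-- Maschke's theorem for weight one representations -/
theorem exists_isCompl_subrep [Finite (Γ ⧸ ι.range)]
    (hcop : (Nat.card (Γ ⧸ ι.range)).Coprime (ringExpChar k))
    (hw : IsW1 ι ρ) (S : Subrepresentation ρ) :
    ∃ S' : Subrepresentation ρ, IsCompl S S' := by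
  classical
  have := Fintype.ofFinite (Γ ⧸ ι.range)
  have hn : ((Fintype.card (Γ ⧸ ι.range) : ℕ) : k) ≠ 0 := by
    rw [← Nat.card_eq_fintype_card]
    exact natCast_ne_zero_of_coprime k Nat.card_pos.ne' hcop dvd_rfl
  obtain ⟨p, hp⟩ := LinearMap.exists_leftInverse_of_injective S.toSubmodule.subtype
    S.toSubmodule.ker_subtype
  let π : W →ₗ[k] W := S.toSubmodule.subtype ∘ₗ p
  have hπS : ∀ u ∈ S.toSubmodule, π u = u := by
    intro u hu
    have := LinearMap.congr_fun hp ⟨u, hu⟩
    simp only [LinearMap.comp_apply, LinearMap.id_apply] at this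
    change ((p u : S.toSubmodule) : W) = u
    have h2 : p u = ⟨u, hu⟩ := this
    rw [h2]
  have hπmem : ∀ u, π u ∈ S.toSubmodule := fun u => (p u).2
  let F : Γ → Module.End k W := fun x => ρ x ∘ₗ π ∘ₗ ρ x⁻¹
  let Fbar : (Γ ⧸ ι.range) → Module.End k W := fun q =>
    Quotient.liftOn' q F (by
      intro a b hab
      rw [QuotientGroup.leftRel_apply] at hab
      obtain ⟨z, hz⟩ := hab
      have hb : b = a * ι z := by rw [hz, mul_inv_cancel_left]
      rw [hb]
      exact (conjF_ι ρ hw π a z).symm)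
  have hFbar : ∀ x : Γ, Fbar (x : Γ ⧸ ι.range) = F x := fun x => rfl
  have hconj : ∀ (g : Γ) (q : Γ ⧸ ι.range), ρ g * Fbar q * ρ g⁻¹ = Fbar (g • q) := by
    intro g q
    induction q using QuotientGroup.induction_on with
    | H x =>
    rw [MulAction.Quotient.smul_mk, hFbar, hFbar, smul_eq_mul]
    ext w
    simp only [F, LinearMap.comp_apply, mul_inv_rev, map_mul, Module.End.mul_apply]
  let Sg : Module.End k W := ∑ q, Fbar q
  have hSgconj : ∀ g : Γ, ρ g * Sg * ρ g⁻¹ = Sg := by
    intro g
    simp only [Sg]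
    rw [Finset.mul_sum, Finset.sum_mul, ← (MulAction.bijective g).sum_comp (fun q => Fbar q)]
    exact Finset.sum_congr rfl fun q _ => hconj g q
  have hSgcomm : ∀ (g : Γ) (w : W), Sg (ρ g w) = ρ g (Sg w) := by
    intro g w
    have := LinearMap.congr_fun (hSgconj g) (ρ g w)
    simp only [Module.End.mul_apply] at this
    rw [rho_inv_apply] at this
    exact this.symm
  have hFmem : ∀ q w, Fbar q w ∈ S.toSubmodule := by
    intro q w
    induction q using QuotientGroup.induction_on with
    | H x =>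
    rw [hFbar]
    exact S.apply_mem_toSubmodule x (hπmem _)
  have hFS : ∀ q, ∀ u ∈ S.toSubmodule, Fbar q u = u := by
    intro q u hu
    induction q using QuotientGroup.induction_on with
    | H x =>
    rw [hFbar]
    change ρ x (π (ρ x⁻¹ u)) = u
    rw [hπS _ (S.apply_mem_toSubmodule x⁻¹ hu), rho_apply_inv]
  let π' : Module.End k W := ((Fintype.card (Γ ⧸ ι.range) : ℕ) : k)⁻¹ • Sg
  have hπ'mem : ∀ w, π' w ∈ S.toSubmodule := by
    intro w
    simp only [π', Sg, LinearMap.smul_apply, LinearMap.sum_apply]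
    exact S.toSubmodule.smul_mem _ (S.toSubmodule.sum_mem fun q _ => hFmem q w)
  have hπ'S : ∀ u ∈ S.toSubmodule, π' u = u := by
    intro u hu
    simp only [π', Sg, LinearMap.smul_apply, LinearMap.sum_apply]
    rw [Finset.sum_congr rfl fun q _ => hFS q u hu, Finset.sum_const, Finset.card_univ,
      ← Nat.cast_smul_eq_nsmul k, smul_smul, inv_mul_cancel₀ hn, one_smul]
  have hπ'comm : ∀ (g : Γ) (w : W), π' (ρ g w) = ρ g (π' w) := by
    intro g w
    simp only [π', LinearMap.smul_apply, hSgcomm, map_smul]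
  let f : W →ₗ[k] S.toSubmodule := π'.codRestrict S.toSubmodule hπ'mem
  have hf : ∀ x : S.toSubmodule, f x = x := fun x => Subtype.ext (hπ'S x x.2)
  have hcompl := LinearMap.isCompl_of_proj hf
  let S' : Subrepresentation ρ :=
    { toSubmodule := LinearMap.ker f
      apply_mem_toSubmodule := by
        intro g w hw'
        rw [LinearMap.mem_ker] at hw' ⊢
        apply Subtype.ext
        have h0 : π' w = 0 := congrArg Subtype.val hw'
        change π' (ρ g w) = 0
        rw [hπ'comm, h0, map_zero] }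
  refine ⟨S', ?_⟩
  constructor
  · rw [disjoint_iff]
    apply Subrepresentation.toSubmodule_injective
    exact disjoint_iff.mp hcompl.1
  · rw [codisjoint_iff]
    apply Subrepresentation.toSubmodule_injective
    exact codisjoint_iff.mp hcompl.2

end IsTheta

end Groth.Agent.H87.Theta
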