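import Groth.Agent.H87.Theta6
import Mathlib.GroupTheory.OrderOfElement
import Mathlib.RingTheory.IntegralDomain

set_option autoImplicit false

namespace Groth.Agent.H87.Theta

open scoped commutatorElement

variable {k : Type*} [Field k] {Γ : Type*} [Group Γ]

namespace IsTheta

variable {ι : kˣ →* Γ} (h : IsTheta ι)
variable (H : Subgroup Γ) (hH : H ⊓ ι.range = ⊥)
include h hH

lemma level_comm (a b : Γ) (ha : a ∈ H) (hb : b ∈ H) : a * b = b * a := by
  have h1 : ⁅a, b⁆ ∈ H ⊓ ι.range := by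
    refine ⟨?_, h.comm_mem a b⟩
    rw [commutatorElement_def]
    exact H.mul_mem (H.mul_mem (H.mul_mem ha hb) (H.inv_mem ha)) (H.inv_mem hb)
  rw [hH, Subgroup.mem_bot] at h1
  exact commutatorElement_eq_one_iff_mul_comm.mp h1

omit h in
lemma level_inj (a b : Γ) (ha : a ∈ H) (hb : b ∈ H) (hab : a⁻¹ * b ∈ ι.range) : a = b := by
  have h1 : a⁻¹ * b ∈ H ⊓ ι.range := ⟨H.mul_mem (H.inv_mem ha) hb, hab⟩
  rw [hH, Subgroup.mem_bot] at h1
  exact inv_mul_eq_one.mp h1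

omit h in
lemma level_finite [Finite (Γ ⧸ ι.range)] : Finite H := by
  apply Finite.of_injective (fun b : H => ((b : Γ) : Γ ⧸ ι.range))
  intro a b hab
  apply Subtype.ext
  apply level_inj H hH _ _ a.2 b.2
  exact QuotientGroup.eq.mp hab

/-- the subgroup `H · kˣ` -/
def HN : Subgroup Γ :=
  have := h.normal
  H ⊔ ι.range

omit hH in
lemma mem_HN (x : Γ) : x ∈ h.HN H ↔ ∃ b ∈ H, ∃ z : kˣ, x = b * ι z := by
  have := h.normal
  unfold HN
  rw [Subgroup.mem_sup_of_normal_right]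
  constructor
  · rintro ⟨b, hb, _, ⟨z, rfl⟩, rfl⟩
    exact ⟨b, hb, z, rfl⟩
  · rintro ⟨b, hb, z, rfl⟩
    exact ⟨b, hb, _, ⟨z, rfl⟩, rfl⟩

omit hH in
lemma HN_normal : (h.HN H).Normal := by
  constructor
  intro y hy g
  have h1 : g * y * g⁻¹ = ⁅g, y⁆ * y := by rw [commutatorElement_def]; group
  rw [h1]
  refine (h.HN H).mul_mem ?_ hy
  rw [mem_HN]
  obtain ⟨z, hz⟩ := h.comm_mem g y
  exact ⟨1, H.one_mem, z, by rw [one_mul, hz]⟩

/-- an element centralizing a maximal level subgroup lies in `H · kˣ` -/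
theorem mem_HN_of_centralizes [IsAlgClosed k] [Finite (Γ ⧸ ι.range)]
    (hmax : ∀ H' : Subgroup Γ, H' ⊓ ι.range = ⊥ → H ≤ H' → H' = H)
    (x : Γ) (hx : ∀ b ∈ H, x * b = b * x) : x ∈ h.HN H := by
  have hNn := h.normal
  have hPn := h.HN_normal H
  have hNP : ι.range ≤ h.HN H := by
    rintro _ ⟨z, rfl⟩
    rw [mem_HN]; exact ⟨1, H.one_mem, z, by rw [one_mul]⟩
  have hHP : H ≤ h.HN H := by
    intro b hb
    rw [mem_HN]; exact ⟨b, hb, 1, by rw [map_one, mul_one]⟩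
  -- x ^ n ∈ kˣ
  have hxn : x ^ Nat.card (Γ ⧸ ι.range) ∈ ι.range := by
    rw [← QuotientGroup.eq_one_iff, QuotientGroup.mk_pow]
    exact pow_card_eq_one'
  set m := orderOf (x : Γ ⧸ h.HN H) with hm
  have hmpos : 0 < m := by
    rw [hm, orderOf_pos_iff, isOfFinOrder_iff_pow_eq_one]
    refine ⟨Nat.card (Γ ⧸ ι.range), Nat.card_pos, ?_⟩
    rw [← QuotientGroup.mk_pow, QuotientGroup.eq_one_iff]
    exact hNP hxn
  have hxm : x ^ m ∈ h.HN H := by
    rw [← QuotientGroup.eq_one_iff, QuotientGroup.mk_pow, hm]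
    exact pow_orderOf_eq_one _
  obtain ⟨a, ha, z, haz⟩ := (h.mem_HN H _).mp hxm
  obtain ⟨w, hw⟩ := IsAlgClosed.exists_pow_nat_eq ((z⁻¹ : kˣ) : k) hmpos
  have hw0 : w ≠ 0 := by
    intro h0
    rw [h0, zero_pow hmpos.ne'] at hw
    exact (z⁻¹).ne_zero hw.symm
  set wu : kˣ := Units.mk0 w hw0 with hwu
  have hwum : wu ^ m = z⁻¹ := by
    apply Units.ext
    rw [Units.val_pow_eq_pow_val, hwu, Units.val_mk0, hw]
  set x' := x * ι wu with hx'
  have hcomm_x_ι : Commute x (ι wu) := (h.central wu x).symm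
  have hx'm : x' ^ m = a := by
    rw [hx', hcomm_x_ι.mul_pow, haz, ← map_pow, hwum, mul_assoc, ← map_mul, mul_inv_cancel,
      map_one, mul_one]
  have hx'comm : ∀ b ∈ H, Commute x' b := by
    intro b hb
    have h1 : Commute x b := hx b hb
    have h2 : Commute (ι wu) b := h.central wu b
    exact h1.mul_left h2
  -- the subgroup generated by H and x'
  let H' : Subgroup Γ :=
    { carrier := {y | ∃ b ∈ H, ∃ j : ℤ, y = b * x' ^ j}
      mul_mem' := by
        rintro _ _ ⟨b, hb, j, rfl⟩ ⟨b', hb', j', rfl⟩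
        refine ⟨b * b', H.mul_mem hb hb', j + j', ?_⟩
        have hc : Commute (x' ^ j) b' := (hx'comm b' hb').zpow_left j
        rw [zpow_add, mul_assoc, ← mul_assoc (x' ^ j), hc.eq, mul_assoc, mul_assoc]
      one_mem' := ⟨1, H.one_mem, 0, by simp⟩
      inv_mem' := by
        rintro _ ⟨b, hb, j, rfl⟩
        refine ⟨b⁻¹, H.inv_mem hb, -j, ?_⟩
        have hc : Commute (x' ^ j) b := (hx'comm b hb).zpow_left j
        rw [mul_inv_rev, zpow_neg, ← hc.inv_inv.eq] }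
  have hH'mem : ∀ y, y ∈ H' ↔ ∃ b ∈ H, ∃ j : ℤ, y = b * x' ^ j := fun y => Iff.rfl
  have hHH' : H ≤ H' := fun b hb => ⟨b, hb, 0, by simp⟩
  have hH'level : H' ⊓ ι.range = ⊥ := by
    rw [eq_bot_iff]
    rintro y ⟨⟨b, hb, j, rfl⟩, hyN⟩
    rw [Subgroup.mem_bot]
    -- x'^j ∈ P
    have h1 : x' ^ j ∈ h.HN H := by
      have : x' ^ j = b⁻¹ * (b * x' ^ j) := by group
      rw [this]
      exact (h.HN H).mul_mem (hHP (H.inv_mem hb)) (hNP hyN)
    have h2 : x ^ j ∈ h.HN H := by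
      have : x ^ j = x' ^ j * ι (wu ^ (-j)) := by
        rw [hx', hcomm_x_ι.mul_zpow, mul_assoc, ← map_zpow, ← map_mul, ← zpow_add, add_neg_cancel,
          zpow_zero, map_one, mul_one]
      rw [this]
      exact (h.HN H).mul_mem h1 (hNP ⟨_, rfl⟩)
    have h3 : (m : ℤ) ∣ j := by
      rw [hm, orderOf_dvd_iff_zpow_eq_one, ← QuotientGroup.mk_zpow, QuotientGroup.eq_one_iff]
      exact h2
    obtain ⟨q, rfl⟩ := h3
    have h4 : x' ^ ((m : ℤ) * q) = a ^ q := by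
      rw [zpow_mul, zpow_natCast, hx'm]
    rw [h4] at hyN ⊢
    have h5 : b * a ^ q ∈ H ⊓ ι.range := ⟨H.mul_mem hb (H.zpow_mem ha q), hyN⟩
    rw [hH, Subgroup.mem_bot] at h5
    exact h5
  have hH'H := hmax H' hH'level hHH'
  have hx'H : x' ∈ H := by
    rw [← hH'H]
    exact ⟨1, H.one_mem, 1, by simp⟩
  rw [mem_HN]
  refine ⟨x', hx'H, wu⁻¹, ?_⟩
  rw [hx', mul_assoc, ← map_mul, mul_inv_cancel, map_one, mul_one]

end IsTheta

end Groth.Agent.H87.Theta
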