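import Groth.Agent.H87.Theta7
import Mathlib.RepresentationTheory.Invariants

set_option autoImplicit false

namespace Groth.Agent.H87.Theta

open scoped commutatorElement

variable {k : Type*} [Field k] {Γ : Type*} [Group Γ]

namespace IsTheta

variable {ι : kˣ →* Γ} (h : IsTheta ι)
variable {V : Type*} [AddCommGroup V] [Module k V] (ρ : Representation k Γ V)
variable (H : Subgroup Γ)
include h

lemma rho_comm_op (hw : IsW1 ι ρ) (g x : Γ) :
    ρ g * ρ x = ((h.e g x : kˣ) : k) • (ρ x * ρ g) := by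
  ext v
  simp only [Module.End.mul_apply, LinearMap.smul_apply]
  exact h.rho_comm ρ hw g x v

omit h in
lemma rho_ι_op (hw : IsW1 ι ρ) (z : kˣ) : ρ (ι z) = ((z : kˣ) : k) • (1 : Module.End k V) := by
  ext v
  simp only [LinearMap.smul_apply, Module.End.one_apply]
  exact hw z v

section eH

variable [Fintype H]

/-- the (unnormalized) averaging operator over `H` -/
def eH : Module.End k V := ∑ b : H, ρ (b : Γ)

omit h in
lemma rho_mul_eH (a : Γ) (ha : a ∈ H) : ρ a * eH ρ H = eH ρ H := by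
  unfold eH
  rw [Finset.mul_sum]
  rw [← (Group.mulLeft_bijective (⟨a, ha⟩ : H)).sum_comp (fun b : H => ρ (b : Γ))]
  refine Finset.sum_congr rfl fun b _ => ?_
  rw [← map_mul]
  rfl

lemma eH_rho_eH (hw : IsW1 ι ρ) (x : Γ) :
    eH ρ H * ρ x * eH ρ H = (∑ b : H, ((h.e (b : Γ) x : kˣ) : k)) • (ρ x * eH ρ H) := by
  have h1 : eH ρ H * ρ x = ∑ b : H, ((h.e (b : Γ) x : kˣ) : k) • (ρ x * ρ (b : Γ)) := by
    unfold eH
    rw [Finset.sum_mul]
    exact Finset.sum_congr rfl fun b _ => h.rho_comm_op ρ hw b x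
  rw [h1, Finset.sum_mul, Finset.sum_smul]
  refine Finset.sum_congr rfl fun b _ => ?_
  rw [smul_mul_assoc, mul_assoc, rho_mul_eH ρ H b b.2]

end eH

variable (hH : H ⊓ ι.range = ⊥)
include hH

lemma sum_e_eq_zero [IsAlgClosed k] [Finite (Γ ⧸ ι.range)] [Fintype H]
    (hmax : ∀ H' : Subgroup Γ, H' ⊓ ι.range = ⊥ → H ≤ H' → H' = H)
    (x : Γ) (hx : x ∉ h.HN H) : ∑ b : H, ((h.e (b : Γ) x : kˣ) : k) = 0 := by
  let f : H →* k := (Units.coeHom k).comp ((h.eR x).comp H.subtype)
  have hf : f ≠ 1 := by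
    intro h1
    apply hx
    apply h.mem_HN_of_centralizes H hH hmax
    intro b hb
    have h2 := DFunLike.congr_fun h1 ⟨b, hb⟩
    simp only [f, MonoidHom.coe_comp, Function.comp_apply, Subgroup.coe_subtype, eR_apply,
      Units.coeHom_apply, MonoidHom.one_apply, Units.val_eq_one] at h2
    exact ((h.e_eq_one_iff b x).mp h2).symm
  exact sum_hom_units_eq_zero f hf

lemma exists_eH_rho_eH [IsAlgClosed k] [Finite (Γ ⧸ ι.range)] [Fintype H]
    (hmax : ∀ H' : Subgroup Γ, H' ⊓ ι.range = ⊥ → H ≤ H' → H' = H)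
    (hw : IsW1 ι ρ) (x : Γ) : ∃ c : k, eH ρ H * ρ x * eH ρ H = c • eH ρ H := by
  by_cases hx : x ∈ h.HN H
  · obtain ⟨a, ha, z, rfl⟩ := (h.mem_HN H x).mp hx
    refine ⟨(∑ b : H, ((h.e (b : Γ) (a * ι z) : kˣ) : k)) * (z : k), ?_⟩
    rw [h.eH_rho_eH ρ H hw, map_mul, rho_ι_op ρ hw, mul_smul_comm, mul_one, smul_mul_assoc,
      rho_mul_eH ρ H a ha, smul_smul]
  · refine ⟨0, ?_⟩
    rw [h.eH_rho_eH ρ H hw, h.sum_e_eq_zero H hH hmax x hx, zero_smul, zero_smul]

lemma exists_eH_mul_eH [IsAlgClosed k] [Finite (Γ ⧸ ι.range)] [Fintype H]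
    [FiniteDimensional k V] [ρ.IsIrreducible]
    (hmax : ∀ H' : Subgroup Γ, H' ⊓ ι.range = ⊥ → H ≤ H' → H' = H)
    (hw : IsW1 ι ρ) (T : Module.End k V) : ∃ c : k, eH ρ H * T * eH ρ H = c • eH ρ H := by
  have hT : T ∈ Submodule.span k (Set.range ρ) := by
    rw [span_range_eq_top ρ]; exact Submodule.mem_top
  induction hT using Submodule.span_induction with
  | mem T hT =>
    obtain ⟨x, rfl⟩ := hT
    exact h.exists_eH_rho_eH ρ H hH hmax hw x
  | zero => exact ⟨0, by simp⟩
  | add T T' _ _ hT hT' =>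
    obtain ⟨c, hc⟩ := hT
    obtain ⟨c', hc'⟩ := hT'
    exact ⟨c + c', by rw [mul_add, add_mul, hc, hc', add_smul]⟩
  | smul a T _ hT =>
    obtain ⟨c, hc⟩ := hT
    exact ⟨a * c, by rw [mul_smul_comm, smul_mul_assoc, hc, smul_smul]⟩

lemma eH_ne_zero [Fintype H] [Nontrivial V] (hw : IsW1 ι ρ) : eH ρ H ≠ 0 := by
  intro h0
  have hli := h.linearIndependent_of_injective_mod ρ hw (fun b : H => (b : Γ))
    (fun a b hab => Subtype.ext (level_inj H hH _ _ a.2 b.2 hab))
  rw [Fintype.linearIndependent_iff] at hli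
  have := hli (fun _ => (1 : k)) (by simpa [eH] using h0) 1
  exact one_ne_zero this

omit h hH in
lemma eH_apply_of_mem [Fintype H] (v : V)
    (hv : v ∈ Representation.invariants (ρ.comp H.subtype)) :
    eH ρ H v = ((Fintype.card H : ℕ) : k) • v := by
  unfold eH
  rw [LinearMap.sum_apply]
  have : ∀ b : H, ρ (b : Γ) v = v := fun b => hv b
  rw [Finset.sum_congr rfl fun b _ => this b, Finset.sum_const, Finset.card_univ,
    Nat.cast_smul_eq_nsmul]

omit h hH in
lemma eH_apply_mem [Fintype H] (w : V) :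
    eH ρ H w ∈ Representation.invariants (ρ.comp H.subtype) := by
  intro a
  change ρ (a : Γ) (eH ρ H w) = eH ρ H w
  rw [← Module.End.mul_apply, rho_mul_eH ρ H a a.2]

omit h in
lemma card_H_ne_zero [Finite (Γ ⧸ ι.range)] [Fintype H] (hn : (ι.range).Normal)
    (hcop : (Nat.card (Γ ⧸ ι.range)).Coprime (ringExpChar k)) :
    ((Fintype.card H : ℕ) : k) ≠ 0 := by
  rw [← Nat.card_eq_fintype_card]
  apply natCast_ne_zero_of_coprime k Nat.card_pos.ne' hcop
  apply Subgroup.card_dvd_of_injective ((QuotientGroup.mk' ι.range).comp H.subtype)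
  intro a b hab
  apply Subtype.ext
  apply level_inj H hH _ _ a.2 b.2
  exact QuotientGroup.eq.mp hab

/-- the invariants of a maximal level subgroup in an irreducible weight one representation are
one-dimensional -/
theorem finrank_invariants_eq_one [IsAlgClosed k] [Finite (Γ ⧸ ι.range)]
    (hcop : (Nat.card (Γ ⧸ ι.range)).Coprime (ringExpChar k))
    [FiniteDimensional k V] [ρ.IsIrreducible]
    (hmax : ∀ H' : Subgroup Γ, H' ⊓ ι.range = ⊥ → H ≤ H' → H' = H)
    (hw : IsW1 ι ρ) :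
    Module.finrank k (Representation.invariants (ρ.comp H.subtype)) = 1 := by
  have := level_finite H hH
  have := Fintype.ofFinite H
  have := nontrivial_of_irreducible ρ
  have hN := card_H_ne_zero (k := k) H hH h.normal hcop
  set N : k := ((Fintype.card H : ℕ) : k) with hNdef
  have he0 := h.eH_ne_zero ρ H hH hw
  obtain ⟨w0, hw0⟩ : ∃ w0, eH ρ H w0 ≠ 0 := by
    by_contra hall
    push Not at hall
    exact he0 (LinearMap.ext hall)
  set v0 := eH ρ H w0 with hv0
  have hv0mem : v0 ∈ Representation.invariants (ρ.comp H.subtype) := eH_apply_mem ρ H w0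
  obtain ⟨φ, hφ⟩ : ∃ φ : Module.Dual k V, φ v0 ≠ 0 := by
    by_contra hall
    push Not at hall
    exact hw0 ((Module.forall_dual_apply_eq_zero_iff k _).mp hall)
  have key : ∀ v' ∈ Representation.invariants (ρ.comp H.subtype), ∃ c : k, c • v0 = v' := by
    intro v' hv'
    let T : Module.End k V := ((φ v0)⁻¹ • φ).smulRight v'
    have hT : T v0 = v' := by
      simp only [T, LinearMap.smulRight_apply, LinearMap.smul_apply, smul_eq_mul,
        inv_mul_cancel₀ hφ, one_smul]
    obtain ⟨c, hc⟩ := h.exists_eH_mul_eH ρ H hH hmax hw T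
    have h1 := LinearMap.congr_fun hc v0
    simp only [Module.End.mul_apply, LinearMap.smul_apply] at h1
    rw [eH_apply_of_mem ρ H v0 hv0mem, map_smul, hT, map_smul, eH_apply_of_mem ρ H v' hv',
      smul_smul, smul_smul] at h1
    refine ⟨(N * N)⁻¹ * (c * N), ?_⟩
    rw [← smul_smul, ← h1, smul_smul, inv_mul_cancel₀ (mul_ne_zero hN hN), one_smul]
  rw [finrank_eq_one_iff_of_nonzero' (⟨v0, hv0mem⟩ : Representation.invariants (ρ.comp H.subtype))
    (fun h0 => hw0 (congrArg Subtype.val h0))]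
  intro w
  obtain ⟨c, hc⟩ := key w w.2
  exact ⟨c, Subtype.ext hc⟩

end IsTheta

end Groth.Agent.H87.Theta
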