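import Groth.Agent.H87.Theta8
import Groth.Agent.H87.InvDecomp

set_option autoImplicit false

universe u

namespace Groth.Agent.H87.Theta

variable {k : Type*} [Field k] {Γ : Type*} [Group Γ]

namespace IsTheta

variable {ι : kˣ →* Γ} (h : IsTheta ι)
include h

/-- every weight one representation is a sum of `dim W^H` copies of the irreducible one:
dimension count -/
theorem finrank_eq_invariants_mul [IsAlgClosed k] [Finite (Γ ⧸ ι.range)]
    (hcop : (Nat.card (Γ ⧸ ι.range)).Coprime (ringExpChar k))
    {V : Type*} [AddCommGroup V] [Module k V] [FiniteDimensional k V]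
    (ρV : Representation k Γ V) [ρV.IsIrreducible] (hV : IsW1 ι ρV)
    (H : Subgroup Γ) (hH : H ⊓ ι.range = ⊥)
    (hmax : ∀ H' : Subgroup Γ, H' ⊓ ι.range = ⊥ → H ≤ H' → H' = H) :
    ∀ (n : ℕ) (W : Type u) [AddCommGroup W] [Module k W] [FiniteDimensional k W]
      (ρW : Representation k Γ W), IsW1 ι ρW → Module.finrank k W = n →
      Module.finrank k W =
        Module.finrank k (Representation.invariants (ρW.comp H.subtype)) * Module.finrank k V := by
  intro n
  induction n using Nat.strong_induction_on with
  | _ n ih =>
  intro W _ _ _ ρW hW hn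
  by_cases hnt : Nontrivial W
  · obtain ⟨S, hS0, hSatom⟩ := exists_atom_subrep ρW
    have hirr := isIrreducible_of_atom ρW S hS0 hSatom
    obtain ⟨S', hc⟩ := h.exists_isCompl_subrep ρW hcop hW S
    have hc' := isCompl_toSubmodule ρW hc
    have h1 : Module.finrank k S.toSubmodule + Module.finrank k S'.toSubmodule =
        Module.finrank k W := Submodule.finrank_add_eq_of_isCompl hc'
    obtain ⟨E⟩ := h.exists_equiv S.toRepresentation ρV hcop (isW1_sub hW S) hV
    have h2 : Module.finrank k S.toSubmodule = Module.finrank k V := E.toLinearEquiv.finrank_eq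
    have h3 := h.finrank_invariants_eq_one S.toRepresentation H hH hcop hmax (isW1_sub hW S)
    have hVnt := nontrivial_of_irreducible ρV
    have hSpos : 0 < Module.finrank k S.toSubmodule := by rw [h2]; exact Module.finrank_pos
    have h4 := ih (Module.finrank k S'.toSubmodule) (by omega) S'.toSubmodule S'.toRepresentation
      (isW1_sub hW S') rfl
    have h5 := finrank_invariants_add ρW hc H.subtype
    rw [h5, h3, ← h1, h2, h4]
    ring
  · rw [not_nontrivial_iff_subsingleton] at hnt
    rw [Module.finrank_zero_of_subsingleton, Module.finrank_zero_of_subsingleton, zero_mul]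

end IsTheta

end Groth.Agent.H87.Theta
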