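import Groth.Agent.H87.ThickInjAlg2
import Groth.Agent.H44.ConormalAlg4

/-!
# The conormal module of a universal thickening of an lci algebra is finite projective (helper87)
-/

set_option autoImplicit false
universe u
open TensorProduct

namespace Groth.Agent.H87.ThickInjAlg

open Groth.Agent.H44

section FPAbstract
variable {R₀ P B' B : Type u} [CommRing R₀] [CommRing P] [CommRing B'] [CommRing B]
  (ρP : R₀ →+* P) (ρB : R₀ →+* B') (πB : B' →+* B) (p₀ : P →+* B')
  (hp₀ρ : p₀.comp ρP = ρB)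
  (hsqB : ∀ x y : B', πB x = 0 → πB y = 0 → x * y = 0)
  (UPE : ∀ {C Cb : Type u} [CommRing C] [CommRing Cb] (τ : C →+* Cb), Function.Surjective τ →
    (∀ x y, τ x = 0 → τ y = 0 → x * y = 0) → ∀ (α : B →+* Cb) (β : R₀ →+* C),
      τ.comp β = α.comp (πB.comp ρB) →
      ∃ θ : B' →+* C, τ.comp θ = α.comp πB ∧ θ.comp ρB = β)
  (UPU : ∀ {C Cb : Type u} [CommRing C] [CommRing Cb] (τ : C →+* Cb), Function.Surjective τ →
    (∀ x y, τ x = 0 → τ y = 0 → x * y = 0) → ∀ (α : B →+* Cb) (θ₁ θ₂ : B' →+* C),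
      τ.comp θ₁ = α.comp πB → τ.comp θ₂ = α.comp πB →
      θ₁.comp ρB = θ₂.comp ρB → θ₁ = θ₂)

include hp₀ρ hsqB UPE UPU in
theorem fp_abstract (hπB : Function.Surjective πB) (hlam : Function.Surjective (πB.comp p₀))
    {c : ℕ} (fA : Fin c → P) (hfA : CAlgX.IsH1Regular fA)
    (hker : RingHom.ker (πB.comp p₀) = Ideal.span (Set.range fA)) :
    letI := πB.toAlgebra
    Module.Finite B (B ⊗[B'] (RingHom.ker (algebraMap B' B))) ∧
      Module.Projective B (B ⊗[B'] (RingHom.ker (algebraMap B' B))) := by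
  letI algB'B : Algebra B' B := πB.toAlgebra
  letI algPB : Algebra P B := (πB.comp p₀).toAlgebra
  set K : Ideal P := RingHom.ker (πB.comp p₀) with hK
  -- `T = P / K²`
  have hp₀K : ∀ a ∈ K, πB (p₀ a) = 0 := fun a ha => ha
  have hp₀K2 : ∀ a ∈ K ^ 2, p₀ a = 0 := by
    intro a ha
    rw [pow_two] at ha
    refine Submodule.mul_induction_on ha ?_ ?_
    · intro x hx y hy
      rw [map_mul]
      exact hsqB _ _ (hp₀K x hx) (hp₀K y hy)
    · intro x y hx hy
      rw [map_add, hx, hy, add_zero]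
  let T := P ⧸ K ^ 2
  let p : T →+* B' := Ideal.Quotient.lift (K ^ 2) p₀ hp₀K2
  let τ : T →+* B := πB.comp p
  have hτmk : ∀ a : P, τ (Ideal.Quotient.mk (K ^ 2) a) = πB (p₀ a) := fun a => rfl
  have hτsurj : Function.Surjective τ := by
    intro b
    obtain ⟨a, ha⟩ := hlam b
    exact ⟨Ideal.Quotient.mk _ a, ha⟩
  have hτsq : ∀ u v : T, τ u = 0 → τ v = 0 → u * v = 0 := by
    intro u v hu hv
    obtain ⟨u₀, rfl⟩ := Ideal.Quotient.mk_surjective u
    obtain ⟨v₀, rfl⟩ := Ideal.Quotient.mk_surjective v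
    rw [← map_mul, Ideal.Quotient.eq_zero_iff_mem, pow_two]
    exact Ideal.mul_mem_mul hu hv
  -- the lift `θ`
  obtain ⟨θ, hθτ, hθρ⟩ := UPE τ hτsurj hτsq (RingHom.id B)
    ((Ideal.Quotient.mk (K ^ 2)).comp ρP) (by
      ext r
      change πB (p₀ (ρP r)) = πB (ρB r)
      rw [← hp₀ρ]
      rfl)
  have hpθ : p.comp θ = RingHom.id B' := by
    refine UPU πB hπB hsqB (RingHom.id B) (p.comp θ) (RingHom.id B') ?_ rfl ?_
    · rw [← RingHom.comp_assoc]
      exact hθτ
    · rw [RingHom.comp_assoc, hθρ, ← RingHom.comp_assoc]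
      ext r
      change p₀ (ρP r) = ρB r
      rw [← hp₀ρ]
      rfl
  -- algebra structures
  letI algTB : Algebra T B := τ.toAlgebra
  letI algB'T : Algebra B' T := θ.toAlgebra
  letI algTB' : Algebra T B' := p.toAlgebra
  haveI tow1 : IsScalarTower P T B := IsScalarTower.of_algebraMap_eq (fun x => rfl)
  haveI tow2 : IsScalarTower B' T B :=
    IsScalarTower.of_algebraMap_eq (fun x => (RingHom.congr_fun hθτ x).symm)
  haveI tow3 : IsScalarTower T B' B := IsScalarTower.of_algebraMap_eq (fun x => rfl)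
  have hPB : Function.Surjective (algebraMap P B) := hlam
  have hPT : Function.Surjective (algebraMap P T) := Ideal.Quotient.mk_surjective
  have hTB : Function.Surjective (algebraMap T B) := hτsurj
  obtain ⟨hfin, hfree⟩ := conormal_finite_free_of_isH1Regular hPB fA hfA hker
  -- `cn(P) ≃ cn(T)`
  have hbij : Function.Bijective (conormalMap P T B) := by
    refine ⟨?_, conormalMap_surjective_of_surjective hPT hTB⟩
    rw [injective_iff_map_eq_zero]
    intro t ht
    obtain ⟨x, hx, rfl⟩ := exists_of_conormalMap_eq_zero hPT hTB t ht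
    rw [one_tmul_eq_zero_iff hPB]
    have hx' : x ∈ K ^ 2 := by
      have : Ideal.Quotient.mk (K ^ 2) x = 0 := hx
      rwa [Ideal.Quotient.eq_zero_iff_mem] at this
    exact hx'
  let Φ := LinearEquiv.ofBijective (conormalMap P T B) hbij
  haveI hfinT : Module.Finite B (B ⊗[T] (RingHom.ker (algebraMap T B))) := Module.Finite.equiv Φ
  haveI hprojT : Module.Projective B (B ⊗[T] (RingHom.ker (algebraMap T B))) :=
    Module.Projective.of_equiv Φ
  -- the retraction
  have hretr : (conormalMap T B' B) ∘ₗ (conormalMap B' T B) = LinearMap.id := by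
    apply TensorProduct.AlgebraTensorModule.ext
    intro b x
    rw [LinearMap.comp_apply, conormalMap_tmul, conormalMap_tmul, LinearMap.id_apply]
    congr 1
    apply Subtype.ext
    exact RingHom.congr_fun hpθ x
  have hsurj : Function.Surjective (conormalMap T B' B) := fun y =>
    ⟨conormalMap B' T B y, LinearMap.congr_fun hretr y⟩
  exact ⟨Module.Finite.of_surjective _ hsurj, Module.Projective.of_split _ _ hretr⟩

end FPAbstract

section FPLocalized
variable {R₀ B₀ B'₀ B B' : Type u} [CommRing R₀] [CommRing B₀] [CommRing B'₀] [CommRing B]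
  [CommRing B'] [Algebra R₀ B₀] [Algebra B₀ B]
  {n : ℕ} (φ : MvPolynomial (Fin n) R₀ →ₐ[R₀] B₀) (hφ : Function.Surjective φ)
  (g : MvPolynomial (Fin n) R₀) (l : List (Localization.Away g))
  (hl : LCI.IsKoszulRegularSeq (Localization.Away g) l)
  (hker : (RingHom.ker φ.toRingHom).map (algebraMap _ (Localization.Away g)) =
    Ideal.span {x | x ∈ l})
  [IsLocalization.Away (φ.toRingHom g) B]
  (ρ'₀ : R₀ →+* B'₀) (πB₀ : B'₀ →+* B₀) (hπB₀ : Function.Surjective πB₀)
  (hπρ : πB₀.comp ρ'₀ = algebraMap R₀ B₀)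
  (res' : B'₀ →+* B') (πB : B' →+* B) (hπB : Function.Surjective πB)
  (hsquare : πB.comp res' = (algebraMap B₀ B).comp πB₀)
  (hunit : ∀ b : B'₀, πB₀ b = φ g → IsUnit (res' b))
  (hsqB : ∀ x y : B', πB x = 0 → πB y = 0 → x * y = 0)
  (UPE : ∀ {C Cb : Type u} [CommRing C] [CommRing Cb] (τ : C →+* Cb), Function.Surjective τ →
    (∀ x y, τ x = 0 → τ y = 0 → x * y = 0) → ∀ (α : B →+* Cb) (β : R₀ →+* C),
      τ.comp β = α.comp (πB.comp (res'.comp ρ'₀)) →
      ∃ θ : B' →+* C, τ.comp θ = α.comp πB ∧ θ.comp (res'.comp ρ'₀) = β)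
  (UPU : ∀ {C Cb : Type u} [CommRing C] [CommRing Cb] (τ : C →+* Cb), Function.Surjective τ →
    (∀ x y, τ x = 0 → τ y = 0 → x * y = 0) → ∀ (α : B →+* Cb) (θ₁ θ₂ : B' →+* C),
      τ.comp θ₁ = α.comp πB → τ.comp θ₂ = α.comp πB →
      θ₁.comp (res'.comp ρ'₀) = θ₂.comp (res'.comp ρ'₀) → θ₁ = θ₂)

include hφ hl hker hπB₀ hπρ hπB hsquare hunit hsqB UPE UPU in
theorem fp_localized :
    letI := πB.toAlgebra
    Module.Finite B (B ⊗[B'] (RingHom.ker (algebraMap B' B))) ∧
      Module.Projective B (B ⊗[B'] (RingHom.ker (algebraMap B' B))) := by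
  classical
  let Q := MvPolynomial (Fin n) R₀
  let P := Localization.Away g
  let lifts : Fin n → B'₀ := fun k => (hπB₀ (φ (MvPolynomial.X k))).choose
  have hlifts : ∀ k, πB₀ (lifts k) = φ (MvPolynomial.X k) := fun k =>
    (hπB₀ (φ (MvPolynomial.X k))).choose_spec
  let q₀ : Q →+* B'₀ := MvPolynomial.eval₂Hom ρ'₀ lifts
  have hq₀ : πB₀.comp q₀ = φ.toRingHom := by
    apply MvPolynomial.ringHom_ext
    · intro r
      change πB₀ (MvPolynomial.eval₂Hom ρ'₀ lifts (MvPolynomial.C r)) = φ (MvPolynomial.C r)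
      rw [MvPolynomial.eval₂Hom_C]
      have h1 : πB₀ (ρ'₀ r) = algebraMap R₀ B₀ r := RingHom.congr_fun hπρ r
      rw [h1]
      exact (φ.commutes r).symm
    · intro k
      change πB₀ (MvPolynomial.eval₂Hom ρ'₀ lifts (MvPolynomial.X k)) = φ (MvPolynomial.X k)
      rw [MvPolynomial.eval₂Hom_X']
      exact hlifts k
  have hu : IsUnit ((res'.comp q₀) g) := hunit _ (RingHom.congr_fun hq₀ g)
  let p₀ : P →+* B' := IsLocalization.Away.lift g hu
  have hp₀alg : ∀ q : Q, p₀ (algebraMap Q P q) = res' (q₀ q) := fun q =>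
    IsLocalization.Away.lift_eq g hu q
  have hp₀ρ : p₀.comp (algebraMap R₀ P) = res'.comp ρ'₀ := by
    ext r
    change p₀ (algebraMap R₀ P r) = res' (ρ'₀ r)
    rw [IsScalarTower.algebraMap_apply R₀ Q P, hp₀alg]
    change res' (MvPolynomial.eval₂Hom ρ'₀ lifts (MvPolynomial.C r)) = _
    rw [MvPolynomial.eval₂Hom_C]
  have hlameq : πB.comp p₀ = IsLocalization.Away.map P B φ.toRingHom g := by
    apply IsLocalization.ringHom_ext (Submonoid.powers g)
    refine RingHom.ext fun q => ?_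
    change πB (p₀ (algebraMap Q P q)) = IsLocalization.Away.map P B φ.toRingHom g (algebraMap Q P q)
    rw [hp₀alg]
    have h1 : πB (res' (q₀ q)) = algebraMap B₀ B (πB₀ (q₀ q)) := RingHom.congr_fun hsquare (q₀ q)
    have h2 : πB₀ (q₀ q) = φ.toRingHom q := RingHom.congr_fun hq₀ q
    rw [h1, h2]
    exact (IsLocalization.map_eq _ q).symm
  have hlam : Function.Surjective (πB.comp p₀) := by
    rw [hlameq]
    exact awayMap_surjective P B φ.toRingHom hφ g
  have hker' : RingHom.ker (πB.comp p₀) = Ideal.span (Set.range l.get) := by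
    rw [hlameq, ker_awayMap P B φ.toRingHom g, hker]
    congr 1
    ext b
    constructor
    · intro hb
      obtain ⟨k, rfl⟩ := List.mem_iff_get.mp hb
      exact ⟨k, rfl⟩
    · rintro ⟨k, rfl⟩
      exact List.get_mem l k
  exact fp_abstract (algebraMap R₀ P) (res'.comp ρ'₀) πB p₀ hp₀ρ hsqB UPE UPU hπB hlam l.get
    (Groth.Agent.H94.KoszulH1.isH1Regular_of_isKoszulRegularSeq l hl) hker'

end FPLocalized

end Groth.Agent.H87.ThickInjAlg
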