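import Groth.Agent.H87.ThickFPAlg
import Groth.Agent.H87.ChartUP
import Groth.Agent.H39.KoszulAtForall
import Groth.Agent.H44.ConormalChart
import Groth.Agent.H44.LocFree
import Groth.Agent.H44.ConormalSeq

/-!
# The conormal sheaf of the universal thickening of an lci morphism is finite locally free (helper87)
-/

set_option autoImplicit false
universe u
open CategoryTheory Limits Opposite AlgebraicGeometry TopologicalSpace TensorProduct

namespace Groth.Agent.H87.ConormalThick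

open Groth.Agent.H44 Groth.Agent.H87.ThickInjAlg

variable {X Y X' : Scheme.{u}} {f : X ⟶ Y} {i : X ⟶ X'} {h' : X' ⟶ Y}

set_option maxHeartbeats 4000000 in
theorem conormal_chart_fp (hu : OmegaSh.IsUnivThickening f i h') [IsClosedImmersion i]
    {U : Y.Opens} (hU : IsAffineOpen U) {W'₀ : X'.Opens} (hW'₀ : IsAffineOpen W'₀)
    (le₀ : W'₀ ≤ h' ⁻¹ᵁ U)
    (hlci : Groth.Agent.H39.LCIMor.IsLCIHom
      ((i ≫ h').appLE U (i ⁻¹ᵁ W'₀) (i.preimage_mono le₀)).hom) (x : X) (hx : x ∈ i ⁻¹ᵁ W'₀) :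
    ∃ V : X.Opens, IsAffineOpen V ∧ x ∈ V ∧ Module.Finite Γ(X, V) Γ(Omega.conormal i, V) ∧
      Module.Projective Γ(X, V) Γ(Omega.conormal i, V) := by
  have hW₀ : IsAffineOpen (i ⁻¹ᵁ W'₀) := hW'₀.preimage i
  letI algRB₀ : Algebra Γ(Y, U) Γ(X, i ⁻¹ᵁ W'₀) :=
    ((i ≫ h').appLE U (i ⁻¹ᵁ W'₀) (i.preimage_mono le₀)).hom.toAlgebra
  obtain ⟨-, n, φ, hφ, hKos⟩ := hlci
  -- the prime at `x`
  let germ : Γ(X, i ⁻¹ᵁ W'₀) →+* X.presheaf.stalk x := (X.presheaf.germ (i ⁻¹ᵁ W'₀) x hx).hom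
  let 𝔮 : Ideal Γ(X, i ⁻¹ᵁ W'₀) := (IsLocalRing.maximalIdeal (X.presheaf.stalk x)).comap germ
  haveI h𝔮p : 𝔮.IsPrime := Ideal.comap_isPrime _ _
  have h𝔮 : ∀ s : Γ(X, i ⁻¹ᵁ W'₀), s ∉ 𝔮 ↔ x ∈ X.basicOpen s := by
    intro s
    rw [X.mem_basicOpen s x hx]
    change ¬ (germ s ∈ IsLocalRing.maximalIdeal _) ↔ _
    rw [IsLocalRing.mem_maximalIdeal, mem_nonunits_iff, not_not]
  let 𝔭 : PrimeSpectrum (MvPolynomial (Fin n) Γ(Y, U)) := ⟨𝔮.comap φ.toRingHom, inferInstance⟩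
  have hk : RingHom.ker φ.toRingHom ≤ 𝔭.asIdeal := by
    intro y hy
    change φ.toRingHom y ∈ 𝔮
    rw [RingHom.mem_ker.1 hy]
    exact 𝔮.zero_mem
  obtain ⟨g, hg, l, hl, hker⟩ := hKos 𝔭 hk
  have hxg : x ∈ X.basicOpen (φ.toRingHom g) := (h𝔮 _).1 hg
  -- lifting `φ g`
  have hπB₀ : Function.Surjective (i.appLE W'₀ (i ⁻¹ᵁ W'₀) le_rfl).hom := by
    rw [Scheme.Hom.appLE_eq_app]
    exact i.app_surjective W'₀ hW'₀
  obtain ⟨g', hg'⟩ := hπB₀ (φ.toRingHom g)
  have hW' : IsAffineOpen (X'.basicOpen g') := hW'₀.basicOpen g'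
  have hW : IsAffineOpen (X.basicOpen (φ.toRingHom g)) := hW₀.basicOpen _
  have hWeq : i ⁻¹ᵁ (X'.basicOpen g') = X.basicOpen (φ.toRingHom g) := by
    rw [Scheme.preimage_basicOpen, ← hg', Scheme.Hom.appLE_eq_app]
  have le : X.basicOpen (φ.toRingHom g) ≤ i ⁻¹ᵁ (X'.basicOpen g') := hWeq.ge
  have ge : i ⁻¹ᵁ (X'.basicOpen g') ≤ X.basicOpen (φ.toRingHom g) := hWeq.le
  have le' : X'.basicOpen g' ≤ h' ⁻¹ᵁ U := (X'.basicOpen_le g').trans le₀
  refine ⟨X.basicOpen (φ.toRingHom g), hW, hxg, ?_⟩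
  haveI hloc : IsLocalization.Away (φ.toRingHom g) Γ(X, X.basicOpen (φ.toRingHom g)) :=
    hW₀.isLocalization_basicOpen _
  -- square-zero
  have hsq₀ : ∀ a b : Γ(X', W'₀), (i.appLE W'₀ (i ⁻¹ᵁ W'₀) le_rfl).hom a = 0 →
      (i.appLE W'₀ (i ⁻¹ᵁ W'₀) le_rfl).hom b = 0 → a * b = 0 := by
    intro a b ha hb
    rw [Scheme.Hom.appLE_eq_app] at ha hb
    exact Groth.Agent.H49.IsFirstOrderThickening.mul_eq_zero hu.1 ⟨W'₀, hW'₀⟩ a b ha hb
  have hinj : ∀ z : Γ(X', X'.basicOpen g'),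
      (i.appLE (X'.basicOpen g') (X.basicOpen (φ.toRingHom g)) le).hom z = 0 →
      (i.app (X'.basicOpen g')).hom z = 0 := by
    intro z hz
    have h1 : i.appLE (X'.basicOpen g') (X.basicOpen (φ.toRingHom g)) le ≫
        X.presheaf.map (homOfLE ge).op = i.app (X'.basicOpen g') := by
      rw [Scheme.Hom.appLE_map, Scheme.Hom.appLE_eq_app]
    rw [← h1]
    change (X.presheaf.map (homOfLE ge).op).hom
      ((i.appLE (X'.basicOpen g') (X.basicOpen (φ.toRingHom g)) le).hom z) = 0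
    rw [hz, map_zero]
  have hsqB : ∀ a b : Γ(X', X'.basicOpen g'),
      (i.appLE (X'.basicOpen g') (X.basicOpen (φ.toRingHom g)) le).hom a = 0 →
      (i.appLE (X'.basicOpen g') (X.basicOpen (φ.toRingHom g)) le).hom b = 0 → a * b = 0 := by
    intro a b ha hb
    exact Groth.Agent.H49.IsFirstOrderThickening.mul_eq_zero hu.1 ⟨X'.basicOpen g', hW'⟩ a b
      (hinj a ha) (hinj b hb)
  have hπB : Function.Surjective
      (i.appLE (X'.basicOpen g') (X.basicOpen (φ.toRingHom g)) le).hom := by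
    intro y
    obtain ⟨r, hr⟩ := i.app_surjective (X'.basicOpen g') hW' (X.presheaf.map (homOfLE ge).op y)
    refine ⟨r, ?_⟩
    change X.presheaf.map (homOfLE le).op (i.app (X'.basicOpen g') r) = y
    rw [hr, ← CommRingCat.comp_apply, ← Functor.map_comp]
    exact congr($(X.presheaf.map_id _) y)
  -- apply the algebra
  have key := fp_localized (B := Γ(X, X.basicOpen (φ.toRingHom g)))
    (B' := Γ(X', X'.basicOpen g')) φ hφ g l hl hker
    (h'.appLE U W'₀ le₀).hom (i.appLE W'₀ (i ⁻¹ᵁ W'₀) le_rfl).hom hπB₀ ?_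
    (X'.presheaf.map (homOfLE (X'.basicOpen_le g')).op).hom
    (i.appLE (X'.basicOpen g') (X.basicOpen (φ.toRingHom g)) le).hom hπB ?_ ?_ hsqB ?_ ?_
  · obtain ⟨h1, h2⟩ := key
    exact ⟨Module.Finite.equiv (conormalEquiv i hW' hW le ge).symm,
      Module.Projective.of_equiv (conormalEquiv i hW' hW le ge).symm⟩
  · -- hπρ
    rw [← CommRingCat.hom_comp, Scheme.Hom.appLE_comp_appLE]
    rfl
  · -- hsquare
    rw [← CommRingCat.hom_comp, Scheme.Hom.map_appLE]
    change _ = (X.presheaf.map (homOfLE (X.basicOpen_le (φ.toRingHom g))).op).hom.comp _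
    rw [← CommRingCat.hom_comp, Scheme.Hom.appLE_map]
  · -- hunit
    intro b hb
    have hnil : IsNilpotent (b - g') := by
      refine ⟨2, ?_⟩
      rw [pow_two]
      have h0 : (i.appLE W'₀ (i ⁻¹ᵁ W'₀) le_rfl).hom (b - g') = 0 := by
        rw [map_sub, hb, hg']
        exact sub_self _
      exact hsq₀ _ _ h0 h0
    have hug : IsUnit ((X'.presheaf.map (homOfLE (X'.basicOpen_le g')).op).hom g') :=
      X'.toRingedSpace.isUnit_res_basicOpen g'
    have : (X'.presheaf.map (homOfLE (X'.basicOpen_le g')).op).hom b =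
        (X'.presheaf.map (homOfLE (X'.basicOpen_le g')).op).hom (b - g') +
          (X'.presheaf.map (homOfLE (X'.basicOpen_le g')).op).hom g' := by
      rw [← map_add, sub_add_cancel]
    rw [this]
    exact (hnil.map _).isUnit_add_right_of_commute hug (Commute.all _ _)
  · -- UPE
    intro C Cb _ _ τ hτ hsq α β comm
    have hρB : (X'.presheaf.map (homOfLE (X'.basicOpen_le g')).op).hom.comp
        (h'.appLE U W'₀ le₀).hom = (h'.appLE U (X'.basicOpen g') le').hom := by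
      rw [← CommRingCat.hom_comp, Scheme.Hom.appLE_map]
    rw [hρB] at comm ⊢
    obtain ⟨θ, hθ1, hθ2⟩ := Groth.Agent.H87.ChartUP.exists_chart_lift' hu hU hW' le' τ hτ hsq
      (α.comp (X.presheaf.map (homOfLE le).op).hom) β (by
        rw [comm, RingHom.comp_assoc]
        congr 1
        rw [← CommRingCat.hom_comp, ← CommRingCat.hom_comp, Scheme.Hom.appLE_map,
          Scheme.Hom.appLE_comp_appLE])
    refine ⟨θ, ?_, hθ2⟩
    rw [hθ1, RingHom.comp_assoc]
    congr 1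
    rw [← CommRingCat.hom_comp, Scheme.Hom.appLE_map]
  · -- UPU
    intro C Cb _ _ τ hτ hsq α θ₁ θ₂ h1 h1' h2
    have hρB : (X'.presheaf.map (homOfLE (X'.basicOpen_le g')).op).hom.comp
        (h'.appLE U W'₀ le₀).hom = (h'.appLE U (X'.basicOpen g') le').hom := by
      rw [← CommRingCat.hom_comp, Scheme.Hom.appLE_map]
    rw [hρB] at h2
    have hα : (α.comp (X.presheaf.map (homOfLE le).op).hom).comp
        (i.appLE (X'.basicOpen g') (i ⁻¹ᵁ (X'.basicOpen g')) le_rfl).hom =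
        α.comp (i.appLE (X'.basicOpen g') (X.basicOpen (φ.toRingHom g)) le).hom := by
      rw [RingHom.comp_assoc]
      congr 1
      rw [← CommRingCat.hom_comp, Scheme.Hom.appLE_map]
    exact Groth.Agent.H87.ChartUP.chart_lift_unique' hu hU hW' le' τ hτ hsq
      (α.comp (X.presheaf.map (homOfLE le).op).hom) θ₁ θ₂ (h1.trans hα.symm) (h1'.trans hα.symm) h2

/-- The conormal sheaf of the universal first order thickening of an lci morphism is finite
locally free. -/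
theorem isFinLocFree_conormal (hf : ∀ x : X, Synt.IsKoszulAt f x)
    (hu : OmegaSh.IsUnivThickening f i h') : FlatMod.IsFinLocFree (Omega.conormal i) := by
  haveI : IsClosedImmersion i := hu.1.1.1
  have qc : (Omega.conormal i).IsQuasicoherent := isQuasicoherent_conormal i
  have hf' : ∀ x : X, Synt.IsKoszulAt (i ≫ h') x := by
    rw [hu.2.1]
    exact hf
  refine isFinLocFree_of_forall_exists_affine _ fun x => ?_
  obtain ⟨U, hU, hxU, -⟩ := Opens.isBasis_iff_nbhd.mp Y.isBasis_affineOpens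
    (show h' (i x) ∈ (⊤ : Y.Opens) from trivial)
  obtain ⟨W'₀, hW'₀, hxW'₀, le₀⟩ := Opens.isBasis_iff_nbhd.mp X'.isBasis_affineOpens
    (show i x ∈ h' ⁻¹ᵁ U from hxU)
  exact conormal_chart_fp hu hU hW'₀ le₀
    (Groth.Agent.H39.KoszulAtForall.isLCIHom_appLE_of_forall_isKoszulAt (i ≫ h') hf' _ _
      (hW'₀.preimage i) hU _) x hxW'₀

end Groth.Agent.H87.ConormalThick
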