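import Mathlib

/-!
# Algebra for injectivity of `B ⊗ I_A → B'` (helper87)

`mulI`, `lemma_K`, `al_local`.
-/

set_option autoImplicit false
universe u
open TensorProduct

namespace Groth.Agent.H87.ThickInjAlg

section MulI
variable {A' : Type u} [CommRing A'] (I : Ideal A') (M : Type u) [AddCommGroup M] [Module A' M]

/-- The multiplication map `M ⊗ I → M`. -/
noncomputable def mulI : M ⊗[A'] I →ₗ[A'] M :=
  (TensorProduct.rid A' M).toLinearMap ∘ₗ (LinearMap.lTensor M I.subtype)

@[simp]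
theorem mulI_tmul (m : M) (x : I) : mulI I M (m ⊗ₜ x) = (x : A') • m := by
  simp [mulI]

theorem mulI_injective [Module.Flat A' M] : Function.Injective (mulI I M) := by
  unfold mulI
  rw [LinearMap.coe_comp]
  exact (TensorProduct.rid A' M).injective.comp
    (Module.Flat.lTensor_preserves_injective_linearMap _ Subtype.val_injective)

end MulI

section K
variable {A' : Type u} [CommRing A'] (I : Ideal A') {P' B₁ : Type u} [CommRing P'] [CommRing B₁]
  [Algebra A' P'] [Algebra A' B₁] (lam : P' →ₐ[A'] B₁)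

theorem mulI_mem_map (s : P' ⊗[A'] I) : mulI I P' s ∈ Ideal.map (algebraMap A' P') I := by
  induction s using TensorProduct.induction_on with
  | zero => rw [map_zero]; exact Submodule.zero_mem _
  | add x y hx hy => rw [map_add]; exact Submodule.add_mem _ hx hy
  | tmul p x =>
    rw [mulI_tmul, Algebra.smul_def]
    exact Ideal.mul_mem_right _ _ (Ideal.mem_map_of_mem _ x.2)

/-- Elements of `ker λ · I P'` come from tensors killed by `λ ⊗ id`. -/
theorem exists_of_mem_mul (x : P') (hx : x ∈ RingHom.ker lam.toRingHom * Ideal.map (algebraMap A' P') I) :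
    ∃ s : P' ⊗[A'] I, mulI I P' s = x ∧ LinearMap.rTensor I lam.toLinearMap s = 0 := by
  have key : ∀ y ∈ Ideal.map (algebraMap A' P') I, ∀ l ∈ RingHom.ker lam.toRingHom,
      ∃ s : P' ⊗[A'] I, mulI I P' s = l * y ∧ LinearMap.rTensor I lam.toLinearMap s = 0 := by
    intro y hy
    rw [Ideal.map] at hy
    induction hy using Submodule.span_induction with
    | mem y hy =>
      obtain ⟨a, ha, rfl⟩ := hy
      intro l hl
      refine ⟨l ⊗ₜ ⟨a, ha⟩, ?_, ?_⟩
      · rw [mulI_tmul, Algebra.smul_def, mul_comm]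
      · rw [LinearMap.rTensor_tmul]
        have : lam.toLinearMap l = 0 := hl
        rw [this, zero_tmul]
    | zero =>
      intro l _
      exact ⟨0, by rw [map_zero, mul_zero], map_zero _⟩
    | add y₁ y₂ _ _ h₁ h₂ =>
      intro l hl
      obtain ⟨s₁, hs₁, hs₁'⟩ := h₁ l hl
      obtain ⟨s₂, hs₂, hs₂'⟩ := h₂ l hl
      exact ⟨s₁ + s₂, by rw [map_add, hs₁, hs₂, mul_add], by rw [map_add, hs₁', hs₂', add_zero]⟩
    | smul p y _ h₁ =>
      intro l hl
      obtain ⟨s₁, hs₁, hs₁'⟩ := h₁ (l * p) (Ideal.mul_mem_right _ _ hl)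
      exact ⟨s₁, by rw [hs₁, smul_eq_mul, mul_assoc], hs₁'⟩
  refine Submodule.mul_induction_on hx ?_ ?_
  · intro l hl y hy
    exact key y hy l hl
  · rintro x y ⟨s₁, hs₁, hs₁'⟩ ⟨s₂, hs₂, hs₂'⟩
    exact ⟨s₁ + s₂, by rw [map_add, hs₁, hs₂], by rw [map_add, hs₁', hs₂', add_zero]⟩

/-- **Lemma K**: for flat `P'`, a tensor whose product lies in `ker λ · I P'` is killed by `λ ⊗ id`. -/
theorem lemma_K [Module.Flat A' P'] (s : P' ⊗[A'] I)
    (hs : mulI I P' s ∈ RingHom.ker lam.toRingHom * Ideal.map (algebraMap A' P') I) :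
    LinearMap.rTensor I lam.toLinearMap s = 0 := by
  obtain ⟨s', hs', hs'0⟩ := exists_of_mem_mul I lam _ hs
  have := mulI_injective I P' (hs'.trans rfl : mulI I P' s' = mulI I P' s)
  rw [← this]
  exact hs'0

end K

section Local
variable {A' : Type u} [CommRing A'] (I : Ideal A') {B' P' B₁ : Type u} [CommRing B'] [CommRing P']
  [CommRing B₁] [Algebra A' B'] [Algebra A' P'] [Algebra A' B₁]
  (lam : P' →ₐ[A'] B₁) (gam : B' →ₐ[A'] B₁)

/-- **Local injectivity criterion.** -/
theorem al_local [Module.Flat A' P'] (hlam : Function.Surjective lam)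
    (hI : ∀ x ∈ I, algebraMap A' B₁ x = 0)
    (K : Ideal P') (hK : K = RingHom.ker lam.toRingHom)
    (hH1 : ∀ x ∈ Ideal.map (algebraMap A' P') I, x ∈ K ^ 2 →
      x ∈ K * Ideal.map (algebraMap A' P') I)
    (lamb : P' ⧸ K ^ 2 →+* B₁) (hlamb : ∀ p, lamb (Ideal.Quotient.mk (K ^ 2) p) = lam p)
    (θ : B' →+* P' ⧸ K ^ 2)
    (hθ1 : ∀ β : B', lamb (θ β) = gam β)
    (hθ2 : ∀ a : A', θ (algebraMap A' B' a) = Ideal.Quotient.mk (K ^ 2) (algebraMap A' P' a))
    (s : B' ⊗[A'] I) (hs : mulI I B' s = 0) :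
    LinearMap.rTensor I gam.toLinearMap s = 0 := by
  -- products of two elements of `ker lamb` vanish
  have hsq : ∀ u v : P' ⧸ K ^ 2, lamb u = 0 → lamb v = 0 → u * v = 0 := by
    intro u v hu hv
    obtain ⟨u₀, rfl⟩ := Ideal.Quotient.mk_surjective u
    obtain ⟨v₀, rfl⟩ := Ideal.Quotient.mk_surjective v
    rw [hlamb] at hu hv
    rw [← map_mul, Ideal.Quotient.eq_zero_iff_mem, pow_two]
    refine Ideal.mul_mem_mul ?_ ?_
    · rw [hK]; exact hu
    · rw [hK]; exact hv
  have key : ∀ s : B' ⊗[A'] I, ∃ s' : P' ⊗[A'] I,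
      LinearMap.rTensor I lam.toLinearMap s' = LinearMap.rTensor I gam.toLinearMap s ∧
      Ideal.Quotient.mk (K ^ 2) (mulI I P' s') = θ (mulI I B' s) := by
    intro s
    induction s using TensorProduct.induction_on with
    | zero => exact ⟨0, by rw [map_zero, map_zero], by rw [map_zero, map_zero, map_zero, map_zero]⟩
    | add x y hx hy =>
      obtain ⟨x', hx1, hx2⟩ := hx
      obtain ⟨y', hy1, hy2⟩ := hy
      exact ⟨x' + y', by rw [map_add, map_add, hx1, hy1],
        by rw [map_add, map_add, map_add, map_add, hx2, hy2]⟩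
    | tmul β x =>
      obtain ⟨p, hp⟩ := hlam (gam β)
      refine ⟨p ⊗ₜ x, ?_, ?_⟩
      · rw [LinearMap.rTensor_tmul, LinearMap.rTensor_tmul]
        congr 1
      · rw [mulI_tmul, mulI_tmul, Algebra.smul_def, Algebra.smul_def, map_mul, map_mul, hθ2]
        have h1 : lamb (Ideal.Quotient.mk (K ^ 2) (algebraMap A' P' (x : A'))) = 0 := by
          rw [hlamb, AlgHom.commutes]
          exact hI _ x.2
        have h2 : lamb (Ideal.Quotient.mk (K ^ 2) p - θ β) = 0 := by
          rw [map_sub, hθ1, hlamb, hp, sub_self]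
        have h3 := hsq _ _ h1 h2
        rw [mul_sub, sub_eq_zero] at h3
        exact h3
  obtain ⟨s', hs1, hs2⟩ := key s
  rw [hs, map_zero, Ideal.Quotient.eq_zero_iff_mem] at hs2
  rw [← hs1]
  refine lemma_K I lam s' ?_
  rw [← hK]
  exact hH1 _ (mulI_mem_map I s') hs2

end Local

end Groth.Agent.H87.ThickInjAlg
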