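import Groth.Agent.H87.ThickOmegaAlg
import Groth.Agent.H87.ChartUP
import Groth.Agent.H44.ConormalChart
import Groth.Agent.H44.UniversalFinite
import Groth.Agent.H25.SepFam
import Groth.Agent.H12.QCohIso

/-!
# Differentials of a universal first order thickening (helper87)

`i^*(h'^*Ω_{X/S} → Ω_{Z'/S})` is an isomorphism for a universal first order thickening `Z ⊂ Z'` over `X`.
-/

set_option autoImplicit false
universe u
open CategoryTheory Limits Opposite AlgebraicGeometry TopologicalSpace TensorProduct Scheme.Modules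

namespace Groth.Agent.H87.ThickOmega

open Groth.Agent.H44 Groth.Agent.H25.SepFam Groth.Agent.H87.ThickOmegaAlg

variable {Z X S Z' : Scheme.{u}} {h : Z ⟶ X} {q : X ⟶ S} {i : Z ⟶ Z'} {h' : Z' ⟶ X}

set_option maxHeartbeats 4000000 in
theorem pullback_diffCompat_app_bijective (hu : OmegaSh.IsUnivThickening h i h')
    [IsClosedImmersion i]
    {ΩX : X.Modules} (dX : OmegaSh.Der q ΩX) (hdX : OmegaSh.IsUniversal dX)
    {ΩZ' : Z'.Modules} (dZ' : OmegaSh.Der (h' ≫ q) ΩZ') (hdZ' : OmegaSh.IsUniversal dZ')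
    (c : (Scheme.Modules.pullback h').obj ΩX ⟶ ΩZ') (hc : OmegaSh.IsDiffCompat h' dX dZ' c)
    {V : S.Opens} (hV : IsAffineOpen V) {U : X.Opens} (hU : IsAffineOpen U) (e : U ≤ q ⁻¹ᵁ V)
    {W' : Z'.Opens} (hW' : IsAffineOpen W') (le : W' ≤ h' ⁻¹ᵁ U) :
    Function.Bijective (((Scheme.Modules.pullback i).map c).app (i ⁻¹ᵁ W')) := by
  have hW : IsAffineOpen (i ⁻¹ᵁ W') := hW'.preimage i
  have e' : W' ≤ (h' ≫ q) ⁻¹ᵁ V := le.trans (h'.preimage_mono e)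
  haveI qcX : ΩX.IsQuasicoherent := isQuasicoherent_of_isUniversal dX hdX
  haveI qcZ' : ΩZ'.IsQuasicoherent := isQuasicoherent_of_isUniversal dZ' hdZ'
  letI algRA : Algebra Γ(S, V) Γ(X, U) := (q.appLE V U e).hom.toAlgebra
  letI algAB' : Algebra Γ(X, U) Γ(Z', W') := (h'.appLE U W' le).hom.toAlgebra
  letI algRB' : Algebra Γ(S, V) Γ(Z', W') := ((h' ≫ q).appLE V W' e').hom.toAlgebra
  letI algB'B : Algebra Γ(Z', W') Γ(Z, i ⁻¹ᵁ W') := (i.appLE W' (i ⁻¹ᵁ W') le_rfl).hom.toAlgebra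
  letI algRB : Algebra Γ(S, V) Γ(Z, i ⁻¹ᵁ W') :=
    ((i.appLE W' (i ⁻¹ᵁ W') le_rfl).hom.comp ((h' ≫ q).appLE V W' e').hom).toAlgebra
  haveI tow1 : IsScalarTower Γ(S, V) Γ(X, U) Γ(Z', W') := by
    refine IsScalarTower.of_algebraMap_eq (fun x => ?_)
    have h1 : q.appLE V U e ≫ h'.appLE U W' le = (h' ≫ q).appLE V W' e' :=
      Scheme.Hom.appLE_comp_appLE _ _ _ _ _ _ _
    exact (congr($(h1) x)).symm
  haveI tow2 : IsScalarTower Γ(S, V) Γ(Z', W') Γ(Z, i ⁻¹ᵁ W') :=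
    IsScalarTower.of_algebraMap_eq (fun x => rfl)
  -- chart descriptions
  obtain ⟨E, hE⟩ := exists_pullback_kaehler_equiv h' dX hdX hU hW' le hV e
  obtain ⟨Φ', hΦ'⟩ := exists_kaehler_equiv_of_isUniversal dZ' hW' hV e' hdZ'
  have descr := diffCompat_chart_description h' dX hdX dZ' c hc hU hW' le hV e e' E hE Φ' hΦ'
    (KaehlerDifferential.mapBaseChange Γ(S, V) Γ(X, U) Γ(Z', W')) (fun s => by
      rw [KaehlerDifferential.mapBaseChange_tmul, one_smul, KaehlerDifferential.map_D]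
      rfl)
  -- the ring-level statement
  have hbij : Function.Bijective ((KaehlerDifferential.mapBaseChange Γ(S, V) Γ(X, U)
      Γ(Z', W')).baseChange Γ(Z, i ⁻¹ᵁ W')) := by
    refine baseChange_mapBaseChange_bijective ?_ ?_
    · intro C Cb _ _ τ hτ hsq α β comm
      refine Groth.Agent.H87.ChartUP.exists_chart_lift' hu hU hW' le τ hτ hsq α β ?_
      rw [comm]
      congr 1
      exact congrArg CommRingCat.Hom.hom (Scheme.Hom.appLE_comp_appLE i h' U W'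
        (i ⁻¹ᵁ W') le le_rfl)
    · intro C Cb _ _ τ hτ hsq α θ₁ θ₂ h1 h1' h2
      exact Groth.Agent.H87.ChartUP.chart_lift_unique' hu hU hW' le τ hτ hsq α θ₁ θ₂ h1 h1' h2
  have hbij' : Function.Bijective (LinearMap.lTensor Γ(Z, i ⁻¹ᵁ W')
      (KaehlerDifferential.mapBaseChange Γ(S, V) Γ(X, U) Γ(Z', W'))) := by
    rw [← LinearMap.baseChange_eq_ltensor]
    exact hbij
  -- `appL c W'` in terms of the chart descriptions
  have hcomp : appL c W' = Φ'.symm.toLinearMap ∘ₗ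
      (KaehlerDifferential.mapBaseChange Γ(S, V) Γ(X, U) Γ(Z', W')) ∘ₗ E.toLinearMap := by
    refine LinearMap.ext fun x => ?_
    rw [appL_apply, LinearMap.comp_apply, LinearMap.comp_apply, LinearEquiv.coe_coe,
      LinearEquiv.coe_coe, LinearEquiv.eq_symm_apply]
    exact descr x
  have hlt : Function.Bijective (LinearMap.lTensor Γ(Z, i ⁻¹ᵁ W') (appL c W')) := by
    rw [hcomp, LinearMap.lTensor_comp, LinearMap.lTensor_comp]
    have b1 : Function.Bijective (LinearMap.lTensor Γ(Z, i ⁻¹ᵁ W') Φ'.symm.toLinearMap) :=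
      (LinearEquiv.lTensor Γ(Z, i ⁻¹ᵁ W') Φ'.symm).bijective
    have b2 : Function.Bijective (LinearMap.lTensor Γ(Z, i ⁻¹ᵁ W') E.toLinearMap) :=
      (LinearEquiv.lTensor Γ(Z, i ⁻¹ᵁ W') E).bijective
    exact b1.comp (hbij'.comp b2)
  -- conclusion
  have hnat := pullbackSectionsEquiv_naturality i c hW hW' le_rfl
  obtain ⟨E₁, hE₁⟩ : ∃ E₁ : Γ((Scheme.Modules.pullback i).obj ((Scheme.Modules.pullback h').obj ΩX),
      i ⁻¹ᵁ W') ≃ₗ[Γ(Z, i ⁻¹ᵁ W')] Γ(Z, i ⁻¹ᵁ W') ⊗[Γ(Z', W')]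
        Γ((Scheme.Modules.pullback h').obj ΩX, W'),
      E₁ = pullbackSectionsEquiv i ((Scheme.Modules.pullback h').obj ΩX) hW hW' le_rfl := ⟨_, rfl⟩
  obtain ⟨E₂, hE₂⟩ : ∃ E₂ : Γ((Scheme.Modules.pullback i).obj ΩZ', i ⁻¹ᵁ W') ≃ₗ[Γ(Z, i ⁻¹ᵁ W')]
      Γ(Z, i ⁻¹ᵁ W') ⊗[Γ(Z', W')] Γ(ΩZ', W'),
      E₂ = pullbackSectionsEquiv i ΩZ' hW hW' le_rfl := ⟨_, rfl⟩
  rw [← hE₁, ← hE₂] at hnat
  obtain ⟨L, hLbij, hL⟩ : ∃ L : Γ(Z, i ⁻¹ᵁ W') ⊗[Γ(Z', W')]
      Γ((Scheme.Modules.pullback h').obj ΩX, W') → Γ(Z, i ⁻¹ᵁ W') ⊗[Γ(Z', W')] Γ(ΩZ', W'),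
      Function.Bijective L ∧ ∀ s, E₂ (((Scheme.Modules.pullback i).map c).app (i ⁻¹ᵁ W') s) =
        L (E₁ s) := ⟨_, hlt, hnat⟩
  clear hnat hlt hcomp hbij' hbij descr hE₁ hE₂
  refine ⟨fun s t hst => ?_, fun y => ?_⟩
  · have h1 : L (E₁ s) = L (E₁ t) := by rw [← hL, ← hL, hst]
    exact E₁.injective (hLbij.1 h1)
  · obtain ⟨x, hx⟩ := hLbij.2 (E₂ y)
    refine ⟨E₁.symm x, E₂.injective ?_⟩
    rw [hL, LinearEquiv.apply_symm_apply, hx]

/-- `i^*(h'^*Ω_{X/S} → Ω_{Z'/S})` is an isomorphism for a universal first order thickening. -/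
theorem isIso_pullback_diffCompat (hu : OmegaSh.IsUnivThickening h i h')
    {ΩX : X.Modules} (dX : OmegaSh.Der q ΩX) (hdX : OmegaSh.IsUniversal dX)
    {ΩZ' : Z'.Modules} (dZ' : OmegaSh.Der (h' ≫ q) ΩZ') (hdZ' : OmegaSh.IsUniversal dZ')
    (c : (Scheme.Modules.pullback h').obj ΩX ⟶ ΩZ') (hc : OmegaSh.IsDiffCompat h' dX dZ' c) :
    IsIso ((Scheme.Modules.pullback i).map c) := by
  have : IsClosedImmersion i := hu.1.1.1
  have qcX : ΩX.IsQuasicoherent := isQuasicoherent_of_isUniversal dX hdX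
  have qcZ' : ΩZ'.IsQuasicoherent := isQuasicoherent_of_isUniversal dZ' hdZ'
  have key : ∀ z : Z, ∃ W : Z.Opens, IsAffineOpen W ∧ z ∈ W ∧
      Function.Bijective (((Scheme.Modules.pullback i).map c).app W) := by
    intro z
    obtain ⟨V, hV, hzV, -⟩ := Opens.isBasis_iff_nbhd.mp S.isBasis_affineOpens
      (show q (h' (i z)) ∈ (⊤ : S.Opens) from trivial)
    obtain ⟨U, hU, hzU, e⟩ := Opens.isBasis_iff_nbhd.mp X.isBasis_affineOpens
      (show h' (i z) ∈ q ⁻¹ᵁ V from hzV)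
    obtain ⟨W', hW', hzW', le⟩ := Opens.isBasis_iff_nbhd.mp Z'.isBasis_affineOpens
      (show i z ∈ h' ⁻¹ᵁ U from hzU)
    exact ⟨i ⁻¹ᵁ W', hW'.preimage i, hzW',
      pullback_diffCompat_app_bijective hu dX hdX dZ' hdZ' c hc hV hU e hW' le⟩
  choose W hW hzW hbij using key
  exact Groth.Agent.H12.QCohIso.isIso_of_bijective_on_cover _ W (fun z => ⟨z, hzW z⟩) hW hbij

end Groth.Agent.H87.ThickOmega
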