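import Mathlib
import Groth.Agent.H87.ThickAffG

/-!
# Thickenings of quasi-affine schemes: lifting powers of sections (two-open lemmas)
-/

universe u
open AlgebraicGeometry CategoryTheory TopologicalSpace Opposite

namespace Groth.Agent.H87.ThickAff

/-- Algebra: if `α₁ - ρ a₂` is nilpotent and every power of it becomes an image of `N₂` after
multiplication by a power of `ρ a₂`, then `α₁ ^ n - ρ a₂ ^ n` is an image of `N₂` for some `n ≥ 1`. -/
theorem exists_pow_sub_pow_eq {C₂ C : Type*} [CommRing C₂] [CommRing C] (ρ : C₂ →+* C)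
    (N₂ : Ideal C₂) (a₂ : C₂) (α₁ : C) (hν : IsNilpotent (α₁ - ρ a₂))
    (hext : ∀ j : ℕ, 1 ≤ j → ∃ s : ℕ, ∃ x ∈ N₂, ρ x = ρ a₂ ^ s * (α₁ - ρ a₂) ^ j) :
    ∃ n : ℕ, 1 ≤ n ∧ ∃ x ∈ N₂, ρ x = α₁ ^ n - ρ a₂ ^ n := by
  obtain ⟨T, hT⟩ := hν
  set ν := α₁ - ρ a₂ with hνdef
  -- uniform data
  have hext' : ∀ j : ℕ, ∃ s : ℕ, ∃ x ∈ N₂, 1 ≤ j → ρ x = ρ a₂ ^ s * ν ^ j := by
    intro j
    by_cases hj : 1 ≤ j
    · obtain ⟨s, x, hx, e⟩ := hext j hj
      exact ⟨s, x, hx, fun _ => e⟩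
    · exact ⟨0, 0, N₂.zero_mem, fun h => absurd h hj⟩
  choose s x hx e using hext'
  set S := (Finset.range (T + 1)).sup s with hS
  have hsS : ∀ j, j ≤ T → s j ≤ S := fun j hj =>
    Finset.le_sup (f := s) (Finset.mem_range.mpr (by omega))
  obtain ⟨n, hn⟩ : ∃ n, n = S + T + 1 := ⟨_, rfl⟩
  refine ⟨n, by omega, ?_⟩
  -- the element
  let y : ℕ → C₂ := fun m =>
    if n - m < T then (n.choose m : C₂) * (a₂ ^ (m - s (n - m)) * x (n - m)) else 0
  refine ⟨∑ m ∈ Finset.range n, y m, N₂.sum_mem fun m _ => ?_, ?_⟩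
  · dsimp only [y]
    split_ifs
    · exact N₂.mul_mem_left _ (N₂.mul_mem_left _ (hx _))
    · exact N₂.zero_mem
  · have hα : α₁ = ρ a₂ + ν := by rw [hνdef]; ring
    rw [hα, add_pow, Finset.sum_range_succ, map_sum]
    simp only [Nat.sub_self, pow_zero, mul_one, Nat.choose_self, Nat.cast_one, add_sub_cancel_right]
    apply Finset.sum_congr rfl
    intro m hm
    rw [Finset.mem_range] at hm
    dsimp only [y]
    split_ifs with h
    · have h1 : 1 ≤ n - m := by omega
      have h2 : s (n - m) ≤ m := by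
        have := hsS (n - m) (by omega)
        omega
      rw [map_mul, map_mul, map_pow, e (n - m) h1, map_natCast, ← mul_assoc (ρ a₂ ^ _), ← pow_add,
        Nat.sub_add_cancel h2]
      ring
    · have : ν ^ (n - m) = 0 := by
        have h3 : T ≤ n - m := by omega
        rw [← Nat.sub_add_cancel h3, pow_add, hT, mul_zero]
      rw [this, map_zero, mul_zero, zero_mul]

variable {X X' : Scheme.{u}} (t : X ⟶ X')

/-- Variant of `exists_lift_ker`: `V` is any quasi-compact open between `D(f)` and `W`. -/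
lemma exists_lift_ker' [IsClosedImmersion t] [QuasiSeparatedSpace X'] {W : X'.Opens}
    (hW : IsCompact (W : Set X')) (f : Γ(X', W)) {V : X'.Opens} (hVW : V ≤ W)
    (hV : IsCompact (V : Set X')) (hfV : X'.basicOpen f ≤ V)
    (d : Γ(X', V)) (hd : t.app V d = 0) :
    ∃ (s : ℕ) (x : Γ(X', W)), t.app W x = 0 ∧
      X'.presheaf.map (homOfLE hVW).op x = (X'.presheaf.map (homOfLE hVW).op f) ^ s * d := by
  have hd' : t.app (X'.basicOpen f) (X'.presheaf.map (homOfLE hfV).op d) = 0 := by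
    rw [app_res, hd, map_zero]
  obtain ⟨s, x, hx, e⟩ := exists_lift_ker t hW f rfl (X'.presheaf.map (homOfLE hfV).op d) hd'
  -- the difference vanishes on `D(f|_V) = D(f)`
  have hbo : X'.basicOpen f = X'.basicOpen (X'.presheaf.map (homOfLE hVW).op f) := by
    rw [Scheme.basicOpen_res]
    exact (inf_eq_right.mpr hfV).symm
  have hz : X'.presheaf.map (homOfLE (hbo ▸ X'.basicOpen_le
      (X'.presheaf.map (homOfLE hVW).op f))).op
      (X'.presheaf.map (homOfLE hVW).op x - (X'.presheaf.map (homOfLE hVW).op f) ^ s * d) = 0 := by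
    rw [map_sub, map_mul, map_pow, res_res, res_res, sub_eq_zero]
    exact e
  obtain ⟨m, hm⟩ := exists_pow_mul_eq_zero X' hV (X'.presheaf.map (homOfLE hVW).op f) _ hbo hz
  refine ⟨m + s, f ^ m * x, by rw [map_mul, hx, mul_zero], ?_⟩
  rw [map_mul, map_pow]
  rw [mul_sub, sub_eq_zero] at hm
  rw [hm, pow_add, mul_assoc]

end Groth.Agent.H87.ThickAff
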