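import Mathlib
import Groth.Agent.H87.ThickQAffA

/-!
# Thickenings of quasi-affine schemes: two-open gluing of lifts of powers
-/

universe u
open AlgebraicGeometry CategoryTheory TopologicalSpace Opposite

namespace Groth.Agent.H87.ThickAff

variable {X X' : Scheme.{u}} (t : X ⟶ X')

/-- Gluing two sections of `O_{X'}` agreeing on the overlap. -/
lemma exists_glue (Y : Scheme.{u}) (W₁ W₂ : Y.Opens) (s₁ : Γ(Y, W₁)) (s₂ : Γ(Y, W₂))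
    (h : Y.presheaf.map (homOfLE (inf_le_left : W₁ ⊓ W₂ ≤ W₁)).op s₁ =
      Y.presheaf.map (homOfLE (inf_le_right : W₁ ⊓ W₂ ≤ W₂)).op s₂) :
    ∃ s : Γ(Y, W₁ ⊔ W₂), Y.presheaf.map (homOfLE le_sup_left).op s = s₁ ∧
      Y.presheaf.map (homOfLE le_sup_right).op s = s₂ := by
  let x : RingHom.eqLocus
      (RingHom.comp (Y.sheaf.obj.map (homOfLE inf_le_left : W₁ ⊓ W₂ ⟶ W₁).op).hom
        (RingHom.fst (Y.sheaf.obj.obj <| op W₁) (Y.sheaf.obj.obj <| op W₂)))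
      (RingHom.comp (Y.sheaf.obj.map (homOfLE inf_le_right : W₁ ⊓ W₂ ⟶ W₂).op).hom
        (RingHom.snd (Y.sheaf.obj.obj <| op W₁) (Y.sheaf.obj.obj <| op W₂))) :=
    ⟨(s₁, s₂), h⟩
  exact ⟨(Y.sheaf.objSupIsoProdEqLocus W₁ W₂).inv x,
    Y.sheaf.objSupIsoProdEqLocus_inv_fst W₁ W₂ x, Y.sheaf.objSupIsoProdEqLocus_inv_snd W₁ W₂ x⟩

/-- Two sections over `t⁻¹(W₁ ⊔ W₂)` agreeing on `t⁻¹ W₁` and `t⁻¹ W₂` are equal. -/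
lemma eq_of_res_eq {W₁ W₂ : X'.Opens} (y y' : Γ(X, t ⁻¹ᵁ (W₁ ⊔ W₂)))
    (h₁ : X.presheaf.map (homOfLE (show t ⁻¹ᵁ W₁ ≤ t ⁻¹ᵁ (W₁ ⊔ W₂) from
      fun _ hx => Or.inl hx)).op y = X.presheaf.map (homOfLE (show t ⁻¹ᵁ W₁ ≤ t ⁻¹ᵁ (W₁ ⊔ W₂) from
      fun _ hx => Or.inl hx)).op y')
    (h₂ : X.presheaf.map (homOfLE (show t ⁻¹ᵁ W₂ ≤ t ⁻¹ᵁ (W₁ ⊔ W₂) from
      fun _ hx => Or.inr hx)).op y = X.presheaf.map (homOfLE (show t ⁻¹ᵁ W₂ ≤ t ⁻¹ᵁ (W₁ ⊔ W₂) from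
      fun _ hx => Or.inr hx)).op y') : y = y' :=
  X.sheaf.eq_of_locally_eq₂ (homOfLE (show t ⁻¹ᵁ W₁ ≤ t ⁻¹ᵁ (W₁ ⊔ W₂) from
      fun _ hx => Or.inl hx)) (homOfLE (show t ⁻¹ᵁ W₂ ≤ t ⁻¹ᵁ (W₁ ⊔ W₂) from
      fun _ hx => Or.inr hx)) (fun _ hx => hx) _ _ h₁ h₂

/-- Two-open lemma A: lifts `a₁`, `a₂` of the same function, with `D(a₂) ⊆ W₁`; then some positive
power lifts over `W₁ ⊔ W₂`. -/
theorem exists_lift_pow_sup [IsClosedImmersion t] (ht : Function.Surjective t)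
    [QuasiSeparatedSpace X']
    {W₁ W₂ : X'.Opens} (hc₁ : IsCompact (W₁ : Set X')) (hc₂ : IsCompact (W₂ : Set X'))
    (a₁ : Γ(X', W₁)) (a₂ : Γ(X', W₂))
    (hμ : t.app (W₁ ⊓ W₂) (X'.presheaf.map (homOfLE inf_le_left).op a₁) =
          t.app (W₁ ⊓ W₂) (X'.presheaf.map (homOfLE inf_le_right).op a₂))
    (hsupp : X'.basicOpen a₂ ≤ W₁) :
    ∃ n : ℕ, 1 ≤ n ∧ ∃ r : Γ(X', W₁ ⊔ W₂),
      X'.presheaf.map (homOfLE le_sup_left).op r = a₁ ^ n ∧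
      t.app W₂ (X'.presheaf.map (homOfLE le_sup_right).op r) = t.app W₂ (a₂ ^ n) := by
  have hc₁₂ : IsCompact ((W₁ ⊓ W₂ : X'.Opens) : Set X') :=
    QuasiSeparatedSpace.inter_isCompact _ _ W₁.2 hc₁ W₂.2 hc₂
  set ρ₁ : Γ(X', W₁) →+* Γ(X', W₁ ⊓ W₂) := (X'.presheaf.map (homOfLE inf_le_left).op).hom with hρ₁
  set ρ₂ : Γ(X', W₂) →+* Γ(X', W₁ ⊓ W₂) := (X'.presheaf.map (homOfLE inf_le_right).op).hom with hρ₂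
  have hker : t.app (W₁ ⊓ W₂) (ρ₁ a₁ - ρ₂ a₂) = 0 := by
    rw [map_sub, sub_eq_zero]; exact hμ
  have hnil : IsNilpotent (ρ₁ a₁ - ρ₂ a₂) := isNilpotent_of_app_eq_zero t ht hc₁₂ _ hker
  have hext : ∀ j : ℕ, 1 ≤ j → ∃ s : ℕ, ∃ x ∈ RingHom.ker (t.app W₂).hom,
      ρ₂ x = ρ₂ a₂ ^ s * (ρ₁ a₁ - ρ₂ a₂) ^ j := by
    intro j _
    have hd : t.app (W₁ ⊓ W₂) ((ρ₁ a₁ - ρ₂ a₂) ^ j) = 0 := by
      rw [map_pow, hker, zero_pow (by omega)]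
    obtain ⟨s, x, hx, e⟩ := exists_lift_ker' t hc₂ a₂ inf_le_right hc₁₂
      (le_inf hsupp (X'.basicOpen_le a₂)) _ hd
    exact ⟨s, x, hx, e⟩
  obtain ⟨n, hn, x, hx, e⟩ := exists_pow_sub_pow_eq ρ₂ _ a₂ (ρ₁ a₁) hnil hext
  obtain ⟨r, hr₁, hr₂⟩ := exists_glue X' W₁ W₂ (a₁ ^ n) (a₂ ^ n + x) (by
    show ρ₁ (a₁ ^ n) = ρ₂ (a₂ ^ n + x)
    rw [map_pow, map_add, map_pow, e]; ring)
  refine ⟨n, hn, r, hr₁, ?_⟩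
  rw [hr₂, map_add, (RingHom.mem_ker).mp hx, add_zero]

/-- Two-open lemma B: `a` is a section over `W₁ ⊔ W₂` with `D(a) ∩ W₂ ⊆ W₁`; lifts `b₁`, `b₂`
of the same function; then `a ^ m * b` lifts over `W₁ ⊔ W₂` for some `m`. -/
theorem exists_lift_pow_mul_sup [IsClosedImmersion t]
    [QuasiSeparatedSpace X']
    {W₁ W₂ : X'.Opens} (hc₁ : IsCompact (W₁ : Set X')) (hc₂ : IsCompact (W₂ : Set X'))
    (a : Γ(X', W₁ ⊔ W₂)) (b₁ : Γ(X', W₁)) (b₂ : Γ(X', W₂))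
    (hμ : t.app (W₁ ⊓ W₂) (X'.presheaf.map (homOfLE inf_le_left).op b₁) =
          t.app (W₁ ⊓ W₂) (X'.presheaf.map (homOfLE inf_le_right).op b₂))
    (hsupp : X'.basicOpen (X'.presheaf.map (homOfLE le_sup_right).op a : Γ(X', W₂)) ≤ W₁) :
    ∃ (m : ℕ) (r : Γ(X', W₁ ⊔ W₂)),
      X'.presheaf.map (homOfLE le_sup_left).op r =
        (X'.presheaf.map (homOfLE le_sup_left).op a) ^ m * b₁ ∧
      t.app W₂ (X'.presheaf.map (homOfLE le_sup_right).op r) =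
        t.app W₂ ((X'.presheaf.map (homOfLE le_sup_right).op a) ^ m * b₂) := by
  have hc₁₂ : IsCompact ((W₁ ⊓ W₂ : X'.Opens) : Set X') :=
    QuasiSeparatedSpace.inter_isCompact _ _ W₁.2 hc₁ W₂.2 hc₂
  set a₁ : Γ(X', W₁) := X'.presheaf.map (homOfLE le_sup_left).op a with ha₁
  set a₂ : Γ(X', W₂) := X'.presheaf.map (homOfLE le_sup_right).op a with ha₂
  set ρ₁ : Γ(X', W₁) →+* Γ(X', W₁ ⊓ W₂) := (X'.presheaf.map (homOfLE inf_le_left).op).hom with hρ₁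
  set ρ₂ : Γ(X', W₂) →+* Γ(X', W₁ ⊓ W₂) := (X'.presheaf.map (homOfLE inf_le_right).op).hom with hρ₂
  have ha₁₂ : ρ₁ a₁ = ρ₂ a₂ := by
    show X'.presheaf.map (homOfLE inf_le_left).op a₁ = X'.presheaf.map (homOfLE inf_le_right).op a₂
    rw [ha₁, ha₂, res_res, res_res]
  have hker : t.app (W₁ ⊓ W₂) (ρ₁ b₁ - ρ₂ b₂) = 0 := by
    rw [map_sub, sub_eq_zero]; exact hμ
  obtain ⟨s, x, hx, e⟩ := exists_lift_ker' t hc₂ a₂ inf_le_right hc₁₂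
      (le_inf hsupp (X'.basicOpen_le a₂)) _ hker
  obtain ⟨r, hr₁, hr₂⟩ := exists_glue X' W₁ W₂ (a₁ ^ s * b₁) (a₂ ^ s * b₂ + x) (by
    show ρ₁ (a₁ ^ s * b₁) = ρ₂ (a₂ ^ s * b₂ + x)
    have e' : ρ₂ x = ρ₂ a₂ ^ s * (ρ₁ b₁ - ρ₂ b₂) := e
    rw [map_mul, map_pow, map_add, map_mul, map_pow, e', ha₁₂]; ring)
  refine ⟨s, r, hr₁, ?_⟩
  rw [hr₂, map_add, hx, add_zero]

end Groth.Agent.H87.ThickAff
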