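import Mathlib
import Groth.Agent.H87.ThickQAffB

/-!
# A thickening of a quasi-affine scheme is quasi-affine
-/

universe u
open AlgebraicGeometry CategoryTheory TopologicalSpace Opposite

namespace Groth.Agent.H87.ThickAff

variable {X X' : Scheme.{u}} (t : X ⟶ X')

/-- Restriction of a global section of `X` to `t⁻¹ W`. -/
noncomputable def resT (W : X'.Opens) : Γ(X, ⊤) →+* Γ(X, t ⁻¹ᵁ W) :=
  (X.presheaf.map (homOfLE (le_top : t ⁻¹ᵁ W ≤ ⊤)).op).hom

lemma resT_apply (W : X'.Opens) (c : Γ(X, ⊤)) :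
    resT t W c = X.presheaf.map (homOfLE (le_top : t ⁻¹ᵁ W ≤ ⊤)).op c := rfl

lemma res_resT {W W' : X'.Opens} (h : W' ≤ W) (c : Γ(X, ⊤)) :
    X.presheaf.map (homOfLE (show t ⁻¹ᵁ W' ≤ t ⁻¹ᵁ W from fun _ hx => h hx)).op (resT t W c) =
      resT t W' c :=
  res_res X _ _ c

/-- `W` is *good* for `a` if for every global function `c` on `X`, some `a ^ n * c` lifts
to a section of `O_{X'}` over `W`. -/
def Good (a : Γ(X, ⊤)) (W : X'.Opens) : Prop :=
  ∀ c : Γ(X, ⊤), ∃ (n : ℕ) (r : Γ(X', W)), t.app W r = resT t W (a ^ n * c)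

lemma good_of_surjective (a : Γ(X, ⊤)) {W : X'.Opens} (h : Function.Surjective (t.app W)) :
    Good t a W := by
  intro c
  obtain ⟨r, hr⟩ := h (resT t W c)
  exact ⟨0, r, by rw [hr, pow_zero, one_mul]⟩

theorem good_sup [IsClosedImmersion t] (ht : Function.Surjective t) [QuasiSeparatedSpace X']
    (a : Γ(X, ⊤)) {W₁ W₂ : X'.Opens} (hG : Good t a W₁)
    (hc₁ : IsCompact (W₁ : Set X')) (hc₂ : IsCompact (W₂ : Set X'))
    (hP₂ : Function.Surjective (t.app W₂))
    (hsupp : t ⁻¹ᵁ W₂ ⊓ X.basicOpen a ≤ t ⁻¹ᵁ W₁) : Good t a (W₁ ⊔ W₂) := by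
  intro c
  -- Step 1: a positive power of `a` lifts over `W₁ ⊔ W₂`
  obtain ⟨n₁, r₁, hr₁⟩ := hG a
  have hN : a ^ n₁ * a = a ^ (n₁ + 1) := (pow_succ a n₁).symm
  rw [hN] at hr₁
  obtain ⟨a₂, ha₂⟩ := hP₂ (resT t W₂ (a ^ (n₁ + 1)))
  have hs : X'.basicOpen a₂ ≤ W₁ := by
    apply le_of_preimage_le t ht
    rw [Scheme.preimage_basicOpen, ha₂, resT_apply, Scheme.basicOpen_res,
      X.basicOpen_pow a (Nat.succ_pos n₁)]
    exact hsupp
  have hμ : t.app (W₁ ⊓ W₂) (X'.presheaf.map (homOfLE inf_le_left).op r₁) =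
      t.app (W₁ ⊓ W₂) (X'.presheaf.map (homOfLE inf_le_right).op a₂) := by
    rw [app_res, app_res, hr₁, ha₂, res_resT t inf_le_left, res_resT t inf_le_right]
  obtain ⟨n, hn, r, hr1, hr2⟩ := exists_lift_pow_sup t ht hc₁ hc₂ r₁ a₂ hμ hs
  have hr : t.app (W₁ ⊔ W₂) r = resT t (W₁ ⊔ W₂) (a ^ ((n₁ + 1) * n)) := by
    apply eq_of_res_eq t
    · rw [← app_res t (le_sup_left : W₁ ≤ W₁ ⊔ W₂), hr1, map_pow, hr₁, res_resT t le_sup_left,
        ← map_pow, ← pow_mul]
    · rw [← app_res t (le_sup_right : W₂ ≤ W₁ ⊔ W₂), hr2, map_pow, ha₂, res_resT t le_sup_right,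
        ← map_pow, ← pow_mul]
  have hpos : 0 < (n₁ + 1) * n := Nat.mul_pos (Nat.succ_pos _) hn
  -- Step 2: the function `c`
  obtain ⟨nc, b₁, hb₁⟩ := hG c
  obtain ⟨b₂, hb₂⟩ := hP₂ (resT t W₂ (a ^ nc * c))
  have hμ' : t.app (W₁ ⊓ W₂) (X'.presheaf.map (homOfLE inf_le_left).op b₁) =
      t.app (W₁ ⊓ W₂) (X'.presheaf.map (homOfLE inf_le_right).op b₂) := by
    rw [app_res, app_res, hb₁, hb₂, res_resT t inf_le_left, res_resT t inf_le_right]
  have hrW₁ : t.app W₁ (X'.presheaf.map (homOfLE le_sup_left).op r) =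
      resT t W₁ (a ^ ((n₁ + 1) * n)) := by
    rw [app_res, hr, res_resT t le_sup_left]
  have hrW₂ : t.app W₂ (X'.presheaf.map (homOfLE le_sup_right).op r) =
      resT t W₂ (a ^ ((n₁ + 1) * n)) := by
    rw [app_res, hr, res_resT t le_sup_right]
  have hs' : X'.basicOpen (X'.presheaf.map (homOfLE le_sup_right).op r : Γ(X', W₂)) ≤ W₁ := by
    apply le_of_preimage_le t ht
    rw [Scheme.preimage_basicOpen, hrW₂, resT_apply, Scheme.basicOpen_res, X.basicOpen_pow a hpos]
    exact hsupp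
  obtain ⟨m, r', hr'1, hr'2⟩ := exists_lift_pow_mul_sup t hc₁ hc₂ r b₁ b₂ hμ' hs'
  refine ⟨(n₁ + 1) * n * m + nc, r', ?_⟩
  have hpow : a ^ ((n₁ + 1) * n * m + nc) * c = (a ^ ((n₁ + 1) * n)) ^ m * (a ^ nc * c) := by
    rw [← pow_mul, pow_add, mul_assoc]
  apply eq_of_res_eq t
  · rw [← app_res t (le_sup_left : W₁ ≤ W₁ ⊔ W₂), hr'1, map_mul, map_pow, hrW₁, hb₁,
      res_resT t le_sup_left, hpow]
    simp only [map_mul, map_pow]
  · rw [← app_res t (le_sup_right : W₂ ≤ W₁ ⊔ W₂), hr'2, map_mul, map_pow, hrW₂, hb₂,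
      res_resT t le_sup_right, hpow]
    simp only [map_mul, map_pow]

/-- **A thickening of a quasi-affine scheme is quasi-affine.** -/
theorem isQuasiAffine_of_thickening [IsClosedImmersion t] (ht : Function.Surjective t)
    [X.IsQuasiAffine] : X'.IsQuasiAffine := by
  classical
  have hsurj : Surjective t := ⟨ht⟩
  have hcomp : CompactSpace X' := by
    constructor
    have : (Set.univ : Set X') = t '' Set.univ := by
      rw [Set.image_univ, Set.range_eq_univ.mpr ht]
    rw [this]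
    exact isCompact_univ.image t.continuous
  have hqsX : QuasiSeparatedSpace X :=
    QuasiSeparatedSpace.of_isOpenEmbedding X.toSpecΓ.isOpenEmbedding
  have hqs : QuasiSeparatedSpace X' := quasiSeparatedSpace t ht
  -- affine basic opens of `X`
  have hbasis : ∀ y : X, ∃ b : Γ(X, ⊤), IsAffineOpen (X.basicOpen b) ∧ y ∈ X.basicOpen b := by
    intro y
    obtain ⟨_, ⟨b, hb, rfl⟩, hy, -⟩ :=
      Opens.isBasis_iff_nbhd.mp (Scheme.IsQuasiAffine.isBasis_basicOpen X) (Opens.mem_top y)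
    exact ⟨b, hb, hy⟩
  choose b hb hyb using hbasis
  -- properties of the image of an affine basic open
  have himg : ∀ c : Γ(X, ⊤), IsAffineOpen (X.basicOpen c) →
      IsAffineOpen (img t ht (X.basicOpen c)) := by
    intro c hc
    apply isAffineOpen_of_preimage t
    rwa [preimage_img]
  refine Scheme.IsQuasiAffine.of_forall_exists_mem_basicOpen X' fun x' => ?_
  obtain ⟨x, rfl⟩ := ht x'
  set a := b x with ha
  have haff : IsAffineOpen (X.basicOpen a) := hb x
  -- induction over finite sets of points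
  have key : ∀ F : Finset X,
      Good t a (img t ht (X.basicOpen a) ⊔ F.sup (fun y => img t ht (X.basicOpen (b y)))) ∧
      IsCompact ((img t ht (X.basicOpen a) ⊔
        F.sup (fun y => img t ht (X.basicOpen (b y))) : X'.Opens) : Set X') := by
    intro F
    induction F using Finset.induction_on with
    | empty =>
      rw [Finset.sup_empty, sup_bot_eq]
      exact ⟨good_of_surjective t a (t.app_surjective _ (himg a haff)), (himg a haff).isCompact⟩
    | insert y F _ ih =>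
      rw [Finset.sup_insert, sup_left_comm, sup_comm]
      have hc₂ : IsCompact (img t ht (X.basicOpen (b y)) : Set X') := (himg _ (hb y)).isCompact
      refine ⟨good_sup t ht a ih.1 ih.2 hc₂ (t.app_surjective _ (himg _ (hb y))) ?_, ?_⟩
      · intro z hz
        have : z ∈ t ⁻¹ᵁ (img t ht (X.basicOpen a)) := by
          rw [preimage_img]; exact hz.2
        exact Or.inl this
      · rw [Opens.coe_sup]
        exact ih.2.union hc₂
  -- a finite subcover
  obtain ⟨F, hF⟩ := isCompact_univ.elim_finite_subcover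
    (fun y : X => (X.basicOpen (b y) : Set X)) (fun y => (X.basicOpen (b y)).2)
    (fun y _ => Set.mem_iUnion.mpr ⟨y, hyb y⟩)
  have htop : img t ht (X.basicOpen a) ⊔ F.sup (fun y => img t ht (X.basicOpen (b y))) = ⊤ := by
    apply eq_of_preimage_eq t ht
    apply le_antisymm le_top
    intro z _
    obtain ⟨y, hy⟩ := Set.mem_iUnion.mp (hF (Set.mem_univ z))
    obtain ⟨hyF, hzy⟩ := Set.mem_iUnion.mp hy
    have h1 : img t ht (X.basicOpen (b y)) ≤
        img t ht (X.basicOpen a) ⊔ F.sup (fun y => img t ht (X.basicOpen (b y))) :=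
      le_sup_of_le_right (Finset.le_sup (f := fun y => img t ht (X.basicOpen (b y))) hyF)
    have h2 : z ∈ t ⁻¹ᵁ (img t ht (X.basicOpen (b y))) := by
      rw [preimage_img]; exact hzy
    exact h1 h2
  have hgood := (key F).1
  rw [htop] at hgood
  obtain ⟨n, r, hr⟩ := hgood a
  have hr' : t.app ⊤ r = a ^ (n + 1) := by
    rw [hr, ← pow_succ]
    exact res_self X _ _
  have hpre : t ⁻¹ᵁ (X'.basicOpen r) = X.basicOpen a := by
    rw [Scheme.preimage_basicOpen, hr']
    exact X.basicOpen_pow a (Nat.succ_pos n)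
  refine ⟨r, isAffineOpen_of_preimage t _ (hpre ▸ haff), ?_⟩
  show x ∈ t ⁻¹ᵁ (X'.basicOpen r)
  rw [hpre]
  exact hyb x

end Groth.Agent.H87.ThickAff
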