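import Groth.Agent.H87.Dec4
import Mathlib.Algebra.BigOperators.Finprod

set_option autoImplicit false

namespace Groth.Agent.H87

open Submodule W4c5adicflatcompl

section killMap

variable {A : Type*} [CommRing A] (I : Ideal A) {Z : Type*}
  {N : Type*} [AddCommGroup N] [Module A N]

theorem eq_zero_of_mem_smul_top_of_kill {k : ℕ} (hk : ∀ a ∈ I ^ k, ∀ y : N, a • y = 0)
    {y : N} (hy : y ∈ (I ^ k • ⊤ : Submodule A N)) : y = 0 := by
  refine Submodule.smul_induction_on hy (fun a ha y _ => hk a ha y) ?_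
  rintro y y' rfl rfl
  simp

theorem support_killTerm_subset {k : ℕ} (hk : ∀ a ∈ I ^ k, ∀ y : N, a • y = 0) (f : Z → N)
    (g : decaying I Z A) :
    Function.support (fun z => (g : Z → A) z • f z) ⊆
      {z | (g : Z → A) z ∉ (I ^ k • ⊤ : Submodule A A)} := by
  intro z hz hcon
  apply hz
  rw [smul_top_self] at hcon
  exact hk _ hcon _

theorem finite_support_killTerm {k : ℕ} (hk : ∀ a ∈ I ^ k, ∀ y : N, a • y = 0) (f : Z → N)
    (g : decaying I Z A) :
    Function.HasFiniteSupport (fun z => (g : Z → A) z • f z) :=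
  (g.2 k).subset (support_killTerm_subset I hk f g)

/-- the "finite sum" map `dec(Z, A) → N`, `g ↦ ∑ g z • f z`, for `N` killed by `I ^ k`. -/
noncomputable def killMap {k : ℕ} (hk : ∀ a ∈ I ^ k, ∀ y : N, a • y = 0) (f : Z → N) :
    decaying I Z A →ₗ[A] N where
  toFun g := ∑ᶠ z, (g : Z → A) z • f z
  map_add' g g' := by
    rw [← finsum_add_distrib (finite_support_killTerm I hk f g) (finite_support_killTerm I hk f g')]
    congr 1
    funext z
    simp [add_smul]
  map_smul' a g := by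
    simp only [RingHom.id_apply]
    rw [smul_finsum' a (finite_support_killTerm I hk f g)]
    congr 1
    funext z
    simp [mul_smul]

theorem killMap_apply {k : ℕ} (hk : ∀ a ∈ I ^ k, ∀ y : N, a • y = 0) (f : Z → N)
    (g : decaying I Z A) : killMap I hk f g = ∑ᶠ z, (g : Z → A) z • f z := rfl

theorem killMap_eq_sum {k : ℕ} (hk : ∀ a ∈ I ^ k, ∀ y : N, a • y = 0) (f : Z → N)
    (g : decaying I Z A) (S : Finset Z) (hS : ∀ z, z ∉ S → (g : Z → A) z ∈ I ^ k) :
    killMap I hk f g = ∑ z ∈ S, (g : Z → A) z • f z := by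
  rw [killMap_apply]
  apply finsum_eq_sum_of_support_subset
  intro z hz
  by_contra hcon
  exact hz (hk _ (hS z hcon) _)

theorem killMap_single [DecidableEq Z] {k : ℕ} (hk : ∀ a ∈ I ^ k, ∀ y : N, a • y = 0) (f : Z → N)
    (z : Z) (c : A) : killMap I hk f (single I z c) = c • f z := by
  rw [killMap_eq_sum I hk f _ {z}]
  · simp
  · intro z' hz'
    have hne : z' ≠ z := by simpa using hz'
    simp [Pi.single_eq_of_ne hne]

theorem map_killMap {N' : Type*} [AddCommGroup N'] [Module A N'] {k k' : ℕ}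
    (hk : ∀ a ∈ I ^ k, ∀ y : N, a • y = 0) (hk' : ∀ a ∈ I ^ k', ∀ y : N', a • y = 0)
    (ρ : N →ₗ[A] N') (f : Z → N) (g : decaying I Z A) :
    ρ (killMap I hk f g) = killMap I hk' (fun z => ρ (f z)) g := by
  rw [killMap_apply, killMap_apply, map_finsum _ (finite_support_killTerm I hk f g)]
  congr 1
  funext z
  simp

end killMap

section tower

variable {A : Type*} [CommRing A] (I : Ideal A)
  (M : ℕ → Type*) [∀ n, AddCommGroup (M n)] [∀ n, Module A (M n)]
  (ψ : ∀ n, M (n + 1) →ₗ[A] M n)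
  (hkill : ∀ n, ∀ a ∈ I ^ (n + 1), ∀ y : M n, a • y = 0)
  {Z : Type*} (x : Z → sysLim M ψ)

/-- the level maps of the tower -/
noncomputable def lvl (n : ℕ) : decaying I Z A →ₗ[A] M n :=
  killMap I (hkill n) (fun z => ((x z : sysLim M ψ) : ∀ k, M k) n)

theorem lvl_compat (n : ℕ) (g : decaying I Z A) :
    ψ n (lvl I M ψ hkill x (n + 1) g) = lvl I M ψ hkill x n g := by
  unfold lvl
  rw [map_killMap I (hkill (n + 1)) (hkill n)]
  have : (fun z => ψ n (((x z : sysLim M ψ) : ∀ k, M k) (n + 1))) =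
      fun z => ((x z : sysLim M ψ) : ∀ k, M k) n := by
    funext z
    exact (x z).2 n
  rw [this]

/-- the induced map to the limit -/
noncomputable def towerLim : decaying I Z A →ₗ[A] sysLim M ψ where
  toFun g := ⟨fun n => lvl I M ψ hkill x n g, fun n => lvl_compat I M ψ hkill x n g⟩
  map_add' g g' := by
    apply Subtype.ext
    funext n
    simp
  map_smul' a g := by
    apply Subtype.ext
    funext n
    simp

theorem sysProj_towerLim (n : ℕ) (g : decaying I Z A) :
    sysProj M ψ n (towerLim I M ψ hkill x g) = lvl I M ψ hkill x n g := rfl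

theorem smul_top_le_ker_lvl (n : ℕ) :
    (I ^ (n + 1) • ⊤ : Submodule A (decaying I Z A)) ≤ LinearMap.ker (lvl I M ψ hkill x n) := by
  intro g hg
  rw [LinearMap.mem_ker]
  exact eq_zero_of_mem_smul_top_of_kill I (hkill n) (map_mem_smul_top _ _ _ hg)

theorem tower_main [IsNoetherianRing A] [IsAdicComplete I A]
    (hs : ∀ n, Function.Surjective (lvl I M ψ hkill x n))
    (hk : ∀ n, LinearMap.ker (lvl I M ψ hkill x n) ≤
      (I ^ (n + 1) • ⊤ : Submodule A (decaying I Z A))) :
    Function.Bijective (towerLim I M ψ hkill x) ∧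
      ∀ n, Function.Surjective (sysProj M ψ n) ∧
        LinearMap.ker (sysProj M ψ n) = (I ^ (n + 1) • ⊤ : Submodule A (sysLim M ψ)) := by
  have hfgI : I.FG := (isNoetherianRing_iff_ideal_fg A).mp inferInstance _
  have hD : IsAdicComplete I (decaying I Z A) := isAdicComplete_decaying hfgI
  have hinj : Function.Injective (towerLim I M ψ hkill x) := by
    rw [← LinearMap.ker_eq_bot, eq_bot_iff]
    intro g hg
    rw [Submodule.mem_bot]
    apply IsHausdorff.haus' (I := I)
    intro n
    rw [SModEq.zero]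
    have h1 : g ∈ LinearMap.ker (lvl I M ψ hkill x n) := by
      rw [LinearMap.mem_ker, ← sysProj_towerLim, (LinearMap.mem_ker.mp hg)]
      simp
    exact pow_smul_top_anti (Nat.le_succ n) (hk n h1)
  have hsurj : Function.Surjective (towerLim I M ψ hkill x) := by
    intro y
    choose g hg using fun n => hs n ((y : ∀ k, M k) n)
    have hstep : ∀ n, g (n + 1) - g n ∈ (I ^ (n + 1) • ⊤ : Submodule A (decaying I Z A)) := by
      intro n
      apply hk n
      rw [LinearMap.mem_ker, map_sub, ← lvl_compat, hg, hg, y.2 n, sub_self]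
    have hcauchy : ∀ {m n : ℕ}, m ≤ n →
        g m ≡ g n [SMOD (I ^ m • ⊤ : Submodule A (decaying I Z A))] := by
      intro m n hmn
      obtain ⟨d, rfl⟩ := Nat.exists_eq_add_of_le hmn
      induction d with
      | zero => exact SModEq.rfl
      | succ d ih =>
        refine (ih (Nat.le_add_right m d)).trans ?_
        rw [SModEq.sub_mem, ← neg_mem_iff, neg_sub]
        exact pow_smul_top_anti (by omega) (hstep (m + d))
    obtain ⟨L, hL⟩ := IsPrecomplete.prec' (I := I) g hcauchy
    refine ⟨L, ?_⟩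
    apply Subtype.ext
    funext n
    show lvl I M ψ hkill x n L = (y : ∀ k, M k) n
    have h1 : L - g (n + 1) ∈ LinearMap.ker (lvl I M ψ hkill x n) := by
      apply smul_top_le_ker_lvl
      have := hL (n + 1)
      rw [SModEq.sub_mem, ← neg_mem_iff, neg_sub] at this
      exact this
    rw [LinearMap.mem_ker, map_sub, sub_eq_zero] at h1
    rw [h1, ← lvl_compat, hg, y.2 n]
  refine ⟨⟨hinj, hsurj⟩, fun n => ⟨?_, ?_⟩⟩
  · intro y
    obtain ⟨g, hg⟩ := hs n y
    exact ⟨towerLim I M ψ hkill x g, hg⟩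
  · apply le_antisymm
    · intro y hy
      obtain ⟨g, rfl⟩ := hsurj y
      have h1 : g ∈ LinearMap.ker (lvl I M ψ hkill x n) := hy
      exact map_mem_smul_top _ _ _ (hk n h1)
    · intro y hy
      rw [LinearMap.mem_ker]
      exact eq_zero_of_mem_smul_top_of_kill I (hkill n) (map_mem_smul_top _ _ _ hy)

end tower

end Groth.Agent.H87

namespace Groth.Agent.H87

open Submodule W4c5adicflatcompl

section flatker

variable {A : Type*} [CommRing A]

/-- flat kernel lemma relative to a quotient ring: if `N` is a flat `A ⧸ 𝔞`-module and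
`φ : D → N` is a surjection of `A`-modules then `ker φ ∩ J D ⊆ J ker φ + 𝔞 D`. -/
theorem ker_inf_smul_top_le_sup {D N : Type*} [AddCommGroup D] [Module A D] [AddCommGroup N]
    [Module A N] (𝔞 : Ideal A) [Module (A ⧸ 𝔞) N] [IsScalarTower A (A ⧸ 𝔞) N]
    [Module.Flat (A ⧸ 𝔞) N] (φ : D →ₗ[A] N) (hφ : Function.Surjective φ) (J : Ideal A) :
    LinearMap.ker φ ⊓ (J • ⊤ : Submodule A D) ≤
      J • LinearMap.ker φ ⊔ (𝔞 • ⊤ : Submodule A D) := by
  classical
  rintro x ⟨hxK, hxJ⟩
  have hspan : (⊤ : Submodule A D) = span A (Set.range (id : D → D)) := by simp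
  rw [SetLike.mem_coe, hspan, mem_ideal_smul_span_iff_exists_sum] at hxJ
  obtain ⟨a, ha, hsum⟩ := hxJ
  rw [Finsupp.sum] at hsum
  simp only [id] at hsum
  have hmk : ∀ (c : A) (y : N), (Ideal.Quotient.mk 𝔞 c) • y = c • y := by
    intro c y
    rw [← Ideal.Quotient.algebraMap_eq, algebraMap_smul]
  -- relation in N over A ⧸ 𝔞
  have hrel : ∑ i : a.support, (Ideal.Quotient.mk 𝔞 (a i)) • φ (i : D) = 0 := by
    have h0 : φ x = 0 := hxK
    rw [← hsum, map_sum] at h0
    rw [← h0, ← Finset.sum_coe_sort a.support]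
    refine Finset.sum_congr rfl fun i _ => ?_
    rw [hmk, map_smul]
  obtain ⟨k, b', y, hy, hb'⟩ := Module.Flat.isTrivialRelation_of_sum_smul_eq_zero hrel
  choose b hbb using fun (i : a.support) (j : Fin k) => Ideal.Quotient.mk_surjective (I := 𝔞) (b' i j)
  choose e he using fun j => hφ (y j)
  have hk : ∀ i : a.support, (i : D) - ∑ j, b i j • e j ∈ LinearMap.ker φ := by
    intro i
    have hyi : φ (i : D) = ∑ j, b' i j • y j := hy i
    rw [LinearMap.mem_ker, map_sub, map_sum, hyi, sub_eq_zero]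
    refine Finset.sum_congr rfl fun j _ => ?_
    rw [map_smul, he, ← hbb i j, hmk]
  have hb : ∀ j, ∑ i : a.support, a i * b i j ∈ 𝔞 := by
    intro j
    rw [← Ideal.Quotient.eq_zero_iff_mem, map_sum]
    have := hb' j
    simp only [← hbb] at this
    simpa [map_mul] using this
  have hx : x = ∑ i : a.support, a i • ((i : D) - ∑ j, b i j • e j) +
      ∑ j, (∑ i : a.support, a i * b i j) • e j := by
    have h1 : ∑ i : a.support, a i • ∑ j, b i j • e j =
        ∑ j, (∑ i : a.support, a i * b i j) • e j := by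
      simp_rw [Finset.smul_sum, smul_smul, Finset.sum_smul]
      rw [Finset.sum_comm]
    simp_rw [smul_sub]
    rw [Finset.sum_sub_distrib, h1, sub_add_cancel, ← hsum, ← Finset.sum_coe_sort a.support]
  rw [hx]
  refine Submodule.add_mem _ (Submodule.mem_sup_left ?_) (Submodule.mem_sup_right ?_)
  · exact Submodule.sum_mem _ fun i _ => Submodule.smul_mem_smul (ha i) (hk i)
  · exact Submodule.sum_mem _ fun j _ => Submodule.smul_mem_smul (hb j) Submodule.mem_top

end flatker

section towerflat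

variable {A : Type*} [CommRing A] (I : Ideal A)
  (M : ℕ → Type*) [∀ n, AddCommGroup (M n)] [∀ n, Module A (M n)]
  (ψ : ∀ n, M (n + 1) →ₗ[A] M n)
  (hkill : ∀ n, ∀ a ∈ I ^ (n + 1), ∀ y : M n, a • y = 0)
  {Z : Type*} (x : Z → sysLim M ψ)

theorem smul_smul_top_le {D : Type*} [AddCommGroup D] [Module A D] (n : ℕ)
    (K : Submodule A D) (hK : K ≤ (I ^ (n + 1) • ⊤ : Submodule A D)) :
    I ^ (n + 1) • K ≤ (I ^ (n + 1 + 1) • ⊤ : Submodule A D) := by
  calc I ^ (n + 1) • K ≤ I ^ (n + 1) • (I ^ (n + 1) • ⊤ : Submodule A D) :=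
        Submodule.smul_mono le_rfl hK
    _ = I ^ (n + 1 + (n + 1)) • ⊤ := by rw [← Submodule.mul_smul, ← pow_add]
    _ ≤ I ^ (n + 1 + 1) • ⊤ := pow_smul_top_anti (by omega)

theorem tower_flat [∀ n, Module (A ⧸ I ^ (n + 1)) (M n)]
    [∀ n, IsScalarTower A (A ⧸ I ^ (n + 1)) (M n)]
    [∀ n, Module.Flat (A ⧸ I ^ (n + 1)) (M n)]
    (hker : ∀ n, LinearMap.ker (ψ n) = (I ^ (n + 1) • ⊤ : Submodule A (M (n + 1))))
    (h0s : Function.Surjective (lvl I M ψ hkill x 0))
    (h0k : LinearMap.ker (lvl I M ψ hkill x 0) ≤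
      (I ^ (0 + 1) • ⊤ : Submodule A (decaying I Z A))) :
    ∀ n, Function.Surjective (lvl I M ψ hkill x n) ∧
      LinearMap.ker (lvl I M ψ hkill x n) ≤ (I ^ (n + 1) • ⊤ : Submodule A (decaying I Z A)) := by
  intro n
  induction n with
  | zero => exact ⟨h0s, h0k⟩
  | succ n ih =>
    obtain ⟨ihs, ihk⟩ := ih
    -- every element is in the range modulo `I^(n+1)`
    have hdecomp : ∀ y : M (n + 1), ∃ g : decaying I Z A,
        y - lvl I M ψ hkill x (n + 1) g ∈ (I ^ (n + 1) • ⊤ : Submodule A (M (n + 1))) := by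
      intro y
      obtain ⟨g, hg⟩ := ihs (ψ n y)
      refine ⟨g, ?_⟩
      rw [← hker n, LinearMap.mem_ker, map_sub, lvl_compat, hg, sub_self]
    have hzero : ∀ a ∈ I ^ (n + 1), ∀ w ∈ (I ^ (n + 1) • ⊤ : Submodule A (M (n + 1))),
        a • w = 0 := by
      intro a ha w hw
      apply eq_zero_of_mem_smul_top_of_kill I (hkill (n + 1))
      exact smul_smul_top_le I n _ le_rfl (Submodule.smul_mem_smul ha hw)
    have hs : Function.Surjective (lvl I M ψ hkill x (n + 1)) := by
      intro y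
      obtain ⟨g, hg⟩ := hdecomp y
      suffices h : ∀ w ∈ (I ^ (n + 1) • ⊤ : Submodule A (M (n + 1))),
          w ∈ LinearMap.range (lvl I M ψ hkill x (n + 1)) by
        obtain ⟨g', hg'⟩ := h _ hg
        refine ⟨g + g', ?_⟩
        rw [map_add, hg']
        abel
      intro w hw
      refine Submodule.smul_induction_on hw ?_ fun _ _ h1 h2 => Submodule.add_mem _ h1 h2
      intro a ha u _
      obtain ⟨g', hg'⟩ := hdecomp u
      refine ⟨a • g', ?_⟩
      have : a • u = a • lvl I M ψ hkill x (n + 1) g' +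
          a • (u - lvl I M ψ hkill x (n + 1) g') := by
        rw [← smul_add]; congr 1; abel
      rw [this, hzero a ha _ hg', add_zero, map_smul]
    refine ⟨hs, ?_⟩
    intro g hg
    have hg0 : lvl I M ψ hkill x (n + 1) g = 0 := hg
    have h1 : g ∈ (I ^ (n + 1) • ⊤ : Submodule A (decaying I Z A)) := by
      apply ihk
      rw [LinearMap.mem_ker, ← lvl_compat, hg0, map_zero]
    have h2 := ker_inf_smul_top_le_sup (I ^ (n + 1 + 1)) (lvl I M ψ hkill x (n + 1)) hs
      (I ^ (n + 1)) ⟨hg, h1⟩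
    have h3 : I ^ (n + 1) • LinearMap.ker (lvl I M ψ hkill x (n + 1)) ⊔
        (I ^ (n + 1 + 1) • ⊤ : Submodule A (decaying I Z A)) ≤
        (I ^ (n + 1 + 1) • ⊤ : Submodule A (decaying I Z A)) := sup_le ?_ le_rfl
    · exact h3 h2
    apply smul_smul_top_le I n
    intro g' hg'
    apply ihk
    have hg0' : lvl I M ψ hkill x (n + 1) g' = 0 := hg'
    rw [LinearMap.mem_ker, ← lvl_compat, hg0', map_zero]

end towerflat

section lift

variable {A : Type*} [CommRing A]
  (M : ℕ → Type*) [∀ n, AddCommGroup (M n)] [∀ n, Module A (M n)]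
  (ψ : ∀ n, M (n + 1) →ₗ[A] M n)

/-- successive lifts along the surjections of the tower -/
noncomputable def liftSeq (hψ : ∀ n, Function.Surjective (ψ n)) (y0 : M 0) : ∀ n, M n
  | 0 => y0
  | n + 1 => Classical.choose (hψ n (liftSeq hψ y0 n))

theorem sysProj_zero_surjective (hψ : ∀ n, Function.Surjective (ψ n)) :
    Function.Surjective (sysProj M ψ 0) := by
  intro y0
  refine ⟨⟨liftSeq M ψ hψ y0, fun n => ?_⟩, rfl⟩
  exact Classical.choose_spec (hψ n (liftSeq M ψ hψ y0 n))

end lift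

end Groth.Agent.H87
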