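import Mathlib

/-!
# Localizing a square presentation away from its Jacobian gives an étale algebra
-/

namespace Groth.Agent.H87.UnivEt

open MvPolynomial Algebra

universe u

/-- For `n` polynomials in `n` variables over `R`, the quotient localized away from the Jacobian
determinant is étale over `R`. -/
theorem etale_away_jacobian {R : Type u} [CommRing R] {n : ℕ}
    (v : Fin n → MvPolynomial (Fin n) R) :
    Algebra.Etale R (Localization.Away
      (PreSubmersivePresentation.naive (v := v) id Function.injective_id).jacobian) := by
  set P := PreSubmersivePresentation.naive (v := v) id Function.injective_id with hP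
  let Q := PreSubmersivePresentation.localizationAway (Localization.Away P.jacobian) P.jacobian
  have hjac : IsUnit (Q.comp P).jacobian := by
    rw [PreSubmersivePresentation.comp_jacobian_eq_jacobian_smul_jacobian,
      PreSubmersivePresentation.localizationAway_jacobian, Algebra.smul_def]
    exact (IsLocalization.Away.algebraMap_isUnit _).mul (IsLocalization.Away.algebraMap_isUnit _)
  let SP : SubmersivePresentation R (Localization.Away P.jacobian) _ _ :=
    { toPreSubmersivePresentation := Q.comp P, jacobian_isUnit := hjac }
  have hdim : SP.dimension = 0 := Nat.sub_self _
  have := SP.isStandardSmoothOfRelativeDimension hdim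
  exact Algebra.Etale.iff_isStandardSmoothOfRelativeDimension_zero.mpr this

end Groth.Agent.H87.UnivEt
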