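import Mathlib
import Groth.Prelude.Def_W4stkdualitygroupp2Univ
import Groth.Agent.H87.UnivEtA

open MvPolynomial Algebra Synt

namespace Groth.Agent.H87.UnivEt

/-- The index of the exponent vector `e_j`. -/
def eIdx (n d : ℕ) (hd : 1 ≤ d) (j : Fin n) : UnivIdx n d :=
  ⟨fun i => if i = j then ⟨1, by omega⟩ else ⟨0, by omega⟩, by
    have : ∀ i : Fin n, ((if i = j then (⟨1, by omega⟩ : Fin (d + 1)) else ⟨0, by omega⟩ : Fin (d + 1)) : ℕ)
        = if i = j then 1 else 0 := fun i => by split_ifs <;> rfl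
    simp only [this, Finset.sum_ite_eq', Finset.mem_univ, if_true]
    exact hd⟩

theorem eIdx_exponent (n d : ℕ) (hd : 1 ≤ d) (j : Fin n) :
    (eIdx n d hd j).exponent = Finsupp.single j 1 := by
  ext i
  change (((eIdx n d hd j).1 i : Fin (d + 1)) : ℕ) = _
  by_cases h : i = j
  · subst h; simp [eIdx]
  · simp [eIdx, h]

/-- Evaluation of the coefficients at the point `f_i = x_i`. -/
noncomputable def phi (n d : ℕ) (hd : 1 ≤ d) : UnivBase n d →+* ℤ :=
  MvPolynomial.eval (fun p : Fin n × UnivIdx n d => if p.2 = eIdx n d hd p.1 then 1 else 0)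

/-- Evaluation at the coefficients point and `x = 0`. -/
noncomputable def psi' (n d : ℕ) (hd : 1 ≤ d) : MvPolynomial (Fin n) (UnivBase n d) →+* ℤ :=
  MvPolynomial.eval₂Hom (phi n d hd) (fun _ => 0)

theorem psi'_monomial (n d : ℕ) (hd : 1 ≤ d) (s : Fin n →₀ ℕ) (a : UnivBase n d) :
    psi' n d hd (monomial s a) = if s = 0 then phi n d hd a else 0 := by
  rw [psi', eval₂Hom_monomial]
  split_ifs with h
  · subst h; simp
  · obtain ⟨i, hi⟩ : ∃ i, s i ≠ 0 := by
      by_contra hcon
      push Not at hcon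
      exact h (Finsupp.ext hcon)
    rw [Finsupp.prod, Finset.prod_eq_zero (Finsupp.mem_support_iff.2 hi) (zero_pow hi), mul_zero]

theorem psi'_univPoly (n d : ℕ) (hd : 1 ≤ d) (i : Fin n) : psi' n d hd (univPoly n d i) = 0 := by
  rw [univPoly, map_sum]
  refine Finset.sum_eq_zero (fun E _ => ?_)
  rw [psi'_monomial]
  split_ifs with h
  · rw [phi, eval_X, if_neg]
    intro hE
    have hE' : E = eIdx n d hd i := hE
    rw [hE', eIdx_exponent] at h
    simpa using DFunLike.congr_fun h i
  · rfl

theorem psi'_pderiv_univPoly (n d : ℕ) (hd : 1 ≤ d) (i j : Fin n) :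
    psi' n d hd (pderiv i (univPoly n d j)) = if i = j then 1 else 0 := by
  rw [univPoly, map_sum, map_sum]
  rw [Finset.sum_eq_single (eIdx n d hd j)]
  · rw [pderiv_monomial, psi'_monomial, eIdx_exponent]
    by_cases h : i = j
    · subst h
      simp [phi]
    · rw [if_neg h, Finsupp.single_apply, if_neg (Ne.symm h)]
      simp
  · intro E _ hE
    rw [pderiv_monomial, psi'_monomial]
    split_ifs
    · rw [map_mul, phi, eval_X, if_neg hE, zero_mul]
    · rfl
  · intro h; exact absurd (Finset.mem_univ _) h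

/-- The quotient ring underlying `Synt.UnivAlg`. -/
abbrev Squot (n d : ℕ) : Type :=
  MvPolynomial (Fin n) (UnivBase n d) ⧸ Ideal.span (Set.range (univPoly n d))

theorem main (n d : ℕ) (hd : 1 ≤ d) :
    ∃ q : PrimeSpectrum (UnivAlg n d), Algebra.QuasiFiniteAt (UnivBase n d) q.asIdeal ∧
      Algebra.IsEtaleAt (UnivBase n d) q.asIdeal := by
  let P := PreSubmersivePresentation.naive (v := univPoly n d) id Function.injective_id
  have het : Algebra.Etale (UnivBase n d) (Localization.Away P.jacobian) :=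
    etale_away_jacobian _
  have hker : Ideal.span (Set.range (univPoly n d)) ≤ RingHom.ker (psi' n d hd) :=
    Ideal.span_le.2 (by rintro _ ⟨i, rfl⟩; exact psi'_univPoly n d hd i)
  let ψ : Squot n d →+* ℤ :=
    Ideal.Quotient.lift _ (psi' n d hd) (fun a ha => RingHom.mem_ker.1 (hker ha))
  have hcomp : ψ.comp (algebraMap P.Ring _) = psi' n d hd := by
    refine MvPolynomial.ringHom_ext (fun r => ?_) (fun i => ?_)
    · rw [RingHom.comp_apply, Algebra.Generators.algebraMap_apply, algHom_C]
      exact Ideal.Quotient.lift_mk _ _ _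
    · simp [ψ, P, Algebra.Generators.algebraMap_apply]
  have hJ : ψ P.jacobian = 1 := by
    rw [PreSubmersivePresentation.jacobian_eq_jacobiMatrix_det, ← RingHom.comp_apply, hcomp,
      RingHom.map_det]
    have : (psi' n d hd).mapMatrix P.jacobiMatrix = 1 := by
      ext i j
      rw [RingHom.mapMatrix_apply, Matrix.map_apply,
        PreSubmersivePresentation.jacobiMatrix_naive, Matrix.one_apply]
      exact psi'_pderiv_univPoly n d hd i j
    rw [this, Matrix.det_one]
  let J : UnivAlg n d := P.jacobian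
  have het' : Algebra.FormallyEtale (UnivBase n d) (Localization.Away J) := het.1
  obtain ⟨q, hJq⟩ : ∃ q : PrimeSpectrum (UnivAlg n d), J ∉ q.asIdeal :=
    ⟨⟨RingHom.ker ψ, RingHom.ker_isPrime ψ⟩, by
      change P.jacobian ∉ RingHom.ker ψ
      rw [RingHom.mem_ker, hJ]; exact one_ne_zero⟩
  have hsub := (Algebra.basicOpen_subset_etaleLocus_iff (R := UnivBase n d)
    (A := UnivAlg n d) (f := J)).2 het'
  have hmem : q ∈ etaleLocus (UnivBase n d) (UnivAlg n d) := hsub hJq
  have hEt : Algebra.IsEtaleAt (UnivBase n d) q.asIdeal := hmem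
  have hFT : Algebra.FiniteType (UnivBase n d) (UnivAlg n d) := by
    unfold UnivAlg; infer_instance
  have hQF : Algebra.QuasiFiniteAt (UnivBase n d) q.asIdeal := inferInstance
  exact ⟨q, hQF, hEt⟩

end Groth.Agent.H87.UnivEt
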