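import Groth.Agent.H87.UnivThickA
import Mathlib.AlgebraicGeometry.Cover.Directed

/-!
# Universal first order thickenings: gluing local lifts, locality of thickenings
-/

set_option autoImplicit false
universe u

namespace Groth.Agent.H87.UnivThick

open AlgebraicGeometry CategoryTheory Limits OmegaSh

variable {X : Scheme.{u}}

/-- A local lift is compatible with any map into the pullback square. -/
lemma local_lift_comp {Z Z' T T' P P' Q : Scheme.{u}} {i : Z ⟶ Z'} {j : T ⟶ T'} {a : T ⟶ Z}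
    {jP : P ⟶ P'} {w : P ⟶ T} {w' : P' ⟶ T'} (sq : IsPullback jP w w' j)
    {a'P : P' ⟶ Z'} (h1 : jP ≫ a'P = w ≫ a ≫ i) (r : Q ⟶ T) (q : Q ⟶ P')
    (hrq : r ≫ j = q ≫ w') : q ≫ a'P = r ≫ a ≫ i := by
  have e1 : sq.lift q r hrq.symm ≫ jP = q := sq.lift_fst _ _ _
  have e2 : sq.lift q r hrq.symm ≫ w = r := sq.lift_snd _ _ _
  rw [← e1, Category.assoc, h1, ← Category.assoc, e2]

/-- Existence of lifts into a formally unramified target can be checked locally on the
thickened test scheme. -/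
theorem exists_lift_of_local {Z Z' T T' : Scheme.{u}} (h' : Z' ⟶ X) [FormallyUnramified h']
    (i : Z ⟶ Z') (j : T ⟶ T') (hj : MoreMor.IsFirstOrderThickening j) (a : T ⟶ Z) (b : T' ⟶ X)
    (H : ∀ t : T', ∃ (P P' : Scheme.{u}) (jP : P ⟶ P') (w : P ⟶ T) (w' : P' ⟶ T')
      (_ : IsOpenImmersion w') (_ : t ∈ Set.range w') (_ : IsPullback jP w w' j)
      (a'P : P' ⟶ Z'), jP ≫ a'P = w ≫ a ≫ i ∧ a'P ≫ h' = w' ≫ b) :
    ∃ a' : T' ⟶ Z', j ≫ a' = a ≫ i ∧ a' ≫ h' = b := by
  choose P P' jP w w' hw' ht sq a'P h1 h2 using H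
  let 𝒰 : T'.OpenCover :=
    { I₀ := T'
      X := P'
      f := w'
      mem₀ := by
        rw [Scheme.presieve₀_mem_precoverage_iff]
        exact ⟨fun t => ⟨t, ht t⟩, hw'⟩ }
  have compat : ∀ t s : T', pullback.fst (𝒰.f t) (𝒰.f s) ≫ a'P t =
      pullback.snd (𝒰.f t) (𝒰.f s) ≫ a'P s := by
    intro t s
    let p : pullback (w' t) (w' s) ⟶ T' := pullback.fst (w' t) (w' s) ≫ w' t
    have sqQ : IsPullback (pullback.snd j p) (pullback.fst j p) p j :=
      (IsPullback.of_hasPullback j p).flip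
    have hQ : MoreMor.IsFirstOrderThickening (pullback.snd j p) :=
      Groth.Agent.H49.isFirstOrderThickening_of_isPullback hj sqQ
    have hp : p = pullback.snd (w' t) (w' s) ≫ w' s := pullback.condition
    refine hom_ext_of_unram hQ h' ?_ ?_
    · have e1 : (pullback.snd j p ≫ pullback.fst (w' t) (w' s)) ≫ a'P t =
          pullback.fst j p ≫ a ≫ i :=
        local_lift_comp (sq t) (h1 t) (pullback.fst j p)
          (pullback.snd j p ≫ pullback.fst (w' t) (w' s))
          (by rw [pullback.condition, Category.assoc])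
      have e2 : (pullback.snd j p ≫ pullback.snd (w' t) (w' s)) ≫ a'P s =
          pullback.fst j p ≫ a ≫ i :=
        local_lift_comp (sq s) (h1 s) (pullback.fst j p)
          (pullback.snd j p ≫ pullback.snd (w' t) (w' s))
          (by rw [pullback.condition, Category.assoc, ← hp])
      rw [← Category.assoc, ← Category.assoc]
      exact e1.trans e2.symm
    · rw [Category.assoc, Category.assoc, h2 t, h2 s, pullback.condition_assoc]
  refine ⟨𝒰.glueMorphisms a'P compat, ?_, ?_⟩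
  · refine Scheme.Cover.hom_ext (𝒰.pullback₁ j) _ _ ?_
    intro (t : T')
    change pullback.fst j (w' t) ≫ j ≫ _ = pullback.fst j (w' t) ≫ a ≫ i
    rw [← Category.assoc, pullback.condition, Category.assoc]
    have e1 : w' t ≫ 𝒰.glueMorphisms a'P compat = a'P t := 𝒰.ι_glueMorphisms a'P compat t
    rw [e1]
    exact local_lift_comp (sq t) (h1 t) (pullback.fst j (w' t)) (pullback.snd j (w' t))
      pullback.condition
  · refine 𝒰.hom_ext _ _ fun t => ?_
    have e1 : 𝒰.f t ≫ 𝒰.glueMorphisms a'P compat = a'P t := 𝒰.ι_glueMorphisms a'P compat t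
    rw [← Category.assoc, e1, h2 t]

/-- A closed immersion which restricts to first order thickenings over an open cover of the
target is a first order thickening. -/
theorem isFirstOrderThickening_of_restrict {Z Z' : Scheme.{u}} (i : Z ⟶ Z') [IsClosedImmersion i]
    {ι : Type*} (V : ι → Z'.Opens) (hV : ⨆ k, V k = ⊤)
    (H : ∀ k, MoreMor.IsFirstOrderThickening (i ∣_ V k)) : MoreMor.IsFirstOrderThickening i := by
  rw [Groth.Agent.H49.isFirstOrderThickening_iff]
  refine ⟨inferInstance, ?_⟩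
  let U : (Σ k, (V k : Scheme.{u}).affineOpens) → Z'.affineOpens := fun p =>
    ⟨(V p.1).ι ''ᵁ p.2.1, p.2.2.image_of_isOpenImmersion _⟩
  have hU : ⨆ p, (U p).1 = ⊤ := by
    rw [eq_top_iff]
    intro z _
    have hz : z ∈ ⨆ k, V k := by rw [hV]; trivial
    obtain ⟨k, hk⟩ := TopologicalSpace.Opens.mem_iSup.mp hz
    obtain ⟨A, hA, hzA, -⟩ := TopologicalSpace.Opens.isBasis_iff_nbhd.mp
      (V k : Scheme.{u}).isBasis_affineOpens
      (TopologicalSpace.Opens.mem_top (⟨z, hk⟩ : (V k : Scheme.{u})))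
    refine TopologicalSpace.Opens.mem_iSup.mpr ⟨⟨k, ⟨A, hA⟩⟩, ?_⟩
    exact ⟨⟨z, hk⟩, hzA, rfl⟩
  refine Scheme.IdealSheafData.ext_of_iSup_eq_top U hU ?_
  rintro ⟨k, A⟩
  have h2 : ((i ∣_ V k).ker * (i ∣_ V k).ker).ideal A = ⊥ := by rw [(H k).2]; rfl
  rw [Scheme.IdealSheafData.ideal_mul, Pi.mul_apply, Scheme.ker_morphismRestrict_ideal] at h2
  rw [Scheme.IdealSheafData.ideal_mul, Pi.mul_apply]
  exact h2

end Groth.Agent.H87.UnivThick
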