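import Groth.Agent.H87.UnivThickB
import Groth.Agent.H47.UnivThick
import Groth.Agent.H49.UnramThick

/-!
# Universal first order thickenings: the affine model
-/

set_option autoImplicit false
universe u

namespace Groth.Agent.H87.UnivThick

open AlgebraicGeometry CategoryTheory Limits OmegaSh

/-- The ring of a ring-level universal thickening is formally unramified over the base. -/
theorem formallyUnramified_of_ring {R S S' : Type u} [CommRing R] [CommRing S] [CommRing S']
    [Algebra R S] [Algebra R S'] (π : S' →ₐ[R] S) (hπ : IsUnivThickeningRing R S S' π) :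
    Algebra.FormallyUnramified R S' := by
  obtain ⟨hsurj, hker, huniv⟩ := hπ
  refine Groth.Agent.H49.formallyUnramified_of_unique_lifts R S' (RingHom.ker π.toRingHom)
    (by rw [← pow_two]; exact hker) ?_
  intro A _ I hI φ₁ φ₂ hRR h1 h2 hmk
  let _ : Algebra R A := (φ₁.comp (algebraMap R S')).toAlgebra
  let f₁ : S' →ₐ[R] A := { φ₁ with commutes' := fun r => rfl }
  let f₂ : S' →ₐ[R] A := { φ₂ with commutes' := fun r => (RingHom.congr_fun hRR r).symm }
  have hk : RingHom.ker π.toRingHom ≤
      RingHom.ker ((Ideal.Quotient.mkₐ R I).comp f₁).toRingHom := by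
    intro x hx
    rw [RingHom.mem_ker]
    change Ideal.Quotient.mk I (φ₁ x) = 0
    exact Ideal.Quotient.eq_zero_iff_mem.mpr (h1 x hx)
  let a : S →ₐ[R] A ⧸ I :=
    AlgHom.liftOfSurjective π hsurj ((Ideal.Quotient.mkₐ R I).comp f₁) hk
  have ha : a.comp π = (Ideal.Quotient.mkₐ R I).comp f₁ :=
    AlgHom.liftOfSurjective_comp _ _ _ _
  obtain ⟨x, -, hx⟩ := huniv A I hI a
  have e1 : f₁ = x := hx f₁ ha.symm
  have e2 : f₂ = x := by
    refine hx f₂ ?_
    rw [ha]
    ext s
    exact (RingHom.congr_fun hmk s).symm
  have e3 : f₁ = f₂ := e1.trans e2.symm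
  ext s
  exact congrArg (fun f : S' →ₐ[R] A => f s) e3

/-- The affine case: `Spec` of a ring-level universal thickening is a universal thickening. -/
theorem spec_case (R S : Type u) [CommRing R] [CommRing S] [Algebra R S]
    [Algebra.FormallyUnramified R S] :
    ∃ (Z' : Scheme.{u}) (i : Spec (CommRingCat.of S) ⟶ Z') (h' : Z' ⟶ Spec (CommRingCat.of R)),
      IsUnivThickening (Spec.map (CommRingCat.ofHom (algebraMap R S))) i h' := by
  obtain ⟨S', _, _, π, hπ⟩ := Groth.Agent.H47.exists_isUnivThickeningRing R S
  have hfu : Algebra.FormallyUnramified R S' := formallyUnramified_of_ring π hπ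
  obtain ⟨hsurj, hker, huniv⟩ := hπ
  have hfu' : FormallyUnramified (Spec.map (CommRingCat.ofHom (algebraMap R S'))) :=
    (HasRingHomProperty.Spec_iff (P := @FormallyUnramified)).mpr
      (RingHom.formallyUnramified_algebraMap.mpr hfu)
  have hcomp : CommRingCat.ofHom (algebraMap R S') ≫ CommRingCat.ofHom π.toRingHom =
      CommRingCat.ofHom (algebraMap R S) := by
    ext r
    exact π.commutes r
  refine ⟨Spec (CommRingCat.of S'), Spec.map (CommRingCat.ofHom π.toRingHom),
    Spec.map (CommRingCat.ofHom (algebraMap R S')), ?_, ?_, ?_⟩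
  · refine Groth.Agent.H49.isFirstOrderThickening_specMap_of_surjective _ hsurj ?_
    intro x y hx hy
    have : x * y ∈ RingHom.ker π.toRingHom ^ 2 := by
      rw [pow_two]
      exact Ideal.mul_mem_mul hx hy
    rw [hker] at this
    exact this
  · rw [← Spec.map_comp, hcomp]
  · intro T T' j b a hj hcomm
    have hjc : IsClosedImmersion j := hj.1.1
    have hex : ∃ a' : T' ⟶ Spec (CommRingCat.of S'),
        j ≫ a' = a ≫ Spec.map (CommRingCat.ofHom π.toRingHom) ∧
          a' ≫ Spec.map (CommRingCat.ofHom (algebraMap R S')) = b := by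
      refine exists_lift_of_local _ _ j hj a b ?_
      intro t
      obtain ⟨O, hO, htO, -⟩ := TopologicalSpace.Opens.isBasis_iff_nbhd.mp
        T'.isBasis_affineOpens (TopologicalSpace.Opens.mem_top t)
      have hO' : IsAffineOpen (j ⁻¹ᵁ O) := hO.preimage j
      have hw : hO'.fromSpec ≫ j = Spec.map (j.app O) ≫ hO.fromSpec := by
        rw [Scheme.Hom.app_eq_appLE]
        exact (IsAffineOpen.SpecMap_appLE_fromSpec j hO hO' le_rfl).symm
      have sq : IsPullback (Spec.map (j.app O)) hO'.fromSpec hO.fromSpec j :=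
        IsOpenImmersion.isPullback _ _ _ _ hw
          (by rw [hO.opensRange_fromSpec, hO'.opensRange_fromSpec])
      have hρ : Function.Surjective (j.app O).hom := j.app_surjective O hO
      obtain ⟨α, hα⟩ := Spec.map_surjective (hO'.fromSpec ≫ a)
      obtain ⟨β, hβ⟩ := Spec.map_surjective (hO.fromSpec ≫ b)
      have hring : β ≫ j.app O = CommRingCat.ofHom (algebraMap R S) ≫ α := by
        apply Spec.map_injective
        rw [Spec.map_comp, Spec.map_comp, hα, hβ, ← Category.assoc, ← hw, Category.assoc,
          hcomm, Category.assoc]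
      let _ : Algebra R Γ(T', O) := β.hom.toAlgebra
      have hI : RingHom.ker (j.app O).hom ^ 2 = ⊥ := by
        rw [pow_two, eq_bot_iff, Ideal.mul_le]
        intro x hx y hy
        exact Groth.Agent.H49.IsFirstOrderThickening.mul_eq_zero hj ⟨O, hO⟩ x y hx hy
      let eqv := RingHom.quotientKerEquivOfSurjective hρ
      let ar : S →ₐ[R] Γ(T', O) ⧸ RingHom.ker (j.app O).hom :=
        { eqv.symm.toRingHom.comp α.hom with
          commutes' := fun r => by
            change eqv.symm (α.hom (algebraMap R S r)) = Ideal.Quotient.mk _ (β.hom r)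
            have h1 : α.hom (algebraMap R S r) = (j.app O).hom (β.hom r) :=
              (ConcreteCategory.congr_hom hring r).symm
            rw [h1]
            exact RingHom.quotientKerEquivOfSurjective_symm_apply hρ _ }
      obtain ⟨a', ha', -⟩ := huniv Γ(T', O) (RingHom.ker (j.app O).hom) hI ar
      have hr1 : CommRingCat.ofHom a'.toRingHom ≫ j.app O =
          CommRingCat.ofHom π.toRingHom ≫ α := by
        ext s
        have h1 : Ideal.Quotient.mk _ (a' s) = eqv.symm (α.hom (π s)) :=
          congrArg (fun f : S' →ₐ[R] _ => f s) ha'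
        have h2 := congrArg eqv h1
        rw [RingEquiv.apply_symm_apply] at h2
        change (j.app O).hom (a' s) = α.hom (π s)
        rw [← h2]
        exact (RingHom.quotientKerEquivOfSurjective_apply_mk hρ _).symm
      have hr2 : CommRingCat.ofHom (algebraMap R S') ≫ CommRingCat.ofHom a'.toRingHom = β := by
        ext r
        exact a'.commutes r
      refine ⟨_, _, Spec.map (j.app O), hO'.fromSpec, hO.fromSpec, inferInstance, ?_, sq,
        Spec.map (CommRingCat.ofHom a'.toRingHom), ?_, ?_⟩
      · rw [hO.range_fromSpec]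
        exact htO
      · rw [← Spec.map_comp, hr1, Spec.map_comp, hα, Category.assoc]
      · rw [← Spec.map_comp, hr2, hβ]
    obtain ⟨a', h1, h2⟩ := hex
    refine ⟨a', ⟨h1, h2⟩, ?_⟩
    rintro a'' ⟨h1', h2'⟩
    exact hom_ext_of_unram hj _ (h1'.trans h1.symm) (h2'.trans h2.symm)

end Groth.Agent.H87.UnivThick
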