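import Groth.Agent.H87.UnivThickC

/-!
# Universal first order thickenings: good opens and the transition maps
-/

set_option autoImplicit false
universe u

namespace Groth.Agent.H87.UnivThick

open AlgebraicGeometry CategoryTheory Limits OmegaSh

/-- Opens of the source of a first order thickening correspond to opens of the target. -/
lemma exists_open_preimage {T T' : Scheme.{u}} {j : T ⟶ T'}
    (hj : MoreMor.IsFirstOrderThickening j) (D : T.Opens) : ∃ O : T'.Opens, j ⁻¹ᵁ O = D := by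
  have : IsClosedImmersion j := hj.1.1
  have hs : Function.Surjective j := Groth.Agent.H49.IsFirstOrderThickening.surjective hj
  have hh : IsHomeomorph j :=
    isHomeomorph_iff_isEmbedding_surjective.mpr ⟨j.isClosedEmbedding.isEmbedding, hs⟩
  refine ⟨⟨j '' D, hh.isOpenMap _ D.2⟩, ?_⟩
  ext x
  change j x ∈ j '' (D : Set T) ↔ x ∈ D
  constructor
  · rintro ⟨y, hy, e⟩
    rwa [← j.isClosedEmbedding.injective e]
  · intro hx
    exact ⟨x, hx, rfl⟩

variable {Z X : Scheme.{u}} (h : Z ⟶ X)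

/-- An open `W` of `Z` is good if `W ⟶ X` has a universal first order thickening. -/
def Good (W : Z.Opens) : Prop :=
  ∃ (T : Scheme.{u}) (i : (W : Scheme.{u}) ⟶ T) (g : T ⟶ X), IsUnivThickening (W.ι ≫ h) i g

theorem good_of_affine [FormallyUnramified h] {U : X.Opens} (hU : IsAffineOpen U)
    {V : Z.Opens} (hV : IsAffineOpen V) (e : V ≤ h ⁻¹ᵁ U) : Good h V := by
  have hφ : (h.appLE U V e).hom.FormallyUnramified := h.formallyUnramified_appLE hU hV e
  algebraize [(h.appLE U V e).hom]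
  obtain ⟨Z', i, h', hu⟩ := spec_case Γ(X, U) Γ(Z, V)
  have e1 : Spec.map (h.appLE U V e) ≫ hU.fromSpec = hV.fromSpec ≫ h :=
    IsAffineOpen.SpecMap_appLE_fromSpec h hU hV e
  have hu1 := postcomp hu hU.fromSpec
  have hu2 := restrict hu1 hV.isoSpec.hom (𝟙 Z') (hV.isoSpec.hom ≫ i) (by simp)
    (by rw [Scheme.Hom.opensRange_of_isIso, Scheme.Hom.opensRange_of_isIso]; rfl)
  have e2 : hV.isoSpec.hom ≫
      Spec.map (CommRingCat.ofHom (algebraMap Γ(X, U) Γ(Z, V))) ≫ hU.fromSpec = V.ι ≫ h := by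
    have : CommRingCat.ofHom (algebraMap Γ(X, U) Γ(Z, V)) = h.appLE U V e := rfl
    rw [this, e1, ← Category.assoc, hV.isoSpec_hom_fromSpec]
  rw [e2] at hu2
  exact ⟨_, _, _, hu2⟩

/-- Restriction of a universal thickening of `W₂` to a smaller open `W₁`. -/
theorem exists_restrict {W₁ W₂ : Z.Opens} (hle : W₁ ≤ W₂) {T : Scheme.{u}}
    {i : (W₂ : Scheme.{u}) ⟶ T} {g : T ⟶ X} (hu : IsUnivThickening (W₂.ι ≫ h) i g) :
    ∃ (O : T.Opens) (iV : (W₁ : Scheme.{u}) ⟶ (O : Scheme.{u})),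
      Z.homOfLE hle ≫ i = iV ≫ O.ι ∧ IsUnivThickening (W₁.ι ≫ h) iV (O.ι ≫ g) := by
  obtain ⟨O, hO⟩ := exists_open_preimage hu.1 (W₂.ι ⁻¹ᵁ W₁)
  have hrange : Set.range (Z.homOfLE hle ≫ i) ⊆ Set.range O.ι := by
    rintro _ ⟨x, rfl⟩
    rw [Scheme.Opens.range_ι]
    change (Z.homOfLE hle ≫ i) x ∈ O
    rw [Scheme.Hom.comp_apply]
    have h1 : (Z.homOfLE hle) x ∈ i ⁻¹ᵁ O := by
      rw [hO]
      change W₂.ι ((Z.homOfLE hle) x) ∈ W₁
      rw [← Scheme.Hom.comp_apply, Scheme.homOfLE_ι]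
      exact x.2
    exact h1
  let iV := IsOpenImmersion.lift O.ι (Z.homOfLE hle ≫ i) hrange
  have H : Z.homOfLE hle ≫ i = iV ≫ O.ι := (IsOpenImmersion.lift_fac _ _ _).symm
  have H' : i ⁻¹ᵁ O.ι.opensRange = (Z.homOfLE hle).opensRange := by
    rw [Scheme.Opens.opensRange_ι, hO, Scheme.opensRange_homOfLE]
  have hu2 := restrict hu (Z.homOfLE hle) O.ι iV H H'
  rw [← Category.assoc, Scheme.homOfLE_ι] at hu2
  exact ⟨O, iV, H, hu2⟩

theorem good_of_le {W₁ W₂ : Z.Opens} (hle : W₁ ≤ W₂) (hW : Good h W₂) : Good h W₁ := by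
  obtain ⟨T, i, g, hu⟩ := hW
  obtain ⟨O, iV, -, hu2⟩ := exists_restrict h hle hu
  exact ⟨_, _, _, hu2⟩

theorem exists_good [FormallyUnramified h] (z : Z) (W : Z.Opens) (hz : z ∈ W) :
    ∃ V : Z.Opens, Good h V ∧ z ∈ V ∧ V ≤ W := by
  obtain ⟨U, hU, hzU, -⟩ := TopologicalSpace.Opens.isBasis_iff_nbhd.mp X.isBasis_affineOpens
    (TopologicalSpace.Opens.mem_top (h z))
  obtain ⟨V, hV, hzV, hVU⟩ := TopologicalSpace.Opens.isBasis_iff_nbhd.mp Z.isBasis_affineOpens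
    (show z ∈ h ⁻¹ᵁ U ⊓ W from ⟨hzU, hz⟩)
  exact ⟨V, good_of_affine h hU hV (hVU.trans inf_le_left), hzV, hVU.trans inf_le_right⟩

end Groth.Agent.H87.UnivThick
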