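import Groth.Agent.H87.UnivThickD

/-!
# Universal first order thickenings: the diagram of local thickenings
-/

set_option autoImplicit false
universe u

namespace Groth.Agent.H87.UnivThick

open AlgebraicGeometry CategoryTheory Limits OmegaSh

variable {Z X : Scheme.{u}} (h : Z ⟶ X)

/-- The good opens. -/
abbrev J : Type u := {W : Z.Opens // Good h W}

variable {h}

/-- The chosen thickening of a good open. -/
noncomputable def T (W : J h) : Scheme.{u} := W.2.choose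

noncomputable def inc (W : J h) : (W.1 : Scheme.{u}) ⟶ T W := W.2.choose_spec.choose

noncomputable def str (W : J h) : T W ⟶ X := W.2.choose_spec.choose_spec.choose

lemma spec (W : J h) : IsUnivThickening (W.1.ι ≫ h) (inc W) (str W) :=
  W.2.choose_spec.choose_spec.choose_spec

lemma inc_str (W : J h) : inc W ≫ str W = W.1.ι ≫ h := (spec W).2.1

lemma inc_surjective (W : J h) : Function.Surjective (inc W) :=
  Groth.Agent.H49.IsFirstOrderThickening.surjective (spec W).1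

lemma inc_injective (W : J h) : Function.Injective (inc W) := by
  have : IsClosedImmersion (inc W) := (spec W).1.1.1
  exact (inc W).isClosedEmbedding.injective

lemma tr_comm {W₁ W₂ : J h} (hle : W₁ ≤ W₂) :
    inc W₁ ≫ str W₁ = Z.homOfLE hle ≫ W₂.1.ι ≫ h := by
  rw [inc_str, Scheme.homOfLE_ι_assoc]

/-- The transition maps. -/
noncomputable def tr {W₁ W₂ : J h} (hle : W₁ ≤ W₂) : T W₁ ⟶ T W₂ :=
  lift (spec W₂) (inc W₁) (str W₁) (Z.homOfLE hle) (spec W₁).1 (tr_comm hle)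

lemma inc_tr {W₁ W₂ : J h} (hle : W₁ ≤ W₂) : inc W₁ ≫ tr hle = Z.homOfLE hle ≫ inc W₂ :=
  lift_fac_left (spec W₂) (inc W₁) (str W₁) (Z.homOfLE hle) (spec W₁).1 (tr_comm hle)

lemma tr_str {W₁ W₂ : J h} (hle : W₁ ≤ W₂) : tr hle ≫ str W₂ = str W₁ :=
  lift_fac_right (spec W₂) (inc W₁) (str W₁) (Z.homOfLE hle) (spec W₁).1 (tr_comm hle)

lemma tr_uniq {W₁ W₂ : J h} (hle : W₁ ≤ W₂) (m : T W₁ ⟶ T W₂)
    (h1 : inc W₁ ≫ m = Z.homOfLE hle ≫ inc W₂) (h2 : m ≫ str W₂ = str W₁) : m = tr hle :=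
  lift_uniq (spec W₂) (inc W₁) (str W₁) (Z.homOfLE hle) (spec W₁).1 (tr_comm hle) m h1 h2

lemma tr_id (W : J h) : tr (le_refl W) = 𝟙 (T W) := by
  refine (tr_uniq (le_refl W) (𝟙 _) ?_ (Category.id_comp _)).symm
  rw [Category.comp_id, Scheme.homOfLE_rfl, Category.id_comp]

lemma tr_comp {W₁ W₂ W₃ : J h} (h12 : W₁ ≤ W₂) (h23 : W₂ ≤ W₃) :
    tr h12 ≫ tr h23 = tr (h12.trans h23) := by
  refine tr_uniq (h12.trans h23) _ ?_ ?_
  · rw [← Category.assoc, inc_tr, Category.assoc, inc_tr, ← Category.assoc,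
      Scheme.homOfLE_homOfLE]
  · rw [Category.assoc, tr_str, tr_str]

instance tr_isOpenImmersion {W₁ W₂ : J h} (hle : W₁ ≤ W₂) : IsOpenImmersion (tr hle) := by
  obtain ⟨O, iV, H, hu⟩ := exists_restrict h hle (spec W₂)
  obtain ⟨e, he1, he2⟩ := exists_iso (spec W₁) hu
  have : tr hle = e.hom ≫ O.ι := by
    refine (tr_uniq hle _ ?_ ?_).symm
    · rw [← Category.assoc, he1, H]
    · rw [Category.assoc, he2]
  rw [this]
  infer_instance

lemma tr_inc_apply {W₁ W₂ : J h} (hle : W₁ ≤ W₂) (z : (W₁.1 : Scheme.{u})) :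
    tr hle (inc W₁ z) = inc W₂ (Z.homOfLE hle z) := by
  rw [← Scheme.Hom.comp_apply, inc_tr, Scheme.Hom.comp_apply]

variable (h)

/-- The diagram of local universal thickenings. -/
noncomputable def F : J h ⥤ Scheme.{u} where
  obj := T
  map f := tr (leOfHom f)
  map_id W := tr_id W
  map_comp f g := (tr_comp (leOfHom f) (leOfHom g)).symm

instance F_isOpenImmersion {W₁ W₂ : J h} (f : W₁ ⟶ W₂) : IsOpenImmersion ((F h).map f) :=
  tr_isOpenImmersion (leOfHom f)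

lemma homOfLE_ι_apply {W₁ W₂ : Z.Opens} (hle : W₁ ≤ W₂) (z : (W₁ : Scheme.{u})) :
    W₂.ι (Z.homOfLE hle z) = W₁.ι z := by
  rw [← Scheme.Hom.comp_apply, Scheme.homOfLE_ι]

instance F_isLocallyDirected : ((F h) ⋙ Scheme.forget).IsLocallyDirected where
  cond {W₁ W₂ W₃} f₁ f₂ x₁ x₂ hx := by
    change tr (leOfHom f₁) x₁ = tr (leOfHom f₂) x₂ at hx
    obtain ⟨z₁, rfl⟩ := inc_surjective W₁ x₁
    obtain ⟨z₂, rfl⟩ := inc_surjective W₂ x₂
    rw [tr_inc_apply, tr_inc_apply] at hx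
    have h1 := inc_injective W₃ hx
    have h2 : W₁.1.ι z₁ = W₂.1.ι z₂ := by
      rw [← homOfLE_ι_apply (leOfHom f₁), ← homOfLE_ι_apply (leOfHom f₂), h1]
    let l : J h := ⟨W₁.1 ⊓ W₂.1, good_of_le h inf_le_left W₁.2⟩
    have hl1 : l ≤ W₁ := inf_le_left (a := W₁.1) (b := W₂.1)
    have hl2 : l ≤ W₂ := inf_le_right (a := W₁.1) (b := W₂.1)
    let z : (l.1 : Scheme.{u}) := ⟨W₁.1.ι z₁, ⟨z₁.2, by rw [h2]; exact z₂.2⟩⟩
    refine ⟨l, homOfLE hl1, homOfLE hl2, inc l z, ?_, ?_⟩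
    · change tr hl1 (inc l z) = inc W₁ z₁
      rw [tr_inc_apply]
      congr 1
      apply W₁.1.ι.isOpenEmbedding.injective
      rw [homOfLE_ι_apply]
      rfl
    · change tr hl2 (inc l z) = inc W₂ z₂
      rw [tr_inc_apply]
      congr 1
      apply W₂.1.ι.isOpenEmbedding.injective
      rw [homOfLE_ι_apply, ← h2]
      rfl

end Groth.Agent.H87.UnivThick
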