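import Groth.Agent.H87.UnivThickG
import Groth.Agent.H44.ConormalChart
import Groth.Agent.H44.HomOfBasis

/-!
# Vanishing of the conormal sheaf of a first order thickening
-/

set_option autoImplicit false
universe u

namespace Groth.Agent.H87.UnivThick

open AlgebraicGeometry CategoryTheory Limits OmegaSh TensorProduct

/-- Algebra: a square-zero surjection `A → B` with `B ⊗ ker = 0` is injective. -/
lemma ker_eq_bot_of_subsingleton_tensor {A B : Type u} [CommRing A] [CommRing B] [Algebra A B]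
    (hs : Function.Surjective (algebraMap A B))
    (hk : ∀ x y : A, algebraMap A B x = 0 → algebraMap A B y = 0 → x * y = 0)
    [Subsingleton (B ⊗[A] RingHom.ker (algebraMap A B))] : RingHom.ker (algebraMap A B) = ⊥ := by
  set I : Ideal A := RingHom.ker (algebraMap A B) with hI
  have hex : Function.Exact (Submodule.subtype I) (Algebra.linearMap A B) := by
    intro y
    constructor
    · intro hy
      exact ⟨⟨y, hy⟩, rfl⟩
    · rintro ⟨z, rfl⟩
      exact z.2
  have hsurj : Function.Surjective (Algebra.linearMap A B) := hs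
  have hex2 := rTensor_exact I hex hsurj
  have hzero : ∀ w : I ⊗[A] I,
      TensorProduct.lid A I (LinearMap.rTensor I (Submodule.subtype I) w) = 0 := by
    intro w
    induction w using TensorProduct.induction_on with
    | zero => simp
    | tmul y z =>
      rw [LinearMap.rTensor_tmul, TensorProduct.lid_tmul]
      ext
      exact hk y.1 z.1 y.2 z.2
    | add a b ha hb => rw [map_add, map_add, ha, hb, add_zero]
  rw [eq_bot_iff]
  intro x hx
  have h0 : LinearMap.rTensor I (Algebra.linearMap A B) ((1 : A) ⊗ₜ[A] (⟨x, hx⟩ : I)) = 0 :=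
    Subsingleton.elim _ _
  obtain ⟨w, hw⟩ := (hex2 _).mp h0
  have h1 := hzero w
  rw [hw, TensorProduct.lid_tmul, one_smul] at h1
  exact congrArg Subtype.val h1

lemma subsingleton_sections_of_isZero {X : Scheme.{u}} {M : X.Modules} (hM : IsZero M)
    (U : X.Opens) : Subsingleton Γ(M, U) := by
  refine subsingleton_of_forall_eq 0 fun s => ?_
  have h1 : (𝟙 M : M ⟶ M) = 0 := hM.eq_of_src _ _
  have h2 : (𝟙 M : M ⟶ M).app U s = (0 : M ⟶ M).app U s := by rw [h1]
  exact h2

lemma isZero_of_subsingleton_sections {X : Scheme.{u}} {M : X.Modules}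
    (h : ∀ U : X.affineOpens, Subsingleton Γ(M, U.1)) : IsZero M := by
  rw [IsZero.iff_id_eq_zero]
  refine Groth.Agent.H44.hom_ext_of_isBasis (fun U : X.affineOpens => U.1) ?_ _ _ ?_
  · convert X.isBasis_affineOpens
    ext U
    simp
  · intro U m
    have := h U
    exact Subsingleton.elim _ _

theorem isIso_of_isZero_conormal {X X' : Scheme.{u}} (i : X ⟶ X') [QuasiCompact i]
    (hi : MoreMor.IsFirstOrderThickening i) (hz : IsZero (Omega.conormal i)) : IsIso i := by
  have : IsClosedImmersion i := hi.1.1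
  rw [IsClosedImmersion.isIso_iff_ker_eq_bot]
  refine Scheme.IdealSheafData.ext ?_
  funext U
  obtain ⟨U, hU⟩ := U
  have hU' : IsAffineOpen (i ⁻¹ᵁ U) := hU.preimage i
  rw [← Groth.Agent.H44.ker_appLE_eq i hU (le_refl (i ⁻¹ᵁ U)) (le_refl _)]
  letI := (i.appLE U (i ⁻¹ᵁ U) le_rfl).hom.toAlgebra
  have hsub : Subsingleton Γ(Omega.conormal i, i ⁻¹ᵁ U) := subsingleton_sections_of_isZero hz _
  have hsub2 : Subsingleton (Γ(X, i ⁻¹ᵁ U) ⊗[Γ(X', U)]
      RingHom.ker (algebraMap Γ(X', U) Γ(X, i ⁻¹ᵁ U))) :=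
    (Groth.Agent.H44.conormalEquiv i hU hU' le_rfl le_rfl).symm.toEquiv.subsingleton
  have hs : Function.Surjective (algebraMap Γ(X', U) Γ(X, i ⁻¹ᵁ U)) := by
    change Function.Surjective (i.appLE U (i ⁻¹ᵁ U) le_rfl).hom
    rw [← Scheme.Hom.app_eq_appLE]
    exact i.app_surjective U hU
  have hk : ∀ x y : Γ(X', U), algebraMap Γ(X', U) Γ(X, i ⁻¹ᵁ U) x = 0 →
      algebraMap Γ(X', U) Γ(X, i ⁻¹ᵁ U) y = 0 → x * y = 0 := by
    intro x y hx hy
    refine Groth.Agent.H49.IsFirstOrderThickening.mul_eq_zero hi ⟨U, hU⟩ x y ?_ ?_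
    · rw [Scheme.Hom.app_eq_appLE]; exact hx
    · rw [Scheme.Hom.app_eq_appLE]; exact hy
  exact ker_eq_bot_of_subsingleton_tensor hs hk

theorem isZero_conormal_of_isIso {X X' : Scheme.{u}} (i : X ⟶ X') [IsIso i] :
    IsZero (Omega.conormal i) := by
  have hker : i.ker = ⊥ := i.ker_eq_bot_of_isIso
  have h1 : IsZero (ClSub.idealMod i.ker) := by
    refine isZero_of_subsingleton_sections fun U => ?_
    have e := Groth.Agent.H44.idealSectEquiv i.ker U.2
    have hb : i.ker.ideal ⟨U.1, U.2⟩ = ⊥ := by rw [hker]; rfl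
    have : Subsingleton (i.ker.ideal ⟨U.1, U.2⟩) := by
      rw [hb]
      infer_instance
    exact e.toEquiv.subsingleton
  exact (Scheme.Modules.pullback i).map_isZero h1

end Groth.Agent.H87.UnivThick
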